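import Mathlib
import Cfsg.Prelude.Def_Solvable

set_option autoImplicit false

namespace Cfsg.Agent.Helper9

/-- A normal `p`-subgroup is contained in every Sylow `p`-subgroup. -/
theorem normal_pgroup_le_sylow {G : Type*} [Group G] {p : ℕ} (N : Subgroup G) [N.Normal]
    (hN : IsPGroup p N) (Q : Sylow p G) : N ≤ (Q : Subgroup G) := by
  have h1 : IsPGroup p (N ⊔ (Q : Subgroup G) : Subgroup G) := hN.to_sup_of_normal_left Q.isPGroup'
  have h2 := Q.is_maximal' h1 le_sup_right
  calc N ≤ N ⊔ (Q : Subgroup G) := le_sup_left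
    _ = Q := h2

/-- `O_p(G)` is contained in every Sylow `p`-subgroup. -/
theorem pCore_le_sylow {G : Type*} [Group G] {p : ℕ} (Q : Sylow p G) :
    Cfsg.pCore p G ≤ (Q : Subgroup G) := by
  unfold Cfsg.pCore
  apply sSup_le
  rintro N ⟨hNn, hNp⟩
  have := hNn
  exact normal_pgroup_le_sylow N hNp Q

/-- `O_p(G)` is a `p`-group. -/
theorem pCore_isPGroup {G : Type*} [Group G] {p : ℕ} [Fact p.Prime] : IsPGroup p (Cfsg.pCore p G) := by
  obtain ⟨Q⟩ := (inferInstance : Nonempty (Sylow p G))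
  exact Q.isPGroup'.to_le (pCore_le_sylow Q)

/-- `O_p(G)` is normal. -/
theorem pCore_normal {G : Type*} [Group G] {p : ℕ} : (Cfsg.pCore p G).Normal := by
  unfold Cfsg.pCore
  exact Subgroup.sSup_normal _ (fun H hH => hH.1)

/-- A normal `p`-subgroup is contained in `O_p(G)`. -/
theorem le_pCore {G : Type*} [Group G] {p : ℕ} (N : Subgroup G) (hNn : N.Normal)
    (hN : IsPGroup p N) : N ≤ Cfsg.pCore p G := le_sSup ⟨hNn, hN⟩

/-- An element lying both in a subgroup of odd order and in a 2-subgroup is trivial. -/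
theorem eq_one_of_mem_odd_of_mem_two {G : Type*} [Group G] {K P : Subgroup G} [Finite K]
    (hK : Odd (Nat.card K)) (hP : IsPGroup 2 P) {x : G} (hxK : x ∈ K) (hxP : x ∈ P) : x = 1 := by
  obtain ⟨k, hk⟩ := hP ⟨x, hxP⟩
  have hk' : x ^ 2 ^ k = 1 := by
    have := congrArg Subtype.val hk
    simpa using this
  have h1 : orderOf x ∣ 2 ^ k := orderOf_dvd_of_pow_eq_one hk'
  have h2 : orderOf x ∣ Nat.card K := by
    have : orderOf (⟨x, hxK⟩ : K) ∣ Nat.card K := orderOf_dvd_natCard _
    rwa [Subgroup.orderOf_mk] at this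
  have h3 : Nat.Coprime (2 ^ k) (Nat.card K) := by
    apply Nat.Coprime.pow_left
    exact (Nat.coprime_two_left).mpr hK
  have : orderOf x = 1 := Nat.eq_one_of_dvd_coprimes h3 h1 h2
  exact orderOf_eq_one_iff.mp this

end Cfsg.Agent.Helper9
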