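import Mathlib

set_option autoImplicit false

/-!
Coset leaders of a binary code of length 24, dimension 12 and minimum weight at least 8.
-/

namespace Cfsg.Agent.Helper9

open Finset

variable {α : Type*} [Fintype α] [DecidableEq α]

/-- the support of a binary word. -/
def supp2 (u : α → ZMod 2) : Finset α := Finset.univ.filter (fun i => u i ≠ 0)

theorem hammingNorm_eq_card_supp2 (u : α → ZMod 2) : hammingNorm u = (supp2 u).card := rfl

theorem mem_supp2 (u : α → ZMod 2) (i : α) : i ∈ supp2 u ↔ u i ≠ 0 := by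
  unfold supp2
  simp

theorem supp2_sub_subset (u u' : α → ZMod 2) : supp2 (u - u') ⊆ supp2 u ∪ supp2 u' := by
  intro i hi
  rw [mem_supp2] at hi
  rw [Finset.mem_union, mem_supp2, mem_supp2]
  by_contra h
  push Not at h
  apply hi
  rw [Pi.sub_apply, h.1, h.2, sub_zero]

theorem leaders_of_same_coset (C : Submodule (ZMod 2) (α → ZMod 2))
    (hmin : ∀ w ∈ C, w ≠ 0 → 8 ≤ hammingNorm w) {u u' : α → ZMod 2} (h : u - u' ∈ C)
    (hne : u ≠ u') (hu : hammingNorm u ≤ 4) (hu' : hammingNorm u' ≤ 4) :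
    hammingNorm u = 4 ∧ hammingNorm u' = 4 ∧ Disjoint (supp2 u) (supp2 u') := by
  have h8 := hmin _ h (sub_ne_zero.mpr hne)
  rw [hammingNorm_eq_card_supp2] at h8 hu hu'
  have h1 := Finset.card_le_card (supp2_sub_subset u u')
  have h2 := Finset.card_union_add_card_inter (supp2 u) (supp2 u')
  have h0 : (supp2 u ∩ supp2 u').card = 0 := by omega
  refine ⟨?_, ?_, ?_⟩
  · rw [hammingNorm_eq_card_supp2]; omega
  · rw [hammingNorm_eq_card_supp2]; omega
  · rw [Finset.disjoint_iff_inter_eq_empty, ← Finset.card_eq_zero]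
    exact h0

/-- the weight attached to a word in the count. -/
def cw (u : α → ZMod 2) : ℕ :=
  if hammingNorm u ≤ 3 then 6 else if hammingNorm u = 4 then 1 else 0

/-- words correspond to their supports. -/
def suppEquiv : (α → ZMod 2) ≃ Finset α where
  toFun := supp2
  invFun s := fun i => if i ∈ s then 1 else 0
  left_inv u := by
    funext i
    show (if i ∈ supp2 u then (1 : ZMod 2) else 0) = u i
    by_cases h : i ∈ supp2 u
    · rw [if_pos h]
      rw [mem_supp2] at h
      have : ∀ a : ZMod 2, a ≠ 0 → a = 1 := by decide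
      exact (this _ h).symm
    · rw [if_neg h]
      rw [mem_supp2, not_not] at h
      exact h.symm
  right_inv s := by
    ext i
    rw [mem_supp2]
    by_cases h : i ∈ s
    · simp [h]
    · simp [h]

theorem sum_cw (hα : Fintype.card α = 24) : ∑ u : α → ZMod 2, cw u = 24576 := by
  have h1 : ∑ u : α → ZMod 2, cw u = ∑ s : Finset α,
      (fun k : ℕ => if k ≤ 3 then 6 else if k = 4 then 1 else 0) s.card := by
    apply Fintype.sum_equiv suppEquiv
    intro u
    rfl
  have h2 := Finset.sum_powerset_apply_card (α := ℕ)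
    (fun k : ℕ => if k ≤ 3 then 6 else if k = 4 then 1 else 0) (x := (Finset.univ : Finset α))
  rw [Finset.powerset_univ, Finset.card_univ, hα] at h2
  rw [h1, h2]
  decide +kernel

theorem card_quot (hα : Fintype.card α = 24) (C : Submodule (ZMod 2) (α → ZMod 2))
    (hdim : Module.finrank (ZMod 2) C = 12) : Nat.card ((α → ZMod 2) ⧸ C) = 4096 := by
  have h1 := Submodule.card_eq_card_quotient_mul_card C
  have h2 : Nat.card (α → ZMod 2) = 2 ^ 24 := by
    rw [Nat.card_eq_fintype_card, Fintype.card_fun, ZMod.card, hα]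
  have h3 : Nat.card C = 2 ^ 12 := by
    rw [Module.natCard_eq_pow_finrank (K := ZMod 2), hdim, Nat.card_eq_fintype_card, ZMod.card]
  rw [h2, h3] at h1
  have : (2 : ℕ) ^ 24 = 2 ^ 12 * 4096 := by norm_num
  rw [this] at h1
  exact (Nat.eq_of_mul_eq_mul_left (by norm_num) h1).symm

/-- the dichotomy for the words of a coset, with the value of the count. -/
theorem coset_count (C : Submodule (ZMod 2) (α → ZMod 2))
    (hmin : ∀ w ∈ C, w ≠ 0 → 8 ≤ hammingNorm w) (hα : Fintype.card α = 24)
    (P : (α → ZMod 2) → Prop) [DecidablePred P]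
    (hP : ∀ u u', P u → P u' → u - u' ∈ C) :
    (∃ u0, P u0 ∧ hammingNorm u0 ≤ 3 ∧ (∀ u, P u → hammingNorm u ≤ 4 → u = u0) ∧
      ∑ u ∈ Finset.univ.filter P, cw u = 6) ∨
    ((∀ u, P u → 3 < hammingNorm u) ∧
      ∑ u ∈ Finset.univ.filter P, cw u =
        ((Finset.univ.filter P).filter (fun u => hammingNorm u = 4)).card ∧
      ((Finset.univ.filter P).filter (fun u => hammingNorm u = 4)).card ≤ 6) := by
  by_cases hex : ∃ u0, P u0 ∧ hammingNorm u0 ≤ 3
  · left
    obtain ⟨u0, hPu0, hu0⟩ := hex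
    have huniq : ∀ u, P u → hammingNorm u ≤ 4 → u = u0 := by
      intro u hPu hu
      by_contra hne
      have := leaders_of_same_coset C hmin (hP u u0 hPu hPu0) hne hu (by omega)
      omega
    refine ⟨u0, hPu0, hu0, huniq, ?_⟩
    rw [Finset.sum_eq_single_of_mem u0 (by simp [hPu0])]
    · unfold cw
      rw [if_pos hu0]
    · intro u hu hne
      rw [Finset.mem_filter] at hu
      unfold cw
      have : ¬ hammingNorm u ≤ 4 := fun h => hne (huniq u hu.2 h)
      rw [if_neg (by omega), if_neg (by omega)]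
  · right
    push Not at hex
    have h3 : ∀ u, P u → 3 < hammingNorm u := fun u hu => hex u hu
    refine ⟨h3, ?_, ?_⟩
    · rw [Finset.card_filter]
      apply Finset.sum_congr rfl
      intro u hu
      rw [Finset.mem_filter] at hu
      unfold cw
      rw [if_neg (by have := h3 u hu.2; omega)]
    · set W := (Finset.univ.filter P).filter (fun u => hammingNorm u = 4) with hW
      have hdisj : ∀ u ∈ W, ∀ u' ∈ W, u ≠ u' → Disjoint (supp2 u) (supp2 u') := by
        intro u hu u' hu' hne
        rw [hW, Finset.mem_filter, Finset.mem_filter] at hu hu'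
        exact (leaders_of_same_coset C hmin (hP u u' hu.1.2 hu'.1.2) hne
          (by omega) (by omega)).2.2
      have hcard : (W.biUnion supp2).card = ∑ u ∈ W, (supp2 u).card :=
        Finset.card_biUnion hdisj
      have h4 : ∑ u ∈ W, (supp2 u).card = ∑ _u ∈ W, 4 := by
        apply Finset.sum_congr rfl
        intro u hu
        rw [hW, Finset.mem_filter] at hu
        rw [← hammingNorm_eq_card_supp2, hu.2]
      rw [h4, Finset.sum_const, smul_eq_mul] at hcard
      have hle : (W.biUnion supp2).card ≤ 24 := by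
        rw [← hα]
        exact Finset.card_le_univ _
      omega

theorem coset_leaders (hα : Fintype.card α = 24) (C : Submodule (ZMod 2) (α → ZMod 2))
    (hdim : Module.finrank (ZMod 2) C = 12)
    (hmin : ∀ w ∈ C, w ≠ 0 → 8 ≤ hammingNorm w) (w : α → ZMod 2) :
    (∃ u, {u : α → ZMod 2 | u - w ∈ C ∧ hammingNorm u ≤ 4} = {u} ∧ hammingNorm u ≤ 3) ∨
    ({u : α → ZMod 2 | u - w ∈ C ∧ hammingNorm u ≤ 4}.ncard = 6 ∧
      ∀ u ∈ {u : α → ZMod 2 | u - w ∈ C ∧ hammingNorm u ≤ 4}, hammingNorm u = 4 ∧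
        ∀ u' ∈ {u : α → ZMod 2 | u - w ∈ C ∧ hammingNorm u ≤ 4}, u ≠ u' →
          Disjoint (supp2 u) (supp2 u')) := by
  classical
  haveI : Fintype ((α → ZMod 2) ⧸ C) := Fintype.ofFinite _
  let mk : (α → ZMod 2) → (α → ZMod 2) ⧸ C := Submodule.Quotient.mk
  have hmk : ∀ u u', mk u = mk u' ↔ u - u' ∈ C := fun u u' => Submodule.Quotient.eq C
  let g : (α → ZMod 2) ⧸ C → ℕ := fun q => ∑ u ∈ Finset.univ.filter (fun u => mk u = q), cw u
  have hPq : ∀ q : (α → ZMod 2) ⧸ C, ∀ u u', mk u = q → mk u' = q → u - u' ∈ C := by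
    intro q u u' h1 h2
    rw [← hmk, h1, h2]
  have hle : ∀ q, g q ≤ 6 := by
    intro q
    rcases coset_count C hmin hα (fun u => mk u = q) (hPq q) with ⟨u0, -, -, -, h⟩ | ⟨-, h1, h2⟩
    · exact le_of_eq h
    · show ∑ u ∈ Finset.univ.filter (fun u => mk u = q), cw u ≤ 6
      rw [h1]
      exact h2
  have hsum : ∑ q, g q = ∑ _q : (α → ZMod 2) ⧸ C, 6 := by
    have hfib := Finset.sum_fiberwise (Finset.univ : Finset (α → ZMod 2)) mk cw
    have h1 : ∑ q, g q = ∑ u : α → ZMod 2, cw u := by
      rw [← hfib]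
    rw [h1, Finset.sum_const, Finset.card_univ, ← Nat.card_eq_fintype_card,
      card_quot hα C hdim, sum_cw hα]
    rfl
  have hall : ∀ q, g q = 6 := by
    intro q
    exact (Finset.sum_eq_sum_iff_of_le (fun q _ => hle q)).mp hsum q (Finset.mem_univ q)
  have hw : ∀ u, u - w ∈ C ↔ mk u = mk w := fun u => (hmk u w).symm
  rcases coset_count C hmin hα (fun u => mk u = mk w) (hPq (mk w)) with
    ⟨u0, hPu0, hu0, huniq, -⟩ | ⟨h3, h1, -⟩
  · left
    refine ⟨u0, ?_, hu0⟩
    ext u
    simp only [Set.mem_ofPred_eq, Set.mem_singleton_iff]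
    constructor
    · rintro ⟨hu, hu4⟩
      exact huniq u ((hw u).mp hu) hu4
    · rintro rfl
      exact ⟨(hw u).mpr hPu0, by omega⟩
  · right
    have h6 : ((Finset.univ.filter (fun u => mk u = mk w)).filter
        (fun u => hammingNorm u = 4)).card = 6 := by
      rw [← h1]
      exact hall (mk w)
    have hset : {u : α → ZMod 2 | u - w ∈ C ∧ hammingNorm u ≤ 4} =
        ↑((Finset.univ.filter (fun u => mk u = mk w)).filter (fun u => hammingNorm u = 4)) := by
      ext u
      simp only [Set.mem_ofPred_eq, Finset.mem_coe, Finset.mem_filter, Finset.mem_univ, true_and]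
      rw [hw u]
      constructor
      · rintro ⟨hu, hu4⟩
        exact ⟨hu, by have := h3 u hu; omega⟩
      · rintro ⟨hu, hu4⟩
        exact ⟨hu, by omega⟩
    refine ⟨by rw [hset, Set.ncard_coe_finset, h6], ?_⟩
    intro u hu
    obtain ⟨huC, hu4⟩ := hu
    have hu4' : hammingNorm u = 4 := by
      have := h3 u ((hw u).mp huC)
      omega
    refine ⟨hu4', ?_⟩
    intro u' hu' hne
    obtain ⟨hu'C, hu'4⟩ := hu'
    have hsub : u - u' ∈ C := by
      have : u - u' = (u - w) - (u' - w) := by abel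
      rw [this]
      exact C.sub_mem huC hu'C
    exact (leaders_of_same_coset C hmin hsub hne hu4 hu'4).2.2

end Cfsg.Agent.Helper9
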