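import Mathlib
import Cfsg.Prelude.Def_Sporadic_a
import Cfsg.Agent.Helper9.CosetLeader

set_option autoImplicit false

/-!
The words of weight 8 of a binary code of length 24, dimension 12 and minimum weight at least 8
form a Steiner system.
-/

namespace Cfsg.Agent.Helper9

open Finset

variable {α : Type*} [Fintype α] [DecidableEq α]

theorem supp2_suppEquiv_symm (t : Finset α) : supp2 (suppEquiv.symm t) = t :=
  suppEquiv.apply_symm_apply t

theorem zmod2_eq_one {a : ZMod 2} (h : a ≠ 0) : a = 1 := by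
  revert a
  decide

theorem mem_supp2_sub_of_disjoint {x u : α → ZMod 2} (hd : Disjoint (supp2 x) (supp2 u)) (i : α)
    (hi : i ∈ supp2 x ∪ supp2 u) : i ∈ supp2 (x - u) := by
  rw [mem_supp2, Pi.sub_apply]
  rcases Finset.mem_union.mp hi with h | h
  · have hu : i ∉ supp2 u := Finset.disjoint_left.mp hd h
    rw [mem_supp2, not_not] at hu
    rw [hu, sub_zero]
    exact (mem_supp2 x i).mp h
  · have hx : i ∉ supp2 x := Finset.disjoint_right.mp hd h
    rw [mem_supp2, not_not] at hx
    rw [hx, zero_sub, neg_ne_zero]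
    exact (mem_supp2 u i).mp h

theorem exists_octad_of_five' (hα : Fintype.card α = 24) (C : Submodule (ZMod 2) (α → ZMod 2))
    (hdim : Module.finrank (ZMod 2) C = 12)
    (hmin : ∀ w ∈ C, w ≠ 0 → 8 ≤ hammingNorm w) (s : Finset α) (hs : s.card = 5) :
    ∃ c ∈ C, hammingNorm c = 8 ∧ s ⊆ supp2 c := by
  classical
  obtain ⟨t, hts, ht4⟩ := Finset.exists_subset_card_eq (show 4 ≤ s.card by omega)
  obtain ⟨p, hp⟩ : ∃ p, p ∈ s \ t := by
    apply Finset.card_pos.mp
    rw [Finset.card_sdiff_of_subset hts]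
    omega
  obtain ⟨hps, hpt⟩ := Finset.mem_sdiff.mp hp
  set u : α → ZMod 2 := suppEquiv.symm t with hu
  have hsu : supp2 u = t := supp2_suppEquiv_symm t
  have hwu : hammingNorm u = 4 := by rw [hammingNorm_eq_card_supp2, hsu, ht4]
  have huF : u ∈ {x : α → ZMod 2 | x - u ∈ C ∧ hammingNorm x ≤ 4} :=
    ⟨by rw [sub_self]; exact C.zero_mem, by omega⟩
  rcases coset_leaders hα C hdim hmin u with ⟨u0, hF, h3⟩ | ⟨h6, hall⟩
  · exfalso
    rw [hF, Set.mem_singleton_iff] at huF
    rw [← huF] at h3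
    omega
  · have hfin : {x : α → ZMod 2 | x - u ∈ C ∧ hammingNorm x ≤ 4}.Finite := Set.toFinite _
    set Ff := hfin.toFinset with hFf
    have hFfcard : Ff.card = 6 := by
      rw [← h6, Set.ncard_eq_toFinset_card _ hfin]
    have hmemF : ∀ x, x ∈ Ff ↔ x - u ∈ C ∧ hammingNorm x ≤ 4 := by
      intro x
      rw [hFf, Set.Finite.mem_toFinset]
      rfl
    have hdisj : ∀ x ∈ Ff, ∀ y ∈ Ff, x ≠ y → Disjoint (supp2 x) (supp2 y) := by
      intro x hx y hy hne
      exact (hall x ((hmemF x).mp hx)).2 y ((hmemF y).mp hy) hne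
    have hcard : (Ff.biUnion supp2).card = 24 := by
      rw [Finset.card_biUnion hdisj]
      have : ∑ x ∈ Ff, (supp2 x).card = ∑ _x ∈ Ff, 4 := by
        apply Finset.sum_congr rfl
        intro x hx
        rw [← hammingNorm_eq_card_supp2]
        exact (hall x ((hmemF x).mp hx)).1
      rw [this, Finset.sum_const, hFfcard]
      rfl
    have huniv : Ff.biUnion supp2 = Finset.univ := by
      apply Finset.eq_univ_of_card
      rw [hcard, hα]
    have hpU : p ∈ Ff.biUnion supp2 := by rw [huniv]; exact Finset.mem_univ p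
    obtain ⟨x, hxF, hpx⟩ := Finset.mem_biUnion.mp hpU
    have hxu : x ≠ u := by
      intro h
      rw [h, hsu] at hpx
      exact hpt hpx
    have hxC := ((hmemF x).mp hxF).1
    have hd : Disjoint (supp2 x) (supp2 u) := hdisj x hxF u ((hmemF u).mpr huF) hxu
    have hsub : s ⊆ supp2 (x - u) := by
      intro i hi
      apply mem_supp2_sub_of_disjoint hd
      rw [Finset.mem_union, hsu]
      by_cases hit : i ∈ t
      · exact Or.inr hit
      · left
        have : i = p := by
          have hi' : i ∈ s \ t := Finset.mem_sdiff.mpr ⟨hi, hit⟩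
          have hc1 : (s \ t).card = 1 := by
            rw [Finset.card_sdiff_of_subset hts]; omega
          obtain ⟨a, ha⟩ := Finset.card_eq_one.mp hc1
          rw [ha, Finset.mem_singleton] at hi' hp
          rw [hi', hp]
        rw [this]
        exact hpx
    refine ⟨x - u, hxC, ?_, hsub⟩
    have h8 := hmin _ hxC (sub_ne_zero.mpr hxu)
    have hle := Finset.card_le_card (supp2_sub_subset x u)
    have hun := Finset.card_union_le (supp2 x) (supp2 u)
    have hx4 := (hall x ((hmemF x).mp hxF)).1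
    rw [hammingNorm_eq_card_supp2] at h8 hx4 hwu ⊢
    omega

theorem octad_unique' (C : Submodule (ZMod 2) (α → ZMod 2))
    (hmin : ∀ w ∈ C, w ≠ 0 → 8 ≤ hammingNorm w) {c c' : α → ZMod 2} (hc : c ∈ C) (hc' : c' ∈ C)
    (h8 : hammingNorm c = 8) (h8' : hammingNorm c' = 8) (s : Finset α) (hs : s.card = 5)
    (hsc : s ⊆ supp2 c) (hsc' : s ⊆ supp2 c') : c = c' := by
  classical
  by_contra hne
  have h := hmin _ (C.sub_mem hc hc') (sub_ne_zero.mpr hne)
  have hsub : supp2 (c - c') ⊆ (supp2 c ∪ supp2 c') \ (supp2 c ∩ supp2 c') := by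
    intro i hi
    rw [Finset.mem_sdiff]
    refine ⟨supp2_sub_subset c c' hi, ?_⟩
    intro hboth
    rw [Finset.mem_inter, mem_supp2, mem_supp2] at hboth
    rw [mem_supp2, Pi.sub_apply, zmod2_eq_one hboth.1, zmod2_eq_one hboth.2, sub_self] at hi
    exact hi rfl
  have h1 := Finset.card_le_card hsub
  have h2 : ((supp2 c ∪ supp2 c') \ (supp2 c ∩ supp2 c')).card =
      (supp2 c ∪ supp2 c').card - (supp2 c ∩ supp2 c').card :=
    Finset.card_sdiff_of_subset (Finset.inter_subset_union)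
  have h3 := Finset.card_union_add_card_inter (supp2 c) (supp2 c')
  have h4 : 5 ≤ (supp2 c ∩ supp2 c').card := by
    rw [← hs]
    exact Finset.card_le_card (Finset.subset_inter hsc hsc')
  rw [hammingNorm_eq_card_supp2] at h h8 h8'
  omega

theorem octads_steiner (hα : Fintype.card α = 24) (C : Submodule (ZMod 2) (α → ZMod 2))
    (hdim : Module.finrank (ZMod 2) C = 12)
    (hmin : ∀ w ∈ C, w ≠ 0 → 8 ≤ hammingNorm w) :
    (∃ w ∈ C, hammingNorm w = 8) ∧
      Cfsg.IsSteinerSystem 5 8 (Cfsg.wordsOfWeight (C : Set (α → ZMod 2)) 8) := by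
  classical
  constructor
  · obtain ⟨s, -, hs⟩ := Finset.exists_subset_card_eq
      (show 5 ≤ (Finset.univ : Finset α).card by rw [Finset.card_univ, hα]; norm_num)
    obtain ⟨c, hc, h8, -⟩ := exists_octad_of_five' hα C hdim hmin s hs
    exact ⟨c, hc, h8⟩
  · refine ⟨fun b hb => hb.2, ?_⟩
    intro s hs
    obtain ⟨c, hc, h8, hsc⟩ := exists_octad_of_five' hα C hdim hmin s hs
    refine ⟨supp2 c, ⟨⟨⟨c, hc, rfl⟩, h8⟩, hsc⟩, ?_⟩
    rintro b' ⟨⟨⟨c', hc', rfl⟩, hcard'⟩, hsc'⟩
    have : c' = c := octad_unique' C hmin hc' hc hcard' h8 s hs hsc' hsc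
    rw [this]
    rfl

end Cfsg.Agent.Helper9
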