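import Mathlib
import Cfsg.Prelude.Def_Sporadic_a
import Cfsg.Agent.Helper9.CosetLeader2

set_option autoImplicit false

/-!
A binary code of length 24, dimension 12 and minimum weight at least 8 is spanned by its words of
weight 8; if it is self-orthogonal, all its weights are divisible by 4.
-/

namespace Cfsg.Agent.Helper9

open Finset

variable {α : Type*} [Fintype α] [DecidableEq α]

theorem zmod2_cases'' (a : ZMod 2) : a = 0 ∨ a = 1 := by
  revert a
  decide

theorem supp2_sub_eq (x y : α → ZMod 2) :
    supp2 (x - y) = (supp2 x ∪ supp2 y) \ (supp2 x ∩ supp2 y) := by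
  ext i
  rw [Finset.mem_sdiff, Finset.mem_union, Finset.mem_inter, mem_supp2, mem_supp2, mem_supp2,
    Pi.sub_apply]
  rcases zmod2_cases'' (x i) with hx | hx <;> rcases zmod2_cases'' (y i) with hy | hy <;>
    rw [hx, hy] <;> decide

theorem card_supp2_sub (x y : α → ZMod 2) :
    (supp2 (x - y)).card + 2 * (supp2 x ∩ supp2 y).card = (supp2 x).card + (supp2 y).card := by
  rw [supp2_sub_eq, Finset.card_sdiff_of_subset Finset.inter_subset_union]
  have h1 := Finset.card_union_add_card_inter (supp2 x) (supp2 y)
  have h2 : (supp2 x ∩ supp2 y).card ≤ (supp2 x ∪ supp2 y).card :=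
    Finset.card_le_card Finset.inter_subset_union
  omega

theorem span_octads (hα : Fintype.card α = 24) (C : Submodule (ZMod 2) (α → ZMod 2))
    (hdim : Module.finrank (ZMod 2) C = 12)
    (hmin : ∀ w ∈ C, w ≠ 0 → 8 ≤ hammingNorm w) :
    Submodule.span (ZMod 2) {w : α → ZMod 2 | w ∈ C ∧ hammingNorm w = 8} = C := by
  classical
  apply le_antisymm
  · rw [Submodule.span_le]
    intro w hw
    exact hw.1
  · have key : ∀ n : ℕ, ∀ c ∈ C, hammingNorm c ≤ n →
        c ∈ Submodule.span (ZMod 2) {w : α → ZMod 2 | w ∈ C ∧ hammingNorm w = 8} := by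
      intro n
      induction n using Nat.strong_induction_on with
      | _ n ih =>
        intro c hc hn
        by_cases h0 : c = 0
        · rw [h0]; exact Submodule.zero_mem _
        have h8 := hmin c hc h0
        rw [hammingNorm_eq_card_supp2] at h8
        obtain ⟨s, hsc, hs5⟩ := Finset.exists_subset_card_eq (show 5 ≤ (supp2 c).card by omega)
        obtain ⟨o, ho, ho8, hso⟩ := exists_octad_of_five' hα C hdim hmin s hs5
        have hlt : hammingNorm (c - o) < n := by
          have h1 := card_supp2_sub c o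
          have h2 : 5 ≤ (supp2 c ∩ supp2 o).card := by
            rw [← hs5]
            exact Finset.card_le_card (Finset.subset_inter hsc hso)
          rw [hammingNorm_eq_card_supp2] at ho8 hn ⊢
          omega
        have h1 := ih _ hlt (c - o) (C.sub_mem hc ho) le_rfl
        have h2 : o ∈ Submodule.span (ZMod 2) {w : α → ZMod 2 | w ∈ C ∧ hammingNorm w = 8} :=
          Submodule.subset_span ⟨ho, ho8⟩
        have := Submodule.add_mem _ h1 h2
        rwa [sub_add_cancel] at this
    intro c hc
    exact key _ c hc le_rfl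

theorem dot_eq_card_inter (x y : α → ZMod 2) :
    ∑ i, x i * y i = ((supp2 x ∩ supp2 y).card : ZMod 2) := by
  have h1 : ∀ i, x i * y i = if i ∈ supp2 x ∩ supp2 y then (1 : ZMod 2) else 0 := by
    intro i
    split_ifs with h
    · rw [Finset.mem_inter, mem_supp2, mem_supp2] at h
      rw [zmod2_eq_one h.1, zmod2_eq_one h.2, mul_one]
    · rw [Finset.mem_inter, mem_supp2, mem_supp2, not_and_or, not_not, not_not] at h
      rcases h with h | h
      · rw [h, zero_mul]
      · rw [h, mul_zero]
  rw [Finset.sum_congr rfl (fun i _ => h1 i), Finset.sum_boole]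
  congr 2
  ext i
  simp

theorem doubly_even (hα : Fintype.card α = 24) (C : Submodule (ZMod 2) (α → ZMod 2))
    (hdim : Module.finrank (ZMod 2) C = 12)
    (horth : ∀ v ∈ C, ∀ w ∈ C, ∑ i, v i * w i = 0)
    (hmin : ∀ w ∈ C, w ≠ 0 → 8 ≤ hammingNorm w) : ∀ w ∈ C, 4 ∣ hammingNorm w := by
  classical
  intro w hw
  have hspan : w ∈ Submodule.span (ZMod 2) {w : α → ZMod 2 | w ∈ C ∧ hammingNorm w = 8} := by
    rw [span_octads hα C hdim hmin]; exact hw
  have key : w ∈ C ∧ 4 ∣ hammingNorm w := by
    clear hw
    induction hspan using Submodule.span_induction with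
    | mem x hx => exact ⟨hx.1, by rw [hx.2]; norm_num⟩
    | zero => exact ⟨C.zero_mem, by rw [hammingNorm_zero]; exact dvd_zero 4⟩
    | add x y _ _ hx hy =>
      refine ⟨C.add_mem hx.1 hy.1, ?_⟩
      have h1 := card_supp2_sub x (-y)
      have hneg : supp2 (-y) = supp2 y := by
        ext i
        rw [mem_supp2, mem_supp2, Pi.neg_apply, neg_ne_zero]
      rw [hneg, sub_neg_eq_add] at h1
      have h2 := horth x hx.1 y hy.1
      rw [dot_eq_card_inter, ZMod.natCast_eq_zero_iff] at h2
      obtain ⟨a, ha⟩ := hx.2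
      obtain ⟨b, hb⟩ := hy.2
      obtain ⟨k, hk⟩ := h2
      rw [hammingNorm_eq_card_supp2] at ha hb ⊢
      omega
    | smul a x _ hx =>
      rcases zmod2_cases'' a with rfl | rfl
      · rw [zero_smul]
        exact ⟨C.zero_mem, by rw [hammingNorm_zero]; exact dvd_zero 4⟩
      · rw [one_smul]
        exact hx
  exact key.2

end Cfsg.Agent.Helper9
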