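import Mathlib

set_option autoImplicit false

/-!
A criterion for maximality of a point stabilizer from the lengths of its orbits.
-/

namespace Cfsg.Agent.Helper9

open scoped Pointwise

theorem ncard_fibers {X : Type*} (A : Set X) (hA : A.Finite) (c : X → ℕ) (sz : ℕ → ℕ)
    (S : Finset ℕ) (hsz : ∀ v ∈ S, {y | y ∈ A ∧ c y = v}.ncard = sz v) :
    {y | y ∈ A ∧ c y ∈ S}.ncard = ∑ v ∈ S, sz v := by
  classical
  induction S using Finset.induction_on with
  | empty =>
    simp
  | insert a S' ha ih =>
    have hsplit : {y | y ∈ A ∧ c y ∈ insert a S'} =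
        {y | y ∈ A ∧ c y = a} ∪ {y | y ∈ A ∧ c y ∈ S'} := by
      ext y
      simp only [Finset.mem_insert, Set.mem_ofPred_eq, Set.mem_union]
      tauto
    have hdisj : Disjoint {y | y ∈ A ∧ c y = a} {y | y ∈ A ∧ c y ∈ S'} := by
      rw [Set.disjoint_left]
      rintro y ⟨-, h1⟩ ⟨-, h2⟩
      rw [h1] at h2
      exact ha h2
    rw [hsplit, Set.ncard_union_eq hdisj (hA.subset (fun y hy => hy.1))
      (hA.subset (fun y hy => hy.1)), Finset.sum_insert ha,
      hsz a (Finset.mem_insert_self a S'),
      ih (fun v hv => hsz v (Finset.mem_insert_of_mem hv))]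

theorem isCoatom_stabilizer_of_suborbits {G X : Type*} [Group G] [Finite G] [MulAction G X]
    (x : X) (c : X → ℕ) (L : Finset ℕ) (sz : ℕ → ℕ) (N : ℕ)
    (hN : (MulAction.orbit G x).ncard = N) (hN1 : 1 < N)
    (hc_trans : ∀ y ∈ MulAction.orbit G x, ∀ z ∈ MulAction.orbit G x, c y = c z →
      ∃ h ∈ MulAction.stabilizer G x, h • y = z)
    (hL : ∀ y ∈ MulAction.orbit G x, y ≠ x → c y ∈ L)
    (hxL : c x ∉ L)
    (hsz : ∀ v ∈ L, {y | y ∈ MulAction.orbit G x ∧ c y = v}.ncard = sz v)
    (harith : ∀ S ∈ L.powerset, (1 + ∑ v ∈ S, sz v) ∣ N →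
      (1 + ∑ v ∈ S, sz v) = 1 ∨ (1 + ∑ v ∈ S, sz v) = N) :
    IsCoatom (MulAction.stabilizer G x) := by
  classical
  have hfin : (MulAction.orbit G x).Finite := Set.finite_range _
  have hGcard : Nat.card (MulAction.stabilizer G x) * N = Nat.card G := by
    rw [← hN, ← MulAction.index_stabilizer]
    exact Subgroup.card_mul_index _
  constructor
  · intro htop
    have : MulAction.orbit G x = {x} := by
      ext y
      constructor
      · rintro ⟨g, rfl⟩
        have hg : g ∈ MulAction.stabilizer G x := by rw [htop]; exact Subgroup.mem_top g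
        exact hg
      · rintro rfl
        exact MulAction.mem_orbit_self _
    rw [this, Set.ncard_singleton] at hN
    omega
  · intro M hM
    set O : Set X := MulAction.orbit M x with hOdef
    have hOsub : O ⊆ MulAction.orbit G x := by
      rintro y ⟨m, rfl⟩
      exact ⟨m.1, rfl⟩
    set S : Finset ℕ := L.filter (fun v => ∃ y ∈ O, c y = v) with hS
    have hSL : S ⊆ L := Finset.filter_subset _ _
    have hO : O = insert x {y | y ∈ MulAction.orbit G x ∧ c y ∈ S} := by
      ext y
      constructor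
      · intro hy
        by_cases hyx : y = x
        · rw [hyx]; exact Set.mem_insert _ _
        · refine Set.mem_insert_of_mem _ ⟨hOsub hy, ?_⟩
          rw [hS, Finset.mem_filter]
          exact ⟨hL y (hOsub hy) hyx, y, hy, rfl⟩
      · intro hy
        rcases hy with rfl | ⟨hy1, hy2⟩
        · exact MulAction.mem_orbit_self _
        · rw [hS, Finset.mem_filter] at hy2
          obtain ⟨-, y0, hy0, hc0⟩ := hy2
          obtain ⟨h, hh, hhy⟩ := hc_trans y0 (hOsub hy0) y hy1 hc0
          obtain ⟨m, rfl⟩ := hy0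
          refine ⟨⟨h, le_of_lt hM hh⟩ * m, ?_⟩
          rw [← hhy]
          exact mul_smul _ _ _
    have hxA : x ∉ {y | y ∈ MulAction.orbit G x ∧ c y ∈ S} := by
      rintro ⟨-, h⟩
      exact hxL (hSL h)
    have hOcard : O.ncard = 1 + ∑ v ∈ S, sz v := by
      rw [hO, Set.ncard_insert_of_notMem hxA (hfin.subset (fun y hy => hy.1)),
        ncard_fibers _ hfin c sz S (fun v hv => hsz v (hSL hv))]
      omega
    -- orbit-stabilizer in `M`
    have hMcard : Nat.card M = O.ncard * Nat.card (MulAction.stabilizer G x) := by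
      have h1 := Subgroup.card_mul_index (MulAction.stabilizer M x)
      rw [MulAction.index_stabilizer] at h1
      have h2 : Nat.card (MulAction.stabilizer M x) = Nat.card (MulAction.stabilizer G x) := by
        apply Nat.card_congr
        refine ⟨fun g => ⟨g.1.1, g.2⟩, fun g => ⟨⟨g.1, le_of_lt hM g.2⟩, g.2⟩, ?_, ?_⟩
        · intro g; rfl
        · intro g; rfl
      rw [h2] at h1
      rw [← h1, mul_comm]
    have hdvd : O.ncard ∣ N := by
      have h1 := Subgroup.card_subgroup_dvd_card M
      rw [hMcard, ← hGcard, mul_comm] at h1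
      exact Nat.dvd_of_mul_dvd_mul_left Nat.card_pos h1
    rw [hOcard] at hdvd
    rcases harith S (Finset.mem_powerset.mpr hSL) hdvd with h1 | h1
    · exfalso
      rw [← hOcard] at h1
      rw [h1, one_mul] at hMcard
      have : MulAction.stabilizer G x = M :=
        Subgroup.eq_of_le_of_card_ge (le_of_lt hM) (le_of_eq hMcard)
      exact (ne_of_lt hM) this
    · rw [← hOcard] at h1
      rw [h1, mul_comm, hGcard] at hMcard
      exact (Subgroup.card_eq_iff_eq_top M).mp hMcard

/-- the same criterion, the length of the orbit being computed from the lengths of the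
suborbits. -/
theorem isCoatom_stabilizer_of_suborbits' {G X : Type*} [Group G] [Finite G] [MulAction G X]
    (x : X) (c : X → ℕ) (L : Finset ℕ) (sz : ℕ → ℕ)
    (hpos : 0 < ∑ v ∈ L, sz v)
    (hc_trans : ∀ y ∈ MulAction.orbit G x, ∀ z ∈ MulAction.orbit G x, c y = c z →
      ∃ h ∈ MulAction.stabilizer G x, h • y = z)
    (hL : ∀ y ∈ MulAction.orbit G x, y ≠ x → c y ∈ L)
    (hxL : c x ∉ L)
    (hsz : ∀ v ∈ L, {y | y ∈ MulAction.orbit G x ∧ c y = v}.ncard = sz v)
    (harith : ∀ S ∈ L.powerset, (1 + ∑ v ∈ S, sz v) ∣ (1 + ∑ v ∈ L, sz v) →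
      (1 + ∑ v ∈ S, sz v) = 1 ∨ (1 + ∑ v ∈ S, sz v) = 1 + ∑ v ∈ L, sz v) :
    IsCoatom (MulAction.stabilizer G x) := by
  classical
  have hfin : (MulAction.orbit G x).Finite := Set.finite_range _
  have hO : MulAction.orbit G x = insert x {y | y ∈ MulAction.orbit G x ∧ c y ∈ L} := by
    ext y
    constructor
    · intro hy
      by_cases hyx : y = x
      · rw [hyx]; exact Set.mem_insert _ _
      · exact Set.mem_insert_of_mem _ ⟨hy, hL y hy hyx⟩
    · intro hy
      rcases hy with rfl | ⟨hy1, -⟩
      · exact MulAction.mem_orbit_self _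
      · exact hy1
  have hxA : x ∉ {y | y ∈ MulAction.orbit G x ∧ c y ∈ L} := by
    rintro ⟨-, h⟩
    exact hxL h
  have hN : (MulAction.orbit G x).ncard = 1 + ∑ v ∈ L, sz v := by
    conv_lhs => rw [hO]
    rw [Set.ncard_insert_of_notMem hxA (hfin.subset (fun y hy => hy.1)),
      ncard_fibers _ hfin c sz L hsz]
    omega
  exact isCoatom_stabilizer_of_suborbits x c L sz _ hN (by omega) hc_trans hL hxL hsz harith

end Cfsg.Agent.Helper9
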