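import Mathlib

set_option autoImplicit false

/-!
Simplicity of a faithful primitive permutation group with a simple point stabiliser and no regular
normal subgroup.
-/

namespace Cfsg.Agent.Helper9

open MulAction

/-- in a faithful preprimitive action, a non-trivial normal subgroup is transitive. -/
theorem prim_normal_trans {G X : Type*} [Group G] [MulAction G X] [FaithfulSMul G X]
    [IsPreprimitive G X] (N : Subgroup G) [hN : N.Normal] (hne : N ≠ ⊥) :
    IsPretransitive N X := by
  apply IsQuasiPreprimitive.isPretransitive_of_normal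
  intro h
  apply hne
  rw [Subgroup.eq_bot_iff_forall]
  intro n hn
  apply FaithfulSMul.eq_of_smul_eq_smul (α := X)
  intro x
  have hx : x ∈ fixedPoints N X := by rw [h]; trivial
  rw [one_smul]
  exact hx ⟨n, hn⟩

/-- in a faithful preprimitive action, the order of a non-trivial normal subgroup is divisible by
the degree. -/
theorem prim_normal_card {G X : Type*} [Group G] [MulAction G X] [FaithfulSMul G X]
    [IsPreprimitive G X] (a : X) (N : Subgroup G) [hN : N.Normal] (hne : N ≠ ⊥) :
    Nat.card X ∣ Nat.card N := by
  have := prim_normal_trans (X := X) N hne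
  have h1 := Subgroup.card_mul_index (MulAction.stabilizer N a)
  rw [MulAction.index_stabilizer, MulAction.orbit_eq_univ, Set.ncard_univ] at h1
  exact Dvd.intro_left _ h1

/-- a faithful primitive group with a simple point stabiliser and no normal subgroup of order equal
to the degree is simple. -/
theorem simple_of_prim_stab_simple {G X : Type*} [Group G] [MulAction G X] [FaithfulSMul G X]
    [IsPreprimitive G X] (a : X) (hs : IsSimpleGroup ↥(stabilizer G a))
    (hreg : ∀ N : Subgroup G, N.Normal → Nat.card N = Nat.card X → False) :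
    IsSimpleGroup G := by
  have hnt : Nontrivial G := by
    obtain ⟨x, y, hxy⟩ := hs.toNontrivial
    exact ⟨⟨x.1, y.1, fun h => hxy (Subtype.ext h)⟩⟩
  refine ⟨fun N hN => ?_⟩
  by_cases hne : N = ⊥
  · exact Or.inl hne
  right
  have := hN
  have := prim_normal_trans (X := X) N hne
  have hNa : (N.subgroupOf (stabilizer G a)).Normal := hN.subgroupOf _
  rcases hs.eq_bot_or_eq_top_of_normal _ hNa with hbot | htop
  · exfalso
    apply hreg N hN
    have h1 := Subgroup.card_mul_index (MulAction.stabilizer N a)
    rw [MulAction.index_stabilizer, MulAction.orbit_eq_univ, Set.ncard_univ] at h1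
    have h2 : MulAction.stabilizer N a = ⊥ := by
      rw [Subgroup.eq_bot_iff_forall]
      intro n hn
      rw [Subgroup.subgroupOf_eq_bot] at hbot
      have h3 : (n : G) ∈ N ⊓ stabilizer G a := by
        refine Subgroup.mem_inf.mpr ⟨n.2, ?_⟩
        exact hn
      rw [hbot.eq_bot, Subgroup.mem_bot] at h3
      exact Subtype.ext h3
    rw [h2, Subgroup.card_bot, one_mul] at h1
    exact h1.symm
  · rw [Subgroup.subgroupOf_eq_top] at htop
    rw [Subgroup.eq_top_iff']
    intro g
    obtain ⟨n, hn⟩ := exists_smul_eq N a (g • a)
    have h1 : ((n : G)⁻¹ * g) ∈ stabilizer G a := by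
      rw [mem_stabilizer_iff, mul_smul, inv_smul_eq_iff]
      exact hn.symm
    have h2 := N.mul_mem n.2 (htop h1)
    rwa [mul_inv_cancel_left] at h2

/-- a faithful primitive group of degree 100 has no normal subgroup of order 100. -/
theorem no_regular_100 {G X : Type*} [Group G] [MulAction G X] [FaithfulSMul G X]
    [IsPreprimitive G X] (hX : Nat.card X = 100) (N : Subgroup G) (hN : N.Normal)
    (hc : Nat.card N = 100) : False := by
  have := hN
  haveI : Finite N := Nat.finite_of_card_ne_zero (by rw [hc]; norm_num)
  haveI : Fact (Nat.Prime 5) := ⟨by norm_num⟩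
  have hXne : Nonempty X := by
    by_contra h
    rw [not_nonempty_iff] at h
    rw [Nat.card_of_isEmpty] at hX
    omega
  obtain ⟨a⟩ := hXne
  let P : Sylow 5 N := default
  have h1 : Nat.card (Sylow 5 N) ≡ 1 [MOD 5] := card_sylow_modEq_one 5 N
  have h2 : Nat.card (Sylow 5 N) ∣ (P : Subgroup N).index := P.card_dvd_index
  have h3 : Nat.card P = 25 := by
    rw [Sylow.card_eq_multiplicity, hc]
    have : (100 : ℕ).factorization 5 = 2 := by decide +kernel
    rw [this]
    norm_num
  have h4 : (P : Subgroup N).index = 4 := by
    have := Subgroup.card_mul_index (P : Subgroup N)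
    rw [h3, hc] at this
    omega
  rw [h4] at h2
  have h5 : Nat.card (Sylow 5 N) = 1 := by
    have hle : Nat.card (Sylow 5 N) ≤ 4 := Nat.le_of_dvd (by norm_num) h2
    have hpos : 0 < Nat.card (Sylow 5 N) := Nat.pos_of_dvd_of_pos h2 (by norm_num)
    unfold Nat.ModEq at h1
    interval_cases (Nat.card (Sylow 5 N)) <;> simp_all
  haveI : Subsingleton (Sylow 5 N) := (Nat.card_eq_one_iff_unique.mp h5).1
  haveI : (P : Subgroup N).Characteristic := Sylow.characteristic_of_subsingleton P
  have hM : ((P : Subgroup N).map N.subtype).Normal := ConjAct.normal_of_characteristic_of_normal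
  have hMc : Nat.card ((P : Subgroup N).map N.subtype) = 25 := by
    rw [← h3]
    exact (Nat.card_congr
      ((P : Subgroup N).equivMapOfInjective N.subtype N.subtype_injective).toEquiv).symm
  have hMne : (P : Subgroup N).map N.subtype ≠ ⊥ := by
    intro h
    rw [h, Subgroup.card_bot] at hMc
    omega
  have := hM
  have := prim_normal_card (X := X) a _ hMne
  rw [hX, hMc] at this
  omega

end Cfsg.Agent.Helper9
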