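import Mathlib
import Cfsg.Agent.Helper9.PrimSimple

set_option autoImplicit false

/-!
Further tools for simplicity of primitive groups: primitivity from the suborbit lengths,
faithfulness from a simple point stabiliser, and normal complements.
-/

namespace Cfsg.Agent.Helper9

open MulAction
open scoped Pointwise

/-- the number of points whose colour lies in a given set of colours. -/
theorem ncard_colours {X : Type*} [Finite X] (f : X → ℤ) (n : ℤ → ℕ) (cs : Finset ℤ)
    (hn : ∀ c ∈ cs, {y : X | f y = c}.ncard = n c) :
    ∀ C : Finset ℤ, C ⊆ cs → {y : X | f y ∈ C}.ncard = ∑ c ∈ C, n c := by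
  classical
  intro C
  induction C using Finset.induction_on with
  | empty =>
    intro _
    simp
  | insert c C hc ih =>
    intro hsub
    have hcs : c ∈ cs := hsub (Finset.mem_insert_self c C)
    have hCs : C ⊆ cs := fun x hx => hsub (Finset.mem_insert_of_mem hx)
    have e : {y : X | f y ∈ insert c C} = {y : X | f y = c} ∪ {y : X | f y ∈ C} := by
      ext y
      simp only [Finset.mem_insert, Set.mem_ofPred_eq, Set.mem_union]
    have hd : Disjoint {y : X | f y = c} {y : X | f y ∈ C} := by
      rw [Set.disjoint_left]
      intro y hy hy'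
      rw [Set.mem_ofPred_eq] at hy hy'
      rw [hy] at hy'
      exact hc hy'
    rw [e, Set.ncard_union_eq hd (Set.toFinite _) (Set.toFinite _), hn c hcs, ih hCs,
      Finset.sum_insert hc]

/-- primitivity from the suborbit lengths: the point stabiliser is transitive on the points of each
colour, and no proper sum of suborbit lengths plus one divides the degree. -/
theorem preprimitive_of_colours {G X : Type*} [Group G] [MulAction G X] [IsPretransitive G X]
    [Finite X] (a : X) (f : X → ℤ) (cs : Finset ℤ) (n : ℤ → ℕ) (N : ℕ) (hN : Nat.card X = N)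
    (hfa : f a ∉ cs)
    (hn : ∀ c ∈ cs, {y : X | f y = c}.ncard = n c)
    (hsum : 1 + ∑ c ∈ cs, n c = N)
    (htr : ∀ y y' : X, f y ∈ cs → f y = f y' → ∃ k ∈ stabilizer G a, k • y = y')
    (harith : ∀ C ∈ cs.powerset, (1 + ∑ c ∈ C, n c) ∣ N → C = ∅ ∨ C = cs) :
    IsPreprimitive G X := by
  classical
  have hcount := ncard_colours f n cs hn
  -- every point other than `a` has a colour in the list
  have hcol : ∀ y : X, y ≠ a → f y ∈ cs := by
    have hna : a ∉ {y : X | f y ∈ cs} := hfa
    have h1 : (insert a {y : X | f y ∈ cs}).ncard = Nat.card X := by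
      rw [Set.ncard_insert_of_notMem hna (Set.toFinite _), hcount cs (Finset.Subset.refl _), hN,
        ← hsum]
      ring
    have h2 : insert a {y : X | f y ∈ cs} = Set.univ := by
      apply Set.eq_of_subset_of_ncard_le (Set.subset_univ _) _ (Set.toFinite _)
      rw [Set.ncard_univ, h1]
    intro y hy
    have : y ∈ insert a {y : X | f y ∈ cs} := by rw [h2]; trivial
    rcases this with h | h
    · exact absurd h hy
    · exact h
  apply IsPreprimitive.of_isTrivialBlock_base a
  intro B haB hB
  let C : Finset ℤ := cs.filter (fun c => ∃ y ∈ B, f y = c)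
  have hCs : C ⊆ cs := Finset.filter_subset _ _
  have hBeq : B = insert a {y : X | f y ∈ C} := by
    ext y
    rw [Set.mem_insert_iff, Set.mem_ofPred_eq]
    constructor
    · intro hyB
      by_cases hya : y = a
      · exact Or.inl hya
      · right
        exact Finset.mem_filter.mpr ⟨hcol y hya, y, hyB, rfl⟩
    · rintro (hya | hyC)
      · rw [hya]; exact haB
      · obtain ⟨hc, y0, hy0B, hy0⟩ := Finset.mem_filter.mp hyC
        obtain ⟨k, hk, hky⟩ := htr y0 y (by rw [hy0]; exact hc) hy0
        have hkB : k • B = B := mem_stabilizer_iff.mp (hB.stabilizer_le haB hk)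
        rw [← hkB, ← hky]
        exact Set.smul_mem_smul_set hy0B
  have hnaC : a ∉ {y : X | f y ∈ C} := fun h => hfa (hCs h)
  have hcardB : B.ncard = 1 + ∑ c ∈ C, n c := by
    rw [hBeq, Set.ncard_insert_of_notMem hnaC (Set.toFinite _), hcount C hCs]
    ring
  have hdvd : B.ncard ∣ N := by
    rw [← hN]
    exact hB.ncard_dvd_card ⟨a, haB⟩
  rw [hcardB] at hdvd
  rcases harith C (Finset.mem_powerset.mpr hCs) hdvd with h | h
  · left
    have hsub : ∀ y ∈ B, y = a := by
      intro y hy
      rw [hBeq, h] at hy
      rcases hy with hy | hy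
      · exact hy
      · exact absurd hy (Finset.notMem_empty _)
    intro y hy y' hy'
    rw [hsub y hy, hsub y' hy']
  · right
    rw [Set.eq_univ_iff_forall]
    intro y
    rw [hBeq, h]
    by_cases hya : y = a
    · exact Or.inl hya
    · exact Or.inr (hcol y hya)

/-- an action with a simple point stabiliser which does not act trivially is faithful. -/
theorem faithful_of_stab_simple {G X : Type*} [Group G] [MulAction G X] (a : X)
    (hs : IsSimpleGroup ↥(stabilizer G a))
    (hmove : ∃ k ∈ stabilizer G a, ∃ y : X, k • y ≠ y) : FaithfulSMul G X := by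
  let K : Subgroup G := (MulAction.toPermHom G X).ker
  have hKmem : ∀ g : G, g ∈ K ↔ ∀ y : X, g • y = y := by
    intro g
    rw [MonoidHom.mem_ker]
    constructor
    · intro h y
      have := congrArg (fun e : Equiv.Perm X => e y) h
      exact this
    · intro h
      apply Equiv.ext
      intro y
      exact h y
  have hKle : K ≤ stabilizer G a := fun g hg => (hKmem g).mp hg a
  have hKn : (K.subgroupOf (stabilizer G a)).Normal :=
    (MonoidHom.normal_ker _).subgroupOf _
  have hKbot : K = ⊥ := by
    rcases hs.eq_bot_or_eq_top_of_normal _ hKn with hbot | htop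
    · rw [Subgroup.subgroupOf_eq_bot] at hbot
      rw [← inf_eq_left.mpr hKle]
      exact hbot.eq_bot
    · exfalso
      rw [Subgroup.subgroupOf_eq_top] at htop
      obtain ⟨k, hk, y, hky⟩ := hmove
      exact hky ((hKmem k).mp (htop hk) y)
  refine ⟨fun {g1 g2} h => ?_⟩
  have : g2⁻¹ * g1 ∈ K := by
    rw [hKmem]
    intro y
    rw [mul_smul, h y, inv_smul_smul]
  rw [hKbot, Subgroup.mem_bot] at this
  calc g1 = g2 * (g2⁻¹ * g1) := by group
    _ = g2 := by rw [this, mul_one]

/-- Burnside's normal complement, described by the orders of its elements. -/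
theorem exists_normal_complement {N : Type*} [Group N] [Finite N] (p : ℕ) [hp : Fact p.Prime]
    (P : Sylow p N) (hP : Subgroup.normalizer (P : Set N) ≤ Subgroup.centralizer (P : Set N)) :
    ∃ K : Subgroup N, K.Normal ∧ Nat.card K * Nat.card P = Nat.card N ∧
      ∀ x : N, x ∈ K ↔ (orderOf x).Coprime p := by
  refine ⟨(MonoidHom.transferSylow P hP).ker, MonoidHom.normal_ker _, ?_, ?_⟩
  · exact (MonoidHom.ker_transferSylow_isComplement' P hP).card_mul
  · have hcop : (Nat.card (MonoidHom.transferSylow P hP).ker).Coprime p := by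
      rw [Nat.coprime_comm, Nat.Prime.coprime_iff_not_dvd hp.out]
      exact MonoidHom.not_dvd_card_ker_transferSylow P hP
    intro x
    constructor
    · intro hx
      have h1 : orderOf x ∣ Nat.card (MonoidHom.transferSylow P hP).ker := by
        have := orderOf_dvd_natCard (⟨x, hx⟩ : (MonoidHom.transferSylow P hP).ker)
        rwa [Subgroup.orderOf_mk] at this
      exact Nat.Coprime.coprime_dvd_left h1 hcop
    · intro hx
      rw [MonoidHom.mem_ker]
      have h1 : orderOf (MonoidHom.transferSylow P hP x) ∣ orderOf x := orderOf_map_dvd _ x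
      obtain ⟨k, hk⟩ := (P.2 (MonoidHom.transferSylow P hP x))
      have h2 : orderOf (MonoidHom.transferSylow P hP x) ∣ p ^ k :=
        orderOf_dvd_of_pow_eq_one hk
      have h3 : (orderOf x).Coprime (p ^ k) := Nat.Coprime.pow_right k hx
      have h4 : orderOf (MonoidHom.transferSylow P hP x) = 1 :=
        Nat.eq_one_of_dvd_coprimes h3 h1 h2
      exact orderOf_eq_one_iff.mp h4

/-- a normal subgroup of a normal subgroup, described by the orders of its elements, is normal. -/
theorem normal_map_of_order {G : Type*} [Group G] (N : Subgroup G) [hN : N.Normal]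
    (K : Subgroup N) (Q : ℕ → Prop) (hK : ∀ x : N, x ∈ K ↔ Q (orderOf x)) :
    (K.map N.subtype).Normal := by
  refine ⟨fun x hx g => ?_⟩
  obtain ⟨y, hy, rfl⟩ := hx
  have hmem : g * (y : G) * g⁻¹ ∈ N := hN.conj_mem y y.2 g
  refine ⟨⟨g * (y : G) * g⁻¹, hmem⟩, ?_, rfl⟩
  rw [SetLike.mem_coe, hK]
  have e : orderOf (⟨g * (y : G) * g⁻¹, hmem⟩ : N) = orderOf y := by
    rw [← Subgroup.orderOf_coe, ← Subgroup.orderOf_coe]
    exact (SemiconjBy.orderOf_eq g (by unfold SemiconjBy; group)).symm
  rw [e]
  exact (hK y).mp hy

/-- in a faithful primitive group, a normal subgroup of order equal to the degree has no Sylow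
subgroup with a normal complement. -/
theorem complement_contra {G X : Type*} [Group G] [MulAction G X] [FaithfulSMul G X]
    [IsPreprimitive G X] (a : X) (N : Subgroup G) [hN : N.Normal] [Finite N]
    (hc : Nat.card N = Nat.card X) (p : ℕ) [hp : Fact p.Prime] (P : Sylow p N)
    (hP : Subgroup.normalizer (P : Set N) ≤ Subgroup.centralizer (P : Set N))
    (h1 : 1 < Nat.card P) (h2 : Nat.card P < Nat.card N) : False := by
  obtain ⟨K, hKn, hKc, hK⟩ := exists_normal_complement p P hP
  have hKG : (K.map N.subtype).Normal :=
    normal_map_of_order N K (fun k => k.Coprime p) hK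
  have hKcard : Nat.card (K.map N.subtype) = Nat.card K :=
    (Nat.card_congr (K.equivMapOfInjective N.subtype N.subtype_injective).toEquiv).symm
  have hKpos : 0 < Nat.card K := Nat.card_pos
  have hKne : K.map N.subtype ≠ ⊥ := by
    intro h
    rw [h, Subgroup.card_bot] at hKcard
    rw [← hKcard, one_mul] at hKc
    omega
  have hdvd := prim_normal_card (X := X) a _ hKne
  rw [hKcard, ← hc, ← hKc] at hdvd
  have h3 : Nat.card K * Nat.card P ≤ Nat.card K := Nat.le_of_dvd hKpos hdvd
  have h4 : Nat.card K * 2 ≤ Nat.card K * Nat.card P := Nat.mul_le_mul_left _ h1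
  omega

/-- in a faithful primitive group, a normal subgroup of order equal to the degree has no
non-trivial proper normal Sylow subgroup. -/
theorem sylow_unique_contra {G X : Type*} [Group G] [MulAction G X] [FaithfulSMul G X]
    [IsPreprimitive G X] (a : X) (N : Subgroup G) [hN : N.Normal] [Finite N]
    (hc : Nat.card N = Nat.card X) (p : ℕ) [hp : Fact p.Prime] (P : Sylow p N)
    (hu : Nat.card (Sylow p N) = 1)
    (h1 : 1 < Nat.card P) (h2 : Nat.card P < Nat.card N) : False := by
  have : Subsingleton (Sylow p N) := (Nat.card_eq_one_iff_unique.mp hu).1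
  have : (P : Subgroup N).Characteristic := Sylow.characteristic_of_subsingleton P
  have hM : ((P : Subgroup N).map N.subtype).Normal := ConjAct.normal_of_characteristic_of_normal
  have hMc : Nat.card ((P : Subgroup N).map N.subtype) = Nat.card P :=
    (Nat.card_congr
      ((P : Subgroup N).equivMapOfInjective N.subtype N.subtype_injective).toEquiv).symm
  have hMne : (P : Subgroup N).map N.subtype ≠ ⊥ := by
    intro h
    rw [h, Subgroup.card_bot] at hMc
    omega
  have hdvd := prim_normal_card (X := X) a _ hMne
  rw [hMc, ← hc] at hdvd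
  have := Nat.le_of_dvd (by omega) hdvd
  omega

/-- a faithful primitive group of degree twice an odd number has no normal subgroup of order
equal to the degree. -/
theorem no_regular_two_odd {G X : Type*} [Group G] [MulAction G X] [FaithfulSMul G X]
    [IsPreprimitive G X] (m : ℕ) (hm : Odd m) (hm1 : 1 < m) (hX : Nat.card X = 2 * m)
    (N : Subgroup G) (hN : N.Normal) (hc : Nat.card N = 2 * m) : False := by
  have := hN
  have : Finite N := Nat.finite_of_card_ne_zero (by rw [hc]; omega)
  have : Fact (Nat.Prime 2) := ⟨Nat.prime_two⟩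
  have hXne : Nonempty X := by
    by_contra h
    rw [not_nonempty_iff] at h
    rw [Nat.card_of_isEmpty] at hX
    omega
  obtain ⟨a⟩ := hXne
  let P : Sylow 2 N := default
  have hPc : Nat.card P = 2 := by
    rw [Sylow.card_eq_multiplicity, hc]
    have h2 : ¬ 2 ∣ m := by
      obtain ⟨k, hk⟩ := hm
      omega
    have : (2 * m).factorization 2 = 1 := by
      rw [Nat.factorization_mul (by norm_num) (by omega), Finsupp.add_apply,
        Nat.Prime.factorization_self Nat.prime_two, Nat.factorization_eq_zero_of_not_dvd h2]
    rw [this, pow_one]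
  have hP : Subgroup.normalizer (P : Set N) ≤ Subgroup.centralizer (P : Set N) := by
    intro g hg
    rw [Subgroup.mem_centralizer_iff]
    intro h hh
    obtain ⟨t, -, ht⟩ := (Nat.card_eq_two_iff' (1 : P)).mp hPc
    by_cases h1 : h = 1
    · rw [h1, one_mul, mul_one]
    have hconj : g * h * g⁻¹ ∈ (P : Subgroup N) := (Subgroup.mem_normalizer_iff.mp hg h).mp hh
    have e1 : (⟨h, hh⟩ : P) = t := ht _ (fun hc => h1 (congrArg Subtype.val hc))
    have e2 : (⟨g * h * g⁻¹, hconj⟩ : P) = t := by
      apply ht
      intro hc
      apply h1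
      have : g * h * g⁻¹ = 1 := congrArg Subtype.val hc
      calc h = g⁻¹ * (g * h * g⁻¹) * g := by group
        _ = 1 := by rw [this]; group
    have e3 : g * h * g⁻¹ = h := congrArg Subtype.val (e2.trans e1.symm)
    calc h * g = (g * h * g⁻¹) * g := by rw [e3]
      _ = g * h := by group
  exact complement_contra a N (hc.trans hX.symm) 2 P hP (by omega) (by omega)

end Cfsg.Agent.Helper9
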