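import Mathlib
import Cfsg.Agent.Helper9.PrimSimple2

set_option autoImplicit false

/-!
A faithful primitive group of degree 2025 has no normal subgroup of order 2025.
-/

namespace Cfsg.Agent.Helper9

open MulAction

theorem no_regular_2025 {G X : Type*} [Group G] [MulAction G X] [FaithfulSMul G X]
    [IsPreprimitive G X] (hX : Nat.card X = 2025) (N : Subgroup G) (hN : N.Normal)
    (hc : Nat.card N = 2025) : False := by
  have := hN
  have : Finite N := Nat.finite_of_card_ne_zero (by rw [hc]; norm_num)
  have : Fact (Nat.Prime 5) := ⟨by norm_num⟩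
  have hXne : Nonempty X := by
    by_contra h
    rw [not_nonempty_iff] at h
    rw [Nat.card_of_isEmpty] at hX
    omega
  obtain ⟨a⟩ := hXne
  let P : Sylow 5 N := default
  have h1 : Nat.card (Sylow 5 N) ≡ 1 [MOD 5] := card_sylow_modEq_one 5 N
  have h2 : Nat.card (Sylow 5 N) ∣ (P : Subgroup N).index := P.card_dvd_index
  have h3 : Nat.card P = 25 := by
    rw [Sylow.card_eq_multiplicity, hc]
    have : (2025 : ℕ).factorization 5 = 2 := by decide +kernel
    rw [this]
    norm_num
  have h4 : (P : Subgroup N).index = 81 := by
    have := Subgroup.card_mul_index (P : Subgroup N)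
    rw [h3, hc] at this
    omega
  rw [h4] at h2
  have h5 : Nat.card (Sylow 5 N) = 1 ∨ Nat.card (Sylow 5 N) = 81 := by
    have hmem : Nat.card (Sylow 5 N) ∈ Nat.divisors 81 := by
      rw [Nat.mem_divisors]
      exact ⟨h2, by norm_num⟩
    have hdiv : Nat.divisors 81 = {1, 3, 9, 27, 81} := by decide +kernel
    rw [hdiv] at hmem
    unfold Nat.ModEq at h1
    simp only [Finset.mem_insert, Finset.mem_singleton] at hmem
    rcases hmem with h | h | h | h | h
    · exact Or.inl h
    · rw [h] at h1; norm_num at h1
    · rw [h] at h1; norm_num at h1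
    · rw [h] at h1; norm_num at h1
    · exact Or.inr h
  rcases h5 with h5 | h5
  · exact sylow_unique_contra a N (hc.trans hX.symm) 5 P h5 (by omega) (by omega)
  · -- the normaliser of `P` is `P`, which is commutative
    have h6 : (Subgroup.normalizer (P : Set N)).index = 81 := by
      rw [← Sylow.card_eq_index_normalizer, h5]
    have h7 : Nat.card (Subgroup.normalizer (P : Set N)) = 25 := by
      have := Subgroup.card_mul_index (Subgroup.normalizer (P : Set N))
      rw [h6, hc] at this
      omega
    have h8 : (P : Subgroup N) = Subgroup.normalizer (P : Set N) := by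
      apply Subgroup.eq_of_le_of_card_ge Subgroup.le_normalizer
      exact le_of_eq (h7.trans h3.symm)
    have hcomm : ∀ x y : P, x * y = y * x :=
      IsPGroup.commutative_of_card_eq_prime_sq (p := 5)
        (show Nat.card (P : Subgroup N) = 5 ^ 2 from h3.trans (by norm_num))
    have hP : Subgroup.normalizer (P : Set N) ≤ Subgroup.centralizer (P : Set N) := by
      intro g hg
      rw [← h8] at hg
      rw [Subgroup.mem_centralizer_iff]
      intro h hh
      exact congrArg Subtype.val (hcomm ⟨h, hh⟩ ⟨g, hg⟩)
    exact complement_contra a N (hc.trans hX.symm) 5 P hP (by omega) (by omega)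

end Cfsg.Agent.Helper9
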