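import Mathlib
import Cfsg.Agent.Helper9.PrimSimple3

set_option autoImplicit false

/-!
A faithful primitive group of degree 47104 has no normal subgroup of order 47104.
-/

namespace Cfsg.Agent.Helper9

open MulAction

theorem no_regular_47104 {G X : Type*} [Group G] [MulAction G X] [FaithfulSMul G X]
    [IsPreprimitive G X] (hX : Nat.card X = 47104) (N : Subgroup G) (hN : N.Normal)
    (hc : Nat.card N = 47104) : False := by
  have := hN
  have : Finite N := Nat.finite_of_card_ne_zero (by rw [hc]; norm_num)
  have : Fact (Nat.Prime 23) := ⟨by norm_num⟩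
  have hXne : Nonempty X := by
    by_contra h
    rw [not_nonempty_iff] at h
    rw [Nat.card_of_isEmpty] at hX
    omega
  obtain ⟨a⟩ := hXne
  let P : Sylow 23 N := default
  have h1 : Nat.card (Sylow 23 N) ≡ 1 [MOD 23] := card_sylow_modEq_one 23 N
  have h2 : Nat.card (Sylow 23 N) ∣ (P : Subgroup N).index := P.card_dvd_index
  have h3 : Nat.card P = 23 := by
    rw [Sylow.card_eq_multiplicity, hc]
    have : (47104 : ℕ).factorization 23 = 1 := by decide +kernel
    rw [this]
    norm_num
  have h4 : (P : Subgroup N).index = 2048 := by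
    have := Subgroup.card_mul_index (P : Subgroup N)
    rw [h3, hc] at this
    omega
  rw [h4] at h2
  have h5 : Nat.card (Sylow 23 N) = 1 ∨ Nat.card (Sylow 23 N) = 2048 := by
    have hpow : (2048 : ℕ) = 2 ^ 11 := by norm_num
    rw [hpow, Nat.dvd_prime_pow Nat.prime_two] at h2
    obtain ⟨k, hk, hk'⟩ := h2
    unfold Nat.ModEq at h1
    rw [hk'] at h1 ⊢
    interval_cases k <;> simp_all
  rcases h5 with h5 | h5
  · exact sylow_unique_contra a N (hc.trans hX.symm) 23 P h5 (by omega) (by omega)
  · have h6 : (Subgroup.normalizer (P : Set N)).index = 2048 := by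
      rw [← Sylow.card_eq_index_normalizer, h5]
    have h7 : Nat.card (Subgroup.normalizer (P : Set N)) = 23 := by
      have := Subgroup.card_mul_index (Subgroup.normalizer (P : Set N))
      rw [h6, hc] at this
      omega
    have h8 : (P : Subgroup N) = Subgroup.normalizer (P : Set N) := by
      apply Subgroup.eq_of_le_of_card_ge Subgroup.le_normalizer
      exact le_of_eq (h7.trans h3.symm)
    have hcyc : IsCyclic (P : Subgroup N) := isCyclic_of_prime_card (p := 23) h3
    have hcomm : ∀ x y : (P : Subgroup N), x * y = y * x := by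
      intro x y
      obtain ⟨g, hg⟩ := hcyc.exists_generator
      obtain ⟨m, rfl⟩ := Subgroup.mem_zpowers_iff.mp (hg x)
      obtain ⟨n, rfl⟩ := Subgroup.mem_zpowers_iff.mp (hg y)
      rw [← zpow_add, ← zpow_add, add_comm]
    have hP : Subgroup.normalizer (P : Set N) ≤ Subgroup.centralizer (P : Set N) := by
      intro g hg
      rw [← h8] at hg
      rw [Subgroup.mem_centralizer_iff]
      intro h hh
      exact congrArg Subtype.val (hcomm ⟨h, hh⟩ ⟨g, hg⟩)
    exact complement_contra a N (hc.trans hX.symm) 23 P hP (by omega) (by omega)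

end Cfsg.Agent.Helper9
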