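import Mathlib
import Cfsg.Agent.Helper9.PrimSimple2

set_option autoImplicit false

/-!
A primitive group whose point stabiliser has few orbits has no regular normal subgroup whose order
is divisible by many primes: the point stabiliser acts on the regular normal subgroup by
conjugation with the same number of orbits, and conjugate elements have the same order.
-/

namespace Cfsg.Agent.Helper9

open MulAction

/-- every point other than the base point has a colour in the list. -/
theorem colours_cover {X : Type*} [Finite X] (a : X) (f : X → ℤ) (cs : Finset ℤ) (n : ℤ → ℕ)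
    (N : ℕ) (hN : Nat.card X = N) (hfa : f a ∉ cs)
    (hn : ∀ c ∈ cs, {y : X | f y = c}.ncard = n c)
    (hsum : 1 + ∑ c ∈ cs, n c = N) : ∀ y : X, y ≠ a → f y ∈ cs := by
  classical
  have hcount := ncard_colours f n cs hn
  have hna : a ∉ {y : X | f y ∈ cs} := hfa
  have h1 : (insert a {y : X | f y ∈ cs}).ncard = Nat.card X := by
    rw [Set.ncard_insert_of_notMem hna (Set.toFinite _), hcount cs (Finset.Subset.refl _), hN,
      ← hsum]
    ring
  have h2 : insert a {y : X | f y ∈ cs} = Set.univ := by
    apply Set.eq_of_subset_of_ncard_le (Set.subset_univ _) _ (Set.toFinite _)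
    rw [Set.ncard_univ, h1]
  intro y hy
  have : y ∈ insert a {y : X | f y ∈ cs} := by rw [h2]; trivial
  rcases this with h | h
  · exact absurd h hy
  · exact h

theorem no_regular_of_orders {G X : Type*} [Group G] [MulAction G X] [FaithfulSMul G X]
    [IsPreprimitive G X] [Finite X] (a : X) (f : X → ℤ) (cs : Finset ℤ)
    (hcol : ∀ y : X, y ≠ a → f y ∈ cs)
    (htr : ∀ y y' : X, f y ∈ cs → f y = f y' → ∃ k ∈ stabilizer G a, k • y = y')
    (ps : Finset ℕ) (hps : ∀ p ∈ ps, p.Prime ∧ p ∣ Nat.card X) (hlt : cs.card < ps.card)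
    (N : Subgroup G) (hN : N.Normal) (hc : Nat.card N = Nat.card X) : False := by
  classical
  have := hN
  have hXpos : 0 < Nat.card X := Nat.card_pos_iff.mpr ⟨⟨a⟩, inferInstance⟩
  have : Finite N := Nat.finite_of_card_ne_zero (by rw [hc]; omega)
  -- a prime dividing the degree
  obtain ⟨p0, hp0⟩ : ps.Nonempty := by
    rw [← Finset.card_pos]
    omega
  have hX2 : 2 ≤ Nat.card X := by
    obtain ⟨h1, h2⟩ := hps p0 hp0
    exact le_trans h1.two_le (Nat.le_of_dvd hXpos h2)
  have hne : N ≠ ⊥ := by
    intro h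
    rw [h, Subgroup.card_bot] at hc
    omega
  have htrans := prim_normal_trans (X := X) N hne
  -- the stabiliser in `N` is trivial
  have hstab : ∀ n : G, n ∈ N → n • a = a → n = 1 := by
    have h1 := Subgroup.card_mul_index (MulAction.stabilizer N a)
    rw [MulAction.index_stabilizer, MulAction.orbit_eq_univ, Set.ncard_univ, hc] at h1
    have h2 : Nat.card (MulAction.stabilizer N a) = 1 := by
      have := Nat.eq_of_mul_eq_mul_right hXpos (h1.trans (one_mul _).symm)
      exact this
    intro n hn hna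
    have h3 : (⟨n, hn⟩ : N) ∈ MulAction.stabilizer N a := by
      rw [MulAction.mem_stabilizer_iff]
      exact hna
    have h4 := (Subgroup.card_eq_one.mp h2)
    rw [h4, Subgroup.mem_bot] at h3
    exact congrArg Subtype.val h3
  -- elements of prime order
  have hel : ∀ p ∈ ps, ∃ n : G, n ∈ N ∧ orderOf n = p := by
    intro p hp
    obtain ⟨h1, h2⟩ := hps p hp
    have : Fact p.Prime := ⟨h1⟩
    obtain ⟨n, hn⟩ := exists_prime_orderOf_dvd_card' (G := N) p (by rw [hc]; exact h2)
    exact ⟨n.1, n.2, by rw [Subgroup.orderOf_coe]; exact hn⟩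
  choose! φ hφN hφo using hel
  have hmaps : ∀ p ∈ ps, f (φ p • a) ∈ cs := by
    intro p hp
    apply hcol
    intro h
    have h1 := hstab (φ p) (hφN p hp) h
    have h2 := hφo p hp
    rw [h1, orderOf_one] at h2
    exact (hps p hp).1.one_lt.ne h2
  obtain ⟨p, hp, q, hq, hpq, hfpq⟩ :=
    Finset.exists_ne_map_eq_of_card_lt_of_maps_to hlt hmaps
  obtain ⟨k, hk, hkk⟩ := htr (φ p • a) (φ q • a) (hmaps p hp) hfpq
  have hka : k • a = a := hk
  have hka' : k⁻¹ • a = a := by
    rw [inv_smul_eq_iff, hka]
  have h1 : ((φ q)⁻¹ * (k * φ p * k⁻¹)) • a = a := by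
    rw [mul_smul, mul_smul, mul_smul, hka', hkk, inv_smul_smul]
  have h2 : (φ q)⁻¹ * (k * φ p * k⁻¹) ∈ N :=
    N.mul_mem (N.inv_mem (hφN q hq)) (hN.conj_mem _ (hφN p hp) k)
  have h3 := hstab _ h2 h1
  have h4 : φ q = k * φ p * k⁻¹ := by
    have := congrArg (fun z => φ q * z) h3
    simpa using this.symm
  have h5 : orderOf (φ q) = orderOf (φ p) := by
    have hsc : SemiconjBy k (φ p) (φ q) := by
      unfold SemiconjBy
      rw [h4]
      group
    exact (SemiconjBy.orderOf_eq k hsc).symm
  rw [hφo p hp, hφo q hq] at h5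
  exact hpq h5.symm

end Cfsg.Agent.Helper9
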