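import Mathlib

set_option autoImplicit false

/-!
Glue: the automorphism group of an elementary abelian group of order 9 embeds in `GL (Fin 2) (ZMod 3)`,
and a group of order 432 with a self-centralizing normal elementary abelian subgroup of order 9 has
quotient `GL (Fin 2) (ZMod 3)`.
-/

namespace Cfsg.Agent.Helper9.GLGlue

/-- automorphisms of an abelian group of exponent `p` act `ZMod p`-linearly on the additive
version. -/
noncomputable def autToLin (N : Type*) [CommGroup N] (p : ℕ) [Module (ZMod p) (Additive N)] :
    MulAut N →* (Additive N ≃ₗ[ZMod p] Additive N) where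
  toFun e := { MulEquiv.toAdditive e with
    map_smul' := fun c x => ZMod.map_smul (MulEquiv.toAdditive e) c x }
  map_one' := by ext; rfl
  map_mul' := fun a b => by ext; rfl

theorem autToLin_injective (N : Type*) [CommGroup N] (p : ℕ) [Module (ZMod p) (Additive N)] :
    Function.Injective (autToLin N p) := by
  intro a b h
  ext x
  have := LinearEquiv.congr_fun h (Additive.ofMul x)
  exact this

theorem exists_inj_GL (N : Type*) [CommGroup N] (hN : Nat.card N = 9) (hexp : ∀ x : N, x ^ 3 = 1) :
    ∃ f : MulAut N →* GL (Fin 2) (ZMod 3), Function.Injective f := by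
  classical
  have : Fact (Nat.Prime 3) := ⟨by norm_num⟩
  have : Finite N := Nat.finite_of_card_ne_zero (by rw [hN]; norm_num)
  let _ : Module (ZMod 3) (Additive N) := AddCommGroup.zmodModule (n := 3) (fun x => by
    change Additive.ofMul (x.toMul ^ 3) = 0
    rw [hexp]; rfl)
  have : Finite (Additive N) := ‹Finite N›
  have hfr : Module.finrank (ZMod 3) (Additive N) = 2 := by
    have h1 := Module.natCard_eq_pow_finrank (K := ZMod 3) (V := Additive N)
    have h2 : Nat.card (Additive N) = 9 := hN
    rw [h2, Nat.card_zmod] at h1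
    have : (3 : ℕ) ^ 2 = 3 ^ Module.finrank (ZMod 3) (Additive N) := by rw [← h1]; norm_num
    exact (Nat.pow_right_injective (a := 3) (by norm_num) this).symm
  let e : Additive N ≃ₗ[ZMod 3] (Fin 2 → ZMod 3) :=
    LinearEquiv.ofFinrankEq _ _ (by rw [hfr, Module.finrank_fin_fun])
  refine ⟨(Matrix.GeneralLinearGroup.toLin.symm.toMonoidHom.comp
    (LinearMap.GeneralLinearGroup.congrLinearEquiv e).toMonoidHom).comp
    ((LinearMap.GeneralLinearGroup.generalLinearEquiv (ZMod 3) (Additive N)).symm.toMonoidHom.comp
      (autToLin N 3)), ?_⟩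
  intro a b h
  apply autToLin_injective N 3
  apply (LinearMap.GeneralLinearGroup.generalLinearEquiv (ZMod 3) (Additive N)).symm.injective
  apply (LinearMap.GeneralLinearGroup.congrLinearEquiv e).injective
  apply Matrix.GeneralLinearGroup.toLin.symm.injective
  exact h

theorem card_GL23 : Nat.card (GL (Fin 2) (ZMod 3)) = 48 := by
  have : Fact (Nat.Prime 3) := ⟨by norm_num⟩
  rw [Matrix.card_GL_field (𝔽 := ZMod 3) 2]
  simp [Fin.prod_univ_two, ZMod.card]

/-- a homomorphism from a finite group whose kernel has the complementary order is onto. -/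
theorem surj_of_card' {G H : Type*} [Group G] [Group H] [Finite G] [Finite H] (φ : G →* H)
    (h : Nat.card G = Nat.card φ.ker * Nat.card H) (hk : 0 < Nat.card φ.ker) :
    Function.Surjective φ := by
  have h1 := Subgroup.card_eq_card_quotient_mul_card_subgroup φ.ker
  rw [Nat.card_congr (QuotientGroup.quotientKerEquivRange φ).toEquiv] at h1
  have h2 : Nat.card φ.range = Nat.card H := by
    rw [h1, mul_comm] at h
    exact Nat.eq_of_mul_eq_mul_left hk h
  rw [← MonoidHom.range_eq_top]
  exact Subgroup.eq_top_of_card_eq _ h2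

theorem quot_equiv_GL {H : Type*} [Group H] (N : Subgroup H) [hn : N.Normal]
    (hH : Nat.card H = 432) (hN : Nat.card N = 9) (hexp : ∀ x ∈ N, x ^ 3 = 1)
    (hcent : ∀ h : H, (∀ n ∈ N, h * n = n * h) → h ∈ N) :
    Nonempty (H ⧸ N ≃* GL (Fin 2) (ZMod 3)) := by
  classical
  have : Fact (Nat.Prime 3) := ⟨by norm_num⟩
  have : Finite H := Nat.finite_of_card_ne_zero (by rw [hH]; norm_num)
  have hcomm : ∀ a b : ↥N, a * b = b * a :=
    (IsPGroup.isMulCommutative_of_card_eq_prime_sq (p := 3) (G := ↥N) (by rw [hN]; norm_num)).is_comm.comm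
  let _ : CommGroup ↥N := { (inferInstance : Group ↥N) with mul_comm := hcomm }
  obtain ⟨f, hf⟩ := exists_inj_GL ↥N hN (fun x => Subtype.ext (hexp x x.2))
  let φ : H →* GL (Fin 2) (ZMod 3) := f.comp (MulAut.conjNormal (H := N))
  have hker : φ.ker = N := by
    ext x
    rw [MonoidHom.mem_ker]
    constructor
    · intro hx
      have h1 : MulAut.conjNormal (H := N) x = 1 := by
        apply hf
        rw [map_one]
        exact hx
      apply hcent
      intro n hn'
      have h2 := congrArg (fun e : MulAut ↥N => ((e ⟨n, hn'⟩ : ↥N) : H)) h1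
      simp only [MulAut.conjNormal_apply, MulAut.one_apply] at h2
      calc x * n = x * n * x⁻¹ * x := by group
        _ = n * x := by rw [h2]
    · intro hx
      have h1 : MulAut.conjNormal (H := N) x = 1 := by
        ext n
        rw [MulAut.conjNormal_apply, MulAut.one_apply]
        have := hcomm ⟨x, hx⟩ n
        have h3 : x * (n : H) = (n : H) * x := congrArg Subtype.val this
        rw [h3]
        group
      change f (MulAut.conjNormal (H := N) x) = 1
      rw [h1, map_one]
  have hsurj : Function.Surjective φ := by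
    apply surj_of_card'
    · rw [hker, hH, hN, card_GL23]
    · rw [hker, hN]; norm_num
  exact ⟨(QuotientGroup.quotientMulEquivOfEq hker.symm).trans
    (QuotientGroup.quotientKerEquivOfSurjective φ hsurj)⟩

end Cfsg.Agent.Helper9.GLGlue
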