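import Mathlib
import Cfsg.Agent.Helper9.GLGlue

set_option autoImplicit false

/-!
S3360 (Huppert), piece AUT (helper9): the automorphism group of an elementary abelian group of order
`p ^ k` embeds in `GL (Fin k) (ZMod p)`; in particular `|Aut (C_2^k)|` divides `|GL_k(2)|`.
-/

namespace Cfsg.Agent.Helper9.Hup

open Cfsg.Agent.Helper9.GLGlue

/-- `Aut` of an elementary abelian group of order `p ^ k` embeds in `GL (Fin k) (ZMod p)`. -/
theorem exists_inj_GL_of_card (N : Type*) [CommGroup N] (p k : ℕ) [hp : Fact p.Prime]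
    (hN : Nat.card N = p ^ k) (hexp : ∀ x : N, x ^ p = 1) :
    ∃ f : MulAut N →* GL (Fin k) (ZMod p), Function.Injective f := by
  classical
  have : Finite N := Nat.finite_of_card_ne_zero (by rw [hN]; exact pow_ne_zero _ hp.out.ne_zero)
  have hexp' : ∀ x : Additive N, p • x = 0 := fun x => by
    change Additive.ofMul (x.toMul ^ p) = 0
    rw [hexp]; rfl
  let _ : Module (ZMod p) (Additive N) := AddCommGroup.zmodModule (n := p) hexp'
  have : Finite (Additive N) := ‹Finite N›
  have hfr : Module.finrank (ZMod p) (Additive N) = k := by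
    have h1 := Module.natCard_eq_pow_finrank (K := ZMod p) (V := Additive N)
    have h2 : Nat.card (Additive N) = p ^ k := hN
    rw [h2, Nat.card_zmod] at h1
    exact (Nat.pow_right_injective hp.out.two_le h1).symm
  let e : Additive N ≃ₗ[ZMod p] (Fin k → ZMod p) :=
    LinearEquiv.ofFinrankEq _ _ (by rw [hfr, Module.finrank_fin_fun])
  refine ⟨(Matrix.GeneralLinearGroup.toLin.symm.toMonoidHom.comp
    (LinearMap.GeneralLinearGroup.congrLinearEquiv e).toMonoidHom).comp
    ((LinearMap.GeneralLinearGroup.generalLinearEquiv (ZMod p) (Additive N)).symm.toMonoidHom.comp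
      (autToLin N p)), ?_⟩
  intro a b h
  apply autToLin_injective N p
  apply (LinearMap.GeneralLinearGroup.generalLinearEquiv (ZMod p) (Additive N)).symm.injective
  apply (LinearMap.GeneralLinearGroup.congrLinearEquiv e).injective
  apply Matrix.GeneralLinearGroup.toLin.symm.injective
  exact h

/-- general `p`: `|Aut N|` divides `|GL_k(p)|` for `N` elementary abelian of order `p ^ k`. -/
theorem card_mulAut_dvd_of_card (N : Type*) [CommGroup N] (p k : ℕ) [hp : Fact p.Prime]
    (hN : Nat.card N = p ^ k) (hexp : ∀ x : N, x ^ p = 1) :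
    Nat.card (MulAut N) ∣ Nat.card (GL (Fin k) (ZMod p)) := by
  obtain ⟨f, hf⟩ := exists_inj_GL_of_card N p k hN hexp
  exact Subgroup.card_dvd_of_injective f hf

/-- PIECE AUT of helper5's S3360 blueprint (exact stub). -/
theorem card_mulAut_dvd {N : Type*} [Group N] [Finite N] (hcomm : ∀ a b : N, a * b = b * a)
    (k : ℕ) (hN : Nat.card N = 2 ^ k) (hexp : ∀ x : N, x ^ 2 = 1) :
    Nat.card (MulAut N) ∣ Nat.card (GL (Fin k) (ZMod 2)) := by
  letI : CommGroup N := { (inferInstance : Group N) with mul_comm := hcomm }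
  haveI : Fact (Nat.Prime 2) := ⟨Nat.prime_two⟩
  exact card_mulAut_dvd_of_card N 2 k hN hexp

end Cfsg.Agent.Helper9.Hup
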