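import Mathlib

set_option autoImplicit false

/-!
S3360 (Huppert), piece SQ (helper9): a finite `s`-group `P` of class at most 2 with `P / Z(P)` of
exponent `s` and cyclic centre has `|P : Z(P)| = s ^ (2 m)`.
-/

namespace Cfsg.Agent.Helper9.Hup

open scoped commutatorElement

section comm

variable {P : Type*} [Group P]

/-- `g ↦ ⁅a, g⁆` is a homomorphism when all commutators are central. -/
def commHom (hcl : ∀ a b : P, ⁅a, b⁆ ∈ Subgroup.center P) (a : P) : P →* P where
  toFun g := ⁅a, g⁆
  map_one' := by simp [commutatorElement_def]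
  map_mul' g h := by
    have hc := Subgroup.mem_center_iff.mp (hcl a h)
    have h1 : ⁅a, g * h⁆ = ⁅a, g⁆ * (g * ⁅a, h⁆ * g⁻¹) := by
      simp only [commutatorElement_def]; group
    rw [h1, hc g, mul_inv_cancel_right]

theorem commHom_apply (hcl : ∀ a b : P, ⁅a, b⁆ ∈ Subgroup.center P) (a g : P) :
    commHom hcl a g = ⁅a, g⁆ := rfl

theorem commHom_eq_one_iff (hcl : ∀ a b : P, ⁅a, b⁆ ∈ Subgroup.center P) (a g : P) :
    commHom hcl a g = 1 ↔ a * g = g * a := by
  rw [commHom_apply, commutatorElement_eq_one_iff_mul_comm]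

/-- The central elements of order dividing `s`. -/
def omegaZ (s : ℕ) : Subgroup P where
  carrier := {z | z ∈ Subgroup.center P ∧ z ^ s = 1}
  one_mem' := ⟨Subgroup.one_mem _, one_pow _⟩
  mul_mem' := by
    rintro x y ⟨hx, hxs⟩ ⟨hy, hys⟩
    refine ⟨Subgroup.mul_mem _ hx hy, ?_⟩
    have hcomm : Commute x y := Subgroup.mem_center_iff.mp hy x
    rw [hcomm.mul_pow, hxs, hys, one_mul]
  inv_mem' := by
    rintro x ⟨hx, hxs⟩
    exact ⟨Subgroup.inv_mem _ hx, by rw [inv_pow, hxs, inv_one]⟩

theorem mem_omegaZ {s : ℕ} {z : P} : z ∈ omegaZ (P := P) s ↔ z ∈ Subgroup.center P ∧ z ^ s = 1 :=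
  Iff.rfl

theorem card_omegaZ_le [Finite P] (hcyc : IsCyclic (Subgroup.center P)) {s : ℕ} (hs : 0 < s) :
    Nat.card (omegaZ (P := P) s) ≤ s := by
  classical
  haveI : Fintype (Subgroup.center P) := Fintype.ofFinite _
  have h1 := IsCyclic.card_pow_eq_one_le (α := Subgroup.center P) hs
  let f : omegaZ (P := P) s → {a : Subgroup.center P // a ∈ (Finset.univ.filter
      (fun a : Subgroup.center P => a ^ s = 1))} := fun z =>
    ⟨⟨z.1, z.2.1⟩, by
      rw [Finset.mem_filter]
      refine ⟨Finset.mem_univ _, ?_⟩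
      apply Subtype.ext
      simpa using z.2.2⟩
  have hf : Function.Injective f := by
    intro x y hxy
    apply Subtype.ext
    have := congrArg (fun w => ((w.1 : Subgroup.center P) : P)) hxy
    exact this
  have h2 := Nat.card_le_card_of_injective f hf
  rw [Nat.card_eq_fintype_card (α := {a : Subgroup.center P // a ∈ (Finset.univ.filter
      (fun a : Subgroup.center P => a ^ s = 1))}), Fintype.card_coe] at h2
  exact h2.trans h1

end comm

section step

variable {P : Type*} [Group P] [Finite P] {s : ℕ} [hs : Fact s.Prime]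

/-- A nontrivial subgroup of `Ω_1(Z(P))` has order `s` (`Z(P)` cyclic). -/
theorem card_eq_of_le_omegaZ (hP : IsPGroup s P) (hcyc : IsCyclic (Subgroup.center P))
    (R : Subgroup P) (hR : R ≤ omegaZ s) (hne : R ≠ ⊥) : Nat.card R = s := by
  have h1 : Nat.card R ≤ s :=
    (Subgroup.card_le_of_le hR).trans (card_omegaZ_le hcyc hs.out.pos)
  obtain ⟨j, hj⟩ := IsPGroup.iff_card.mp (hP.to_subgroup R)
  have hj1 : j ≠ 0 := by
    rintro rfl
    rw [pow_zero] at hj
    exact hne (Subgroup.card_eq_one.mp hj)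
  have h2 : s ≤ Nat.card R := by
    rw [hj]
    calc s = s ^ 1 := (pow_one s).symm
      _ ≤ s ^ j := Nat.pow_le_pow_right hs.out.pos (Nat.one_le_iff_ne_zero.mpr hj1)
  exact le_antisymm h1 h2

omit [Finite P] hs in
theorem range_commHom_le (hcl : ∀ a b : P, ⁅a, b⁆ ∈ Subgroup.center P)
    (hexp : ∀ a : P, a ^ s ∈ Subgroup.center P) (a : P) :
    (commHom hcl a).range ≤ omegaZ s := by
  rintro _ ⟨g, rfl⟩
  refine ⟨hcl a g, ?_⟩
  rw [← map_pow, commHom_eq_one_iff]
  exact Subgroup.mem_center_iff.mp (hexp g) a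

theorem exists_sub (hP : IsPGroup s P) (hcl : ∀ a b : P, ⁅a, b⁆ ∈ Subgroup.center P)
    (hexp : ∀ a : P, a ^ s ∈ Subgroup.center P) (hcyc : IsCyclic (Subgroup.center P))
    (a : P) (ha : a ∉ Subgroup.center P) :
    ∃ P₁ : Subgroup P, Subgroup.center P ≤ P₁ ∧
      (∀ z ∈ P₁, (∀ x ∈ P₁, z * x = x * z) → z ∈ Subgroup.center P) ∧
      Nat.card P = s ^ 2 * Nat.card P₁ := by
  -- `b` not commuting with `a`
  obtain ⟨b, hb⟩ : ∃ b : P, b * a ≠ a * b := by
    by_contra hcon
    push Not at hcon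
    exact ha (Subgroup.mem_center_iff.mpr hcon)
  set φ := commHom hcl a with hφ
  set Ca : Subgroup P := φ.ker with hCa
  have hCamem : ∀ g : P, g ∈ Ca ↔ a * g = g * a := fun g => by
    rw [hCa, MonoidHom.mem_ker, hφ, commHom_eq_one_iff]
  -- index of `C_P(a)` is `s`
  have hφne : φ.range ≠ ⊥ := by
    intro h
    have : φ b ∈ φ.range := ⟨b, rfl⟩
    rw [h, Subgroup.mem_bot, hφ, commHom_eq_one_iff] at this
    exact hb this.symm
  have hidx : Ca.index = s := by
    rw [hCa, Subgroup.index_ker]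
    exact card_eq_of_le_omegaZ hP hcyc _ (range_commHom_le hcl hexp a) hφne
  -- second homomorphism, on `C_P(a)`
  set ψ : ↥Ca →* P := (commHom hcl b).comp Ca.subtype with hψ
  have hψmem : ∀ g : ↥Ca, g ∈ ψ.ker ↔ b * (g : P) = (g : P) * b := fun g => by
    rw [MonoidHom.mem_ker, hψ, MonoidHom.comp_apply, commHom_eq_one_iff]
    rfl
  have haCa : a ∈ Ca := (hCamem a).mpr rfl
  have hψne : ψ.range ≠ ⊥ := by
    intro h
    have : ψ ⟨a, haCa⟩ ∈ ψ.range := ⟨_, rfl⟩
    rw [h, Subgroup.mem_bot, ← MonoidHom.mem_ker, hψmem] at this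
    exact hb this
  have hψle : ψ.range ≤ omegaZ s := by
    rintro _ ⟨g, rfl⟩
    exact range_commHom_le hcl hexp b ⟨(g : P), rfl⟩
  have hidx2 : ψ.ker.index = s := by
    rw [Subgroup.index_ker]
    exact card_eq_of_le_omegaZ hP hcyc _ hψle hψne
  set P₁ : Subgroup P := ψ.ker.map Ca.subtype with hP₁
  have hP₁mem : ∀ g : P, g ∈ P₁ ↔ a * g = g * a ∧ b * g = g * b := by
    intro g
    constructor
    · rintro ⟨x, hx, rfl⟩
      exact ⟨(hCamem _).mp x.2, (hψmem x).mp hx⟩
    · rintro ⟨h1, h2⟩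
      exact ⟨⟨g, (hCamem g).mpr h1⟩, (hψmem _).mpr h2, rfl⟩
  have hP₁Ca : P₁ ≤ Ca := fun g hg => (hCamem g).mpr ((hP₁mem g).mp hg).1
  have hcardP₁ : Nat.card P₁ = Nat.card ψ.ker :=
    Subgroup.card_map_of_injective Ca.subtype_injective
  have hcard : Nat.card P = s ^ 2 * Nat.card P₁ := by
    rw [← Subgroup.index_mul_card Ca, ← Subgroup.index_mul_card ψ.ker, hidx, hidx2, hcardP₁]
    ring
  have hrel : P₁.relIndex Ca = s := by
    have h1 : P₁.subgroupOf Ca = ψ.ker := by
      ext x
      rw [Subgroup.mem_subgroupOf, hP₁mem, hψmem]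
      exact ⟨fun h => h.2, fun h => ⟨(hCamem _).mp x.2, h⟩⟩
    rw [Subgroup.relIndex, h1, hidx2]
  refine ⟨P₁, ?_, ?_, hcard⟩
  · intro z hz
    rw [hP₁mem]
    exact ⟨Subgroup.mem_center_iff.mp hz a, Subgroup.mem_center_iff.mp hz b⟩
  · intro z hz hzc
    set K : Subgroup P := Subgroup.centralizer ({z} : Set P) with hK
    have hKmem : ∀ g : P, g ∈ K ↔ z * g = g * z := fun g => by
      rw [hK, Subgroup.mem_centralizer_singleton_iff, eq_comm]
    have hP₁K : P₁ ≤ K := fun g hg => (hKmem g).mpr (hzc g hg)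
    have haK : a ∈ K := (hKmem a).mpr ((hP₁mem z).mp hz).1.symm
    have hbK : b ∈ K := (hKmem b).mpr ((hP₁mem z).mp hz).2.symm
    have haP₁ : a ∉ P₁ := fun h => hb ((hP₁mem a).mp h).2
    have hbCa : b ∉ Ca := fun h => hb ((hCamem b).mp h).symm
    -- `C_P(a) ≤ K`
    have hCaK : Ca ≤ K := by
      have h1 := Subgroup.relIndex_mul_relIndex P₁ (Ca ⊓ K) Ca (le_inf hP₁Ca hP₁K) inf_le_left
      rw [hrel] at h1
      rcases (Nat.dvd_prime hs.out).mp (Dvd.intro _ h1) with h2 | h2
      · exfalso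
        rw [Subgroup.relIndex_eq_one] at h2
        exact haP₁ (h2 ⟨haCa, haK⟩)
      · rw [h2] at h1
        have h3 : (Ca ⊓ K).relIndex Ca = 1 := by
          have := hs.out.pos
          nlinarith
        rw [Subgroup.relIndex_eq_one] at h3
        exact fun g hg => (h3 hg).2
    have h4 := Subgroup.relIndex_mul_index hCaK
    rw [hidx] at h4
    have hKtop : K = ⊤ := by
      rcases (Nat.dvd_prime hs.out).mp (Dvd.intro _ h4) with h2 | h2
      · exfalso
        rw [Subgroup.relIndex_eq_one] at h2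
        exact hbCa (h2 hbK)
      · rw [h2] at h4
        have h3 : K.index = 1 := by
          have := hs.out.pos
          nlinarith
        exact Subgroup.index_eq_one.mp h3
    rw [Subgroup.mem_center_iff]
    intro g
    have : g ∈ K := by rw [hKtop]; trivial
    exact ((hKmem g).mp this).symm

end step

section main

universe u

theorem card_quot_center_sq_aux (s : ℕ) [hs : Fact s.Prime] :
    ∀ n : ℕ, ∀ (P : Type u) [Group P] [Finite P], Nat.card P = n → IsPGroup s P →
      (∀ a b : P, ⁅a, b⁆ ∈ Subgroup.center P) → (∀ a : P, a ^ s ∈ Subgroup.center P) →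
      IsCyclic (Subgroup.center P) → ∃ m : ℕ, (Subgroup.center P).index = s ^ (2 * m) := by
  intro n
  induction n using Nat.strong_induction_on with
  | _ n ih =>
    intro P _ _ hn hP hcl hexp hcyc
    by_cases htop : Subgroup.center P = ⊤
    · exact ⟨0, by rw [htop, Subgroup.index_top]; simp⟩
    · obtain ⟨a, ha⟩ : ∃ a : P, a ∉ Subgroup.center P := by
        by_contra hcon
        push Not at hcon
        exact htop (eq_top_iff.mpr fun x _ => hcon x)
      obtain ⟨P₁, hZP₁, hcen, hcard⟩ := exists_sub hP hcl hexp hcyc a ha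
      have hcardpos : 0 < Nat.card P₁ := Nat.card_pos
      have hlt : Nat.card P₁ < n := by
        rw [← hn, hcard]
        have h4 : 4 ≤ s ^ 2 := by
          have := hs.out.two_le
          nlinarith
        nlinarith
      -- the centre of `P₁`
      have hmemc : ∀ x : ↥P₁, x ∈ Subgroup.center ↥P₁ ↔ (x : P) ∈ Subgroup.center P := by
        intro x
        constructor
        · intro hx
          apply hcen x.1 x.2
          intro y hy
          have := Subgroup.mem_center_iff.mp hx ⟨y, hy⟩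
          exact (congrArg Subtype.val this).symm
        · intro hx
          rw [Subgroup.mem_center_iff]
          intro y
          apply Subtype.ext
          exact Subgroup.mem_center_iff.mp hx y.1
      have hcl₁ : ∀ a b : ↥P₁, ⁅a, b⁆ ∈ Subgroup.center ↥P₁ := by
        intro x y
        rw [hmemc]
        exact hcl x.1 y.1
      have hexp₁ : ∀ a : ↥P₁, a ^ s ∈ Subgroup.center ↥P₁ := by
        intro x
        rw [hmemc]
        exact hexp x.1
      let f : ↥(Subgroup.center P) →* ↥(Subgroup.center ↥P₁) :=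
        { toFun := fun z => ⟨⟨z.1, hZP₁ z.2⟩, (hmemc _).mpr z.2⟩
          map_one' := rfl
          map_mul' := fun _ _ => rfl }
      have hfsurj : Function.Surjective f := by
        rintro ⟨x, hx⟩
        exact ⟨⟨x.1, (hmemc x).mp hx⟩, rfl⟩
      have hfinj : Function.Injective f := by
        intro z w hzw
        apply Subtype.ext
        have := congrArg (fun t : ↥(Subgroup.center ↥P₁) => ((t : ↥P₁) : P)) hzw
        exact this
      have hcyc₁ : IsCyclic (Subgroup.center ↥P₁) := isCyclic_of_surjective f hfsurj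
      have hcardc : Nat.card (Subgroup.center P) = Nat.card (Subgroup.center ↥P₁) :=
        Nat.card_congr (Equiv.ofBijective f ⟨hfinj, hfsurj⟩)
      obtain ⟨m, hm⟩ := ih (Nat.card P₁) hlt ↥P₁ rfl (hP.to_subgroup P₁) hcl₁ hexp₁ hcyc₁
      refine ⟨m + 1, ?_⟩
      have h1 := Subgroup.index_mul_card (Subgroup.center P)
      have h2 := Subgroup.index_mul_card (Subgroup.center ↥P₁)
      have hpos : 0 < Nat.card (Subgroup.center P) := Nat.card_pos
      rw [hm, ← hcardc] at h2
      rw [hcard, ← h2] at h1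
      have h3 : (Subgroup.center P).index * Nat.card (Subgroup.center P) =
          s ^ (2 * (m + 1)) * Nat.card (Subgroup.center P) := by
        rw [h1]; ring
      exact Nat.eq_of_mul_eq_mul_right hpos h3

/-- PIECE SQ of helper5's S3360 blueprint (exact stub). -/
theorem card_quot_center_sq {P : Type*} [Group P] [Finite P] {s : ℕ} [Fact s.Prime]
    (hP : IsPGroup s P) (hcl : ∀ a b : P, ⁅a, b⁆ ∈ Subgroup.center P)
    (hexp : ∀ a : P, a ^ s ∈ Subgroup.center P) (hcyc : IsCyclic (Subgroup.center P)) :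
    ∃ m : ℕ, (Subgroup.center P).index = s ^ (2 * m) :=
  card_quot_center_sq_aux s (Nat.card P) P rfl hP hcl hexp hcyc

end main

end Cfsg.Agent.Helper9.Hup
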