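import Mathlib
import Cfsg.Prelude.Def_GeometricClasses
import Cfsg.Agent.Lead.AschBase
import Cfsg.Agent.Helper3.AschForms
import Cfsg.Agent.Helper7.AschNotSLA

/-!
# ASCH-COMP pieces K5 + K10 (exact stubs of `notes/helper6_aschcomp_stubs.lean.txt`)

`not_le_similarityGroup_symplectic`, `le_similarityGroup_symplectic`, `polar_symplectic_of_even`, `fixesForm_polar`.
-/

set_option autoImplicit false

namespace Cfsg.Agent.Helper9.AschCompK

open Cfsg Cfsg.Geo Cfsg.Agent.Lead.Asch Cfsg.Agent.Helper3.Asch Cfsg.Agent.Helper7.Asch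
  Cfsg.Agent.Helper7.TGL
open scoped MatrixGroups Matrix Kronecker

variable {n : ℕ} {F : Type*} [Field F]

/-- K5. -/
theorem not_le_similarityGroup_symplectic (hn : 3 ≤ n) (f : (Fin n → F) → (Fin n → F) → F)
    (hf : IsSymplecticForm f) : ¬ specialLinear (Fin n) F ≤ similarityGroup f := by
  intro hle
  have hadd : ∀ u w v, f u (w + v) = f u w + f u v := fun u w v => hf.bilinear.add_right u w v
  set v : Fin n → F := Pi.single (⟨0, by omega⟩ : Fin n) (1 : F) with hvdef
  have hv0 : v ≠ 0 := by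
    intro h
    have := congrFun h ⟨0, by omega⟩
    rw [hvdef, Pi.single_eq_same, Pi.zero_apply] at this
    exact one_ne_zero this
  obtain ⟨⟨u, hu⟩, -⟩ := hf.nondegenerate v hv0
  obtain ⟨w, hw⟩ := exists_notMem_span_pair hn v u
  obtain ⟨φ, hφS, hφw⟩ := exists_covector _ hw
  have hφv : φ ⬝ᵥ v = 0 := hφS v (Submodule.subset_span (by simp))
  have hφu : φ ⬝ᵥ u = 0 := hφS u (Submodule.subset_span (by simp))
  obtain ⟨c, hc⟩ := hle (tau_mem_specialLinear v φ hφv)
  have h1 := hc u v
  rw [tau_mulVec, tau_mulVec, hφv, hφu, zero_smul, add_zero, add_zero] at h1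
  have hc1 : (c : F) = 1 := by
    have h2 : (1 : F) * f u v = (c : F) * f u v := by rw [one_mul]; exact h1
    exact (mul_right_cancel₀ hu h2).symm
  have h3 := hc u w
  rw [tau_mulVec, tau_mulVec, hφu, hφw, zero_smul, add_zero, one_smul, hc1, one_mul, hadd] at h3
  apply hu
  have h4 : f u w + f u v = f u w + 0 := by rw [add_zero]; exact h3
  exact add_left_cancel h4

/-- K10a. -/
theorem le_similarityGroup_symplectic {H P : Subgroup (GL (Fin n) F)} (hnz : Nzes H P)
    (hP : ActsAbsolutelyIrreducibly (matrixSet P)) (f : (Fin n → F) → (Fin n → F) → F)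
    (hf : IsSymplecticForm f) (hfix : FixesForm (matrixSet P) f) : H ≤ similarityGroup f := by
  intro h hh
  obtain ⟨c, hc⟩ := sesq_similarity (IsSesq.of_bilinear hf.bilinear) hf.nondegenerate hnz hP hfix h hh
  change ∃ c : Fˣ, ∀ u v, f ((h : Matrix (Fin n) (Fin n) F) *ᵥ u) ((h : Matrix (Fin n) (Fin n) F) *ᵥ v) =
    (c : F) * f u v
  by_cases h0 : c = 0
  · have hz : ∀ u v, f u v = 0 := by
      intro u v
      have h1 := hc (((h⁻¹ : GL (Fin n) F) : Matrix (Fin n) (Fin n) F) *ᵥ u)
        (((h⁻¹ : GL (Fin n) F) : Matrix (Fin n) (Fin n) F) *ᵥ v)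
      rw [Matrix.mulVec_mulVec, Matrix.mulVec_mulVec, ← Units.val_mul, mul_inv_cancel, Units.val_one,
        Matrix.one_mulVec, Matrix.one_mulVec, h0, zero_mul] at h1
      exact h1
    exact ⟨1, fun u v => by rw [hz, hz]; simp⟩
  · exact ⟨Units.mk0 c h0, fun u v => by rw [hc]; rfl⟩

/-- K10b: in characteristic 2 the polar form of a non-degenerate quadratic form is a symplectic form -/
theorem polar_symplectic_of_even [Fintype F] (hq : ¬ Odd (Fintype.card F)) (Q : (Fin n → F) → F)
    (hQ : IsNondegenerateQuadraticForm Q) : IsSymplecticForm (QuadraticMap.polar Q) := by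
  have hchar : ringChar F = 2 := by
    apply FiniteField.even_card_iff_char_two.mpr
    rcases Nat.even_or_odd (Fintype.card F) with h | h
    · exact Nat.even_iff.mp h
    · exact absurd h hq
  have h2 : (2 : F) = 0 := by
    have h3 := ringChar.Nat.cast_ringChar (R := F)
    rw [hchar] at h3
    exact_mod_cast h3
  refine ⟨hQ.polar_bilinear, ?_, ?_, hQ.nondegenerate⟩
  · intro v w
    have hneg : ∀ x : F, -x = x := by
      intro x
      have h4 : x + x = 0 := by rw [← two_mul, h2, zero_mul]
      exact neg_eq_of_add_eq_zero_left h4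
    rw [hneg]
    simp only [QuadraticMap.polar, add_comm v w]
    ring
  · intro v
    simp only [QuadraticMap.polar]
    have h4 := hQ.smul 2 v
    rw [two_smul] at h4
    have h5 : (2 : F) ^ 2 * Q v - Q v - Q v = 2 * Q v := by ring
    rw [h4, h5, h2, zero_mul]

/-- K10c. -/
theorem fixesForm_polar {S : Set (Matrix (Fin n) (Fin n) F)} (Q : (Fin n → F) → F)
    (hfix : FixesQuadForm S Q) : FixesForm S (QuadraticMap.polar Q) := by
  intro s hs u v
  simp only [QuadraticMap.polar, ← Matrix.mulVec_add, hfix s hs]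

end Cfsg.Agent.Helper9.AschCompK
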