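import Mathlib
import Cfsg.Prelude.Def_GeometricClasses
import Cfsg.Agent.Lead.AschBase

/-!
# ASCH-PRIME piece P5: Schur's lemma + little Wedderburn in prime dimension
(lead's blueprint `notes/lead_asch_blueprint.md`): the commutant of an irreducible subgroup of
`GL_n(F)`, `F` finite, is a field; in prime dimension it has degree `1` or `n`.
-/

set_option autoImplicit false
set_option linter.style.haveILetI false
set_option linter.unusedVariables false

namespace Cfsg.Agent.Helper9.Asch

open Cfsg Cfsg.Geo Cfsg.Agent.Lead.Asch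
open scoped MatrixGroups Matrix

variable {n : ℕ} {F : Type*} [Field F]

/-- the commutant of the matrices of `N`, as a subalgebra of the matrix algebra -/
def commutant (N : Subgroup (GL (Fin n) F)) : Subalgebra F (Matrix (Fin n) (Fin n) F) :=
  Subalgebra.centralizer F (matrixSet N)

theorem mem_commutant_iff {N : Subgroup (GL (Fin n) F)} {A : Matrix (Fin n) (Fin n) F} :
    A ∈ commutant N ↔ ∀ s ∈ matrixSet N, A * s = s * A := by
  unfold commutant
  rw [Subalgebra.mem_centralizer_iff]
  constructor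
  · intro h s hs; exact (h s hs).symm
  · intro h s hs; exact (h s hs).symm

/-- Schur: a non-zero element of the commutant of an irreducible group is invertible. -/
theorem isUnit_of_mem_commutant {N : Subgroup (GL (Fin n) F)} (hN : ActsIrreducibly (matrixSet N))
    {A : Matrix (Fin n) (Fin n) F} (hA : A ∈ commutant N) (h0 : A ≠ 0) : IsUnit A := by
  rw [mem_commutant_iff] at hA
  let W : Submodule F (Fin n → F) := LinearMap.ker (Matrix.toLin' A)
  have hW : ∀ s ∈ matrixSet N, W.map (Matrix.toLin' s) ≤ W := by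
    rintro s hs _ ⟨v, hv, rfl⟩
    have hv' : A *ᵥ v = 0 := by
      have : Matrix.toLin' A v = 0 := hv
      rwa [Matrix.toLin'_apply] at this
    show Matrix.toLin' A (Matrix.toLin' s v) = 0
    rw [Matrix.toLin'_apply, Matrix.toLin'_apply, Matrix.mulVec_mulVec, hA s hs,
      ← Matrix.mulVec_mulVec, hv', Matrix.mulVec_zero]
  rcases hN W hW with h | h
  · rw [← Matrix.mulVec_injective_iff_isUnit]
    have : Function.Injective (Matrix.toLin' A) := LinearMap.ker_eq_bot.1 h
    intro v w hvw
    apply this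
    rw [Matrix.toLin'_apply, Matrix.toLin'_apply]
    exact hvw
  · exfalso
    apply h0
    have h1 : Matrix.toLin' A = 0 := LinearMap.ker_eq_top.1 h
    have h2 : Matrix.toLin' A = Matrix.toLin' (0 : Matrix (Fin n) (Fin n) F) := by
      rw [h1, map_zero]
    exact Matrix.toLin'.injective h2

/-- the inverse of an invertible element of the commutant lies in the commutant -/
theorem inv_mem_commutant {N : Subgroup (GL (Fin n) F)} {A : Matrix (Fin n) (Fin n) F}
    (hA : A ∈ commutant N) (hu : IsUnit A) : A⁻¹ ∈ commutant N := by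
  rw [mem_commutant_iff] at hA ⊢
  intro s hs
  have hdet : IsUnit A.det := (Matrix.isUnit_iff_isUnit_det A).1 hu
  have h1 : A⁻¹ * A = 1 := Matrix.nonsing_inv_mul A hdet
  have h2 : A * A⁻¹ = 1 := Matrix.mul_nonsing_inv A hdet
  calc A⁻¹ * s = A⁻¹ * s * (A * A⁻¹) := by rw [h2, mul_one]
    _ = A⁻¹ * (s * A) * A⁻¹ := by simp only [mul_assoc]
    _ = A⁻¹ * (A * s) * A⁻¹ := by rw [hA s hs]
    _ = (A⁻¹ * A) * s * A⁻¹ := by simp only [mul_assoc]
    _ = s * A⁻¹ := by rw [h1, one_mul]

theorem commutant_noZeroDivisors {N : Subgroup (GL (Fin n) F)}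
    (hN : ActsIrreducibly (matrixSet N)) : NoZeroDivisors ↥(commutant N) := by
  refine ⟨fun {a b} hab => ?_⟩
  by_cases ha : a = 0
  · exact Or.inl ha
  · right
    have ha' : (a : Matrix (Fin n) (Fin n) F) ≠ 0 := fun h => ha (Subtype.ext h)
    have hu := isUnit_of_mem_commutant hN a.2 ha'
    have hdet : IsUnit (a : Matrix (Fin n) (Fin n) F).det := (Matrix.isUnit_iff_isUnit_det _).1 hu
    have hab' : (a : Matrix (Fin n) (Fin n) F) * (b : Matrix (Fin n) (Fin n) F) = 0 := by
      have := congrArg Subtype.val hab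
      simpa using this
    apply Subtype.ext
    show (b : Matrix (Fin n) (Fin n) F) = 0
    calc (b : Matrix (Fin n) (Fin n) F)
        = ((a : Matrix (Fin n) (Fin n) F)⁻¹ * (a : Matrix (Fin n) (Fin n) F)) * b := by
          rw [Matrix.nonsing_inv_mul _ hdet, one_mul]
      _ = 0 := by rw [mul_assoc, hab', mul_zero]

/-- Schur + little Wedderburn: the commutant of an irreducible subgroup is a field. -/
theorem commutant_isField [Fintype F] (hn : 0 < n) {N : Subgroup (GL (Fin n) F)}
    (hN : ActsIrreducibly (matrixSet N)) : IsField ↥(commutant N) := by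
  haveI : NeZero n := ⟨hn.ne'⟩
  haveI : Nontrivial (Matrix (Fin n) (Fin n) F) := inferInstance
  haveI : Nontrivial ↥(commutant N) := inferInstance
  haveI := commutant_noZeroDivisors hN
  haveI : IsDomain ↥(commutant N) := NoZeroDivisors.to_isDomain _
  haveI : Finite (Matrix (Fin n) (Fin n) F) := inferInstance
  haveI : Finite ↥(commutant N) := inferInstance
  exact Finite.isDomain_to_isField _

/-- The commutant of an irreducible group is commutative (Schur + little Wedderburn). -/
theorem commutant_comm [Fintype F] {N : Subgroup (GL (Fin n) F)}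
    (hN : ActsIrreducibly (matrixSet N)) (A B : Matrix (Fin n) (Fin n) F)
    (hA : ∀ s ∈ matrixSet N, A * s = s * A) (hB : ∀ s ∈ matrixSet N, B * s = s * B) : A * B = B * A := by
  rcases Nat.eq_zero_or_pos n with h0 | hpos
  · subst h0
    exact Subsingleton.elim _ _
  · have hf := commutant_isField hpos hN
    have h := hf.mul_comm ⟨A, mem_commutant_iff.2 hA⟩ ⟨B, mem_commutant_iff.2 hB⟩
    exact congrArg Subtype.val h

/-- the degree of the commutant divides the dimension -/
theorem finrank_commutant_dvd [Fintype F] (hn : 0 < n) {N : Subgroup (GL (Fin n) F)}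
    (hN : ActsIrreducibly (matrixSet N)) : Module.finrank F ↥(commutant N) ∣ n := by
  have hfield := commutant_isField hn hN
  set K := commutant N with hK
  let φ : ↥K →+* Module.End F (Fin n → F) :=
    (Matrix.toLinAlgEquiv' : Matrix (Fin n) (Fin n) F ≃ₐ[F] _).toAlgHom.toRingHom.comp K.val.toRingHom
  letI inst : Module ↥K (Fin n → F) := Module.compHom (Fin n → F) φ
  have hsmul : ∀ (k : ↥K) (v : Fin n → F), k • v = (k : Matrix (Fin n) (Fin n) F) *ᵥ v := by
    intro k v
    rfl
  have tower : IsScalarTower F ↥K (Fin n → F) := by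
    refine ⟨fun c k v => ?_⟩
    rw [hsmul, hsmul]
    show (c • (k : Matrix (Fin n) (Fin n) F)) *ᵥ v = c • ((k : Matrix (Fin n) (Fin n) F) *ᵥ v)
    rw [Matrix.smul_mulVec]
  have free : Module.Free ↥K (Fin n → F) :=
    @Module.Free.of_divisionRing ↥K (Fin n → F) hfield.toField.toDivisionRing _ inst
  haveI : Nontrivial ↥K := hfield.nontrivial
  have src : StrongRankCondition ↥K := @commRing_strongRankCondition ↥K hfield.toField.toCommRing _
  have h := @Module.finrank_mul_finrank F ↥K (Fin n → F) _ _ _ _ inst _ tower _ src _ free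
  rw [Module.finrank_fin_fun] at h
  exact ⟨_, h.symm⟩

/-- `H` normalizes `N` ⇒ `H` normalizes the commutant of `N` (one direction) -/
theorem conj_mem_commutant {H N : Subgroup (GL (Fin n) F)} (hnz : Nzes H N) {h : GL (Fin n) F}
    (hh : h ∈ H) {k : Matrix (Fin n) (Fin n) F} (hk : k ∈ commutant N) :
    (h : Matrix (Fin n) (Fin n) F) * k * ((h⁻¹ : GL (Fin n) F) : Matrix (Fin n) (Fin n) F) ∈
      commutant N := by
  rw [mem_commutant_iff] at hk ⊢
  intro s hs
  obtain ⟨x, hx, rfl⟩ := mem_matrixSet_iff.1 hs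
  -- y = h⁻¹ x h ∈ N
  have hy : h⁻¹ * x * h ∈ N := by
    have := hnz h⁻¹ (H.inv_mem hh) x hx
    rwa [inv_inv] at this
  have hky := hk _ (coe_mem_matrixSet hy)
  rw [Units.val_mul, Units.val_mul] at hky
  set hm : Matrix (Fin n) (Fin n) F := (h : Matrix (Fin n) (Fin n) F) with hhm
  set hi : Matrix (Fin n) (Fin n) F := ((h⁻¹ : GL (Fin n) F) : Matrix (Fin n) (Fin n) F) with hhi
  set xm : Matrix (Fin n) (Fin n) F := (x : Matrix (Fin n) (Fin n) F) with hxm
  have e1 : hm * hi = 1 := Units.mul_inv h
  have e2 : hi * hm = 1 := Units.inv_mul h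
  -- hky : k * (hi * xm * hm) = hi * xm * hm * k
  calc hm * k * hi * xm = hm * (k * (hi * xm * hm)) * hi := by
        simp only [mul_assoc]; rw [e1, mul_one]
    _ = hm * (hi * xm * hm * k) * hi := by rw [hky]
    _ = (hm * hi) * xm * (hm * k * hi) := by simp only [mul_assoc]
    _ = xm * (hm * k * hi) := by rw [e1, one_mul]

theorem le_subalgebraNormalizer_commutant {H N : Subgroup (GL (Fin n) F)} (hnz : Nzes H N) :
    H ≤ subalgebraNormalizer (commutant N) := by
  intro h hh
  show ∀ k : Matrix (Fin n) (Fin n) F, k ∈ commutant N ↔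
    (h : Matrix (Fin n) (Fin n) F) * k * ((h⁻¹ : GL (Fin n) F) : Matrix (Fin n) (Fin n) F) ∈ commutant N
  intro k
  constructor
  · intro hk
    exact conj_mem_commutant hnz hh hk
  · intro hk
    have := conj_mem_commutant hnz (H.inv_mem hh) hk
    rw [inv_inv] at this
    have e2 : ((h⁻¹ : GL (Fin n) F) : Matrix (Fin n) (Fin n) F) * (h : Matrix (Fin n) (Fin n) F) = 1 :=
      Units.inv_mul h
    have e3 : ((h⁻¹ : GL (Fin n) F) : Matrix (Fin n) (Fin n) F) *
        ((h : Matrix (Fin n) (Fin n) F) * k * ((h⁻¹ : GL (Fin n) F) : Matrix (Fin n) (Fin n) F)) *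
        (h : Matrix (Fin n) (Fin n) F) = k := by
      calc _ = (((h⁻¹ : GL (Fin n) F) : Matrix (Fin n) (Fin n) F) * (h : Matrix (Fin n) (Fin n) F)) * k *
            (((h⁻¹ : GL (Fin n) F) : Matrix (Fin n) (Fin n) F) * (h : Matrix (Fin n) (Fin n) F)) := by
            simp only [mul_assoc]
        _ = k := by rw [e2, one_mul, mul_one]
    rwa [e3] at this

/-- P5: Schur in prime dimension. -/
theorem schur_prime [Fintype F] (hn : n.Prime) {H N : Subgroup (GL (Fin n) F)}
    (hN : ActsIrreducibly (matrixSet N)) (hnz : Nzes H N) :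
    ActsAbsolutelyIrreducibly (matrixSet N) ∨
    ∃ K : Subalgebra F (Matrix (Fin n) (Fin n) F), IsFieldSubalgebra n K ∧ H ≤ subalgebraNormalizer K := by
  have hpos : 0 < n := hn.pos
  haveI : NeZero n := ⟨hpos.ne'⟩
  have hdvd := finrank_commutant_dvd hpos hN
  have hfield := commutant_isField hpos hN
  rcases (Nat.dvd_prime hn).1 hdvd with h1 | h1
  · left
    refine ⟨hN, fun M hM => ?_⟩
    have hbot : commutant N = ⊥ := Subalgebra.finrank_eq_one_iff.1 h1
    have hMmem : M ∈ commutant N := mem_commutant_iff.2 hM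
    rw [hbot, Algebra.mem_bot] at hMmem
    obtain ⟨c, hc⟩ := hMmem
    refine ⟨c, ?_⟩
    rw [← hc, Algebra.algebraMap_eq_smul_one]
  · right
    refine ⟨commutant N, ⟨?_, ?_, h1⟩, le_subalgebraNormalizer_commutant hnz⟩
    · intro x hx y hy
      exact congrArg Subtype.val (hfield.mul_comm ⟨x, hx⟩ ⟨y, hy⟩)
    · intro x hx h0
      have hu := isUnit_of_mem_commutant hN hx h0
      refine ⟨x⁻¹, inv_mem_commutant hx hu, ?_⟩
      exact Matrix.mul_nonsing_inv x ((Matrix.isUnit_iff_isUnit_det x).1 hu)

end Cfsg.Agent.Helper9.Asch
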