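import Mathlib
import Cfsg.Prelude.Def_GeometricClasses

/-!
# ASCH-COMP: the tensor exit (block argument)

`kron_of_intertwine`: an invertible matrix intertwining `1 ⊗ s` and `1 ⊗ s'` for all `s` in an absolutely
irreducible set of `d × d` matrices is a Kronecker product `B ⊗ G₀`.  Consequences: `tensor_exit` (normalizer of a
homogeneous group with absolutely irreducible constituent lies in `GL_e ⊗ GL_d`) and helper6's K1d
`mem_kroneckerSubgroup_of_normalizes` (elementary Skolem–Noether for `M_d(F) ⊗ 1`).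
-/

set_option autoImplicit false

namespace Cfsg.Agent.Helper9.AschComp

open Cfsg Cfsg.Geo
open scoped MatrixGroups Matrix Kronecker

variable {n : ℕ} {F : Type*} [Field F]


/-- the `(i,j)` block of a matrix indexed by `Fin e × Fin d` -/
def blk {d e : ℕ} (G : Matrix (Fin e × Fin d) (Fin e × Fin d) F) (i j : Fin e) : Matrix (Fin d) (Fin d) F :=
  Matrix.of fun a b => G (i, a) (j, b)

omit [Field F] in
theorem blk_apply {d e : ℕ} (G : Matrix (Fin e × Fin d) (Fin e × Fin d) F) (i j : Fin e) (a b : Fin d) :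
    blk G i j a b = G (i, a) (j, b) := rfl

theorem blk_mul_one_kron {d e : ℕ} (G : Matrix (Fin e × Fin d) (Fin e × Fin d) F) (R : Matrix (Fin d) (Fin d) F)
    (i j : Fin e) : blk (G * ((1 : Matrix (Fin e) (Fin e) F) ⊗ₖ R)) i j = blk G i j * R := by
  ext a b
  rw [blk_apply, Matrix.mul_apply, Matrix.mul_apply, Fintype.sum_prod_type, Finset.sum_eq_single j]
  · apply Finset.sum_congr rfl
    intro c _
    rw [Matrix.kroneckerMap_apply, Matrix.one_apply_eq, one_mul, blk_apply]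
  · intro k _ hkj
    apply Finset.sum_eq_zero
    intro c _
    rw [Matrix.kroneckerMap_apply, Matrix.one_apply_ne hkj, zero_mul, mul_zero]
  · intro h; exact absurd (Finset.mem_univ j) h

theorem blk_one_kron_mul {d e : ℕ} (G : Matrix (Fin e × Fin d) (Fin e × Fin d) F) (R : Matrix (Fin d) (Fin d) F)
    (i j : Fin e) : blk (((1 : Matrix (Fin e) (Fin e) F) ⊗ₖ R) * G) i j = R * blk G i j := by
  ext a b
  rw [blk_apply, Matrix.mul_apply, Matrix.mul_apply, Fintype.sum_prod_type, Finset.sum_eq_single i]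
  · apply Finset.sum_congr rfl
    intro c _
    rw [Matrix.kroneckerMap_apply, Matrix.one_apply_eq, one_mul, blk_apply]
  · intro k _ hki
    apply Finset.sum_eq_zero
    intro c _
    rw [Matrix.kroneckerMap_apply, Matrix.one_apply_ne hki.symm, zero_mul, zero_mul]
  · intro h; exact absurd (Finset.mem_univ i) h

theorem eq_kron_of_blk {d e : ℕ} (G : Matrix (Fin e × Fin d) (Fin e × Fin d) F) (B : Matrix (Fin e) (Fin e) F)
    (G₀ : Matrix (Fin d) (Fin d) F) (h : ∀ i j, blk G i j = B i j • G₀) : G = B ⊗ₖ G₀ := by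
  ext ⟨i, a⟩ ⟨j, b⟩
  have h1 : G (i, a) (j, b) = blk G i j a b := rfl
  rw [Matrix.kroneckerMap_apply, h1, h i j, Matrix.smul_apply, smul_eq_mul]

/-- **block argument**: an invertible matrix intertwining `1 ⊗ s` and `1 ⊗ s'` for all `s` in an absolutely
irreducible set is a Kronecker product. -/
theorem kron_of_intertwine {d e : ℕ} (S : Set (Matrix (Fin d) (Fin d) F)) (habs : ActsAbsolutelyIrreducibly S)
    (G : Matrix (Fin e × Fin d) (Fin e × Fin d) F) (hne : Nonempty (Fin e × Fin d)) (hGdet : G.det ≠ 0)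
    (hint : ∀ s ∈ S, ∃ s' : Matrix (Fin d) (Fin d) F,
      G * ((1 : Matrix (Fin e) (Fin e) F) ⊗ₖ s) = ((1 : Matrix (Fin e) (Fin e) F) ⊗ₖ s') * G) :
    ∃ (B : Matrix (Fin e) (Fin e) F) (G₀ : Matrix (Fin d) (Fin d) F), B.det ≠ 0 ∧ G₀.det ≠ 0 ∧ G = B ⊗ₖ G₀ := by
  classical
  choose! φ hφ using hint
  have hblk : ∀ s ∈ S, ∀ i j, blk G i j * s = φ s * blk G i j := by
    intro s hs i j
    rw [← blk_mul_one_kron, ← blk_one_kron_mul, hφ s hs]
  have hG0 : G ≠ 0 := by
    intro h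
    rw [h] at hGdet
    exact hGdet Matrix.det_zero
  obtain ⟨i₀, j₀, hb0⟩ : ∃ i₀ j₀, blk G i₀ j₀ ≠ 0 := by
    by_contra hcon
    push Not at hcon
    apply hG0
    ext ⟨i, a⟩ ⟨j, b⟩
    have := congrFun (congrFun (hcon i j) a) b
    simpa [blk_apply] using this
  set G₀ : Matrix (Fin d) (Fin d) F := blk G i₀ j₀ with hG₀
  -- `G₀` is invertible: its kernel is invariant
  have hG₀unit : IsUnit G₀ := by
    rw [← Matrix.mulVec_injective_iff_isUnit]
    set W : Submodule F (Fin d → F) := LinearMap.ker (Matrix.toLin' G₀) with hW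
    have hWinv : ∀ s ∈ S, W.map (Matrix.toLin' s) ≤ W := by
      rintro s hs _ ⟨v, hv, rfl⟩
      have hv : Matrix.toLin' G₀ v = 0 := hv
      show Matrix.toLin' G₀ (Matrix.toLin' s v) = 0
      rw [Matrix.toLin'_apply] at hv
      rw [Matrix.toLin'_apply, Matrix.toLin'_apply, Matrix.mulVec_mulVec, hblk s hs i₀ j₀,
        ← Matrix.mulVec_mulVec, hv, Matrix.mulVec_zero]
    rcases habs.1 W hWinv with h | h
    · intro u v huv
      have : u - v ∈ W := by
        rw [hW, LinearMap.mem_ker, map_sub, Matrix.toLin'_apply, Matrix.toLin'_apply, huv, sub_self]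
      rw [h, Submodule.mem_bot] at this
      exact sub_eq_zero.1 this
    · exfalso
      apply hb0
      have : Matrix.toLin' G₀ = 0 := LinearMap.ker_eq_top.1 h
      have h2 := congrArg LinearMap.toMatrix' this
      simpa using h2
  obtain ⟨u₀, hu₀⟩ := hG₀unit
  set G₀i : Matrix (Fin d) (Fin d) F := ((u₀⁻¹ : (Matrix (Fin d) (Fin d) F)ˣ) : Matrix (Fin d) (Fin d) F) with hG₀i
  have f1 : G₀i * G₀ = 1 := by rw [← hu₀]; exact Units.inv_mul u₀
  have f2 : G₀ * G₀i = 1 := by rw [← hu₀]; exact Units.mul_inv u₀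
  -- every block is a scalar multiple of `G₀`
  have hsc : ∀ i j, ∃ c : F, blk G i j = c • G₀ := by
    intro i j
    have hcomm : ∀ s ∈ S, (G₀i * blk G i j) * s = s * (G₀i * blk G i j) := by
      intro s hs
      have h0 : G₀ * s = φ s * G₀ := hblk s hs i₀ j₀
      have h1 : blk G i j * s = φ s * blk G i j := hblk s hs i j
      have h2 : s * G₀i = G₀i * φ s := by
        calc s * G₀i = (G₀i * G₀) * s * G₀i := by rw [f1, one_mul]
          _ = G₀i * (G₀ * s) * G₀i := by simp only [mul_assoc]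
          _ = G₀i * (φ s * G₀) * G₀i := by rw [h0]
          _ = G₀i * φ s * (G₀ * G₀i) := by simp only [mul_assoc]
          _ = _ := by rw [f2, mul_one]
      calc G₀i * blk G i j * s = G₀i * (blk G i j * s) := by rw [mul_assoc]
        _ = G₀i * (φ s * blk G i j) := by rw [h1]
        _ = (G₀i * φ s) * blk G i j := by rw [mul_assoc]
        _ = s * G₀i * blk G i j := by rw [h2]
        _ = _ := by rw [mul_assoc]
    obtain ⟨c, hc⟩ := habs.2 _ hcomm
    refine ⟨c, ?_⟩
    calc blk G i j = (G₀ * G₀i) * blk G i j := by rw [f2, one_mul]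
      _ = G₀ * (G₀i * blk G i j) := by rw [mul_assoc]
      _ = c • G₀ := by rw [hc, Matrix.mul_smul, mul_one]
  choose B hB using hsc
  have hGB : G = (Matrix.of B) ⊗ₖ G₀ := eq_kron_of_blk G (Matrix.of B) G₀ (fun i j => hB i j)
  have hdetB : (Matrix.of B : Matrix (Fin e) (Fin e) F).det ≠ 0 := by
    intro h
    rw [hGB, Matrix.det_kronecker, h] at hGdet
    have hd : Fintype.card (Fin d) ≠ 0 := by
      rw [Fintype.card_fin]
      rintro rfl
      obtain ⟨⟨_, a⟩⟩ := hne
      exact a.elim0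
    rw [zero_pow hd, zero_mul] at hGdet
    exact hGdet rfl
  have hdetG₀ : G₀.det ≠ 0 := by
    have : IsUnit G₀ := ⟨u₀, hu₀⟩
    exact ((Matrix.isUnit_iff_isUnit_det _).1 this).ne_zero
  exact ⟨Matrix.of B, G₀, hdetB, hdetG₀, hGB⟩

/-- **tensor exit**: if `M` is, in a suitable basis, `1_e ⊗ ρ` with `ρ` absolutely irreducible, then every element
normalizing `M` lies in the stabiliser of the tensor decomposition. -/
theorem tensor_exit {d e : ℕ} (hn : 0 < n) (eqv : Fin n ≃ Fin e × Fin d) (P : GL (Fin n) F)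
    {M : Subgroup (GL (Fin n) F)} (ρ : M → Matrix (Fin d) (Fin d) F)
    (hρ : ∀ x : M, ((x : GL (Fin n) F) : Matrix (Fin n) (Fin n) F) * (P : Matrix (Fin n) (Fin n) F) =
      (P : Matrix (Fin n) (Fin n) F) * ((1 : Matrix (Fin e) (Fin e) F) ⊗ₖ ρ x).submatrix eqv eqv)
    (habs : ActsAbsolutelyIrreducibly (Set.range ρ)) {g : GL (Fin n) F}
    (hg : ∀ x ∈ M, g * x * g⁻¹ ∈ M) : g ∈ tensorProductSubgroup e d eqv P := by
  classical
  set Pm : Matrix (Fin n) (Fin n) F := (P : Matrix (Fin n) (Fin n) F) with hPm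
  set Pi : Matrix (Fin n) (Fin n) F := ((P⁻¹ : GL (Fin n) F) : Matrix (Fin n) (Fin n) F) with hPi
  have e1 : Pm * Pi = 1 := Units.mul_inv P
  have e2 : Pi * Pm = 1 := Units.inv_mul P
  -- `G` = the matrix of `g` in the adapted basis
  set g' : Matrix (Fin n) (Fin n) F := Pi * (g : Matrix (Fin n) (Fin n) F) * Pm with hg'
  set G : Matrix (Fin e × Fin d) (Fin e × Fin d) F := g'.submatrix eqv.symm eqv.symm with hG
  have hsub : ∀ A : Matrix (Fin e × Fin d) (Fin e × Fin d) F,
      (A.submatrix eqv eqv).submatrix eqv.symm eqv.symm = A := by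
    intro A; ext i j; simp
  have hsubmul : ∀ A B : Matrix (Fin n) (Fin n) F,
      (A * B).submatrix eqv.symm eqv.symm = A.submatrix eqv.symm eqv.symm * B.submatrix eqv.symm eqv.symm := by
    intro A B
    rw [Matrix.submatrix_mul_equiv]
  -- in the adapted basis `x` is `1 ⊗ ρ x`
  have hx' : ∀ x : M, Pi * ((x : GL (Fin n) F) : Matrix (Fin n) (Fin n) F) * Pm =
      ((1 : Matrix (Fin e) (Fin e) F) ⊗ₖ ρ x).submatrix eqv eqv := by
    intro x
    rw [mul_assoc, hρ x, ← mul_assoc, e2, one_mul]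
  -- intertwining relation
  have hint : ∀ s ∈ Set.range ρ, ∃ s' : Matrix (Fin d) (Fin d) F,
      G * ((1 : Matrix (Fin e) (Fin e) F) ⊗ₖ s) = ((1 : Matrix (Fin e) (Fin e) F) ⊗ₖ s') * G := by
    rintro _ ⟨x, rfl⟩
    have hy : g * x * g⁻¹ ∈ M := hg x x.2
    refine ⟨ρ ⟨_, hy⟩, ?_⟩
    have h1 : (g : Matrix (Fin n) (Fin n) F) * ((x : GL (Fin n) F) : Matrix (Fin n) (Fin n) F) =
        ((g * x * g⁻¹ : GL (Fin n) F) : Matrix (Fin n) (Fin n) F) * (g : Matrix (Fin n) (Fin n) F) := by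
      rw [← Units.val_mul, ← Units.val_mul]
      congr 1
      group
    have h2 : g' * (Pi * ((x : GL (Fin n) F) : Matrix (Fin n) (Fin n) F) * Pm) =
        (Pi * ((g * x * g⁻¹ : GL (Fin n) F) : Matrix (Fin n) (Fin n) F) * Pm) * g' := by
      rw [hg']
      calc Pi * (g : Matrix (Fin n) (Fin n) F) * Pm * (Pi * ((x : GL (Fin n) F) : Matrix (Fin n) (Fin n) F) * Pm)
          = Pi * ((g : Matrix (Fin n) (Fin n) F) * (Pm * Pi) * ((x : GL (Fin n) F) : Matrix (Fin n) (Fin n) F)) * Pm := by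
            simp only [mul_assoc]
        _ = Pi * (((g * x * g⁻¹ : GL (Fin n) F) : Matrix (Fin n) (Fin n) F) * (g : Matrix (Fin n) (Fin n) F)) * Pm := by
            rw [e1, mul_one, h1]
        _ = Pi * (((g * x * g⁻¹ : GL (Fin n) F) : Matrix (Fin n) (Fin n) F) * (Pm * Pi) * (g : Matrix (Fin n) (Fin n) F)) * Pm := by
            rw [e1, mul_one]
        _ = _ := by simp only [mul_assoc]
    rw [hx' x, hx' ⟨_, hy⟩] at h2
    have h3 := congrArg (fun A : Matrix (Fin n) (Fin n) F => A.submatrix eqv.symm eqv.symm) h2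
    simp only [hsubmul, hsub] at h3
    exact h3
  -- `G` is invertible
  have hGdet : G.det ≠ 0 := by
    have h1 : G.det = g'.det := by
      rw [hG]
      exact Matrix.det_submatrix_equiv_self eqv.symm g'
    have h2 : g'.det = (g : Matrix (Fin n) (Fin n) F).det := by
      rw [hg', Matrix.det_mul, Matrix.det_mul, mul_comm, ← mul_assoc, ← Matrix.det_mul, e1, Matrix.det_one, one_mul]
    rw [h1, h2]
    exact (Matrix.isUnit_iff_isUnit_det _).1 (Units.isUnit g) |>.ne_zero
  have hne : Nonempty (Fin e × Fin d) := by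
    have : Nonempty (Fin n) := ⟨⟨0, hn⟩⟩
    exact this.map eqv
  obtain ⟨B, G₀, hdetB, hdetG₀, hGB⟩ := kron_of_intertwine (Set.range ρ) habs G hne hGdet hint
  set bG : GL (Fin e) F := Matrix.GeneralLinearGroup.mkOfDetNeZero B hdetB with hbG
  set aG : GL (Fin d) F := Matrix.GeneralLinearGroup.mkOfDetNeZero G₀ hdetG₀ with haG
  have hGunit : IsUnit G := by
    rw [Matrix.isUnit_iff_isUnit_det]
    exact isUnit_iff_ne_zero.2 hGdet
  obtain ⟨κ, hκ⟩ := hGunit
  have hκmem : κ ∈ kroneckerSubgroup e d F := ⟨bG, aG, by rw [hκ, hGB]; rfl⟩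
  refine ⟨glReindex eqv.symm κ, ⟨κ, hκmem, rfl⟩, ?_⟩
  apply Units.ext
  show Pm * (Matrix.reindex eqv.symm eqv.symm (κ : Matrix (Fin e × Fin d) (Fin e × Fin d) F)) * Pi = (g : Matrix (Fin n) (Fin n) F)
  rw [hκ, hG]
  have : Matrix.reindex eqv.symm eqv.symm (g'.submatrix eqv.symm eqv.symm) = g' := by
    ext i j; simp
  rw [this, hg']
  calc Pm * (Pi * (g : Matrix (Fin n) (Fin n) F) * Pm) * Pi
      = (Pm * Pi) * (g : Matrix (Fin n) (Fin n) F) * (Pm * Pi) := by simp only [mul_assoc]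
    _ = _ := by rw [e1, one_mul, mul_one]

/-- the full matrix algebra acts absolutely irreducibly -/
theorem absIrred_univ (d : ℕ) : ActsAbsolutelyIrreducibly (Set.univ : Set (Matrix (Fin d) (Fin d) F)) := by
  classical
  constructor
  · intro W hW
    by_cases hW0 : W = ⊥
    · exact Or.inl hW0
    right
    obtain ⟨w, hw, hw0⟩ := (Submodule.ne_bot_iff W).1 hW0
    obtain ⟨i, hi⟩ : ∃ i, w i ≠ 0 := by
      by_contra h
      push Not at h
      exact hw0 (funext h)
    rw [eq_top_iff]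
    intro v _
    -- the matrix `v ⊗ (w i)⁻¹ e_i` maps `w` to `v`
    set m : Matrix (Fin d) (Fin d) F := Matrix.vecMulVec v (Pi.single i (w i)⁻¹) with hm
    have hmw : m *ᵥ w = v := by
      rw [hm, Matrix.vecMulVec_mulVec]
      simp [hi]
    have := hW m (Set.mem_univ m) ⟨w, hw, by rw [Matrix.toLin'_apply]⟩
    rwa [hmw] at this
  · intro M hM
    have h1 : M ∈ Set.range (Matrix.scalar (Fin d)) := by
      rw [Matrix.mem_range_scalar_iff_commute_single']
      intro i j
      exact (hM _ (Set.mem_univ _)).symm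
    obtain ⟨c, hc⟩ := h1
    refine ⟨c, ?_⟩
    rw [← hc]
    ext i j
    by_cases h : i = j <;> simp [h, Matrix.one_apply]

/-- **K1d**: an invertible matrix normalizing `M_d(F) ⊗ 1` is a Kronecker product. -/
theorem mem_kroneckerSubgroup_of_normalizes {d e : ℕ} (g : GL (Fin d × Fin e) F)
    (hg : ∀ m : Matrix (Fin d) (Fin d) F, ∃ m' : Matrix (Fin d) (Fin d) F,
      (g : Matrix (Fin d × Fin e) (Fin d × Fin e) F) * (m ⊗ₖ (1 : Matrix (Fin e) (Fin e) F)) *
        ((g⁻¹ : GL (Fin d × Fin e) F) : Matrix (Fin d × Fin e) (Fin d × Fin e) F) =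
        m' ⊗ₖ (1 : Matrix (Fin e) (Fin e) F)) :
    g ∈ kroneckerSubgroup d e F := by
  classical
  by_cases hne : Nonempty (Fin e × Fin d)
  swap
  · have : IsEmpty (Fin d × Fin e) := by
      rw [not_nonempty_iff] at hne
      exact ⟨fun p => hne.false (p.2, p.1)⟩
    have h1 : g = 1 := by
      apply Units.ext
      ext i
      exact this.elim i
    rw [h1]
    exact (kroneckerSubgroup d e F).one_mem
  set sw : Fin e × Fin d → Fin d × Fin e := Prod.swap with hsw
  set gm : Matrix (Fin d × Fin e) (Fin d × Fin e) F := (g : Matrix (Fin d × Fin e) (Fin d × Fin e) F) with hgm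
  set G : Matrix (Fin e × Fin d) (Fin e × Fin d) F := gm.submatrix sw sw with hG
  have hswap : ∀ m : Matrix (Fin d) (Fin d) F,
      (m ⊗ₖ (1 : Matrix (Fin e) (Fin e) F)).submatrix sw sw = (1 : Matrix (Fin e) (Fin e) F) ⊗ₖ m := by
    intro m
    ext ⟨i, a⟩ ⟨j, b⟩
    simp [hsw, Matrix.kroneckerMap_apply, mul_comm]
  have hsubmul : ∀ A B : Matrix (Fin d × Fin e) (Fin d × Fin e) F,
      (A * B).submatrix sw sw = A.submatrix sw sw * B.submatrix sw sw := by
    intro A B
    exact (Matrix.submatrix_mul_equiv A B sw (Equiv.prodComm (Fin e) (Fin d)) sw).symm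
  have hint : ∀ s ∈ (Set.univ : Set (Matrix (Fin d) (Fin d) F)), ∃ s' : Matrix (Fin d) (Fin d) F,
      G * ((1 : Matrix (Fin e) (Fin e) F) ⊗ₖ s) = ((1 : Matrix (Fin e) (Fin e) F) ⊗ₖ s') * G := by
    intro m _
    obtain ⟨m', hm'⟩ := hg m
    refine ⟨m', ?_⟩
    have h1 : gm * (m ⊗ₖ (1 : Matrix (Fin e) (Fin e) F)) = (m' ⊗ₖ (1 : Matrix (Fin e) (Fin e) F)) * gm := by
      rw [← hm', mul_assoc, Units.inv_mul, mul_one]
    have h2 := congrArg (fun A : Matrix (Fin d × Fin e) (Fin d × Fin e) F => A.submatrix sw sw) h1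
    simp only [hsubmul, hswap] at h2
    exact h2
  have hGdet : G.det ≠ 0 := by
    have h1 : G.det = gm.det := Matrix.det_submatrix_equiv_self (Equiv.prodComm (Fin e) (Fin d)) gm
    rw [h1]
    exact (Matrix.isUnit_iff_isUnit_det _).1 (Units.isUnit g) |>.ne_zero
  obtain ⟨B, G₀, hdetB, hdetG₀, hGB⟩ := kron_of_intertwine Set.univ (absIrred_univ d) G hne hGdet hint
  refine ⟨Matrix.GeneralLinearGroup.mkOfDetNeZero G₀ hdetG₀, Matrix.GeneralLinearGroup.mkOfDetNeZero B hdetB, ?_⟩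
  show gm = G₀ ⊗ₖ B
  ext ⟨a, i⟩ ⟨b, j⟩
  have h1 : gm (a, i) (b, j) = G (i, a) (j, b) := rfl
  rw [h1, hGB]
  simp [Matrix.kroneckerMap_apply, mul_comm]

end Cfsg.Agent.Helper9.AschComp
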