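import Mathlib
import Cfsg.Prelude.Def_GeometricClasses
import Cfsg.Agent.Lead.AschBase
import Cfsg.Agent.Helper9.AschSchur
import Cfsg.Agent.Helper9.AschCompTensor
import Cfsg.Agent.Helper5.AschCl1

/-!
# ASCH-COMP piece R3: consequences of the homogeneous matrix form `x = P (1_e ⊗ ρ x) P⁻¹`

* `rho_absIrred_of_centreTrivial`: trivial centre of the commutant of `N` ⇒ `ρ` absolutely irreducible;
* `le_scalars_of_dim_one`: `d = 1` ⇒ `N ≤ scalars`;
* `absIrred_of_dvd`: all invariant subspaces of dimension divisible by `n` + trivial centre of the commutant ⇒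
  `N` absolutely irreducible (the case `e = 1`).
-/

set_option autoImplicit false
open Cfsg Cfsg.Geo Cfsg.Agent.Lead.Asch Cfsg.Agent.Helper9.Asch Cfsg.Agent.Helper5.Asch
open scoped MatrixGroups Matrix Kronecker

namespace Cfsg.Agent.Helper9.AschComp

variable {n : ℕ} {F : Type*} [Field F]


theorem matrixSet_range {d : ℕ} {N : Subgroup (GL (Fin n) F)} (ρ : N →* GL (Fin d) F) :
    matrixSet ρ.range = Set.range fun x : N => ((ρ x : GL (Fin d) F) : Matrix (Fin d) (Fin d) F) := by
  ext s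
  rw [mem_matrixSet_iff]
  constructor
  · rintro ⟨g, ⟨x, rfl⟩, rfl⟩
    exact ⟨x, rfl⟩
  · rintro ⟨x, rfl⟩
    exact ⟨ρ x, ⟨x, rfl⟩, rfl⟩

/-- **R3 (i)**: in the homogeneous matrix form, if the centre of the commutant of `N` is trivial then the
constituent `ρ` is absolutely irreducible. -/
theorem rho_absIrred_of_centreTrivial [Fintype F] {d e : ℕ} (he : 0 < e)
    (eqv : Fin n ≃ Fin e × Fin d) (P : GL (Fin n) F) {N : Subgroup (GL (Fin n) F)} (ρ : N →* GL (Fin d) F)
    (hρ : ∀ x : N, ((x : GL (Fin n) F) : Matrix (Fin n) (Fin n) F) * (P : Matrix (Fin n) (Fin n) F) =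
      (P : Matrix (Fin n) (Fin n) F) * ((1 : Matrix (Fin e) (Fin e) F) ⊗ₖ
        ((ρ x : GL (Fin d) F) : Matrix (Fin d) (Fin d) F)).submatrix eqv eqv)
    (hirr : ActsIrreducibly (Set.range fun x : N => ((ρ x : GL (Fin d) F) : Matrix (Fin d) (Fin d) F)))
    (hct : ∀ M : Matrix (Fin n) (Fin n) F, (∀ s ∈ matrixSet N, M * s = s * M) →
      (∀ c : Matrix (Fin n) (Fin n) F, (∀ s ∈ matrixSet N, c * s = s * c) → M * c = c * M) →
      ∃ a : F, M = a • (1 : Matrix (Fin n) (Fin n) F)) :
    ActsAbsolutelyIrreducibly (Set.range fun x : N => ((ρ x : GL (Fin d) F) : Matrix (Fin d) (Fin d) F)) := by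
  classical
  refine ⟨hirr, fun A hA => ?_⟩
  set Pm : Matrix (Fin n) (Fin n) F := (P : Matrix (Fin n) (Fin n) F) with hPm
  set Pi : Matrix (Fin n) (Fin n) F := ((P⁻¹ : GL (Fin n) F) : Matrix (Fin n) (Fin n) F) with hPi
  have e1 : Pm * Pi = 1 := Units.mul_inv P
  have e2 : Pi * Pm = 1 := Units.inv_mul P
  have hirr' : ActsIrreducibly (matrixSet ρ.range) := by rw [matrixSet_range]; exact hirr
  -- the lift of a `d × d` matrix
  set lift : Matrix (Fin d) (Fin d) F → Matrix (Fin n) (Fin n) F :=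
    fun B => Pm * ((1 : Matrix (Fin e) (Fin e) F) ⊗ₖ B).submatrix eqv eqv * Pi with hlift
  have hx : ∀ x : N, ((x : GL (Fin n) F) : Matrix (Fin n) (Fin n) F) =
      lift ((ρ x : GL (Fin d) F) : Matrix (Fin d) (Fin d) F) := by
    intro x
    rw [hlift]
    show _ = Pm * _ * Pi
    rw [← hρ x, mul_assoc, e1, mul_one]
  have hsubmul : ∀ A B : Matrix (Fin e × Fin d) (Fin e × Fin d) F,
      (A * B).submatrix eqv eqv = A.submatrix eqv eqv * B.submatrix eqv eqv := by
    intro A B
    rw [Matrix.submatrix_mul_equiv]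
  have hliftmul : ∀ B C : Matrix (Fin d) (Fin d) F, lift B * lift C = lift (B * C) := by
    intro B C
    simp only [hlift]
    have : ((1 : Matrix (Fin e) (Fin e) F) ⊗ₖ (B * C)) =
        ((1 : Matrix (Fin e) (Fin e) F) ⊗ₖ B) * ((1 : Matrix (Fin e) (Fin e) F) ⊗ₖ C) := by
      rw [← Matrix.mul_kronecker_mul, one_mul]
    rw [this, hsubmul]
    calc Pm * ((1 : Matrix (Fin e) (Fin e) F) ⊗ₖ B).submatrix eqv eqv * Pi *
          (Pm * ((1 : Matrix (Fin e) (Fin e) F) ⊗ₖ C).submatrix eqv eqv * Pi)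
        = Pm * ((1 : Matrix (Fin e) (Fin e) F) ⊗ₖ B).submatrix eqv eqv * (Pi * Pm) *
          ((1 : Matrix (Fin e) (Fin e) F) ⊗ₖ C).submatrix eqv eqv * Pi := by simp only [mul_assoc]
      _ = _ := by rw [e2, mul_one]; simp only [mul_assoc]
  -- `lift A` commutes with `N`
  have h1 : ∀ s ∈ matrixSet N, lift A * s = s * lift A := by
    intro s hs
    obtain ⟨x, hxN, rfl⟩ := mem_matrixSet_iff.1 hs
    rw [hx ⟨x, hxN⟩, hliftmul, hliftmul, hA _ ⟨⟨x, hxN⟩, rfl⟩]
  -- `lift A` commutes with the commutant of `N`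
  have h2 : ∀ c : Matrix (Fin n) (Fin n) F, (∀ s ∈ matrixSet N, c * s = s * c) → lift A * c = c * lift A := by
    intro c hc
    -- `C` = `c` in the adapted basis
    set C : Matrix (Fin e × Fin d) (Fin e × Fin d) F := (Pi * c * Pm).submatrix eqv.symm eqv.symm with hC
    have hCc : c = Pm * C.submatrix eqv eqv * Pi := by
      have : C.submatrix eqv eqv = Pi * c * Pm := by
        rw [hC]; ext i j; simp
      rw [this]
      calc c = (Pm * Pi) * c * (Pm * Pi) := by rw [e1, one_mul, mul_one]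
        _ = _ := by simp only [mul_assoc]
    -- `C` commutes with `1 ⊗ ρ x`
    have hCcomm : ∀ x : N, C * ((1 : Matrix (Fin e) (Fin e) F) ⊗ₖ ((ρ x : GL (Fin d) F) : Matrix (Fin d) (Fin d) F)) =
        ((1 : Matrix (Fin e) (Fin e) F) ⊗ₖ ((ρ x : GL (Fin d) F) : Matrix (Fin d) (Fin d) F)) * C := by
      intro x
      have h3 := hc _ (coe_mem_matrixSet x.2)
      rw [hx x, hCc, hlift] at h3
      beta_reduce at h3
      -- cancel Pm, Pi
      have h4 : Pm * (C.submatrix eqv eqv * ((1 : Matrix (Fin e) (Fin e) F) ⊗ₖ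
          ((ρ x : GL (Fin d) F) : Matrix (Fin d) (Fin d) F)).submatrix eqv eqv) * Pi =
          Pm * (((1 : Matrix (Fin e) (Fin e) F) ⊗ₖ
          ((ρ x : GL (Fin d) F) : Matrix (Fin d) (Fin d) F)).submatrix eqv eqv * C.submatrix eqv eqv) * Pi := by
        calc _ = Pm * C.submatrix eqv eqv * (Pi * Pm) * ((1 : Matrix (Fin e) (Fin e) F) ⊗ₖ
              ((ρ x : GL (Fin d) F) : Matrix (Fin d) (Fin d) F)).submatrix eqv eqv * Pi := by
              rw [e2, mul_one]; simp only [mul_assoc]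
          _ = Pm * C.submatrix eqv eqv * Pi * (Pm * ((1 : Matrix (Fin e) (Fin e) F) ⊗ₖ
              ((ρ x : GL (Fin d) F) : Matrix (Fin d) (Fin d) F)).submatrix eqv eqv * Pi) := by
              simp only [mul_assoc]
          _ = _ := h3
          _ = Pm * ((1 : Matrix (Fin e) (Fin e) F) ⊗ₖ
              ((ρ x : GL (Fin d) F) : Matrix (Fin d) (Fin d) F)).submatrix eqv eqv * (Pi * Pm) *
              C.submatrix eqv eqv * Pi := by simp only [mul_assoc]
          _ = _ := by rw [e2, mul_one]; simp only [mul_assoc]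
      have h5 := congrArg (fun Z => Pi * Z * Pm) h4
      beta_reduce at h5
      have h6 : ∀ Z : Matrix (Fin n) (Fin n) F, Pi * (Pm * Z * Pi) * Pm = Z := by
        intro Z
        calc Pi * (Pm * Z * Pi) * Pm = (Pi * Pm) * Z * (Pi * Pm) := by simp only [mul_assoc]
          _ = Z := by rw [e2, one_mul, mul_one]
      rw [h6, h6, ← hsubmul, ← hsubmul] at h5
      have h7 := congrArg (fun Z : Matrix (Fin n) (Fin n) F => Z.submatrix eqv.symm eqv.symm) h5
      beta_reduce at h7
      have h8 : ∀ Z : Matrix (Fin e × Fin d) (Fin e × Fin d) F,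
          (Z.submatrix eqv eqv).submatrix eqv.symm eqv.symm = Z := by
        intro Z; ext i j; simp
      rwa [h8, h8] at h7
    -- blocks of `C` commute with `ρ`, hence with `A`
    have hblkA : ∀ i j, A * blk C i j = blk C i j * A := by
      intro i j
      apply commutant_comm hirr'
      · intro s hs
        rw [matrixSet_range] at hs
        exact hA s hs
      · intro s hs
        rw [matrixSet_range] at hs
        obtain ⟨x, rfl⟩ := hs
        show blk C i j * ((ρ x : GL (Fin d) F) : Matrix (Fin d) (Fin d) F) = _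
        rw [← blk_mul_one_kron, ← blk_one_kron_mul, hCcomm x]
    have hAC : ((1 : Matrix (Fin e) (Fin e) F) ⊗ₖ A) * C = C * ((1 : Matrix (Fin e) (Fin e) F) ⊗ₖ A) := by
      ext ⟨i, a⟩ ⟨j, b⟩
      have l1 : (((1 : Matrix (Fin e) (Fin e) F) ⊗ₖ A) * C) (i, a) (j, b) =
          blk (((1 : Matrix (Fin e) (Fin e) F) ⊗ₖ A) * C) i j a b := rfl
      have l2 : (C * ((1 : Matrix (Fin e) (Fin e) F) ⊗ₖ A)) (i, a) (j, b) =
          blk (C * ((1 : Matrix (Fin e) (Fin e) F) ⊗ₖ A)) i j a b := rfl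
      rw [l1, l2, blk_one_kron_mul, blk_mul_one_kron, hblkA]
    rw [hCc]
    simp only [hlift]
    calc Pm * ((1 : Matrix (Fin e) (Fin e) F) ⊗ₖ A).submatrix eqv eqv * Pi * (Pm * C.submatrix eqv eqv * Pi)
        = Pm * (((1 : Matrix (Fin e) (Fin e) F) ⊗ₖ A).submatrix eqv eqv * (Pi * Pm) * C.submatrix eqv eqv) * Pi := by
          simp only [mul_assoc]
      _ = Pm * ((((1 : Matrix (Fin e) (Fin e) F) ⊗ₖ A) * C).submatrix eqv eqv) * Pi := by
          rw [e2, mul_one, hsubmul]
      _ = Pm * ((C * ((1 : Matrix (Fin e) (Fin e) F) ⊗ₖ A)).submatrix eqv eqv) * Pi := by rw [hAC]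
      _ = Pm * (C.submatrix eqv eqv * (Pi * Pm) * ((1 : Matrix (Fin e) (Fin e) F) ⊗ₖ A).submatrix eqv eqv) * Pi := by
          rw [e2, mul_one, hsubmul]
      _ = _ := by simp only [mul_assoc]
  obtain ⟨a, ha⟩ := hct (lift A) h1 h2
  refine ⟨a, ?_⟩
  -- read off a block
  have h3 : ((1 : Matrix (Fin e) (Fin e) F) ⊗ₖ A).submatrix eqv eqv = a • (1 : Matrix (Fin n) (Fin n) F) := by
    have h4 : Pi * lift A * Pm = ((1 : Matrix (Fin e) (Fin e) F) ⊗ₖ A).submatrix eqv eqv := by
      simp only [hlift]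
      calc Pi * (Pm * ((1 : Matrix (Fin e) (Fin e) F) ⊗ₖ A).submatrix eqv eqv * Pi) * Pm
          = (Pi * Pm) * ((1 : Matrix (Fin e) (Fin e) F) ⊗ₖ A).submatrix eqv eqv * (Pi * Pm) := by
            simp only [mul_assoc]
        _ = _ := by rw [e2, one_mul, mul_one]
    rw [← h4, ha, Matrix.mul_smul, Matrix.smul_mul, mul_one, e2]
  ext i j
  have h5 := congrFun (congrFun h3 (eqv.symm (⟨0, he⟩, i))) (eqv.symm (⟨0, he⟩, j))
  simp only [Matrix.submatrix_apply, Equiv.apply_symm_apply, Matrix.kroneckerMap_apply, Matrix.one_apply_eq,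
    one_mul, Matrix.smul_apply, smul_eq_mul] at h5
  rw [h5, Matrix.smul_apply, smul_eq_mul]
  by_cases hij : i = j
  · subst hij; simp
  · have : eqv.symm (⟨0, he⟩, i) ≠ eqv.symm (⟨0, he⟩, j) := by
      intro h
      have := eqv.symm.injective h
      exact hij (Prod.mk.inj this).2
    rw [Matrix.one_apply_ne this, Matrix.one_apply_ne hij]


/-- **R3 (ii)**: constituents of dimension one: `N` consists of scalars. -/
theorem le_scalars_of_dim_one {e : ℕ} (eqv : Fin n ≃ Fin e × Fin 1) (P : GL (Fin n) F)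
    {N : Subgroup (GL (Fin n) F)} (ρ : N →* GL (Fin 1) F)
    (hρ : ∀ x : N, ((x : GL (Fin n) F) : Matrix (Fin n) (Fin n) F) * (P : Matrix (Fin n) (Fin n) F) =
      (P : Matrix (Fin n) (Fin n) F) * ((1 : Matrix (Fin e) (Fin e) F) ⊗ₖ
        ((ρ x : GL (Fin 1) F) : Matrix (Fin 1) (Fin 1) F)).submatrix eqv eqv) :
    N ≤ scalars (Fin n) F := by
  intro x hx
  set R : Matrix (Fin 1) (Fin 1) F := ((ρ ⟨x, hx⟩ : GL (Fin 1) F) : Matrix (Fin 1) (Fin 1) F) with hR
  have hdet : R.det ≠ 0 := ((Matrix.isUnit_iff_isUnit_det _).1 (Units.isUnit (ρ ⟨x, hx⟩))).ne_zero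
  rw [Matrix.det_fin_one] at hdet
  have h1 : ((1 : Matrix (Fin e) (Fin e) F) ⊗ₖ R).submatrix eqv eqv = (R 0 0) • (1 : Matrix (Fin n) (Fin n) F) := by
    ext i j
    rw [Matrix.submatrix_apply, Matrix.kroneckerMap_apply, Matrix.smul_apply, smul_eq_mul]
    by_cases hij : i = j
    · subst hij
      rw [Matrix.one_apply_eq, Matrix.one_apply_eq, one_mul, mul_one]
      congr 1 <;> exact Subsingleton.elim _ _
    · rw [Matrix.one_apply_ne hij, mul_zero]
      have : (eqv i).1 ≠ (eqv j).1 := by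
        intro h
        apply hij
        apply eqv.injective
        exact Prod.ext h (Subsingleton.elim _ _)
      rw [Matrix.one_apply_ne this, zero_mul]
  have h2 := hρ ⟨x, hx⟩
  rw [h1, Matrix.mul_smul, mul_one] at h2
  rw [mem_scalars_iff]
  refine ⟨Units.mk0 (R 0 0) hdet, ?_⟩
  have h3 := congrArg (fun Z => Z * ((P⁻¹ : GL (Fin n) F) : Matrix (Fin n) (Fin n) F)) h2
  simp only [mul_assoc, Units.mul_inv, mul_one, Matrix.smul_mul] at h3
  exact h3

/-- **R3 (iii)**: if all invariant subspaces have dimension divisible by `n` and the centre of the commutant is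
trivial, then `N` is absolutely irreducible. -/
theorem absIrred_of_dvd [Fintype F] (hn : 0 < n) {N : Subgroup (GL (Fin n) F)}
    (hdvd : ∀ X : Submodule F (Fin n → F), Inv N X → n ∣ Module.finrank F X)
    (hct : ∀ M : Matrix (Fin n) (Fin n) F, (∀ s ∈ matrixSet N, M * s = s * M) →
      (∀ c : Matrix (Fin n) (Fin n) F, (∀ s ∈ matrixSet N, c * s = s * c) → M * c = c * M) →
      ∃ a : F, M = a • (1 : Matrix (Fin n) (Fin n) F)) :
    ActsAbsolutelyIrreducibly (matrixSet N) := by
  have hirr : ActsIrreducibly (matrixSet N) := by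
    intro W hW
    have hinv : Inv N W := fun x hx => hW _ (coe_mem_matrixSet hx)
    obtain ⟨k, hk⟩ := hdvd W hinv
    have hle : Module.finrank F W ≤ n := by
      have := Submodule.finrank_le W
      rwa [Module.finrank_fin_fun] at this
    rcases Nat.eq_zero_or_pos k with h0 | hpos
    · left
      rw [h0, mul_zero] at hk
      exact Submodule.finrank_eq_zero.1 hk
    · right
      have : Module.finrank F W = n := by
        have h1 : n ≤ n * k := Nat.le_mul_of_pos_right n hpos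
        omega
      apply Submodule.eq_top_of_finrank_eq
      rw [this, Module.finrank_fin_fun]
  refine ⟨hirr, fun M hM => ?_⟩
  exact hct M hM (fun c hc => commutant_comm hirr M c hM hc)

end Cfsg.Agent.Helper9.AschComp
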