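import Mathlib
import Cfsg.Prelude.Def_GeometricClasses
import Cfsg.Agent.Lead.AschBase
import Cfsg.Agent.Lead.AschSymA
import Cfsg.Agent.Helper4.AschPPA

/-!
# ASCH-PP (helper9): Aschbacher's theorem for `SL_n(F)` in prime power dimension, shared definitions

* `C6Hyp`, `C6Str`: the hypotheses and the structure of the symplectic-type case `⁅N, N⁆ ≤ Z` in ARBITRARY dimension;
* `tinv`: transpose-inverse as an automorphism of `GL_n(F)`;
* `stdEmb`, `TIData`: the tensor-induced case (`N` a central product of `k ≥ 2` conjugates of a perfect group).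
-/

set_option autoImplicit false

namespace Cfsg.Agent.Helper9.AschC6

open Cfsg Cfsg.Geo Cfsg.Agent.Lead.Asch
open scoped MatrixGroups Matrix

variable {n : ℕ} {F : Type*} [Field F]

/-- the running hypotheses of the symplectic-type case: `N` is a minimal non-scalar subgroup normalized by `H`,
absolutely irreducible, with scalar commutator subgroup -/
structure C6Hyp (n : ℕ) (F : Type*) [Field F] (H N : Subgroup (GL (Fin n) F)) : Prop where
  le : N ≤ H
  nzes : Nzes H N
  ns : ¬ N ≤ scalars (Fin n) F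
  abs : ActsAbsolutelyIrreducibly (matrixSet N)
  min : ∀ M : Subgroup (GL (Fin n) F), M ≤ N → Nzes H M → ¬ M ≤ scalars (Fin n) F → M = N
  comm : ⁅N, N⁆ ≤ scalars (Fin n) F

/-- the structure of `N`: an `r`-group of symplectic type, `n = r ^ a`, centre of order `z` -/
structure C6Str (n : ℕ) (F : Type*) [Field F] [Fintype F] (N : Subgroup (GL (Fin n) F)) (r a z : ℕ) : Prop where
  prime : r.Prime
  pos : 1 ≤ a
  dim : n = r ^ a
  pgroup : IsPGroup r N
  cyc : ∀ A : Subgroup N, A.Characteristic → IsMulCommutative A → IsCyclic A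
  exponent : Monoid.exponent N = r * Nat.gcd 2 r
  card_center : Nat.card (Subgroup.center N) = z
  card : Nat.card N = z * r ^ (2 * a)
  z_cases : (r ≠ 2 ∧ z = r) ∨ (r = 2 ∧ z = 2) ∨ (r = 2 ∧ z = 4)
  z_dvd : z ∣ Fintype.card F - 1
  scalar_pow : ∀ c : Fˣ, sc n F c ∈ N → c ^ z = 1

/-- transpose-inverse as an automorphism of `GL` -/
def tinv : GL (Fin n) F →* GL (Fin n) F where
  toFun g := ⟨((g⁻¹ : GL (Fin n) F) : Matrix (Fin n) (Fin n) F)ᵀ, (g : Matrix (Fin n) (Fin n) F)ᵀ,
    by rw [← Matrix.transpose_mul, Units.mul_inv, Matrix.transpose_one],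
    by rw [← Matrix.transpose_mul, Units.inv_mul, Matrix.transpose_one]⟩
  map_one' := by
    apply Units.ext
    simp
  map_mul' g h := by
    apply Units.ext
    simp [Matrix.transpose_mul]

theorem tinv_val (g : GL (Fin n) F) :
    ((tinv g : GL (Fin n) F) : Matrix (Fin n) (Fin n) F) = ((g⁻¹ : GL (Fin n) F) : Matrix (Fin n) (Fin n) F)ᵀ := rfl

theorem scalar_fixed_of_pow {z q₁ : ℕ} (hzq : z ∣ q₁ - 1) (hq1 : 1 ≤ q₁) {c : Fˣ} (hc : c ^ z = 1) :
    (c : F) ^ q₁ = c := by
  obtain ⟨k, hk⟩ := hzq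
  have h1 : q₁ = z * k + 1 := by omega
  rw [h1, pow_succ, pow_mul, ← Units.val_pow_eq_pow_val, hc, Units.val_one, one_pow, one_mul]

/-! ## the tensor-induced case -/

/-- the standard embedding of `M_d(F)` into `M_{d^k}(F)` as the `i`-th tensor factor: `1 ⊗ ⋯ ⊗ m ⊗ ⋯ ⊗ 1` -/
def stdEmb (d k : ℕ) (i : Fin k) (m : Matrix (Fin d) (Fin d) F) :
    Matrix (Fin k → Fin d) (Fin k → Fin d) F :=
  fun x y => if ∀ j, j ≠ i → x j = y j then m (x i) (y i) else 0

/-- the data of the tensor-induced case: `k ≥ 2` pairwise commuting subgroups, each spanning a copy of `M_d(F)`,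
`n = d ^ k`, permuted by `H` under conjugation -/
structure TIData (n : ℕ) (F : Type*) [Field F] (H : Subgroup (GL (Fin n) F)) (d k : ℕ)
    (PP : Fin k → Subgroup (GL (Fin n) F)) : Prop where
  hd : 2 ≤ d
  hk : 2 ≤ k
  dim : n = d ^ k
  units : ∀ i, Cfsg.Agent.Helper4.AschP.HasUnitsSys F d (R := Matrix (Fin n) (Fin n) F) (PP i)
  comm : ∀ i j, i ≠ j → ∀ x ∈ PP i, ∀ y ∈ PP j, x * y = y * x
  perm : ∀ h ∈ H, ∃ π : Equiv.Perm (Fin k), ∀ i, ∀ x ∈ PP i, h * x * h⁻¹ ∈ PP (π i)

end Cfsg.Agent.Helper9.AschC6
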