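import Mathlib
import Cfsg.Prelude.Def_GeometricClasses

/-!
# ASCH-COMP small case: over `F_2` the stabiliser of a tensor decomposition `2 ⊗ k` normalizes the subfield
`F_4 ⊗ 1` of the matrix algebra (`c4_small`).  Also: `tensHom` (the embedding `z ↦ P (z ⊗ 1) P⁻¹`),
`tensor_conj`, `isFieldSubalgebra_map`, `le_subalgebraNormalizer_of_conj_mem`.
-/

set_option autoImplicit false

namespace Cfsg.Agent.Helper9.AschComp

open Cfsg Cfsg.Geo
open scoped MatrixGroups Matrix Kronecker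

variable {n : ℕ} {F : Type*} [Field F]


/-- a subgroup all of whose elements conjugate `K` into itself normalizes `K` -/
theorem le_subalgebraNormalizer_of_conj_mem {T : Subgroup (GL (Fin n) F)}
    {K : Subalgebra F (Matrix (Fin n) (Fin n) F)}
    (h : ∀ g ∈ T, ∀ k ∈ K, (g : Matrix (Fin n) (Fin n) F) * k * ((g⁻¹ : GL (Fin n) F) : Matrix (Fin n) (Fin n) F) ∈ K) :
    T ≤ subalgebraNormalizer K := by
  intro g hg
  show ∀ k : Matrix (Fin n) (Fin n) F, k ∈ K ↔
    (g : Matrix (Fin n) (Fin n) F) * k * ((g⁻¹ : GL (Fin n) F) : Matrix (Fin n) (Fin n) F) ∈ K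
  intro k
  constructor
  · exact h g hg k
  · intro hk
    have := h g⁻¹ (T.inv_mem hg) _ hk
    rw [inv_inv] at this
    have e2 : ((g⁻¹ : GL (Fin n) F) : Matrix (Fin n) (Fin n) F) * (g : Matrix (Fin n) (Fin n) F) = 1 :=
      Units.inv_mul g
    have e3 : ((g⁻¹ : GL (Fin n) F) : Matrix (Fin n) (Fin n) F) *
        ((g : Matrix (Fin n) (Fin n) F) * k * ((g⁻¹ : GL (Fin n) F) : Matrix (Fin n) (Fin n) F)) *
        (g : Matrix (Fin n) (Fin n) F) = k := by
      calc _ = (((g⁻¹ : GL (Fin n) F) : Matrix (Fin n) (Fin n) F) * (g : Matrix (Fin n) (Fin n) F)) * k *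
            (((g⁻¹ : GL (Fin n) F) : Matrix (Fin n) (Fin n) F) * (g : Matrix (Fin n) (Fin n) F)) := by
            simp only [mul_assoc]
        _ = k := by rw [e2, one_mul, mul_one]
    rwa [e3] at this

/-- `z ↦ z ⊗ 1` as an algebra homomorphism -/
def kronOneHom (d k : ℕ) (F : Type*) [Field F] :
    Matrix (Fin d) (Fin d) F →ₐ[F] Matrix (Fin d × Fin k) (Fin d × Fin k) F where
  toFun z := z ⊗ₖ (1 : Matrix (Fin k) (Fin k) F)
  map_one' := Matrix.one_kronecker_one
  map_mul' a b := by rw [← Matrix.mul_kronecker_mul, mul_one]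
  map_zero' := Matrix.zero_kronecker _
  map_add' a b := Matrix.add_kronecker _ _ _
  commutes' r := by
    rw [Matrix.algebraMap_eq_diagonal, Matrix.algebraMap_eq_diagonal]
    ext ⟨i, k'⟩ ⟨j, l⟩
    simp only [Matrix.kroneckerMap_apply, Matrix.diagonal_apply, Matrix.one_apply, Pi.algebraMap_apply,
      Algebra.algebraMap_self_apply, Prod.mk.injEq]
    by_cases h1 : i = j <;> by_cases h2 : k' = l <;> simp [h1, h2]

theorem kronOneHom_apply (d k : ℕ) (z : Matrix (Fin d) (Fin d) F) :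
    kronOneHom d k F z = z ⊗ₖ (1 : Matrix (Fin k) (Fin k) F) := rfl

theorem kronOneHom_injective (d : ℕ) {k : ℕ} (hk : 0 < k) : Function.Injective (kronOneHom d k F) := by
  intro a b hab
  ext i j
  have := congrFun (congrFun hab (i, ⟨0, hk⟩)) (j, ⟨0, hk⟩)
  simpa [kronOneHom_apply, Matrix.kroneckerMap_apply] using this

/-- conjugation by an invertible matrix as an algebra automorphism -/
def conjHom (P : GL (Fin n) F) : Matrix (Fin n) (Fin n) F →ₐ[F] Matrix (Fin n) (Fin n) F where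
  toFun z := (P : Matrix (Fin n) (Fin n) F) * z * ((P⁻¹ : GL (Fin n) F) : Matrix (Fin n) (Fin n) F)
  map_one' := by rw [mul_one, Units.mul_inv]
  map_mul' a b := by
    have e2 : ((P⁻¹ : GL (Fin n) F) : Matrix (Fin n) (Fin n) F) * (P : Matrix (Fin n) (Fin n) F) = 1 :=
      Units.inv_mul P
    calc (P : Matrix (Fin n) (Fin n) F) * (a * b) * ((P⁻¹ : GL (Fin n) F) : Matrix (Fin n) (Fin n) F)
        = (P : Matrix (Fin n) (Fin n) F) * a * 1 * b * ((P⁻¹ : GL (Fin n) F) : Matrix (Fin n) (Fin n) F) := by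
          simp only [mul_one, mul_assoc]
      _ = _ := by rw [← e2]; simp only [mul_assoc]
  map_zero' := by simp
  map_add' a b := by rw [mul_add, add_mul]
  commutes' r := by
    rw [Matrix.algebraMap_eq_diagonal]
    have : (Matrix.diagonal (algebraMap F (Fin n → F) r) : Matrix (Fin n) (Fin n) F) = r • 1 := by
      ext i j
      by_cases h : i = j <;> simp [h]
    rw [this, Matrix.mul_smul, Matrix.smul_mul, mul_one, Units.mul_inv]

theorem conjHom_apply (P : GL (Fin n) F) (z : Matrix (Fin n) (Fin n) F) :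
    conjHom P z = (P : Matrix (Fin n) (Fin n) F) * z * ((P⁻¹ : GL (Fin n) F) : Matrix (Fin n) (Fin n) F) := rfl

theorem conjHom_injective (P : GL (Fin n) F) : Function.Injective (conjHom P) := by
  intro a b hab
  rw [conjHom_apply, conjHom_apply] at hab
  have e2 : ((P⁻¹ : GL (Fin n) F) : Matrix (Fin n) (Fin n) F) * (P : Matrix (Fin n) (Fin n) F) = 1 :=
    Units.inv_mul P
  have h := congrArg (fun z => ((P⁻¹ : GL (Fin n) F) : Matrix (Fin n) (Fin n) F) * z * (P : Matrix (Fin n) (Fin n) F)) hab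
  beta_reduce at h
  have e3 : ∀ a : Matrix (Fin n) (Fin n) F, ((P⁻¹ : GL (Fin n) F) : Matrix (Fin n) (Fin n) F) *
      ((P : Matrix (Fin n) (Fin n) F) * a * ((P⁻¹ : GL (Fin n) F) : Matrix (Fin n) (Fin n) F)) *
      (P : Matrix (Fin n) (Fin n) F) = a := by
    intro a
    calc _ = (((P⁻¹ : GL (Fin n) F) : Matrix (Fin n) (Fin n) F) * (P : Matrix (Fin n) (Fin n) F)) * a *
          (((P⁻¹ : GL (Fin n) F) : Matrix (Fin n) (Fin n) F) * (P : Matrix (Fin n) (Fin n) F)) := by
          simp only [mul_assoc]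
      _ = a := by rw [e2, one_mul, mul_one]
  rwa [e3, e3] at h

/-- the embedding `z ↦ P (z ⊗ 1) P⁻¹` (after reindexing) of `M_d(F)` into `M_n(F)` -/
def tensHom {d k : ℕ} (eqv : Fin n ≃ Fin d × Fin k) (P : GL (Fin n) F) :
    Matrix (Fin d) (Fin d) F →ₐ[F] Matrix (Fin n) (Fin n) F :=
  (conjHom P).comp ((Matrix.reindexAlgEquiv F F eqv.symm).toAlgHom.comp (kronOneHom d k F))

theorem tensHom_apply {d k : ℕ} (eqv : Fin n ≃ Fin d × Fin k) (P : GL (Fin n) F) (z : Matrix (Fin d) (Fin d) F) :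
    tensHom eqv P z = (P : Matrix (Fin n) (Fin n) F) *
      Matrix.reindex eqv.symm eqv.symm (z ⊗ₖ (1 : Matrix (Fin k) (Fin k) F)) *
      ((P⁻¹ : GL (Fin n) F) : Matrix (Fin n) (Fin n) F) := rfl

theorem tensHom_injective {d k : ℕ} (hk : 0 < k) (eqv : Fin n ≃ Fin d × Fin k) (P : GL (Fin n) F) :
    Function.Injective (tensHom (F := F) eqv P) := by
  unfold tensHom
  intro a b hab
  have h1 := conjHom_injective P hab
  have h2 : (Matrix.reindexAlgEquiv F F eqv.symm) (kronOneHom d k F a) =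
      (Matrix.reindexAlgEquiv F F eqv.symm) (kronOneHom d k F b) := h1
  exact kronOneHom_injective d hk ((Matrix.reindexAlgEquiv F F eqv.symm).injective h2)

/-- an element of the stabiliser of the tensor decomposition intertwines `tensHom z` and `tensHom (a z a⁻¹)` -/
theorem tensor_conj {d k : ℕ} (eqv : Fin n ≃ Fin d × Fin k) (P : GL (Fin n) F) {g : GL (Fin n) F}
    (hg : g ∈ tensorProductSubgroup d k eqv P) :
    ∃ a : GL (Fin d) F, ∀ z : Matrix (Fin d) (Fin d) F,
      (g : Matrix (Fin n) (Fin n) F) * tensHom eqv P z * ((g⁻¹ : GL (Fin n) F) : Matrix (Fin n) (Fin n) F) =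
        tensHom eqv P ((a : Matrix (Fin d) (Fin d) F) * z * ((a⁻¹ : GL (Fin d) F) : Matrix (Fin d) (Fin d) F)) := by
  obtain ⟨y, hy, rfl⟩ := hg
  obtain ⟨κ, ⟨a, b, hκ⟩, rfl⟩ := hy
  refine ⟨a, fun z => ?_⟩
  set g : GL (Fin n) F := (MulAut.conj P).toMonoidHom ((glReindex eqv.symm).toMonoidHom κ) with hg
  have hgv : (g : Matrix (Fin n) (Fin n) F) = (P : Matrix (Fin n) (Fin n) F) *
      Matrix.reindex eqv.symm eqv.symm ((a : Matrix (Fin d) (Fin d) F) ⊗ₖ (b : Matrix (Fin k) (Fin k) F)) *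
      ((P⁻¹ : GL (Fin n) F) : Matrix (Fin n) (Fin n) F) := by
    rw [← hκ]
    rfl
  have e2 : ((P⁻¹ : GL (Fin n) F) : Matrix (Fin n) (Fin n) F) * (P : Matrix (Fin n) (Fin n) F) = 1 :=
    Units.inv_mul P
  -- g * ψ z = ψ (a z a⁻¹) * g
  have key : (g : Matrix (Fin n) (Fin n) F) * tensHom eqv P z =
      tensHom eqv P ((a : Matrix (Fin d) (Fin d) F) * z * ((a⁻¹ : GL (Fin d) F) : Matrix (Fin d) (Fin d) F)) *
        (g : Matrix (Fin n) (Fin n) F) := by
    rw [hgv, tensHom_apply, tensHom_apply]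
    have l1 : ∀ A B : Matrix (Fin d × Fin k) (Fin d × Fin k) F,
        (P : Matrix (Fin n) (Fin n) F) * Matrix.reindex eqv.symm eqv.symm A *
          ((P⁻¹ : GL (Fin n) F) : Matrix (Fin n) (Fin n) F) *
        ((P : Matrix (Fin n) (Fin n) F) * Matrix.reindex eqv.symm eqv.symm B *
          ((P⁻¹ : GL (Fin n) F) : Matrix (Fin n) (Fin n) F)) =
        (P : Matrix (Fin n) (Fin n) F) * Matrix.reindex eqv.symm eqv.symm (A * B) *
          ((P⁻¹ : GL (Fin n) F) : Matrix (Fin n) (Fin n) F) := by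
      intro A B
      have : Matrix.reindex eqv.symm eqv.symm (A * B) =
          Matrix.reindex eqv.symm eqv.symm A * Matrix.reindex eqv.symm eqv.symm B := by
        simp [Matrix.reindex_apply, Matrix.submatrix_mul_equiv]
      rw [this]
      calc _ = (P : Matrix (Fin n) (Fin n) F) * Matrix.reindex eqv.symm eqv.symm A *
            (((P⁻¹ : GL (Fin n) F) : Matrix (Fin n) (Fin n) F) * (P : Matrix (Fin n) (Fin n) F)) *
            Matrix.reindex eqv.symm eqv.symm B * ((P⁻¹ : GL (Fin n) F) : Matrix (Fin n) (Fin n) F) := by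
            simp only [mul_assoc]
        _ = _ := by rw [e2, mul_one]; simp only [mul_assoc]
    rw [l1, l1, ← Matrix.mul_kronecker_mul, ← Matrix.mul_kronecker_mul, mul_one, one_mul]
    congr 3
    rw [mul_assoc, mul_assoc, ← Units.val_mul, inv_mul_cancel, Units.val_one, mul_one]
  rw [key, mul_assoc, Units.mul_inv, mul_one]

/-- the companion matrix of `X² + X + 1` (up to sign) -/
def om (F : Type*) [Field F] : Matrix (Fin 2) (Fin 2) F := !![0, 1; 1, 1]

/-- `F[ω]`, the centralizer of `ω` in `M_2(F)` -/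
def E4 (F : Type*) [Field F] : Subalgebra F (Matrix (Fin 2) (Fin 2) F) := Subalgebra.centralizer F {om F}

theorem mem_E4_iff' (z : Matrix (Fin 2) (Fin 2) F) : z ∈ E4 F ↔ om F * z = z * om F := by
  unfold E4
  rw [Subalgebra.mem_centralizer_iff]
  simp

theorem mem_E4_iff (z : Matrix (Fin 2) (Fin 2) F) : z ∈ E4 F ↔ ∃ x y : F, z = x • 1 + y • om F := by
  rw [mem_E4_iff']
  constructor
  · intro h
    refine ⟨z 0 0, z 0 1, ?_⟩
    have h00 := congrFun (congrFun h 0) 0
    have h01 := congrFun (congrFun h 0) 1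
    simp [om, Matrix.mul_apply, Fin.sum_univ_two] at h00 h01
    ext i j
    fin_cases i <;> fin_cases j <;> simp [om, h00, h01]
  · rintro ⟨x, y, rfl⟩
    simp [mul_add, add_mul]

theorem om_mem_E4 : om F ∈ E4 F := (mem_E4_iff' _).2 rfl

theorem om_sq [CharP F 2] : om F * om F = om F + 1 := by
  have h2 : (1 : F) + 1 = 0 := CharTwo.add_self_eq_zero 1
  ext i j
  fin_cases i <;> fin_cases j <;> simp [om, Matrix.mul_apply, Fin.sum_univ_two, h2]

theorem root_cases_zmod : ∀ X : Matrix (Fin 2) (Fin 2) (ZMod 2), X * X + X + 1 = 0 →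
    X = !![0, 1; 1, 1] ∨ X = !![0, 1; 1, 1] + 1 := by decide

theorem root_cases [Fintype F] (hq : Fintype.card F = 2) (X : Matrix (Fin 2) (Fin 2) F)
    (hX : X * X + X + 1 = 0) : X = om F ∨ X = om F + 1 := by
  let φ : ZMod 2 ≃+* F := ZMod.ringEquivOfPrime F Nat.prime_two hq
  let Φ : Matrix (Fin 2) (Fin 2) F →+* Matrix (Fin 2) (Fin 2) (ZMod 2) := φ.symm.toRingHom.mapMatrix
  let Ψ : Matrix (Fin 2) (Fin 2) (ZMod 2) →+* Matrix (Fin 2) (Fin 2) F := φ.toRingHom.mapMatrix
  have hΨΦ : ∀ Y, Ψ (Φ Y) = Y := by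
    intro Y
    ext i j
    simp [Φ, Ψ]
  have h1 : Φ X * Φ X + Φ X + 1 = 0 := by
    rw [← map_mul, ← map_add, ← map_one Φ, ← map_add, hX, map_zero]
  have hom : Ψ !![0, 1; 1, 1] = om F := by
    ext i j
    fin_cases i <;> fin_cases j <;> simp [Ψ, om]
  rcases root_cases_zmod _ h1 with h | h
  · left
    rw [← hΨΦ X, h, hom]
  · right
    rw [← hΨΦ X, h, map_add, hom, map_one]

theorem charP_two_of_card [Fintype F] (hq : Fintype.card F = 2) : CharP F 2 := by
  obtain ⟨p, hp⟩ := CharP.exists F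
  have hpr : p.Prime := by
    haveI := hp
    exact CharP.char_is_prime F p
  obtain ⟨k, hk⟩ := @FiniteField.card F _ _ p hp
  rw [hq] at hk
  have h2 : p ∣ 2 := by
    rw [hk.2]
    exact dvd_pow_self p (PNat.ne_zero k)
  have : p = 2 := (Nat.prime_dvd_prime_iff_eq hpr Nat.prime_two).1 h2
  rwa [this] at hp

theorem eq_zero_or_one_of_card [Fintype F] (hq : Fintype.card F = 2) (x : F) : x = 0 ∨ x = 1 := by
  classical
  by_contra h
  push Not at h
  have h3 : ({0, 1, x} : Finset F).card = 3 := by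
    rw [Finset.card_insert_of_notMem, Finset.card_insert_of_notMem, Finset.card_singleton]
    · simp [h.2.symm]
    · simp [h.1.symm]
  have := Finset.card_le_univ ({0, 1, x} : Finset F)
  omega

theorem E4_comm {z w : Matrix (Fin 2) (Fin 2) F} (hz : z ∈ E4 F) (hw : w ∈ E4 F) : z * w = w * z := by
  obtain ⟨x, y, rfl⟩ := (mem_E4_iff w).1 hw
  have h := (mem_E4_iff' z).1 hz
  rw [mul_add, add_mul, Matrix.mul_smul, Matrix.smul_mul, Matrix.mul_smul, Matrix.smul_mul, mul_one, one_mul, h]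

theorem E4_inv [Fintype F] (hq : Fintype.card F = 2) {z : Matrix (Fin 2) (Fin 2) F} (hz : z ∈ E4 F)
    (h0 : z ≠ 0) : ∃ w ∈ E4 F, z * w = 1 := by
  haveI := charP_two_of_card hq
  have h2 : (1 : Matrix (Fin 2) (Fin 2) F) + 1 = 0 := CharTwo.add_self_eq_zero 1
  have h2' : om F + om F = 0 := CharTwo.add_self_eq_zero _
  obtain ⟨x, y, rfl⟩ := (mem_E4_iff z).1 hz
  rcases eq_zero_or_one_of_card hq x with rfl | rfl <;> rcases eq_zero_or_one_of_card hq y with rfl | rfl
  · simp at h0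
  · refine ⟨om F + 1, (E4 F).add_mem om_mem_E4 (E4 F).one_mem, ?_⟩
    rw [zero_smul, zero_add, one_smul, mul_add, mul_one, om_sq, add_assoc, add_comm 1 (om F), ← add_assoc, h2', zero_add]
  · exact ⟨1, (E4 F).one_mem, by simp⟩
  · refine ⟨om F, om_mem_E4, ?_⟩
    rw [one_smul, one_smul, add_mul, one_mul, om_sq, ← add_assoc, h2', zero_add]

theorem E4_finrank : Module.finrank F (E4 F) = 2 := by
  let f : E4 F ≃ₗ[F] F × F :=
    { toFun := fun z => ((z : Matrix (Fin 2) (Fin 2) F) 0 0, (z : Matrix (Fin 2) (Fin 2) F) 0 1)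
      map_add' := fun a b => by simp
      map_smul' := fun c a => by simp
      invFun := fun p => ⟨p.1 • 1 + p.2 • om F, (mem_E4_iff _).2 ⟨p.1, p.2, rfl⟩⟩
      left_inv := fun z => by
        obtain ⟨x, y, h⟩ := (mem_E4_iff _).1 z.2
        apply Subtype.ext
        show (z : Matrix (Fin 2) (Fin 2) F) 0 0 • (1 : Matrix (Fin 2) (Fin 2) F) + (z : Matrix (Fin 2) (Fin 2) F) 0 1 • om F = z
        rw [h]
        simp [om]
      right_inv := fun p => by
        simp [om] }
  rw [f.finrank_eq, Module.finrank_prod, Module.finrank_self]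

theorem E4_conj [Fintype F] (hq : Fintype.card F = 2) (a : GL (Fin 2) F) {z : Matrix (Fin 2) (Fin 2) F}
    (hz : z ∈ E4 F) :
    (a : Matrix (Fin 2) (Fin 2) F) * z * ((a⁻¹ : GL (Fin 2) F) : Matrix (Fin 2) (Fin 2) F) ∈ E4 F := by
  haveI := charP_two_of_card hq
  set A : Matrix (Fin 2) (Fin 2) F := (a : Matrix (Fin 2) (Fin 2) F) with hA
  set B : Matrix (Fin 2) (Fin 2) F := ((a⁻¹ : GL (Fin 2) F) : Matrix (Fin 2) (Fin 2) F) with hB
  have e1 : A * B = 1 := Units.mul_inv a
  have e2 : B * A = 1 := Units.inv_mul a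
  -- X = a⁻¹ ω a is a root
  set X : Matrix (Fin 2) (Fin 2) F := B * om F * A with hX
  have hXX : X * X + X + 1 = 0 := by
    have h1 : X * X = B * (om F * om F) * A := by
      rw [hX]
      calc B * om F * A * (B * om F * A) = B * om F * (A * B) * om F * A := by simp only [mul_assoc]
        _ = _ := by rw [e1, mul_one]; simp only [mul_assoc]
    rw [h1, om_sq, hX, mul_add, add_mul, mul_one, e2]
    have h2 : (1 : Matrix (Fin 2) (Fin 2) F) + 1 = 0 := CharTwo.add_self_eq_zero 1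
    have h3 : B * om F * A + B * om F * A = 0 := CharTwo.add_self_eq_zero _
    calc B * om F * A + 1 + B * om F * A + 1 = (B * om F * A + B * om F * A) + (1 + 1) := by abel
      _ = 0 := by rw [h2, h3, add_zero]
  have hzX : X * z = z * X := by
    have hzo := (mem_E4_iff' z).1 hz
    rcases root_cases hq X hXX with h | h
    · rw [h, hzo]
    · rw [h, add_mul, mul_add, hzo, one_mul, mul_one]
  rw [mem_E4_iff']
  -- ω (a z a⁻¹) = a X z a⁻¹ = a z X a⁻¹ = (a z a⁻¹) ω
  have h4 : om F = A * X * B := by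
    rw [hX]
    calc om F = (A * B) * om F * (A * B) := by rw [e1, one_mul, mul_one]
      _ = _ := by simp only [mul_assoc]
  calc om F * (A * z * B) = A * X * (B * A) * z * B := by rw [h4]; simp only [mul_assoc]
    _ = A * (X * z) * B := by rw [e2, mul_one]; simp only [mul_assoc]
    _ = A * (z * X) * B := by rw [hzX]
    _ = A * z * (B * A) * X * B := by rw [e2, mul_one]; simp only [mul_assoc]
    _ = A * z * B * om F := by rw [h4]; simp only [mul_assoc]

/-- the image of a field subalgebra under an injective algebra homomorphism is a field subalgebra -/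
theorem isFieldSubalgebra_map {m r : ℕ} {E : Subalgebra F (Matrix (Fin m) (Fin m) F)} (hE : IsFieldSubalgebra r E)
    (ψ : Matrix (Fin m) (Fin m) F →ₐ[F] Matrix (Fin n) (Fin n) F) (hψ : Function.Injective ψ) :
    IsFieldSubalgebra r (E.map ψ) := by
  refine ⟨?_, ?_, ?_⟩
  · rintro _ ⟨x, hx, rfl⟩ _ ⟨y, hy, rfl⟩
    show ψ x * ψ y = ψ y * ψ x
    rw [← map_mul, ← map_mul, hE.comm x hx y hy]
  · rintro _ ⟨x, hx, rfl⟩ h0
    have hx0 : x ≠ 0 := by
      rintro rfl
      exact h0 (map_zero ψ)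
    obtain ⟨y, hy, hxy⟩ := hE.inv x hx hx0
    refine ⟨ψ y, ⟨y, hy, rfl⟩, ?_⟩
    show ψ x * ψ y = 1
    rw [← map_mul, hxy, map_one]
  · rw [← hE.finrank_eq]
    exact (Subalgebra.equivMapOfInjective E ψ hψ).toLinearEquiv.finrank_eq.symm

/-- over the field with two elements the stabiliser of a tensor decomposition `2 ⊗ k` normalizes the
subfield `F_4 ⊗ 1` of the matrix algebra -/
theorem c4_small [Fintype F] {k : ℕ} (hk : 0 < k) (hq : Fintype.card F = 2) (eqv : Fin n ≃ Fin 2 × Fin k)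
    (P : GL (Fin n) F) :
    ∃ K : Subalgebra F (Matrix (Fin n) (Fin n) F), IsFieldSubalgebra 2 K ∧
      tensorProductSubgroup 2 k eqv P ≤ subalgebraNormalizer K := by
  have hE : IsFieldSubalgebra 2 (E4 F) :=
    ⟨fun x hx y hy => E4_comm hx hy, fun x hx h0 => E4_inv hq hx h0, E4_finrank⟩
  refine ⟨(E4 F).map (tensHom eqv P), isFieldSubalgebra_map hE _ (tensHom_injective hk eqv P), ?_⟩
  apply le_subalgebraNormalizer_of_conj_mem
  rintro g hg _ ⟨z, hz, rfl⟩
  obtain ⟨a, ha⟩ := tensor_conj eqv P hg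
  show (g : Matrix (Fin n) (Fin n) F) * tensHom eqv P z * ((g⁻¹ : GL (Fin n) F) : Matrix (Fin n) (Fin n) F) ∈ _
  rw [ha z]
  exact ⟨_, E4_conj hq a hz, rfl⟩

end Cfsg.Agent.Helper9.AschComp
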