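import Mathlib
import Cfsg.Prelude.Def_GeometricClasses
import Cfsg.Agent.Helper9.AschCompC4

/-!
# ASCH-COMP small case: over `F_2` the stabiliser of a decomposition into 2-dimensional subspaces preserves a
non-degenerate symplectic form (`c2_small_two`): `GL_2(2) = Sp_2(2)`.
-/

set_option autoImplicit false

namespace Cfsg.Agent.Helper9.AschComp

open Cfsg Cfsg.Geo
open scoped MatrixGroups Matrix Kronecker

variable {n : ℕ} {F : Type*} [Field F]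

section
variable {t : ℕ} (𝔟 : Module.Basis (Σ _ : Fin t, Fin 2) F (Fin n → F))

/-- the standard alternating form in the basis `𝔟` (pairs `(i,0), (i,1)` hyperbolic) -/
noncomputable def stdAlt : LinearMap.BilinForm F (Fin n → F) :=
  ∑ i : Fin t, (LinearMap.BilinForm.linMulLin (𝔟.coord ⟨i, 0⟩) (𝔟.coord ⟨i, 1⟩) -
    LinearMap.BilinForm.linMulLin (𝔟.coord ⟨i, 1⟩) (𝔟.coord ⟨i, 0⟩))

theorem stdAlt_apply (x y : Fin n → F) :
    stdAlt 𝔟 x y = ∑ i : Fin t, (𝔟.repr x ⟨i, 0⟩ * 𝔟.repr y ⟨i, 1⟩ - 𝔟.repr x ⟨i, 1⟩ * 𝔟.repr y ⟨i, 0⟩) := by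
  unfold stdAlt
  simp [LinearMap.sum_apply, LinearMap.sub_apply, LinearMap.BilinForm.linMulLin_apply, Module.Basis.coord_apply]

theorem stdAlt_self (x : Fin n → F) : stdAlt 𝔟 x x = 0 := by
  rw [stdAlt_apply]
  apply Finset.sum_eq_zero
  intro i _
  ring

theorem stdAlt_skew (x y : Fin n → F) : stdAlt 𝔟 x y = - stdAlt 𝔟 y x := by
  rw [stdAlt_apply, stdAlt_apply, ← Finset.sum_neg_distrib]
  apply Finset.sum_congr rfl
  intro i _
  ring

theorem stdAlt_basis_zero (i : Fin t) (y : Fin n → F) : stdAlt 𝔟 (𝔟 ⟨i, 0⟩) y = 𝔟.repr y ⟨i, 1⟩ := by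
  rw [stdAlt_apply, Finset.sum_eq_single i]
  · simp
  · intro j _ hji
    have h1 : (⟨i, 0⟩ : Σ _ : Fin t, Fin 2) ≠ ⟨j, 0⟩ := by
      intro h; exact hji (congrArg Sigma.fst h).symm
    have h2 : (⟨i, 0⟩ : Σ _ : Fin t, Fin 2) ≠ ⟨j, 1⟩ := by
      intro h; exact hji (congrArg Sigma.fst h).symm
    simp [h1, h2]
  · simp

theorem stdAlt_basis_one (i : Fin t) (y : Fin n → F) : stdAlt 𝔟 (𝔟 ⟨i, 1⟩) y = - 𝔟.repr y ⟨i, 0⟩ := by
  rw [stdAlt_apply, Finset.sum_eq_single i]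
  · simp
  · intro j _ hji
    have h1 : (⟨i, 1⟩ : Σ _ : Fin t, Fin 2) ≠ ⟨j, 0⟩ := by
      intro h; exact hji (congrArg Sigma.fst h).symm
    have h2 : (⟨i, 1⟩ : Σ _ : Fin t, Fin 2) ≠ ⟨j, 1⟩ := by
      intro h; exact hji (congrArg Sigma.fst h).symm
    simp [h1, h2]
  · simp

theorem stdAlt_nondeg {v : Fin n → F} (hv : v ≠ 0) : ∃ x, stdAlt 𝔟 x v ≠ 0 := by
  have h1 : 𝔟.repr v ≠ 0 := by
    intro h
    exact hv (𝔟.repr.map_eq_zero_iff.1 h)
  obtain ⟨⟨i, ε⟩, ha⟩ := Finsupp.ne_iff.1 h1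
  rw [Finsupp.zero_apply] at ha
  fin_cases ε
  · refine ⟨𝔟 ⟨i, 1⟩, ?_⟩
    rw [stdAlt_basis_one]
    exact neg_ne_zero.2 ha
  · refine ⟨𝔟 ⟨i, 0⟩, ?_⟩
    rw [stdAlt_basis_zero]
    exact ha

theorem stdAlt_symplectic : IsSymplecticForm (fun x y => stdAlt 𝔟 x y) := by
  refine ⟨⟨?_, ?_, ?_, ?_⟩, ?_, ?_, ?_⟩
  · intro x y v; simp
  · intro c x v; simp
  · intro v x y; simp
  · intro c v x; simp
  · intro v w; exact stdAlt_skew 𝔟 v w
  · intro v; exact stdAlt_self 𝔟 v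
  · intro v hv
    obtain ⟨x, hx⟩ := stdAlt_nondeg 𝔟 hv
    refine ⟨⟨x, hx⟩, ⟨x, ?_⟩⟩
    show stdAlt 𝔟 v x ≠ 0
    rw [stdAlt_skew]
    exact neg_ne_zero.2 hx
end

/-- over the field with two elements, the stabiliser of a decomposition into 2-dimensional subspaces lies in
the similarity group of a symplectic form -/
theorem c2_small_two [Fintype F] {t : ℕ} (D : Fin t → Submodule F (Fin n → F)) (hD : IsMDecomposition 2 D)
    (hq : Fintype.card F = 2) :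
    ∃ f : (Fin n → F) → (Fin n → F) → F, IsSymplecticForm f ∧
      decompositionStabilizer D ≤ similarityGroup f := by
  classical
  have hint : DirectSum.IsInternal D :=
    (DirectSum.isInternal_submodule_iff_iSupIndep_and_iSup_eq_top D).2 ⟨hD.indep, hD.iSup_eq_top⟩
  let v : ∀ i, Module.Basis (Fin 2) F (D i) := fun i => Module.finBasisOfFinrankEq F (D i) (hD.finrank_eq i)
  set 𝔟 : Module.Basis (Σ _ : Fin t, Fin 2) F (Fin n → F) := hint.collectedBasis v with h𝔟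
  have hmem : ∀ a : Σ _ : Fin t, Fin 2, 𝔟 a ∈ D a.1 := fun a => hint.collectedBasis_mem v a
  -- coordinates outside the block vanish
  have hzero : ∀ {x : Fin n → F} {k j : Fin t} (ε : Fin 2), x ∈ D k → k ≠ j → 𝔟.repr x ⟨j, ε⟩ = 0 := by
    intro x k j ε hx hkj
    exact hint.collectedBasis_repr_of_mem_ne v hkj hx
  -- orthogonality of different blocks
  have horth : ∀ {x y : Fin n → F} {k l : Fin t}, x ∈ D k → y ∈ D l → k ≠ l → stdAlt 𝔟 x y = 0 := by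
    intro x y k l hx hy hkl
    rw [stdAlt_apply]
    apply Finset.sum_eq_zero
    intro i _
    by_cases hik : k = i
    · subst hik
      rw [hzero 1 hy hkl.symm, hzero 0 hy hkl.symm, mul_zero, mul_zero, sub_zero]
    · rw [hzero 0 hx hik, hzero 1 hx hik, zero_mul, zero_mul, sub_zero]
  refine ⟨fun x y => stdAlt 𝔟 x y, stdAlt_symplectic 𝔟, ?_⟩
  intro g hg
  obtain ⟨σ, hσ⟩ := hg
  refine ⟨1, fun x y => ?_⟩
  rw [Units.val_one, one_mul]
  set gL : (Fin n → F) →ₗ[F] (Fin n → F) := Matrix.toLin' (g : Matrix (Fin n) (Fin n) F) with hgL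
  have hgmem : ∀ {x : Fin n → F} {k : Fin t}, x ∈ D k → gL x ∈ D (σ k) := by
    intro x k hx
    rw [← hσ k]
    exact ⟨x, hx, rfl⟩
  have hginj : Function.Injective gL := by
    intro a b hab
    have h1 : ((g⁻¹ : GL (Fin n) F) : Matrix (Fin n) (Fin n) F) *ᵥ (gL a) =
        ((g⁻¹ : GL (Fin n) F) : Matrix (Fin n) (Fin n) F) *ᵥ (gL b) := by rw [hab]
    simpa [hgL, Matrix.toLin'_apply, Matrix.mulVec_mulVec] using h1
  have hgsurj : ∀ z, ∃ y, gL y = z := by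
    intro z
    refine ⟨((g⁻¹ : GL (Fin n) F) : Matrix (Fin n) (Fin n) F) *ᵥ z, ?_⟩
    simp [hgL, Matrix.toLin'_apply, Matrix.mulVec_mulVec]
  set B' : LinearMap.BilinForm F (Fin n → F) := (stdAlt 𝔟).compl₁₂ gL gL with hB'
  have hB'app : ∀ x y, B' x y = stdAlt 𝔟 (gL x) (gL y) := fun x y => rfl
  -- the key value
  have hkey : ∀ i : Fin t, B' (𝔟 ⟨i, 0⟩) (𝔟 ⟨i, 1⟩) = 1 := by
    intro i
    rcases eq_zero_or_one_of_card hq (B' (𝔟 ⟨i, 0⟩) (𝔟 ⟨i, 1⟩)) with h0 | h1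
    · exfalso
      have hx0 : gL (𝔟 ⟨i, 0⟩) ≠ 0 := by
        intro h
        have : 𝔟 ⟨i, 0⟩ = 0 := hginj (by rw [h, map_zero])
        exact 𝔟.ne_zero _ this
      obtain ⟨z, hz⟩ := stdAlt_nondeg 𝔟 hx0
      obtain ⟨y, rfl⟩ := hgsurj z
      have hfun : B' (𝔟 ⟨i, 0⟩) = 0 := by
        apply 𝔟.ext
        rintro ⟨j, ε⟩
        rw [LinearMap.zero_apply]
        by_cases hij : i = j
        · subst hij
          fin_cases ε
          · exact stdAlt_self 𝔟 _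
          · exact h0
        · rw [hB'app]
          exact horth (hgmem (hmem ⟨i, 0⟩)) (hgmem (hmem ⟨j, ε⟩)) (fun h => hij (σ.injective h))
      apply hz
      rw [stdAlt_skew, ← hB'app, hfun, LinearMap.zero_apply, neg_zero]
    · exact h1
  have hBB : B' = stdAlt 𝔟 := by
    apply LinearMap.ext_basis 𝔟 𝔟
    rintro ⟨i, ε⟩ ⟨j, δ⟩
    by_cases hij : i = j
    · subst hij
      have h01 : stdAlt 𝔟 (𝔟 ⟨i, 0⟩) (𝔟 ⟨i, 1⟩) = 1 := by
        rw [stdAlt_basis_zero]; simp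
      fin_cases ε <;> fin_cases δ
      · rw [hB'app]; exact (stdAlt_self 𝔟 _).trans (stdAlt_self 𝔟 _).symm
      · exact (hkey i).trans h01.symm
      · show B' (𝔟 ⟨i, 1⟩) (𝔟 ⟨i, 0⟩) = stdAlt 𝔟 (𝔟 ⟨i, 1⟩) (𝔟 ⟨i, 0⟩)
        rw [hB'app, stdAlt_skew 𝔟 (gL _), ← hB'app, hkey i, stdAlt_skew 𝔟 (𝔟 ⟨i, 1⟩), h01]
      · rw [hB'app]; exact (stdAlt_self 𝔟 _).trans (stdAlt_self 𝔟 _).symm
    · rw [hB'app, horth (hgmem (hmem ⟨i, ε⟩)) (hgmem (hmem ⟨j, δ⟩)) (fun h => hij (σ.injective h)),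
        horth (hmem ⟨i, ε⟩) (hmem ⟨j, δ⟩) hij]
  have := congrArg (fun B : LinearMap.BilinForm F (Fin n → F) => B x y) hBB
  simpa [hB'app, hgL, Matrix.toLin'_apply] using this

end Cfsg.Agent.Helper9.AschComp
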