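import Mathlib
import Cfsg.Prelude.Def_GeometricClasses
import Cfsg.Agent.Helper7.TransvectionGL

/-!
# ASCH-COMP: `SL_n(F)` is not contained in the stabiliser of an `m`-decomposition (general `t`, `m`),
nor in the stabiliser of a tensor decomposition.
-/

set_option autoImplicit false

namespace Cfsg.Agent.Helper9.AschComp

open Cfsg Cfsg.Geo Cfsg.Agent.Helper7.TGL
open scoped MatrixGroups Matrix Kronecker

variable {n : ℕ} {F : Type*} [Field F]

/-- `SL_n(F)` does not stabilise a decomposition into `t ≥ 2` subspaces of dimension `m ≥ 1`. -/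
theorem not_le_decompositionStabilizer' {t m : ℕ} (D : Fin t → Submodule F (Fin n → F))
    (hD : IsMDecomposition m D) : ¬ specialLinear (Fin n) F ≤ decompositionStabilizer D := by
  intro hle
  have ht := hD.two_le
  set i₀ : Fin t := ⟨0, by omega⟩ with hi₀
  set i₁ : Fin t := ⟨1, by omega⟩ with hi₁
  have hne : i₀ ≠ i₁ := by
    intro h; have := congrArg Fin.val h; simp [hi₀, hi₁] at this
  have hex : ∀ i, ∃ e : Fin n → F, e ∈ D i ∧ e ≠ 0 := by
    intro i
    have hpos : 0 < Module.finrank F (D i) := by rw [hD.finrank_eq i]; exact hD.pos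
    obtain ⟨⟨e, he⟩, he0⟩ := Module.finrank_pos_iff_exists_ne_zero.mp hpos
    exact ⟨e, he, fun h => he0 (Subtype.ext h)⟩
  obtain ⟨e₀, he₀, he₀0⟩ := hex i₀
  obtain ⟨e₁, he₁, he₁0⟩ := hex i₁
  have hdisj : ∀ i j, i ≠ j → ∀ x, x ∈ D i → x ∈ D j → x = 0 := by
    intro i j hij x hxi hxj
    have h := hD.indep.pairwiseDisjoint hij
    have : x ∈ D i ⊓ D j := ⟨hxi, hxj⟩
    rw [h.eq_bot, Submodule.mem_bot] at this
    exact this
  have hu : e₀ ∉ (⊥ : Submodule F (Fin n → F)) ⊔ Submodule.span F {e₁} := by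
    rw [bot_sup_eq, Submodule.mem_span_singleton]
    rintro ⟨c, hc⟩
    apply he₀0
    apply hdisj i₀ i₁ hne e₀ he₀
    rw [← hc]
    exact (D i₁).smul_mem c he₁
  obtain ⟨g, hgSL, -, hg⟩ := exists_tau ⊥ hu
  obtain ⟨σ, hσ⟩ := hle hgSL
  have hmem : e₀ + e₁ ∈ D (σ i₀) := by
    rw [← hσ i₀, ← hg]
    exact ⟨e₀, he₀, by rw [Matrix.toLin'_apply]⟩
  by_cases h0 : σ i₀ = i₀
  · rw [h0] at hmem
    have := (D i₀).sub_mem hmem he₀
    rw [add_sub_cancel_left] at this
    exact he₁0 (hdisj i₀ i₁ hne e₁ this he₁)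
  by_cases h1 : σ i₀ = i₁
  · rw [h1] at hmem
    have := (D i₁).sub_mem hmem he₁
    rw [add_sub_cancel_right] at this
    exact he₀0 (hdisj i₀ i₁ hne e₀ he₀ this)
  · have hind := hD.indep (σ i₀)
    have hmem2 : e₀ + e₁ ∈ ⨆ j, ⨆ (_ : j ≠ σ i₀), D j := by
      refine Submodule.add_mem _ ?_ ?_
      · exact Submodule.mem_iSup_of_mem i₀ (Submodule.mem_iSup_of_mem (Ne.symm h0) he₀)
      · exact Submodule.mem_iSup_of_mem i₁ (Submodule.mem_iSup_of_mem (Ne.symm h1) he₁)
    have : e₀ + e₁ ∈ D (σ i₀) ⊓ ⨆ j, ⨆ (_ : j ≠ σ i₀), D j := ⟨hmem, hmem2⟩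
    rw [hind.eq_bot, Submodule.mem_bot] at this
    have h3 : e₀ = -e₁ := eq_neg_of_add_eq_zero_left this
    apply he₀0
    apply hdisj i₀ i₁ hne e₀ he₀
    rw [h3]
    exact (D i₁).neg_mem he₁

theorem mem_specialLinear_iff' (g : GL (Fin n) F) : g ∈ specialLinear (Fin n) F ↔ (g : Matrix (Fin n) (Fin n) F).det = 1 := by
  unfold specialLinear
  rw [MonoidHom.mem_ker]
  constructor
  · intro h
    have := congrArg Units.val h
    simpa using this
  · intro h
    apply Units.ext
    simpa using h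

theorem det_glReindex {κ : Type} [Fintype κ] [DecidableEq κ] (e : κ ≃ Fin n) (g : GL κ F) :
    ((glReindex e g : GL (Fin n) F) : Matrix (Fin n) (Fin n) F).det = (g : Matrix κ κ F).det := by
  unfold glReindex
  simp

/-- the special linear group is not contained in the stabiliser of a tensor decomposition -/
theorem not_le_tensorProductSubgroup {d e : ℕ} (hd : 2 ≤ d) (he : 2 ≤ e) (eqv : Fin n ≃ Fin d × Fin e)
    (P : GL (Fin n) F) : ¬ specialLinear (Fin n) F ≤ tensorProductSubgroup d e eqv P := by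
  intro hle
  set i0 : Fin d := ⟨0, by omega⟩ with hi0
  set i1 : Fin d := ⟨1, by omega⟩ with hi1
  set k0 : Fin e := ⟨0, by omega⟩ with hk0
  set k1 : Fin e := ⟨1, by omega⟩ with hk1
  have hi01 : i0 ≠ i1 := by
    intro h; have := congrArg Fin.val h; simp [hi0, hi1] at this
  have hk01 : k0 ≠ k1 := by
    intro h; have := congrArg Fin.val h; simp [hk0, hk1] at this
  have hne : ((i0, k0) : Fin d × Fin e) ≠ (i1, k1) := by
    intro h; exact hi01 (congrArg Prod.fst h)
  set T : Matrix (Fin d × Fin e) (Fin d × Fin e) F := Matrix.transvection (i0, k0) (i1, k1) 1 with hT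
  have hTdet : T.det = 1 := Matrix.det_transvection_of_ne _ _ hne 1
  set g0 : GL (Fin d × Fin e) F := Matrix.GeneralLinearGroup.mkOfDetNeZero T (by rw [hTdet]; exact one_ne_zero)
    with hg0
  have hg0v : (g0 : Matrix (Fin d × Fin e) (Fin d × Fin e) F) = T := rfl
  set g1 : GL (Fin n) F := glReindex eqv.symm g0 with hg1
  set g : GL (Fin n) F := P * g1 * P⁻¹ with hg
  have hgSL : g ∈ specialLinear (Fin n) F := by
    rw [mem_specialLinear_iff', hg, Units.val_mul, Units.val_mul, Matrix.det_mul, Matrix.det_mul, hg1,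
      det_glReindex, hg0v, hTdet, mul_one, ← Matrix.det_mul, ← Units.val_mul, mul_inv_cancel, Units.val_one,
      Matrix.det_one]
  obtain ⟨y, hy, hyg⟩ := hle hgSL
  obtain ⟨k, hk, rfl⟩ := hy
  have h1 : glReindex eqv.symm k = g1 := by
    have h2 : P * glReindex eqv.symm k * P⁻¹ = P * g1 * P⁻¹ := hyg
    have h3 := congrArg (fun z => P⁻¹ * z * P) h2
    simpa [mul_assoc] using h3
  have h2 : k = g0 := (glReindex eqv.symm).injective h1
  subst h2
  obtain ⟨a, b, hab⟩ := hk
  rw [hg0v] at hab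
  have e1 := congrFun (congrFun hab (i0, k0)) (i0, k0)
  have e2 := congrFun (congrFun hab (i0, k0)) (i1, k1)
  have e3 := congrFun (congrFun hab (i0, k0)) (i1, k0)
  rw [Matrix.kroneckerMap_apply] at e1 e2 e3
  simp only [hT, Matrix.transvection, Matrix.add_apply, Matrix.one_apply, Matrix.single_apply] at e1 e2 e3
  have hne' : ((i0, k0) : Fin d × Fin e) ≠ (i1, k0) := by
    intro h; exact hi01 (congrArg Prod.fst h)
  simp [hne, hne'] at e1 e2 e3
  rw [if_neg (fun h => hi01 h.1.symm), add_zero] at e1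
  rw [if_neg (fun h => hk01 h.symm)] at e3
  rcases mul_eq_zero.mp e3.symm with h | h
  · rw [h, zero_mul] at e2
    exact one_ne_zero e2
  · rw [h, mul_zero] at e1
    exact one_ne_zero e1

theorem glReindex_val {κ ι : Type} [Fintype κ] [DecidableEq κ] [Fintype ι] [DecidableEq ι] (e : κ ≃ ι) (g : GL κ F) :
    ((glReindex e g : GL ι F) : Matrix ι ι F) = Matrix.reindex e e (g : Matrix κ κ F) := rfl

theorem glReindex_apply {κ ι : Type} [Fintype κ] [DecidableEq κ] [Fintype ι] [DecidableEq ι] (e : κ ≃ ι) (g : GL κ F)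
    (i j : ι) : ((glReindex e g : GL ι F) : Matrix ι ι F) i j = (g : Matrix κ κ F) (e.symm i) (e.symm j) := rfl

theorem glReindex_trans {κ ι μ : Type} [Fintype κ] [DecidableEq κ] [Fintype ι] [DecidableEq ι] [Fintype μ] [DecidableEq μ]
    (e : κ ≃ ι) (e' : ι ≃ μ) (g : GL κ F) : glReindex (e.trans e') g = glReindex e' (glReindex e g) := by
  apply Units.ext
  ext i j
  rfl

theorem kron_swap (d e : ℕ) :
    (kroneckerSubgroup d e F).map (glReindex (Equiv.prodComm (Fin d) (Fin e))).toMonoidHom =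
      kroneckerSubgroup e d F := by
  ext g
  constructor
  · rintro ⟨k, ⟨a, b, hk⟩, rfl⟩
    refine ⟨b, a, ?_⟩
    ext ⟨i, k'⟩ ⟨j, l⟩
    show ((glReindex (Equiv.prodComm (Fin d) (Fin e)) k : GL _ F) : Matrix _ _ F) (i, k') (j, l) = _
    rw [glReindex_apply, hk]
    simp [Matrix.kroneckerMap_apply, mul_comm]
  · rintro ⟨b, a, hg⟩
    refine ⟨(glReindex (Equiv.prodComm (Fin d) (Fin e))).symm g, ⟨a, b, ?_⟩, ?_⟩
    · ext ⟨i, k'⟩ ⟨j, l⟩
      have : (((glReindex (Equiv.prodComm (Fin d) (Fin e))).symm g : GL _ F) : Matrix _ _ F) (i, k') (j, l)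
          = (g : Matrix _ _ F) (k', i) (l, j) := rfl
      rw [this, hg]
      simp [Matrix.kroneckerMap_apply, mul_comm]
    · simp

/-- swapping the two factors of a tensor decomposition -/
theorem tensorProductSubgroup_swap {d e : ℕ} (eqv : Fin n ≃ Fin e × Fin d) (P : GL (Fin n) F) :
    tensorProductSubgroup e d eqv P =
      tensorProductSubgroup d e (eqv.trans (Equiv.prodComm (Fin e) (Fin d))) P := by
  unfold tensorProductSubgroup
  congr 1
  rw [← kron_swap d e, Subgroup.map_map]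
  congr 1

end Cfsg.Agent.Helper9.AschComp
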