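import Mathlib
import Cfsg.Prelude.Def_GeometricClasses
import Cfsg.Agent.Helper9.AschCompC2
import Cfsg.Agent.Helper9.AschCompC4
import Cfsg.Agent.Helper9.AschCompNotSL
import Cfsg.Agent.Helper9.AschCompTensor

/-!
# ASCH-COMP: helper6's pieces K4, K6, K7, K8, K9 (and K1d, in `AschCompTensor`) with the exact stub signatures
(`notes/helper6_aschcomp_stubs.lean.txt`), namespace `Cfsg.Agent.Helper9.AschCompK`.
-/

set_option autoImplicit false

namespace Cfsg.Agent.Helper9.AschCompK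

open Cfsg Cfsg.Geo
open scoped MatrixGroups Matrix Kronecker

variable {n : ℕ} {F : Type*} [Field F]

/-- K4 (any block size `m`). -/
theorem not_le_decompositionStabilizer_gen (hn : 3 ≤ n) {t : ℕ} (m : ℕ)
    (D : Fin t → Submodule F (Fin n → F)) (hD : IsMDecomposition m D) :
    ¬ specialLinear (Fin n) F ≤ decompositionStabilizer D :=
  Cfsg.Agent.Helper9.AschComp.not_le_decompositionStabilizer' D hD

/-- K6. -/
theorem not_le_tensorProductSubgroup (n₁ n₂ : ℕ) (h1 : 2 ≤ n₁) (h2 : 2 ≤ n₂) (e : Fin n ≃ Fin n₁ × Fin n₂)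
    (P : GL (Fin n) F) : ¬ specialLinear (Fin n) F ≤ tensorProductSubgroup n₁ n₂ e P :=
  Cfsg.Agent.Helper9.AschComp.not_le_tensorProductSubgroup h1 h2 e P

/-- K7: `GL_2(2) ≀ S_t = Sp_2(2) ≀ S_t ≤ Sp_{2t}(2)`. -/
theorem c2_small_two [Fintype F] (hq : Fintype.card F = 2) {t : ℕ} (D : Fin t → Submodule F (Fin n → F))
    (hD : IsMDecomposition 2 D) :
    ∃ f : (Fin n → F) → (Fin n → F) → F, IsSymplecticForm f ∧ decompositionStabilizer D ≤ similarityGroup f :=
  Cfsg.Agent.Helper9.AschComp.c2_small_two D hD hq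

/-- K8: `GL_2(2) ⊗ GL_{n₂}(2)` normalizes the field `F_4 ⊗ 1` (extra hypothesis `0 < n`: false for `n = 0`). -/
theorem c4_small_two [Fintype F] (hn : 0 < n) (hq : Fintype.card F = 2) (n₂ : ℕ) (e : Fin n ≃ Fin 2 × Fin n₂)
    (P : GL (Fin n) F) :
    ∃ K : Subalgebra F (Matrix (Fin n) (Fin n) F), IsFieldSubalgebra 2 K ∧
      tensorProductSubgroup 2 n₂ e P ≤ subalgebraNormalizer K := by
  have hk : 0 < n₂ := by
    rcases Nat.eq_zero_or_pos n₂ with h | h
    · subst h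
      exact ((e ⟨0, hn⟩).2).elim0
    · exact h
  exact Cfsg.Agent.Helper9.AschComp.c4_small hk hq e P

/-- K9. -/
theorem tensorProductSubgroup_swap (n₁ n₂ : ℕ) (e : Fin n ≃ Fin n₁ × Fin n₂) (P : GL (Fin n) F) :
    tensorProductSubgroup n₁ n₂ e P =
      tensorProductSubgroup n₂ n₁ (e.trans (Equiv.prodComm (Fin n₁) (Fin n₂))) P :=
  Cfsg.Agent.Helper9.AschComp.tensorProductSubgroup_swap e P

/-- K1d. -/
theorem mem_kroneckerSubgroup_of_normalizes {d e : ℕ} (g : GL (Fin d × Fin e) F)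
    (hg : ∀ m : Matrix (Fin d) (Fin d) F, ∃ m' : Matrix (Fin d) (Fin d) F,
      (g : Matrix (Fin d × Fin e) (Fin d × Fin e) F) * (m ⊗ₖ (1 : Matrix (Fin e) (Fin e) F)) *
        ((g⁻¹ : GL (Fin d × Fin e) F) : Matrix (Fin d × Fin e) (Fin d × Fin e) F) =
        m' ⊗ₖ (1 : Matrix (Fin e) (Fin e) F)) :
    g ∈ kroneckerSubgroup d e F :=
  Cfsg.Agent.Helper9.AschComp.mem_kroneckerSubgroup_of_normalizes g hg

end Cfsg.Agent.Helper9.AschCompK
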