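import Mathlib
import Cfsg.Prelude.Def_GeometricClasses

/-!
# ASCH-PP pieces G5a, G5b (helper9): arithmetic of finite fields for the symplectic-type case
-/

set_option autoImplicit false

namespace Cfsg.Agent.Helper9.AschC6

open Cfsg Cfsg.Geo

variable {F : Type*} [Field F]

/-- **G5a**: either `F` is a proper power-extension of a subfield containing the `z`-th roots of unity, or `F` is the
minimal field for `z`. -/
theorem field_cases [Fintype F] (z : ℕ) (hz : z ∣ Fintype.card F - 1) :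
    (∃ (τ : F →+* F) (q₁ m : ℕ), 2 ≤ m ∧ Fintype.card F = q₁ ^ m ∧ z ∣ q₁ - 1 ∧ ∀ x, τ x = x ^ q₁) ∨
    (∃ p e : ℕ, IsMinimalFieldFor z p e F) := by
  classical
  set p := ringChar F with hpdef
  haveI : CharP F p := ringChar.charP F
  obtain ⟨e, hp, hcard⟩ := FiniteField.card F p
  haveI : Fact p.Prime := ⟨hp⟩
  by_cases hmin : ∀ d : ℕ, 0 < d → d < (e : ℕ) → ¬ z ∣ p ^ d - 1
  · right
    exact ⟨p, e, hp, inferInstance, hcard, by rw [← hcard]; exact hz, hmin⟩
  · left
    push Not at hmin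
    obtain ⟨d, hd0, hde, hzd⟩ := hmin
    set g := Nat.gcd d e with hgdef
    have hg : z ∣ p ^ g - 1 := by
      rw [hgdef, ← Nat.pow_sub_one_gcd_pow_sub_one]
      exact Nat.dvd_gcd hzd (by rw [← hcard]; exact hz)
    have hge : g ∣ e := Nat.gcd_dvd_right d e
    obtain ⟨m, hm⟩ := hge
    have hg0 : 0 < g := Nat.gcd_pos_of_pos_left _ hd0
    have hgd : g ≤ d := Nat.le_of_dvd hd0 (Nat.gcd_dvd_left d e)
    have hm2 : 2 ≤ m := by
      by_contra hcon
      have h01 : m = 0 ∨ m = 1 := by omega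
      rcases h01 with h | h
      · rw [h, mul_zero] at hm
        have := e.pos
        omega
      · rw [h, mul_one] at hm
        omega
    exact ⟨iterateFrobenius F p g, p ^ g, m, hm2, by rw [hcard, hm, pow_mul], hg,
      fun x => iterateFrobenius_def p g x⟩

/-- **G5b**: the minimal field of even degree for `z` (prime or `4`) is `F_{q₀²}` with `z ∣ q₀ + 1`. -/
theorem exists_involution [Fintype F] {z p e : ℕ} (hmin : IsMinimalFieldFor z p e F) (he : Even e)
    (hz : z.Prime ∨ z = 4) : ∃ q₀ : ℕ, Fintype.card F = q₀ ^ 2 ∧ z ∣ q₀ + 1 := by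
  obtain ⟨hp, hchar, hcard, hzdvd, hmind⟩ := hmin
  obtain ⟨k, hk⟩ := he
  have hk0 : 0 < k := by
    rcases Nat.eq_zero_or_pos k with h0 | h0
    · exfalso
      rw [hk, h0] at hcard
      have := Fintype.one_lt_card (α := F)
      simp at hcard
      omega
    · exact h0
  have hc2 : Fintype.card F = (p ^ k) ^ 2 := by
    rw [hcard, hk, ← pow_mul]
    congr 1
    ring
  refine ⟨p ^ k, hc2, ?_⟩
  obtain ⟨P', hP'⟩ : ∃ P', p ^ k = P' + 1 := ⟨p ^ k - 1, by
    have := Nat.one_le_pow k p hp.pos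
    omega⟩
  have h1 : p ^ e - 1 = P' * (P' + 2) := by
    rw [hk, pow_add, hP']
    apply Nat.sub_eq_of_eq_add
    ring
  have hnot : ¬ z ∣ P' := by
    have := hmind k hk0 (by omega)
    rwa [hP', Nat.add_sub_cancel] at this
  rw [h1] at hzdvd
  rw [hP']
  rcases hz with hzp | hz4
  · rcases (Nat.Prime.dvd_mul hzp).1 hzdvd with h | h
    · exact absurd h hnot
    · exact h
  · subst hz4
    obtain ⟨t, r, hr, rfl⟩ : ∃ t r, r < 4 ∧ P' = 4 * t + r :=
      ⟨P' / 4, P' % 4, Nat.mod_lt _ (by norm_num), (Nat.div_add_mod P' 4).symm⟩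
    interval_cases r
    · exact absurd (by simp) hnot
    · exfalso
      have e1 : (4 * t + 1) * (4 * t + 1 + 2) = 4 * (4 * t * t + 4 * t) + 3 := by ring
      rw [e1] at hzdvd
      omega
    · exact ⟨t + 1, by ring⟩
    · exfalso
      have e1 : (4 * t + 3) * (4 * t + 3 + 2) = 4 * (4 * t * t + 8 * t + 3) + 3 := by ring
      rw [e1] at hzdvd
      omega

end Cfsg.Agent.Helper9.AschC6
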