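import Mathlib
import Cfsg.Prelude.Def_GeometricClasses
import Cfsg.Agent.Lead.AschBase
import Cfsg.Agent.Helper6.AschCompSym
import Cfsg.Agent.Helper9.AschC6Base

/-!
# ASCH-PP piece G2 (helper9): Stone–von Neumann

Let `N ≤ GL_n(F)` be absolutely irreducible with scalar commutator subgroup (`SymC`), `F` finite.  A second
representation `ρ : N →* GL_n(F)` of the same degree that agrees with the natural one on the scalars of `N` is
equivalent to the natural one: `J(A) = ∑_t x_t A ρ(x_t)⁻¹` over coset representatives of `N / (Z ∩ N)` intertwines,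
is non-zero for some matrix unit `A` (the `x_t` are linearly independent), and a non-zero intertwiner is invertible.
-/

set_option autoImplicit false

namespace Cfsg.Agent.Helper9.AschC6

open Cfsg Cfsg.Geo Cfsg.Agent.Lead.Asch Cfsg.Agent.Helper6.AschComp
open scoped MatrixGroups Matrix

variable {n : ℕ} {F : Type*} [Field F]

/-- a non-zero intertwiner from a representation to an irreducible one is invertible -/
theorem isUnit_of_intertwine {N : Subgroup (GL (Fin n) F)} (hirr : ActsIrreducibly (matrixSet N))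
    (ρ : N →* GL (Fin n) F) (J : Matrix (Fin n) (Fin n) F) (hJ0 : J ≠ 0)
    (hJ : ∀ x : N, ((x : GL (Fin n) F) : Matrix (Fin n) (Fin n) F) * J =
      J * ((ρ x : GL (Fin n) F) : Matrix (Fin n) (Fin n) F)) : IsUnit J := by
  classical
  set W : Submodule F (Fin n → F) := LinearMap.range (Matrix.toLin' J) with hW
  have hinv : ∀ s ∈ matrixSet N, W.map (Matrix.toLin' s) ≤ W := by
    intro s hs
    obtain ⟨x, hx, rfl⟩ := mem_matrixSet_iff.1 hs
    rintro _ ⟨w, ⟨v, rfl⟩, rfl⟩
    refine ⟨Matrix.toLin' ((ρ ⟨x, hx⟩ : GL (Fin n) F) : Matrix (Fin n) (Fin n) F) v, ?_⟩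
    rw [← LinearMap.comp_apply, ← LinearMap.comp_apply, ← Matrix.toLin'_mul, ← Matrix.toLin'_mul]
    exact congrArg (fun M => Matrix.toLin' M v) (hJ ⟨x, hx⟩).symm
  rcases hirr W hinv with h0 | h1
  · exfalso
    apply hJ0
    have : Matrix.toLin' J = 0 := LinearMap.range_eq_bot.1 h0
    exact Matrix.toLin'.injective (by rw [this, map_zero])
  · rw [← Matrix.mulVec_surjective_iff_isUnit]
    intro v
    have : v ∈ W := by rw [h1]; trivial
    obtain ⟨w, hw⟩ := this
    exact ⟨w, by rw [← hw, Matrix.toLin'_apply]⟩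

/-- **G2** (Stone–von Neumann) -/
theorem exists_intertwiner [Fintype F] {N : Subgroup (GL (Fin n) F)} (h : SymC n F N) (ρ : N →* GL (Fin n) F)
    (hρ : ∀ x : N, (x : GL (Fin n) F) ∈ scalars (Fin n) F → ρ x = x) :
    ∃ J : GL (Fin n) F, ∀ x : N, (x : GL (Fin n) F) * J = J * ρ x := by
  classical
  haveI := h.neZero
  haveI : Nonempty (Fin n) := ⟨0⟩
  haveI : Finite (GL (Fin n) F) := inferInstance
  haveI : Fintype (SymC.Q N) := Fintype.ofFinite _
  -- the matrices
  let R : SymC.Q N → Matrix (Fin n) (Fin n) F := SymC.repMat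
  let S : SymC.Q N → Matrix (Fin n) (Fin n) F :=
    fun t => (((ρ (SymC.rep t))⁻¹ : GL (Fin n) F) : Matrix (Fin n) (Fin n) F)
  let Jm : Matrix (Fin n) (Fin n) F → Matrix (Fin n) (Fin n) F := fun A => ∑ t : SymC.Q N, R t * A * S t
  -- the key identity
  have hkey : ∀ (x : N) (A : Matrix (Fin n) (Fin n) F) (t : SymC.Q N),
      ((x : GL (Fin n) F) : Matrix (Fin n) (Fin n) F) * (R t * A * S t) =
        R ((QuotientGroup.mk x : SymC.Q N) * t) * A * S ((QuotientGroup.mk x : SymC.Q N) * t) *
          ((ρ x : GL (Fin n) F) : Matrix (Fin n) (Fin n) F) := by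
    intro x A t
    set t' : SymC.Q N := (QuotientGroup.mk x : SymC.Q N) * t with ht'
    -- the scalar
    set s : N := x * SymC.rep t * (SymC.rep t')⁻¹ with hs
    have hsZ : (s : GL (Fin n) F) ∈ scalars (Fin n) F := by
      have h1 : (QuotientGroup.mk s : SymC.Q N) = 1 := by
        rw [hs, QuotientGroup.mk_mul, QuotientGroup.mk_mul, QuotientGroup.mk_inv, SymC.mk_rep, SymC.mk_rep, ht']
        group
      rw [QuotientGroup.eq_one_iff, Subgroup.mem_subgroupOf] at h1
      exact h1
    rw [scalars_eq_range] at hsZ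
    obtain ⟨c, hc⟩ := hsZ
    have hρs : ρ s = sc n F c := by
      rw [hρ s (by rw [scalars_eq_range]; exact ⟨c, hc⟩), hc]
    -- x * rep t = s * rep t'
    have e1 : x * SymC.rep t = s * SymC.rep t' := by rw [hs]; group
    have e1' : ((x : GL (Fin n) F) : Matrix (Fin n) (Fin n) F) * R t =
        (c : F) • R t' := by
      have := congrArg (fun y : N => ((y : GL (Fin n) F) : Matrix (Fin n) (Fin n) F)) e1
      simp only [Subgroup.coe_mul, Units.val_mul] at this
      rw [← hc, sc_val, Matrix.smul_mul, Matrix.one_mul] at this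
      exact this
    -- ρ (rep t)⁻¹ = ρ (rep t')⁻¹ * s⁻¹ * ρ x
    have e2 : (ρ (SymC.rep t))⁻¹ = (ρ (SymC.rep t'))⁻¹ * (sc n F c)⁻¹ * ρ x := by
      have h2 : SymC.rep t = x⁻¹ * s * SymC.rep t' := by rw [hs]; group
      rw [h2, map_mul, map_mul, map_inv, hρs]
      group
    have e2' : S t = ((c⁻¹ : Fˣ) : F) • (S t' * ((ρ x : GL (Fin n) F) : Matrix (Fin n) (Fin n) F)) := by
      show (((ρ (SymC.rep t))⁻¹ : GL (Fin n) F) : Matrix (Fin n) (Fin n) F) = _
      have hinv : (sc n F c)⁻¹ = sc n F c⁻¹ := (map_inv (sc n F) c).symm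
      rw [e2, hinv, Units.val_mul, Units.val_mul, sc_val, Matrix.mul_smul, Matrix.mul_one, Matrix.smul_mul]
    calc ((x : GL (Fin n) F) : Matrix (Fin n) (Fin n) F) * (R t * A * S t)
        = (((x : GL (Fin n) F) : Matrix (Fin n) (Fin n) F) * R t) * A * S t := by
          simp only [Matrix.mul_assoc]
      _ = ((c : F) • R t') * A * (((c⁻¹ : Fˣ) : F) • (S t' * ((ρ x : GL (Fin n) F) : Matrix (Fin n) (Fin n) F))) := by
          rw [e1', ← e2']
      _ = ((c : F) * ((c⁻¹ : Fˣ) : F)) • (R t' * A * (S t' * ((ρ x : GL (Fin n) F) : Matrix (Fin n) (Fin n) F))) := by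
          rw [Matrix.smul_mul, Matrix.smul_mul, Matrix.mul_smul, smul_smul]
      _ = R t' * A * S t' * ((ρ x : GL (Fin n) F) : Matrix (Fin n) (Fin n) F) := by
          rw [← Units.val_mul, mul_inv_cancel, Units.val_one, one_smul]
          simp only [Matrix.mul_assoc]
  have hint : ∀ (x : N) (A : Matrix (Fin n) (Fin n) F),
      ((x : GL (Fin n) F) : Matrix (Fin n) (Fin n) F) * Jm A =
        Jm A * ((ρ x : GL (Fin n) F) : Matrix (Fin n) (Fin n) F) := by
    intro x A
    show ((x : GL (Fin n) F) : Matrix (Fin n) (Fin n) F) * ∑ t : SymC.Q N, R t * A * S t =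
      (∑ t : SymC.Q N, R t * A * S t) * ((ρ x : GL (Fin n) F) : Matrix (Fin n) (Fin n) F)
    rw [Finset.mul_sum, Finset.sum_mul]
    rw [← Equiv.sum_comp (Equiv.mulLeft (QuotientGroup.mk x : SymC.Q N))
      (fun t => R t * A * S t * ((ρ x : GL (Fin n) F) : Matrix (Fin n) (Fin n) F))]
    refine Finset.sum_congr rfl (fun t _ => ?_)
    rw [hkey x A t]
    rfl
  -- some `Jm (E_ij)` is non-zero
  have hex : ∃ i j, Jm (Matrix.single i j (1 : F)) ≠ 0 := by
    by_contra hcon
    push Not at hcon
    have hS0 : ∀ t, S t = 0 := by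
      intro t
      ext j l
      have hsum : ∑ t : SymC.Q N, S t j l • R t = 0 := by
        ext k i
        have := congrFun (congrFun (hcon i j) k) l
        simp only [Jm, Matrix.sum_apply, Matrix.zero_apply] at this
        rw [Matrix.sum_apply, Matrix.zero_apply]
        rw [← this]
        refine Finset.sum_congr rfl (fun t _ => ?_)
        rw [Matrix.smul_apply, smul_eq_mul, Matrix.mul_apply]
        rw [Finset.sum_eq_single j]
        · rw [Matrix.mul_apply, Finset.sum_eq_single i]
          · rw [Matrix.single_apply_same, mul_one, mul_comm]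
          · intro b _ hb
            rw [Matrix.single_apply_of_row_ne hb.symm, mul_zero]
          · intro hi; exact absurd (Finset.mem_univ i) hi
        · intro b _ hb
          have : (R t * Matrix.single i j (1 : F)) k b = 0 := by
            rw [Matrix.mul_apply]
            refine Finset.sum_eq_zero (fun a _ => ?_)
            rw [Matrix.single_apply_of_col_ne _ _ hb.symm, mul_zero]
          rw [this, zero_mul]
        · intro hj; exact absurd (Finset.mem_univ j) hj
      have := (Fintype.linearIndependent_iff.1 h.linearIndependent_repMat) (fun t => S t j l) hsum t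
      rw [Matrix.zero_apply]
      exact this
    have h1 : S 1 * ((ρ (SymC.rep (1 : SymC.Q N)) : GL (Fin n) F) : Matrix (Fin n) (Fin n) F) = 1 := by
      show (((ρ (SymC.rep 1))⁻¹ : GL (Fin n) F) : Matrix (Fin n) (Fin n) F) * _ = 1
      rw [← Units.val_mul, inv_mul_cancel, Units.val_one]
    rw [hS0 1, zero_mul] at h1
    exact zero_ne_one h1
  obtain ⟨i, j, hij⟩ := hex
  have hunit := isUnit_of_intertwine h.abs.1 ρ _ hij (fun x => hint x _)
  refine ⟨hunit.unit, fun x => ?_⟩
  apply Units.ext
  rw [Units.val_mul, Units.val_mul, IsUnit.unit_spec]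
  exact hint x _

end Cfsg.Agent.Helper9.AschC6
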