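import Mathlib
import Cfsg.Prelude.Def_GeometricClasses
import Cfsg.Agent.Lead.AschBase
import Cfsg.Agent.Lead.AschSymA
import Cfsg.Agent.Lead.AschSymE
import Cfsg.Agent.Helper6.AschCompSym
import Cfsg.Agent.Helper9.AschC6Base

/-!
# ASCH-PP piece G1 (helper9), part A: the group theory of a minimal non-scalar normalized subgroup `N` with `⁅N,N⁆ ≤ Z`

`powPart m = {x ∈ N | x ^ m ∈ Z}`, `torPart r = {x ∈ N | ∃ k, x ^ (r ^ k) = 1}`, `kerPart m = {x ∈ N | x ^ m = 1}`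
are subgroups normalized by `H` (the last one when `r ∣ m.choose 2` and commutators have order dividing `r`).
-/

set_option autoImplicit false
set_option linter.unusedVariables false

namespace Cfsg.Agent.Helper9.AschC6

open Cfsg Cfsg.Geo Cfsg.Agent.Lead.Asch Cfsg.Agent.Helper6.AschComp
open scoped MatrixGroups Matrix commutatorElement

variable {n : ℕ} {F : Type*} [Field F]

theorem dvd_choose_two_of_sq_dvd {r m : ℕ} (hr : r.Prime) (h : r * r ∣ m) : r ∣ m.choose 2 := by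
  obtain ⟨t, rfl⟩ := h
  have h2 : (r * r * t).choose 2 * 2 = r * r * t * (r * r * t - 1) := by
    rw [Nat.choose_two_right]
    exact Nat.div_mul_cancel (Nat.even_mul_pred_self _).two_dvd
  by_cases hr2 : r = 2
  · subst hr2
    have : (2 * 2 * t).choose 2 = 2 * (t * (2 * 2 * t - 1)) := by
      have h3 : (2 * 2 * t).choose 2 * 2 = (2 * (t * (2 * 2 * t - 1))) * 2 := by rw [h2]; ring
      exact Nat.eq_of_mul_eq_mul_right (by norm_num) h3
    rw [this]
    exact dvd_mul_right _ _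
  · have h3 : r ∣ (r * r * t).choose 2 * 2 := by
      rw [h2, mul_assoc, mul_assoc]
      exact dvd_mul_right _ _
    rcases (Nat.Prime.dvd_mul hr).1 h3 with h4 | h4
    · exact h4
    · exact absurd ((Nat.prime_dvd_prime_iff_eq hr Nat.prime_two).1 h4) hr2

theorem dvd_choose_two_exp {r : ℕ} (hr : r.Prime) : r ∣ (r * Nat.gcd 2 r).choose 2 := by
  by_cases hr2 : r = 2
  · subst hr2
    decide
  · have hg : Nat.gcd 2 r = 1 := (Nat.coprime_primes Nat.prime_two hr).2 (Ne.symm hr2)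
    rw [hg, mul_one]
    apply hr.dvd_choose_self (by norm_num)
    have := hr.two_le
    omega

namespace C6Hyp

variable {H N : Subgroup (GL (Fin n) F)}

theorem comm_mem (h : C6Hyp n F H N) {x y : GL (Fin n) F} (hx : x ∈ N) (hy : y ∈ N) :
    ⁅x, y⁆ ∈ scalars (Fin n) F :=
  h.comm (Subgroup.commutator_mem_commutator hx hy)

theorem mul_pow' (h : C6Hyp n F H N) {x y : GL (Fin n) F} (hx : x ∈ N) (hy : y ∈ N) (m : ℕ) :
    (x * y) ^ m = x ^ m * y ^ m * ⁅y, x⁆ ^ (m.choose 2) := by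
  have hc : ⁅y, x⁆ ∈ scalars (Fin n) F := h.comm_mem hy hx
  exact mul_pow_of_comm (commute_of_mem_scalars hc x) (commute_of_mem_scalars hc y)
    (by simp [commutatorElement_def]) m

/-- the elements of `N` whose `m`-th power is scalar -/
def powPart (h : C6Hyp n F H N) (m : ℕ) : Subgroup (GL (Fin n) F) where
  carrier := {x | x ∈ N ∧ x ^ m ∈ scalars (Fin n) F}
  one_mem' := ⟨N.one_mem, by simp⟩
  mul_mem' := by
    rintro a b ⟨ha, hka⟩ ⟨hb, hkb⟩
    refine ⟨N.mul_mem ha hb, ?_⟩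
    rw [h.mul_pow' ha hb m]
    exact mul_mem (mul_mem hka hkb) (pow_mem (h.comm_mem hb ha) _)
  inv_mem' := by
    rintro a ⟨ha, hk⟩
    exact ⟨N.inv_mem ha, by rw [inv_pow]; exact inv_mem hk⟩

theorem powPart_le (h : C6Hyp n F H N) (m : ℕ) : h.powPart m ≤ N := fun _ hx => hx.1

theorem powPart_nzes (h : C6Hyp n F H N) (m : ℕ) : Nzes H (h.powPart m) := by
  rintro g hg x ⟨hx, hk⟩
  refine ⟨h.nzes g hg x hx, ?_⟩
  rw [conj_pow]
  exact (scalars_normal (ι := Fin n) (F := F)).conj_mem _ hk g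

/-- the elements of `N` of `r`-power order, given that commutators have order dividing `r` -/
def torPart (h : C6Hyp n F H N) {r : ℕ} (hr : r.Prime)
    (hcr : ∀ x ∈ N, ∀ y ∈ N, ⁅x, y⁆ ^ r = 1) : Subgroup (GL (Fin n) F) where
  carrier := {x | x ∈ N ∧ ∃ k : ℕ, x ^ (r ^ k) = 1}
  one_mem' := ⟨N.one_mem, 0, by simp⟩
  mul_mem' := by
    rintro a b ⟨ha, ka, hka⟩ ⟨hb, kb, hkb⟩
    refine ⟨N.mul_mem ha hb, ka + kb + 2, ?_⟩
    rw [h.mul_pow' ha hb]
    have h1 : a ^ r ^ (ka + kb + 2) = 1 := by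
      rw [show ka + kb + 2 = ka + (kb + 2) by ring, pow_add, pow_mul, hka, one_pow]
    have h2 : b ^ r ^ (ka + kb + 2) = 1 := by
      rw [show ka + kb + 2 = kb + (ka + 2) by ring, pow_add, pow_mul, hkb, one_pow]
    have h3 : r ∣ (r ^ (ka + kb + 2)).choose 2 := by
      apply dvd_choose_two_of_sq_dvd hr
      rw [pow_add, ← pow_two]
      exact dvd_mul_left _ _
    obtain ⟨j, hj⟩ := h3
    rw [h1, h2, hj, pow_mul, hcr b hb a ha, one_pow, one_mul, one_mul]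
  inv_mem' := by
    rintro a ⟨ha, k, hk⟩
    exact ⟨N.inv_mem ha, k, by rw [inv_pow, hk, inv_one]⟩

theorem torPart_le (h : C6Hyp n F H N) {r : ℕ} (hr : r.Prime)
    (hcr : ∀ x ∈ N, ∀ y ∈ N, ⁅x, y⁆ ^ r = 1) : h.torPart hr hcr ≤ N := fun _ hx => hx.1

theorem torPart_nzes (h : C6Hyp n F H N) {r : ℕ} (hr : r.Prime)
    (hcr : ∀ x ∈ N, ∀ y ∈ N, ⁅x, y⁆ ^ r = 1) : Nzes H (h.torPart hr hcr) := by
  rintro g hg x ⟨hx, k, hk⟩
  refine ⟨h.nzes g hg x hx, k, ?_⟩
  rw [conj_pow, hk]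
  group

/-- the kernel of the `m`-th power map, when it is a homomorphism -/
def kerPart (h : C6Hyp n F H N) {r m : ℕ} (hrm : r ∣ m.choose 2)
    (hcr : ∀ x ∈ N, ∀ y ∈ N, ⁅x, y⁆ ^ r = 1) : Subgroup (GL (Fin n) F) where
  carrier := {x | x ∈ N ∧ x ^ m = 1}
  one_mem' := ⟨N.one_mem, by simp⟩
  mul_mem' := by
    rintro a b ⟨ha, hka⟩ ⟨hb, hkb⟩
    refine ⟨N.mul_mem ha hb, ?_⟩
    obtain ⟨j, hj⟩ := hrm
    rw [h.mul_pow' ha hb, hka, hkb, hj, pow_mul, hcr b hb a ha, one_pow, one_mul, one_mul]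
  inv_mem' := by
    rintro a ⟨ha, hk⟩
    exact ⟨N.inv_mem ha, by rw [inv_pow, hk, inv_one]⟩

theorem kerPart_le (h : C6Hyp n F H N) {r m : ℕ} (hrm : r ∣ m.choose 2)
    (hcr : ∀ x ∈ N, ∀ y ∈ N, ⁅x, y⁆ ^ r = 1) : h.kerPart hrm hcr ≤ N := fun _ hx => hx.1

theorem kerPart_nzes (h : C6Hyp n F H N) {r m : ℕ} (hrm : r ∣ m.choose 2)
    (hcr : ∀ x ∈ N, ∀ y ∈ N, ⁅x, y⁆ ^ r = 1) : Nzes H (h.kerPart hrm hcr) := by
  rintro g hg x ⟨hx, hk⟩
  refine ⟨h.nzes g hg x hx, ?_⟩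
  rw [conj_pow, hk]
  group

/-- `N` is not commutative -/
theorem not_comm (h : C6Hyp n F H N) (hn : 0 < n) : ¬ ∀ a ∈ N, ∀ b ∈ N, a * b = b * a := by
  intro hab
  apply h.ns
  intro x hx
  have hS : SymC n F N := ⟨hn, h.abs, h.comm⟩
  exact hS.scalar_of_central (fun y hy => hab x hx y hy)

/-- the power map as a homomorphism -/
def powHom (h : C6Hyp n F H N) {r m : ℕ} (hrm : r ∣ m.choose 2)
    (hcr : ∀ x ∈ N, ∀ y ∈ N, ⁅x, y⁆ ^ r = 1) : N →* N where
  toFun x := ⟨(x : GL (Fin n) F) ^ m, N.pow_mem x.2 m⟩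
  map_one' := by ext; simp
  map_mul' x y := by
    apply Subtype.ext
    obtain ⟨j, hj⟩ := hrm
    show ((x : GL (Fin n) F) * y) ^ m = (x : GL (Fin n) F) ^ m * (y : GL (Fin n) F) ^ m
    rw [h.mul_pow' x.2 y.2, hj, pow_mul, hcr y y.2 x x.2, one_pow, mul_one]

/-- if all `m`-th powers are scalar and the kernel of the `m`-th power map is scalar, `N` is commutative -/
theorem comm_of_kerPart_le [Fintype F] (h : C6Hyp n F H N) {r m : ℕ} (hrm : r ∣ m.choose 2)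
    (hcr : ∀ x ∈ N, ∀ y ∈ N, ⁅x, y⁆ ^ r = 1) (hpow : ∀ x ∈ N, x ^ m ∈ scalars (Fin n) F)
    (hker : h.kerPart hrm hcr ≤ scalars (Fin n) F) : ∀ a ∈ N, ∀ b ∈ N, a * b = b * a := by
  classical
  set φ := h.powHom hrm hcr with hφ
  haveI := isCyclic_scalars (n := n) (F := F)
  let f : φ.range →* scalars (Fin n) F :=
    { toFun := fun a => ⟨((a : N) : GL (Fin n) F), by
        obtain ⟨x, hx⟩ := a.2
        rw [← hx]
        exact hpow x x.2⟩
      map_one' := rfl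
      map_mul' := fun _ _ => rfl }
  have hf : Function.Injective f := by
    intro a b hab
    apply Subtype.ext
    apply Subtype.ext
    exact congrArg (fun z : scalars (Fin n) F => (z : GL (Fin n) F)) hab
  haveI : IsCyclic φ.range := isCyclic_of_injective f hf
  obtain ⟨g₀, hg₀⟩ := IsCyclic.exists_generator (α := φ.range)
  obtain ⟨g, hg⟩ := g₀.2
  -- every element is a scalar times a power of `g`
  have hdec : ∀ x : N, ∃ j : ℤ, ((x * (g ^ j)⁻¹ : N) : GL (Fin n) F) ∈ scalars (Fin n) F := by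
    intro x
    obtain ⟨j, hj⟩ := Subgroup.mem_zpowers_iff.1 (hg₀ ⟨φ x, x, rfl⟩)
    refine ⟨j, hker ⟨(x * (g ^ j)⁻¹ : N).2, ?_⟩⟩
    have h1 : φ (x * (g ^ j)⁻¹) = 1 := by
      rw [map_mul, map_inv, map_zpow, hg]
      have h2 : (g₀ : N) ^ j = φ x := by
        have := congrArg Subtype.val hj
        simpa using this
      rw [h2, mul_inv_cancel]
    exact congrArg Subtype.val h1
  intro a ha b hb
  obtain ⟨j, hj⟩ := hdec ⟨a, ha⟩
  obtain ⟨l, hl⟩ := hdec ⟨b, hb⟩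
  set z₁ : N := ⟨a, ha⟩ * (g ^ j)⁻¹ with hz₁
  set z₂ : N := ⟨b, hb⟩ * (g ^ l)⁻¹ with hz₂
  have ea : (⟨a, ha⟩ : N) = z₁ * g ^ j := by rw [hz₁]; group
  have eb : (⟨b, hb⟩ : N) = z₂ * g ^ l := by rw [hz₂]; group
  have c1 : ∀ y : N, Commute z₁ y := fun y => by
    apply Subtype.ext
    exact (commute_of_mem_scalars hj y).eq
  have c2 : ∀ y : N, Commute z₂ y := fun y => by
    apply Subtype.ext
    exact (commute_of_mem_scalars hl y).eq
  have c3 : Commute (g ^ j) (g ^ l) := (Commute.refl g).zpow_zpow j l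
  have hcom : Commute (z₁ * g ^ j) (z₂ * g ^ l) := by
    apply Commute.mul_left
    · exact c1 _
    · apply Commute.mul_right
      · exact (c2 _).symm
      · exact c3
  have := hcom.eq
  rw [← ea, ← eb] at this
  exact congrArg Subtype.val this

end C6Hyp

end Cfsg.Agent.Helper9.AschC6
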