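import Mathlib
import Cfsg.Prelude.Def_GeometricClasses
import Cfsg.Agent.Lead.AschBase
import Cfsg.Agent.Lead.AschSymA
import Cfsg.Agent.Lead.AschSymE
import Cfsg.Agent.Helper6.AschCompSym
import Cfsg.Agent.Helper9.AschC6Base
import Cfsg.Agent.Helper9.AschC6StrA

/-!
# ASCH-PP piece G1 (helper9), part B: `c6_structure`

A minimal non-scalar normalized absolutely irreducible subgroup `N ≤ GL_n(F)` (`F` finite) with scalar commutator
subgroup is an `r`-group of symplectic type: `n = r ^ a`, `|N| = z r ^ (2a)`, exponent `r · gcd(2, r)`, centre the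
scalars of `N`, cyclic of order `z ∈ {r}` (`r` odd) or `{2, 4}` (`r = 2`).
-/

set_option autoImplicit false
set_option linter.unusedVariables false

namespace Cfsg.Agent.Helper9.AschC6

open Cfsg Cfsg.Geo Cfsg.Agent.Lead.Asch Cfsg.Agent.Helper6.AschComp
open scoped MatrixGroups Matrix commutatorElement

variable {n : ℕ} {F : Type*} [Field F]

namespace C6Hyp

variable {H N : Subgroup (GL (Fin n) F)}

/-- conjugation by an element of `H` as an automorphism of `N` -/
def conjEquiv (h : C6Hyp n F H N) {g : GL (Fin n) F} (hg : g ∈ H) : N ≃* N where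
  toFun x := ⟨g * x * g⁻¹, h.nzes g hg x x.2⟩
  invFun x := ⟨g⁻¹ * x * g, by simpa using h.nzes g⁻¹ (H.inv_mem hg) x x.2⟩
  left_inv x := by
    apply Subtype.ext
    simp [mul_assoc]
  right_inv x := by
    apply Subtype.ext
    simp [mul_assoc]
  map_mul' x y := by
    apply Subtype.ext
    simp [mul_assoc]

theorem cyclic_of_characteristic [Fintype F] (h : C6Hyp n F H N) (hn : 0 < n) (A : Subgroup N)
    (hA : A.Characteristic) (hc : IsMulCommutative A) : IsCyclic A := by
  have hA' : Nzes H (A.map N.subtype) := by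
    rintro g hg _ ⟨a, ha, rfl⟩
    have hfix := (Subgroup.characteristic_iff_map_eq.1 hA) (h.conjEquiv hg)
    have hmem : (h.conjEquiv hg) a ∈ A := by
      rw [← hfix]
      exact Subgroup.mem_map_of_mem _ ha
    exact ⟨_, hmem, rfl⟩
  have hle : A.map N.subtype ≤ N := by
    rintro _ ⟨a, -, rfl⟩
    exact a.2
  have hsc : A.map N.subtype ≤ scalars (Fin n) F := by
    by_contra hns
    have hAN := h.min _ hle hA' hns
    apply h.not_comm hn
    intro a ha b hb
    have ha' : (⟨a, ha⟩ : N) ∈ A := by
      have : a ∈ A.map N.subtype := by rw [hAN]; exact ha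
      obtain ⟨a', ha', haa⟩ := this
      have : a' = ⟨a, ha⟩ := Subtype.ext haa
      rwa [← this]
    have hb' : (⟨b, hb⟩ : N) ∈ A := by
      have : b ∈ A.map N.subtype := by rw [hAN]; exact hb
      obtain ⟨b', hb', hbb⟩ := this
      have : b' = ⟨b, hb⟩ := Subtype.ext hbb
      rwa [← this]
    have := hc.is_comm.comm (⟨⟨a, ha⟩, ha'⟩ : A) ⟨⟨b, hb⟩, hb'⟩
    exact congrArg (fun z : A => ((z : N) : GL (Fin n) F)) this
  haveI := isCyclic_scalars (n := n) (F := F)
  let f : A →* scalars (Fin n) F :=
    { toFun := fun a => ⟨((a : N) : GL (Fin n) F), hsc ⟨a, a.2, rfl⟩⟩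
      map_one' := rfl
      map_mul' := fun _ _ => rfl }
  have hf : Function.Injective f := by
    intro a b hab
    apply Subtype.ext
    apply Subtype.ext
    exact congrArg (fun z : scalars (Fin n) F => (z : GL (Fin n) F)) hab
  exact isCyclic_of_injective f hf

end C6Hyp

/-- **G1**: the structure of `N` -/
theorem c6_structure [Fintype F] (hn : 2 ≤ n) {H N : Subgroup (GL (Fin n) F)} (h : C6Hyp n F H N) :
    ∃ r a z : ℕ, C6Str n F N r a z := by
  classical
  have hn0 : 0 < n := by omega
  haveI : NeZero n := ⟨by omega⟩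
  haveI : Finite (GL (Fin n) F) := inferInstance
  have hS : SymC n F N := ⟨hn0, h.abs, h.comm⟩
  obtain ⟨r, a, hr, hna⟩ := symplectic_type_prime_pow hn h.le h.nzes h.ns h.abs h.min h.comm
  haveI : Fact r.Prime := ⟨hr⟩
  have ha : 1 ≤ a := by
    by_contra hcon
    have h0 : a = 0 := by omega
    rw [h0, pow_zero] at hna
    omega
  have hcardQ : Nat.card (SymC.Q N) = r ^ (2 * a) := by
    rw [hS.card_Q, hna]; ring
  -- Step 2: `x ^ r` is scalar
  have hPns : ¬ h.powPart r ≤ scalars (Fin n) F := by
    have hrQ : r ∣ Nat.card (SymC.Q N) := by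
      rw [hcardQ]; exact dvd_pow_self r (by omega)
    obtain ⟨q, hq⟩ := exists_prime_orderOf_dvd_card' r hrQ
    intro hle
    have hx : ((SymC.rep q : N) : GL (Fin n) F) ∈ h.powPart r := by
      refine ⟨(SymC.rep q).2, ?_⟩
      have h1 : (QuotientGroup.mk ((SymC.rep q) ^ r) : SymC.Q N) = 1 := by
        rw [QuotientGroup.mk_pow, SymC.mk_rep, ← hq, pow_orderOf_eq_one]
      rw [QuotientGroup.eq_one_iff, Subgroup.mem_subgroupOf] at h1
      simpa using h1
    have h2 := hle hx
    have h3 : q = 1 := by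
      rw [← SymC.mk_rep q, QuotientGroup.eq_one_iff, Subgroup.mem_subgroupOf]
      exact h2
    rw [h3, orderOf_one] at hq
    exact hr.one_lt.ne hq
  have hPN : h.powPart r = N := h.min _ (h.powPart_le r) (h.powPart_nzes r) hPns
  have hxr : ∀ x ∈ N, x ^ r ∈ scalars (Fin n) F := fun x hx => by
    have : x ∈ h.powPart r := by rw [hPN]; exact hx
    exact this.2
  -- Step 3: commutators have order dividing `r`
  have hcr : ∀ x ∈ N, ∀ y ∈ N, ⁅x, y⁆ ^ r = 1 := by
    intro x hx y hy
    have hc := h.comm_mem hx hy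
    have h1 : x * y * x⁻¹ = ⁅x, y⁆ * y := by rw [commutatorElement_def]; group
    have h2 : (x * y * x⁻¹) ^ r = y ^ r := by
      rw [conj_pow]
      have := commute_of_mem_scalars (hxr y hy) x
      rw [← this.eq, mul_inv_cancel_right]
    rw [h1, (commute_of_mem_scalars hc y).mul_pow] at h2
    exact mul_right_cancel (b := y ^ r) (by rw [h2, one_mul])
  -- Step 4: `N` is an `r`-group
  have hTns : ¬ h.torPart hr hcr ≤ scalars (Fin n) F := by
    intro hle
    obtain ⟨x, hxN, hxZ⟩ := SetLike.not_le_iff_exists.1 h.ns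
    have hfin : orderOf x ≠ 0 := (orderOf_pos x).ne'
    obtain ⟨k, s, hs, ho⟩ := Nat.exists_eq_pow_mul_and_not_dvd hfin r hr.ne_one
    have hy : x ^ s ∈ h.torPart hr hcr :=
      ⟨N.pow_mem hxN s, k, by rw [← pow_mul, mul_comm, ← ho, pow_orderOf_eq_one]⟩
    have hyZ := hle hy
    apply hxZ
    set q : SymC.Q N := QuotientGroup.mk (⟨x, hxN⟩ : N) with hq
    have h1 : q ^ r = 1 := by
      rw [hq, ← QuotientGroup.mk_pow, QuotientGroup.eq_one_iff, Subgroup.mem_subgroupOf]
      exact hxr x hxN
    have h2 : q ^ s = 1 := by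
      rw [hq, ← QuotientGroup.mk_pow, QuotientGroup.eq_one_iff, Subgroup.mem_subgroupOf]
      exact hyZ
    have h3 : orderOf q ∣ Nat.gcd r s :=
      Nat.dvd_gcd (orderOf_dvd_of_pow_eq_one h1) (orderOf_dvd_of_pow_eq_one h2)
    have h4 : Nat.gcd r s = 1 := (Nat.Prime.coprime_iff_not_dvd hr).2 hs
    rw [h4, Nat.dvd_one, orderOf_eq_one_iff] at h3
    have h5 := (QuotientGroup.eq_one_iff _).1 h3
    rw [Subgroup.mem_subgroupOf] at h5
    exact h5
  have hTN : h.torPart hr hcr = N := h.min _ (h.torPart_le hr hcr) (h.torPart_nzes hr hcr) hTns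
  have hpg : IsPGroup r N := by
    intro x
    have : (x : GL (Fin n) F) ∈ h.torPart hr hcr := by rw [hTN]; exact x.2
    obtain ⟨-, k, hk⟩ := this
    exact ⟨k, Subtype.ext (by simpa using hk)⟩
  -- Step 5: the exponent
  set E := r * Nat.gcd 2 r with hE
  have hrE : r ∣ E.choose 2 := dvd_choose_two_exp hr
  have hpowE : ∀ x ∈ N, x ^ E ∈ scalars (Fin n) F := fun x hx => by
    rw [hE, pow_mul]; exact pow_mem (hxr x hx) _
  have hKns : ¬ h.kerPart hrE hcr ≤ scalars (Fin n) F := fun hle =>
    h.not_comm hn0 (h.comm_of_kerPart_le hrE hcr hpowE hle)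
  have hKN : h.kerPart hrE hcr = N := h.min _ (h.kerPart_le _ _) (h.kerPart_nzes _ _) hKns
  have hxE : ∀ x ∈ N, x ^ E = 1 := fun x hx => by
    have : x ∈ h.kerPart hrE hcr := by rw [hKN]; exact hx
    exact this.2
  have hexp_dvd : Monoid.exponent N ∣ E :=
    Monoid.exponent_dvd_of_forall_pow_eq_one (fun x => Subtype.ext (by simpa using hxE x x.2))
  have hexp1 : Monoid.exponent N ≠ 1 := by
    intro hek
    apply h.not_comm hn0
    intro a ha b hb
    have : (⟨a, ha⟩ : N) = 1 := by
      have := Monoid.pow_exponent_eq_one (⟨a, ha⟩ : N)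
      rwa [hek, pow_one] at this
    have ha1 : a = 1 := congrArg Subtype.val this
    rw [ha1, one_mul, mul_one]
  have hexp : Monoid.exponent N = E := by
    by_cases hr2 : r = 2
    · have hE4 : E = 2 ^ 2 := by rw [hE, hr2]; norm_num
      rw [hE4] at hexp_dvd ⊢
      obtain ⟨k, hk, hek⟩ := (Nat.dvd_prime_pow Nat.prime_two).1 hexp_dvd
      interval_cases k
      · exact absurd (by rw [hek]; norm_num) hexp1
      · exfalso
        apply h.not_comm hn0
        intro a ha b hb
        have := mul_comm_of_exponent_two (G := N) (by rw [hek]; norm_num) ⟨a, ha⟩ ⟨b, hb⟩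
        exact congrArg Subtype.val this
      · exact hek
    · have hg : Nat.gcd 2 r = 1 := (Nat.coprime_primes Nat.prime_two hr).2 (Ne.symm hr2)
      have hEr : E = r := by rw [hE, hg, mul_one]
      rw [hEr] at hexp_dvd ⊢
      rcases (Nat.dvd_prime hr).1 hexp_dvd with h1 | h1
      · exact absurd h1 hexp1
      · exact h1
  -- Step 6: the centre
  have hcenter : ∀ x : N, x ∈ Subgroup.center N ↔ (x : GL (Fin n) F) ∈ scalars (Fin n) F := by
    intro x
    constructor
    · intro hx
      apply hS.scalar_of_central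
      intro y hy
      have := (Subgroup.mem_center_iff.1 hx) ⟨y, hy⟩
      exact (congrArg Subtype.val this).symm
    · intro hx
      rw [Subgroup.mem_center_iff]
      intro y
      apply Subtype.ext
      exact ((commute_of_mem_scalars hx (y : GL (Fin n) F)).eq).symm
  have hceq : Subgroup.center N = (scalars (Fin n) F).subgroupOf N := by
    ext x
    rw [hcenter x, Subgroup.mem_subgroupOf]
  haveI := isCyclic_scalars (n := n) (F := F)
  let f : Subgroup.center N →* scalars (Fin n) F :=
    { toFun := fun a => ⟨((a : N) : GL (Fin n) F), (hcenter a).1 a.2⟩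
      map_one' := rfl
      map_mul' := fun _ _ => rfl }
  have hf : Function.Injective f := by
    intro a b hab
    apply Subtype.ext
    apply Subtype.ext
    exact congrArg (fun z : scalars (Fin n) F => (z : GL (Fin n) F)) hab
  haveI hcyc : IsCyclic (Subgroup.center N) := isCyclic_of_injective f hf
  set z := Nat.card (Subgroup.center N) with hz
  have hzE : z ∣ E := by
    rw [hz, ← IsCyclic.exponent_eq_card]
    apply Monoid.exponent_dvd_of_forall_pow_eq_one
    intro x
    apply Subtype.ext
    apply Subtype.ext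
    simpa using hxE _ (x : N).2
  have hz1 : z ≠ 1 := by
    intro hz1
    have hbot : Subgroup.center N = ⊥ := Subgroup.card_eq_one.1 (hz ▸ hz1)
    apply h.not_comm hn0
    intro a ha b hb
    have hc := h.comm_mem ha hb
    have hcN : ⁅a, b⁆ ∈ N := by
      rw [commutatorElement_def]
      exact N.mul_mem (N.mul_mem (N.mul_mem ha hb) (N.inv_mem ha)) (N.inv_mem hb)
    have hmem : (⟨⁅a, b⁆, hcN⟩ : N) ∈ Subgroup.center N := (hcenter _).2 hc
    rw [hbot, Subgroup.mem_bot] at hmem
    have h1 : ⁅a, b⁆ = 1 := congrArg Subtype.val hmem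
    exact commutatorElement_eq_one_iff_mul_comm.1 h1
  have hzcases : (r ≠ 2 ∧ z = r) ∨ (r = 2 ∧ z = 2) ∨ (r = 2 ∧ z = 4) := by
    by_cases hr2 : r = 2
    · right
      have hE4 : E = 2 ^ 2 := by rw [hE, hr2]; norm_num
      rw [hE4] at hzE
      obtain ⟨k, hk, hek⟩ := (Nat.dvd_prime_pow Nat.prime_two).1 hzE
      interval_cases k
      · exact absurd (by rw [hek]; norm_num) hz1
      · left; exact ⟨hr2, by rw [hek]; norm_num⟩
      · right; exact ⟨hr2, by rw [hek]; norm_num⟩
    · left
      have hg : Nat.gcd 2 r = 1 := (Nat.coprime_primes Nat.prime_two hr).2 (Ne.symm hr2)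
      have hEr : E = r := by rw [hE, hg, mul_one]
      rw [hEr] at hzE
      rcases (Nat.dvd_prime hr).1 hzE with h1 | h1
      · exact absurd h1 hz1
      · exact ⟨hr2, h1⟩
  have hcardN : Nat.card N = z * r ^ (2 * a) := by
    have h1 := Subgroup.card_eq_card_quotient_mul_card_subgroup ((scalars (Fin n) F).subgroupOf N)
    have h2 : Nat.card ((scalars (Fin n) F).subgroupOf N) = z := by rw [hz, hceq]
    have h3 : Nat.card (N ⧸ (scalars (Fin n) F).subgroupOf N) = r ^ (2 * a) := hcardQ
    rw [h1, h2, h3, mul_comm]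
  have hzdvd : z ∣ Fintype.card F - 1 := by
    have h1 : z ∣ Nat.card (scalars (Fin n) F) := Subgroup.card_dvd_of_injective f hf
    have h2 : Nat.card (scalars (Fin n) F) = Nat.card Fˣ := by
      rw [scalars_eq_range]
      exact Nat.card_range_of_injective sc_injective
    rw [h2, Nat.card_units, Nat.card_eq_fintype_card] at h1
    exact h1
  have hspow : ∀ c : Fˣ, sc n F c ∈ N → c ^ z = 1 := by
    intro c hc
    have hmem : (⟨sc n F c, hc⟩ : N) ∈ Subgroup.center N := (hcenter _).2 (sc_mem c)
    have h1 : (⟨⟨sc n F c, hc⟩, hmem⟩ : Subgroup.center N) ^ z = 1 := by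
      rw [hz]; exact pow_card_eq_one'
    have h2 : (sc n F c) ^ z = 1 := by
      have := congrArg (fun w : Subgroup.center N => ((w : N) : GL (Fin n) F)) h1
      simpa using this
    apply sc_injective (n := n) (F := F)
    rw [map_pow, h2, map_one]
  exact ⟨r, a, z,
    { prime := hr
      pos := ha
      dim := hna
      pgroup := hpg
      cyc := fun A hA hc => h.cyclic_of_characteristic hn0 A hA hc
      exponent := hexp
      card_center := hz.symm
      card := hcardN
      z_cases := hzcases
      z_dvd := hzdvd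
      scalar_pow := hspow }⟩

end Cfsg.Agent.Helper9.AschC6
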