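import Mathlib

/-!
# S0508 (Brauer–Suzuki–Wall, dihedral Sylow 2), PART 1, pieces I1 `dih_outside`, I2 `dih_exists`:
cyclic subgroups of index two in dihedral groups (architect of Part 1: helper1).
-/

set_option autoImplicit false

namespace Cfsg.Agent.Helper1.Bsd

open DihedralGroup

/-- In `DihedralGroup 2` everything commutes and squares to one. -/
theorem h9_dih2_conj (x z : DihedralGroup 2) : x * z * x⁻¹ = z⁻¹ := by
  revert x z; decide

theorem h9_dih2_sq (x : DihedralGroup 2) : x * x = 1 := by
  revert x; decide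

/-- For `n ≥ 3`, a cyclic subgroup of index two of `DihedralGroup n` is the rotation subgroup:
membership criterion. -/
theorem h9_dih_cyclic_index_two_mem (n : ℕ) (hn : 3 ≤ n) (Z : Subgroup (DihedralGroup n))
    (hZc : IsCyclic ↥Z) (hZi : Z.index = 2) (x : DihedralGroup n) :
    x ∈ Z ↔ ∃ k : ZMod n, x = r k := by
  have : NeZero n := ⟨by omega⟩
  have hcardG : Nat.card (DihedralGroup n) = 2 * n := DihedralGroup.nat_card
  have hcardZ : Nat.card ↥Z = n := by
    have h := Z.card_mul_index
    rw [hZi, hcardG] at h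
    omega
  -- a generator of `Z`
  obtain ⟨g, hg⟩ := IsCyclic.exists_generator (α := ↥Z)
  have hog : orderOf g = n := by
    rw [orderOf_eq_card_of_forall_mem_zpowers hg, hcardZ]
  have hog' : orderOf (g : DihedralGroup n) = n := by
    rw [Subgroup.orderOf_coe, hog]
  -- `g` is a rotation
  obtain ⟨i, hi⟩ : ∃ i : ZMod n, (g : DihedralGroup n) = r i := by
    rcases hgv : (g : DihedralGroup n) with i | j
    · exact ⟨i, rfl⟩
    · exfalso
      rw [hgv, orderOf_sr] at hog'
      omega
  -- `Z ≤ rotations`
  have hZle : ∀ y ∈ Z, ∃ k : ZMod n, y = r k := by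
    intro y hy
    obtain ⟨m, hm⟩ := Subgroup.mem_zpowers_iff.mp (hg ⟨y, hy⟩)
    have : y = (g : DihedralGroup n) ^ m := by
      have := congrArg Subtype.val hm
      simpa using this.symm
    rw [this, hi, r_zpow]
    exact ⟨_, rfl⟩
  constructor
  · exact hZle x
  · rintro ⟨k, rfl⟩
    -- the rotation subgroup has `n` elements, and contains `Z`
    let R : Subgroup (DihedralGroup n) := Subgroup.zpowers (r 1)
    have hRcard : Nat.card ↥R = n := by
      rw [Nat.card_zpowers, orderOf_r_one]
    have hZR : Z ≤ R := by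
      intro y hy
      obtain ⟨k, rfl⟩ := hZle y hy
      refine Subgroup.mem_zpowers_iff.mpr ⟨(ZMod.val k : ℤ), ?_⟩
      rw [zpow_natCast, r_one_pow]
      simp
    have hEq : Z = R := by
      apply Subgroup.eq_of_le_of_card_ge hZR
      rw [hRcard, hcardZ]
    rw [hEq]
    refine Subgroup.mem_zpowers_iff.mpr ⟨(ZMod.val k : ℤ), ?_⟩
    rw [zpow_natCast, r_one_pow]
    simp

/-- I1: outside a cyclic subgroup of index 2 of a dihedral group everything is an involution
inverting it. -/
theorem dih_outside (n : ℕ) (hn : 2 ≤ n) (Z : Subgroup (DihedralGroup n)) (hZ : IsCyclic ↥Z)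
    (hi : Z.index = 2) (x : DihedralGroup n) (hx : x ∉ Z) :
    x * x = 1 ∧ ∀ z ∈ Z, x * z * x⁻¹ = z⁻¹ := by
  rcases Nat.lt_or_ge n 3 with h3 | h3
  · have h2 : n = 2 := by omega
    subst h2
    exact ⟨h9_dih2_sq x, fun z _ => h9_dih2_conj x z⟩
  · have hmem := h9_dih_cyclic_index_two_mem n h3 Z hZ hi
    -- `x` is a reflection
    obtain ⟨j, rfl⟩ : ∃ j : ZMod n, x = sr j := by
      rcases x with i | j
      · exact absurd ((hmem (r i)).mpr ⟨i, rfl⟩) hx
      · exact ⟨j, rfl⟩
    refine ⟨sr_mul_self j, ?_⟩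
    intro z hz
    obtain ⟨k, rfl⟩ := (hmem z).mp hz
    rw [inv_sr, sr_mul_r, sr_mul_sr, inv_r]
    congr 1
    ring

/-- I2: a central involution of a dihedral group lies in a cyclic subgroup of index 2. -/
theorem dih_exists (n : ℕ) (hn : 2 ≤ n) (t : DihedralGroup n) (ht : orderOf t = 2)
    (hc : ∀ x : DihedralGroup n, x * t = t * x) :
    ∃ Z : Subgroup (DihedralGroup n), IsCyclic ↥Z ∧ Z.index = 2 ∧ t ∈ Z := by
  have : NeZero n := ⟨by omega⟩
  have hcardG : Nat.card (DihedralGroup n) = 2 * n := DihedralGroup.nat_card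
  rcases Nat.lt_or_ge n 3 with h3 | h3
  · have h2 : n = 2 := by omega
    subst h2
    refine ⟨Subgroup.zpowers t, inferInstance, ?_, Subgroup.mem_zpowers t⟩
    have h := (Subgroup.zpowers t).card_mul_index
    rw [Nat.card_zpowers, ht, hcardG] at h
    omega
  · refine ⟨Subgroup.zpowers (r 1), inferInstance, ?_, ?_⟩
    · have h := (Subgroup.zpowers (r (1 : ZMod n))).card_mul_index
      rw [Nat.card_zpowers, orderOf_r_one, hcardG] at h
      have hn0 : 0 < n := by omega
      have : n * (Subgroup.zpowers (r (1 : ZMod n))).index = n * 2 := by rw [h]; ring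
      exact Nat.eq_of_mul_eq_mul_left hn0 this
    · rcases t with k | j
      · refine Subgroup.mem_zpowers_iff.mpr ⟨(ZMod.val k : ℤ), ?_⟩
        rw [zpow_natCast, r_one_pow]
        simp
      · exfalso
        have h := hc (r 1)
        rw [r_mul_sr, sr_mul_r] at h
        have h' : j - 1 = j + 1 := by
          injection h
        have h2 : (2 : ZMod n) = 0 := by
          have : (j + 1) - (j - 1) = 0 := by rw [h']; ring
          have h3' : (j + 1) - (j - 1) = (2 : ZMod n) := by ring
          rw [← h3']; exact this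
        have hdvd : n ∣ 2 := by
          have := (ZMod.natCast_eq_zero_iff 2 n).mp (by exact_mod_cast h2)
          exact this
        have := Nat.le_of_dvd (by norm_num) hdvd
        omega

end Cfsg.Agent.Helper1.Bsd
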