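import Mathlib
import Cfsg.Agent.Helper2.ThompsonTransfer2

/-!
# S0508 (Brauer–Suzuki–Wall, dihedral Sylow 2), PART 1, piece I6 `one_class`:
one class of involutions from Thompson transfer and simplicity (architect of Part 1: helper1).
-/

set_option autoImplicit false

namespace Cfsg.Agent.Helper1.Bsd

variable {G : Type*} [Group G]

/-- I6: one class of involutions (Thompson transfer + simplicity). -/
theorem one_class [Finite G] [IsSimpleGroup G] (S : Sylow 2 G)
    (h4 : 4 ≤ Nat.card (S : Subgroup G)) (Z : Subgroup G) (hZS : Z ≤ (S : Subgroup G))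
    (hi : Z.relIndex (S : Subgroup G) = 2) (t : G) (ht : orderOf t = 2) (htZ : t ∈ Z)
    (hZu : ∀ z ∈ Z, z * z = 1 → z = 1 ∨ z = t) :
    ∀ x y : G, orderOf x = 2 → orderOf y = 2 → IsConj x y := by
  -- every involution is conjugate to `t`
  have key : ∀ u : G, orderOf u = 2 → ∃ g : G, g * u * g⁻¹ = t := by
    intro u hu
    rcases Cfsg.Agent.Helper2.thompson_transfer_classical S Z hi u hu with ⟨M, hMn, hMi, -⟩ | h
    · exfalso
      rcases hMn.eq_bot_or_eq_top with hM | hM
      · -- `|G| = 2`
        rw [hM, Subgroup.index_bot] at hMi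
        have hle : Nat.card ↥(S : Subgroup G) ≤ Nat.card G := Subgroup.card_le_card_group _
        omega
      · rw [hM, Subgroup.index_top] at hMi
        omega
    · obtain ⟨g, hg⟩ := h
      refine ⟨g, ?_⟩
      have hu2 : u * u = 1 := by
        have := pow_orderOf_eq_one u
        rwa [hu, pow_two] at this
      have hu1 : u ≠ 1 := by
        intro h1
        rw [h1, orderOf_one] at hu
        omega
      have hsq : (g * u * g⁻¹) * (g * u * g⁻¹) = 1 := by
        calc (g * u * g⁻¹) * (g * u * g⁻¹) = g * (u * u) * g⁻¹ := by group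
          _ = 1 := by rw [hu2]; group
      rcases hZu _ hg hsq with h1 | h1
      · exfalso
        apply hu1
        have : u = g⁻¹ * (g * u * g⁻¹) * g := by group
        rw [this, h1]; group
      · exact h1
  intro x y hx hy
  obtain ⟨g, hg⟩ := key x hx
  obtain ⟨k, hk⟩ := key y hy
  rw [isConj_iff]
  refine ⟨k⁻¹ * g, ?_⟩
  have : y = k⁻¹ * (k * y * k⁻¹) * k := by group
  rw [this, hk, ← hg]
  group

end Cfsg.Agent.Helper1.Bsd
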