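import Mathlib
import Cfsg.Prelude.Def_Characters
import Cfsg.Agent.Helper1.BswChDefs

/-!
# S3282 (abstract Brauer-Suzuki-Wall), character side: the combinatorial core HK1 - HK4 (helper9)
Pure statements on integer vectors.
-/

set_option autoImplicit false

namespace Cfsg.Agent.Helper1.BswCh

open scoped ComplexConjugate Classical
open Cfsg.Agent.Lead.Bsw (F nInv)

universe u

variable {G : Type u} [Group G]

section Core

variable {ι : Type*} [Fintype ι] {Λ : Type*} [Fintype Λ]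

/-! ### auxiliary facts -/

theorem h9_kd_nonneg {α : Type*} (a b : α) : 0 ≤ kd a b := by
  unfold kd
  split_ifs <;> norm_num

theorem h9_kd_le_one {α : Type*} (a b : α) : kd a b ≤ 1 := by
  unfold kd
  split_ifs <;> norm_num

theorem h9_eq_of_kd_pos {α : Type*} {a b : α} (h : 0 < kd a b) : a = b := by
  by_contra hne
  rw [kd_ne hne] at h
  exact lt_irrefl _ h

theorem h9_sum_mul_kd (b : ι → ℤ) (x : ι) : ∑ i, b i * kd i x = b x := by
  rw [← sum_kd_mul x b]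
  exact Finset.sum_congr rfl (fun i _ => mul_comm _ _)

theorem h9_sum_mul_c_kd (b : ι → ℤ) (c : ℤ) (x : ι) : ∑ i, b i * (c * kd i x) = c * b x := by
  rw [← h9_sum_mul_kd b x, Finset.mul_sum]
  exact Finset.sum_congr rfl (fun i _ => by ring)

theorem h9_sum_kd_kd (x y : ι) : ∑ i, kd i x * kd i y = kd x y :=
  sum_kd_mul x (fun i => kd i y)

omit [Fintype ι] in
theorem h9_exists_ne_zero_of_sum_pos (S : Finset ι) (b : ι → ℤ) (h : 0 < ∑ i ∈ S, b i * b i) :
    ∃ ξ ∈ S, b ξ ≠ 0 := by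
  by_contra hc
  push Not at hc
  rw [Finset.sum_eq_zero (fun i hi => by rw [hc i hi, mul_zero])] at h
  exact lt_irrefl _ h

theorem h9_pm_one_of_sq_le {x : ℤ} (h0 : x ≠ 0) (h : x * x ≤ 3) : x = 1 ∨ x = -1 := by
  have h2 : -1 ≤ x := by
    by_contra hc
    have : x ≤ -2 := by omega
    nlinarith
  have h3 : x ≤ 1 := by
    by_contra hc
    have : 2 ≤ x := by omega
    nlinarith
  omega

theorem h9_sq_of_pm_one {x : ℤ} (h : x = 1 ∨ x = -1) : x * x = 1 := by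
  rcases h with h | h <;> rw [h] <;> norm_num

/-- a vector of norm `2` on a finite set has exactly two nonzero entries, both `±1` -/
theorem h9_two_atoms (S : Finset ι) (b : ι → ℤ) (h : ∑ i ∈ S, b i * b i = 2) :
    ∃ ξ1 ∈ S, ∃ ξ2 ∈ S, ξ1 ≠ ξ2 ∧ (b ξ1 = 1 ∨ b ξ1 = -1) ∧ (b ξ2 = 1 ∨ b ξ2 = -1) ∧
      ∀ i ∈ S, i ≠ ξ1 → i ≠ ξ2 → b i = 0 := by
  obtain ⟨ξ1, h1S, h1⟩ := h9_exists_ne_zero_of_sum_pos S b (by rw [h]; norm_num)
  have e1 : b ξ1 * b ξ1 + ∑ i ∈ S.erase ξ1, b i * b i = ∑ i ∈ S, b i * b i :=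
    Finset.add_sum_erase S (fun i => b i * b i) h1S
  have hnn1 : 0 ≤ ∑ i ∈ S.erase ξ1, b i * b i :=
    Finset.sum_nonneg (fun i _ => mul_self_nonneg _)
  have hb1 : b ξ1 = 1 ∨ b ξ1 = -1 := h9_pm_one_of_sq_le h1 (by linarith)
  have hsq1 := h9_sq_of_pm_one hb1
  have hrem : ∑ i ∈ S.erase ξ1, b i * b i = 1 := by linarith
  obtain ⟨ξ2, h2S, h2⟩ := h9_exists_ne_zero_of_sum_pos (S.erase ξ1) b (by rw [hrem]; norm_num)
  have e2 : b ξ2 * b ξ2 + ∑ i ∈ (S.erase ξ1).erase ξ2, b i * b i = ∑ i ∈ S.erase ξ1, b i * b i :=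
    Finset.add_sum_erase (S.erase ξ1) (fun i => b i * b i) h2S
  have hnn2 : 0 ≤ ∑ i ∈ (S.erase ξ1).erase ξ2, b i * b i :=
    Finset.sum_nonneg (fun i _ => mul_self_nonneg _)
  have hb2 : b ξ2 = 1 ∨ b ξ2 = -1 := h9_pm_one_of_sq_le h2 (by linarith)
  have hsq2 := h9_sq_of_pm_one hb2
  have hrem2 : ∑ i ∈ (S.erase ξ1).erase ξ2, b i * b i = 0 := by linarith
  refine ⟨ξ1, h1S, ξ2, Finset.mem_of_mem_erase h2S, (Finset.ne_of_mem_erase h2S).symm, hb1, hb2, ?_⟩
  intro i hiS hi1 hi2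
  have hmem : i ∈ (S.erase ξ1).erase ξ2 :=
    Finset.mem_erase.mpr ⟨hi2, Finset.mem_erase.mpr ⟨hi1, hiS⟩⟩
  have := (Finset.sum_eq_zero_iff_of_nonneg (fun j _ => mul_self_nonneg (b j))).mp hrem2 i hmem
  exact mul_self_eq_zero.mp this

/-! ### K1 -/

/-- K1: a vector of norm 3 with coefficient 1 at `o` and degree 0 -/
theorem core_norm3 (o : ι) (d : ι → ℤ) (hd : ∀ i, 1 ≤ d i) (hdo : d o = 1) (a : ι → ℤ)
    (h3 : ∑ i, a i * a i = 3) (ho : a o = 1) (h0 : ∑ i, a i * d i = 0) :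
    ∃ U V : ι, U ≠ V ∧ U ≠ o ∧ V ≠ o ∧ ∀ i, a i = kd i o + kd i U - kd i V := by
  have e1 : a o * a o + ∑ i ∈ Finset.univ.erase o, a i * a i = ∑ i, a i * a i :=
    Finset.add_sum_erase Finset.univ (fun i => a i * a i) (Finset.mem_univ o)
  have hS : ∑ i ∈ Finset.univ.erase o, a i * a i = 2 := by
    rw [h3, ho] at e1
    linarith
  obtain ⟨ξ1, h1S, ξ2, h2S, h12, hb1, hb2, hrest⟩ := h9_two_atoms (Finset.univ.erase o) a hS
  have h1o : ξ1 ≠ o := Finset.ne_of_mem_erase h1S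
  have h2o : ξ2 ≠ o := Finset.ne_of_mem_erase h2S
  -- the degree equation
  have e2 : a o * d o + ∑ i ∈ Finset.univ.erase o, a i * d i = ∑ i, a i * d i :=
    Finset.add_sum_erase Finset.univ (fun i => a i * d i) (Finset.mem_univ o)
  have e3 : ∑ i ∈ Finset.univ.erase o, a i * d i = a ξ1 * d ξ1 + a ξ2 * d ξ2 := by
    apply Finset.sum_eq_add ξ1 ξ2 h12
    · intro c hc hcc
      rw [hrest c hc hcc.1 hcc.2, zero_mul]
    · intro hn
      exact absurd h1S hn
    · intro hn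
      exact absurd h2S hn
  rw [h0, e3, ho, hdo] at e2
  have hd1 := hd ξ1
  have hd2 := hd ξ2
  have key : ∀ U V : ι, U ≠ V → U ≠ o → V ≠ o → a U = 1 → a V = -1 →
      (∀ i, i ≠ o → i ≠ U → i ≠ V → a i = 0) → ∀ i, a i = kd i o + kd i U - kd i V := by
    intro U V hUV hUo hVo haU haV hr i
    by_cases hio : i = o
    · subst hio
      rw [ho, kd_self, kd_ne (Ne.symm hUo), kd_ne (Ne.symm hVo)]
      norm_num
    · by_cases hiU : i = U
      · subst hiU
        rw [haU, kd_self, kd_ne hio, kd_ne hUV]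
        norm_num
      · by_cases hiV : i = V
        · subst hiV
          rw [haV, kd_self, kd_ne hio, kd_ne hiU]
          norm_num
        · rw [hr i hio hiU hiV, kd_ne hio, kd_ne hiU, kd_ne hiV]
          norm_num
  rcases hb1 with hb1 | hb1 <;> rcases hb2 with hb2 | hb2
  · exfalso
    rw [hb1, hb2] at e2
    linarith
  · refine ⟨ξ1, ξ2, h12, h1o, h2o, key ξ1 ξ2 h12 h1o h2o hb1 hb2 ?_⟩
    intro i hio hi1 hi2
    exact hrest i (Finset.mem_erase.mpr ⟨hio, Finset.mem_univ i⟩) hi1 hi2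
  · refine ⟨ξ2, ξ1, h12.symm, h2o, h1o, key ξ2 ξ1 h12.symm h2o h1o hb2 hb1 ?_⟩
    intro i hio hi2 hi1
    exact hrest i (Finset.mem_erase.mpr ⟨hio, Finset.mem_univ i⟩) hi1 hi2
  · exfalso
    rw [hb1, hb2] at e2
    linarith

/-! ### K2 -/

/-- K2: two such vectors with inner product 2 share exactly one of `U`, `V` -/
theorem core_share (o U V U' V' : ι) (hUV : U ≠ V) (hUo : U ≠ o) (hVo : V ≠ o)
    (hUV' : U' ≠ V') (hUo' : U' ≠ o) (hVo' : V' ≠ o)
    (h : ∑ i, (kd i o + kd i U - kd i V) * (kd i o + kd i U' - kd i V') = 2) :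
    (U = U' ∧ V ≠ V') ∨ (V = V' ∧ U ≠ U') := by
  have hexp : ∑ i, (kd i o + kd i U - kd i V) * (kd i o + kd i U' - kd i V') =
      kd o o + kd o U' - kd o V' + (kd U o + kd U U' - kd U V') - (kd V o + kd V U' - kd V V') := by
    have : ∀ i, (kd i o + kd i U - kd i V) * (kd i o + kd i U' - kd i V') =
        kd i o * kd i o + kd i o * kd i U' - kd i o * kd i V' +
        (kd i U * kd i o + kd i U * kd i U' - kd i U * kd i V') -
        (kd i V * kd i o + kd i V * kd i U' - kd i V * kd i V') := fun i => by ring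
    rw [Finset.sum_congr rfl (fun i _ => this i)]
    simp only [Finset.sum_add_distrib, Finset.sum_sub_distrib, h9_sum_kd_kd]
  rw [hexp, kd_self, kd_ne (Ne.symm hUo'), kd_ne (Ne.symm hVo'), kd_ne hUo, kd_ne hVo] at h
  by_cases h1 : U = U'
  · left
    refine ⟨h1, ?_⟩
    intro h2
    have h3 : U ≠ V' := by rw [h1]; exact hUV'
    have h4 : V ≠ U' := by rw [← h1]; exact hUV.symm
    rw [kd_ne h3, kd_ne h4, h1, h2, kd_self, kd_self] at h
    norm_num at h
  · right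
    refine ⟨?_, h1⟩
    by_contra h2
    rw [kd_ne h1, kd_ne h2] at h
    have := h9_kd_nonneg U V'
    have := h9_kd_nonneg V U'
    linarith

/-! ### K3 -/

/-- the index `≠ o` at which `v` takes the value `1` -/
noncomputable def h9_selP (o : ι) (v : ι → ℤ) : ι :=
  if h : ∃ i, i ≠ o ∧ v i = 1 then Classical.choose h else o

/-- the index at which `v` takes the value `-1` -/
noncomputable def h9_selM (o : ι) (v : ι → ℤ) : ι :=
  if h : ∃ i, v i = -1 then Classical.choose h else o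

theorem h9_sel_spec (o U V : ι) (hUV : U ≠ V) (hUo : U ≠ o) (hVo : V ≠ o) (v : ι → ℤ)
    (hv : ∀ i, v i = kd i o + kd i U - kd i V) : h9_selP o v = U ∧ h9_selM o v = V := by
  constructor
  · have hex : ∃ i, i ≠ o ∧ v i = 1 :=
      ⟨U, hUo, by rw [hv, kd_ne hUo, kd_self, kd_ne hUV]; norm_num⟩
    unfold h9_selP
    rw [dif_pos hex]
    obtain ⟨h1, h2⟩ := Classical.choose_spec hex
    by_contra hne
    rw [hv, kd_ne h1, kd_ne hne] at h2
    have := h9_kd_nonneg (Classical.choose hex) V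
    omega
  · have hex : ∃ i, v i = -1 :=
      ⟨V, by rw [hv, kd_ne hVo, kd_self, kd_ne hUV.symm]; norm_num⟩
    unfold h9_selM
    rw [dif_pos hex]
    have h2 := Classical.choose_spec hex
    by_contra hne
    rw [hv, kd_ne hne] at h2
    have := h9_kd_nonneg (Classical.choose hex) o
    have := h9_kd_nonneg (Classical.choose hex) U
    omega

omit [Fintype Λ] in
theorem h9_core_finish (o : ι) (bar : Λ → Λ) (hbar : ∀ l, bar (bar l) = l) (a : Λ → ι → ℤ)
    (hg : ∀ l m, bar l ≠ l → bar m ≠ m → ∑ i, a l i * a m i = 2 + kd l m + kd l (bar m))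
    (e : ℤ) (he : e = 1 ∨ e = -1) (χ : ι) (P M : Λ → ι)
    (hrep : ∀ l, bar l ≠ l → P l ≠ M l ∧ P l ≠ o ∧ M l ≠ o ∧
      ∀ i, a l i = kd i o + e * kd i (P l) - e * kd i (M l))
    (hM : ∀ l, M (bar l) = M l) (hP : ∀ l, bar l ≠ l → P l = χ) (hex : ∃ l, bar l ≠ l) :
    ∃ (e : ℤ) (χ : ι) (Θ : Λ → ι), (e = 1 ∨ e = -1) ∧ χ ≠ o ∧
      (∀ l, bar l ≠ l → Θ l ≠ o ∧ Θ l ≠ χ) ∧ (∀ l, Θ (bar l) = Θ l) ∧
      (∀ l m, bar l ≠ l → bar m ≠ m → Θ l = Θ m → m = l ∨ m = bar l) ∧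
      ∀ l, bar l ≠ l → ∀ i, a l i = kd i o + e * kd i χ - e * kd i (Θ l) := by
  obtain ⟨l1, hl1⟩ := hex
  refine ⟨e, χ, M, he, ?_, ?_, hM, ?_, ?_⟩
  · rw [← hP l1 hl1]
    exact (hrep l1 hl1).2.1
  · intro l hl
    refine ⟨(hrep l hl).2.2.1, ?_⟩
    rw [← hP l hl]
    exact (hrep l hl).1.symm
  · intro l m hl hm hΘ
    have hal : ∀ i, a l i = a m i := by
      intro i
      rw [(hrep l hl).2.2.2 i, (hrep m hm).2.2.2 i, hP l hl, hP m hm, hΘ]
    have h1 := hg l l hl hl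
    have h2 := hg l m hl hm
    have h3 : ∑ i, a l i * a m i = ∑ i, a l i * a l i :=
      Finset.sum_congr rfl (fun i _ => by rw [hal i])
    rw [h3, h1, kd_self, kd_ne (Ne.symm hl)] at h2
    by_contra hcon
    push Not at hcon
    have hlm : l ≠ m := fun h => hcon.1 h.symm
    have hlbm : l ≠ bar m := fun h => hcon.2 (by rw [h, hbar])
    rw [kd_ne hlm, kd_ne hlbm] at h2
    omega
  · intro l hl i
    rw [(hrep l hl).2.2.2 i, hP l hl]

/-- K3: a family (indexed by the classes `{l, bar l}`, `bar l ≠ l`) of norm-3 vectors with pairwise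
inner products 2 has a common constituent. -/
theorem core_family (o : ι) (d : ι → ℤ) (hd : ∀ i, 1 ≤ d i) (hdo : d o = 1)
    (bar : Λ → Λ) (hbar : ∀ l, bar (bar l) = l) (a : Λ → ι → ℤ)
    (hab : ∀ l, a (bar l) = a l)
    (hg : ∀ l m, bar l ≠ l → bar m ≠ m → ∑ i, a l i * a m i = 2 + kd l m + kd l (bar m))
    (ho : ∀ l, bar l ≠ l → a l o = 1) (h0 : ∀ l, bar l ≠ l → ∑ i, a l i * d i = 0)
    (hne : ∃ l m : Λ, bar l ≠ l ∧ bar m ≠ m ∧ m ≠ l ∧ m ≠ bar l) :
    ∃ (e : ℤ) (χ : ι) (Θ : Λ → ι), (e = 1 ∨ e = -1) ∧ χ ≠ o ∧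
      (∀ l, bar l ≠ l → Θ l ≠ o ∧ Θ l ≠ χ) ∧ (∀ l, Θ (bar l) = Θ l) ∧
      (∀ l m, bar l ≠ l → bar m ≠ m → Θ l = Θ m → m = l ∨ m = bar l) ∧
      ∀ l, bar l ≠ l → ∀ i, a l i = kd i o + e * kd i χ - e * kd i (Θ l) := by
  have hrep : ∀ l, bar l ≠ l → h9_selP o (a l) ≠ h9_selM o (a l) ∧ h9_selP o (a l) ≠ o ∧
      h9_selM o (a l) ≠ o ∧
      ∀ i, a l i = kd i o + kd i (h9_selP o (a l)) - kd i (h9_selM o (a l)) := by
    intro l hl
    have h3 : ∑ i, a l i * a l i = 3 := by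
      rw [hg l l hl hl, kd_self, kd_ne (Ne.symm hl)]
      norm_num
    obtain ⟨U, V, hUV, hUo, hVo, hv⟩ := core_norm3 o d hd hdo (a l) h3 (ho l hl) (h0 l hl)
    obtain ⟨hP, hM⟩ := h9_sel_spec o U V hUV hUo hVo (a l) hv
    rw [hP, hM]
    exact ⟨hUV, hUo, hVo, hv⟩
  have hUbar : ∀ l, h9_selP o (a (bar l)) = h9_selP o (a l) := fun l => by rw [hab]
  have hVbar : ∀ l, h9_selM o (a (bar l)) = h9_selM o (a l) := fun l => by rw [hab]
  have hshare : ∀ l m, bar l ≠ l → bar m ≠ m → m ≠ l → m ≠ bar l →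
      (h9_selP o (a l) = h9_selP o (a m) ∧ h9_selM o (a l) ≠ h9_selM o (a m)) ∨
      (h9_selM o (a l) = h9_selM o (a m) ∧ h9_selP o (a l) ≠ h9_selP o (a m)) := by
    intro l m hl hm hml hmbl
    obtain ⟨h1, h2, h3, h4⟩ := hrep l hl
    obtain ⟨h1', h2', h3', h4'⟩ := hrep m hm
    apply core_share o _ _ _ _ h1 h2 h3 h1' h2' h3'
    have hlbm : l ≠ bar m := fun h => hmbl (by rw [h, hbar])
    have := hg l m hl hm
    rw [kd_ne (Ne.symm hml), kd_ne hlbm] at this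
    have hsum : ∑ i, (kd i o + kd i (h9_selP o (a l)) - kd i (h9_selM o (a l))) *
        (kd i o + kd i (h9_selP o (a m)) - kd i (h9_selM o (a m))) = ∑ i, a l i * a m i :=
      Finset.sum_congr rfl (fun i _ => by rw [← h4 i, ← h4' i])
    rw [hsum]
    linarith
  obtain ⟨l1, m1, hl1, hm1, hml, hmbl⟩ := hne
  rcases hshare l1 m1 hl1 hm1 hml hmbl with ⟨hUU, hVV⟩ | ⟨hVV, hUU⟩
  · -- all the `U` coincide
    have hall : ∀ l, bar l ≠ l → h9_selP o (a l) = h9_selP o (a l1) := by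
      intro l hl
      by_cases h1 : l = l1
      · rw [h1]
      by_cases h2 : l = bar l1
      · rw [h2, hUbar]
      by_cases h3 : l = m1
      · rw [h3, hUU]
      by_cases h4 : l = bar m1
      · rw [h4, hUbar, hUU]
      rcases hshare l1 l hl1 hl h1 h2 with ⟨hA, -⟩ | ⟨hB, hB'⟩
      · exact hA.symm
      · rcases hshare m1 l hm1 hl h3 h4 with ⟨hC, -⟩ | ⟨hD, -⟩
        · exfalso
          exact hB' (by rw [hUU, hC])
        · exfalso
          exact hVV (by rw [hB, hD])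
    exact h9_core_finish o bar hbar a hg 1 (Or.inl rfl) (h9_selP o (a l1))
      (fun l => h9_selP o (a l)) (fun l => h9_selM o (a l))
      (fun l hl => by
        obtain ⟨h1, h2, h3, h4⟩ := hrep l hl
        exact ⟨h1, h2, h3, fun i => by rw [h4 i]; ring⟩)
      hVbar hall ⟨l1, hl1⟩
  · -- all the `V` coincide
    have hall : ∀ l, bar l ≠ l → h9_selM o (a l) = h9_selM o (a l1) := by
      intro l hl
      by_cases h1 : l = l1
      · rw [h1]
      by_cases h2 : l = bar l1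
      · rw [h2, hVbar]
      by_cases h3 : l = m1
      · rw [h3, hVV]
      by_cases h4 : l = bar m1
      · rw [h4, hVbar, hVV]
      rcases hshare l1 l hl1 hl h1 h2 with ⟨hB, hB'⟩ | ⟨hA, -⟩
      · rcases hshare m1 l hm1 hl h3 h4 with ⟨hD, -⟩ | ⟨hC, -⟩
        · exfalso
          exact hUU (by rw [hB, hD])
        · exfalso
          exact hB' (by rw [hVV, hC])
      · exact hA.symm
    exact h9_core_finish o bar hbar a hg (-1) (Or.inr rfl) (h9_selM o (a l1))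
      (fun l => h9_selM o (a l)) (fun l => h9_selP o (a l))
      (fun l hl => by
        obtain ⟨h1, h2, h3, h4⟩ := hrep l hl
        exact ⟨h1.symm, h3, h2, fun i => by rw [h4 i]; ring⟩)
      hUbar hall ⟨l1, hl1⟩

/-! ### K4 -/

/-- K4: a vector `b` of norm 4 having inner product 2 with all vectors of the generic shape. -/
theorem core_l0 (o : ι) (bar : Λ → Λ) (e : ℤ) (he : e = 1 ∨ e = -1) (χ : ι) (hχ : χ ≠ o)
    (Θ : Λ → ι) (hΘ : ∀ l, bar l ≠ l → Θ l ≠ o ∧ Θ l ≠ χ) (b : ι → ℤ)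
    (h4 : ∑ i, b i * b i = 4)
    (h2 : ∀ l, bar l ≠ l → ∑ i, b i * (kd i o + e * kd i χ - e * kd i (Θ l)) = 2)
    (ho : b o = 1) (hex : ∃ l, bar l ≠ l) :
    (∃ (ξ1 ξ2 : ι) (s1 s2 : ℤ), (s1 = 1 ∨ s1 = -1) ∧ (s2 = 1 ∨ s2 = -1) ∧ ξ1 ≠ ξ2 ∧
        ξ1 ≠ o ∧ ξ1 ≠ χ ∧ ξ2 ≠ o ∧ ξ2 ≠ χ ∧ (∀ l, bar l ≠ l → Θ l ≠ ξ1 ∧ Θ l ≠ ξ2) ∧
        ∀ i, b i = kd i o + e * kd i χ + s1 * kd i ξ1 + s2 * kd i ξ2) ∨
    (b χ = 0 ∧ ∀ l, bar l ≠ l → b (Θ l) = -e) := by
  obtain ⟨l1, hl1⟩ := hex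
  have hee : e * e = 1 := by rcases he with rfl | rfl <;> norm_num
  have hrel : ∀ l, bar l ≠ l → b χ - b (Θ l) = e := by
    intro l hl
    have h := h2 l hl
    have hexp : ∑ i, b i * (kd i o + e * kd i χ - e * kd i (Θ l)) =
        b o + e * b χ - e * b (Θ l) := by
      simp only [mul_add, mul_sub, Finset.sum_add_distrib, Finset.sum_sub_distrib,
        h9_sum_mul_kd, h9_sum_mul_c_kd]
    rw [hexp, ho] at h
    have h' : e * (b χ - b (Θ l)) = 1 := by linarith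
    calc b χ - b (Θ l) = e * e * (b χ - b (Θ l)) := by rw [hee, one_mul]
      _ = e * (e * (b χ - b (Θ l))) := by ring
      _ = e := by rw [h', mul_one]
  -- entries off `o`
  have e1 : b o * b o + ∑ i ∈ Finset.univ.erase o, b i * b i = ∑ i, b i * b i :=
    Finset.add_sum_erase Finset.univ (fun i => b i * b i) (Finset.mem_univ o)
  have hS : ∑ i ∈ Finset.univ.erase o, b i * b i = 3 := by
    rw [h4, ho] at e1
    linarith
  have hent : ∀ i, i ≠ o → b i = 0 ∨ b i = 1 ∨ b i = -1 := by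
    intro i hi
    have hle : b i * b i ≤ ∑ j ∈ Finset.univ.erase o, b j * b j :=
      Finset.single_le_sum (f := fun j => b j * b j) (fun j _ => mul_self_nonneg (b j))
        (Finset.mem_erase.mpr ⟨hi, Finset.mem_univ i⟩)
    rw [hS] at hle
    by_cases h0 : b i = 0
    · exact Or.inl h0
    · exact Or.inr (h9_pm_one_of_sq_le h0 hle)
  have hχent := hent χ hχ
  have hΘent := hent (Θ l1) (hΘ l1 hl1).1
  have hrel1 := hrel l1 hl1
  by_cases hbχ : b χ = 0
  · right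
    refine ⟨hbχ, fun l hl => ?_⟩
    have := hrel l hl
    rw [hbχ] at this
    linarith
  · left
    have hbχe : b χ = e := by
      rcases he with rfl | rfl <;> rcases hχent with h | h | h <;>
        rcases hΘent with h' | h' | h' <;> omega
    have hΘ0 : ∀ l, bar l ≠ l → b (Θ l) = 0 := by
      intro l hl
      have := hrel l hl
      rw [hbχe] at this
      linarith
    have hχmem : χ ∈ Finset.univ.erase o := Finset.mem_erase.mpr ⟨hχ, Finset.mem_univ χ⟩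
    have e2 : b χ * b χ + ∑ i ∈ (Finset.univ.erase o).erase χ, b i * b i =
        ∑ i ∈ Finset.univ.erase o, b i * b i :=
      Finset.add_sum_erase (Finset.univ.erase o) (fun i => b i * b i) hχmem
    have hS2 : ∑ i ∈ (Finset.univ.erase o).erase χ, b i * b i = 2 := by
      rw [hS, hbχe, hee] at e2
      linarith
    obtain ⟨ξ1, h1S, ξ2, h2S, h12, hb1, hb2, hrest⟩ :=
      h9_two_atoms ((Finset.univ.erase o).erase χ) b hS2
    have h1χ : ξ1 ≠ χ := Finset.ne_of_mem_erase h1S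
    have h1o : ξ1 ≠ o := Finset.ne_of_mem_erase (Finset.mem_of_mem_erase h1S)
    have h2χ : ξ2 ≠ χ := Finset.ne_of_mem_erase h2S
    have h2o : ξ2 ≠ o := Finset.ne_of_mem_erase (Finset.mem_of_mem_erase h2S)
    refine ⟨ξ1, ξ2, b ξ1, b ξ2, hb1, hb2, h12, h1o, h1χ, h2o, h2χ, ?_, ?_⟩
    · intro l hl
      have h0 := hΘ0 l hl
      constructor
      · intro h
        rw [h] at h0
        rcases hb1 with h' | h' <;> omega
      · intro h
        rw [h] at h0
        rcases hb2 with h' | h' <;> omega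
    · intro i
      by_cases hio : i = o
      · subst hio
        rw [ho, kd_self, kd_ne (Ne.symm hχ), kd_ne (Ne.symm h1o), kd_ne (Ne.symm h2o)]
        ring
      by_cases hiχ : i = χ
      · subst hiχ
        rw [hbχe, kd_self, kd_ne hio, kd_ne (Ne.symm h1χ), kd_ne (Ne.symm h2χ)]
        ring
      by_cases hi1 : i = ξ1
      · subst hi1
        rw [kd_self, kd_ne hio, kd_ne hiχ, kd_ne h12]
        ring
      by_cases hi2 : i = ξ2
      · subst hi2
        rw [kd_self, kd_ne hio, kd_ne hiχ, kd_ne hi1]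
        ring
      · have hmem : i ∈ (Finset.univ.erase o).erase χ :=
          Finset.mem_erase.mpr ⟨hiχ, Finset.mem_erase.mpr ⟨hio, Finset.mem_univ i⟩⟩
        rw [hrest i hmem hi1 hi2, kd_ne hio, kd_ne hiχ, kd_ne hi1, kd_ne hi2]
        ring

end Core

end Cfsg.Agent.Helper1.BswCh
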