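import Mathlib
import Cfsg.Prelude.Def_Characters
import Cfsg.Agent.Helper1.BswChDefs

/-!
# S3282 (abstract Brauer-Suzuki-Wall), character side: small auxiliary facts used by helper9's pieces
-/

set_option autoImplicit false

namespace Cfsg.Agent.Helper1.BswCh

open scoped ComplexConjugate Classical
open Cfsg.Agent.Lead.Bsw (F nInv)

universe u

variable {G : Type u} [Group G]

theorem h9_dual_inv_ne_self {K : Subgroup G} {m : Dual K} (hm : m * m ≠ 1) : m⁻¹ ≠ m := by
  intro h
  apply hm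
  have h1 : m * m⁻¹ = 1 := mul_inv_cancel m
  have h2 : m * m⁻¹ = m * m := congrArg (fun z => m * z) h
  exact h2.symm.trans h1

theorem h9_dual_sq_inv {K : Subgroup G} {m : Dual K} (hm : m * m ≠ 1) : m⁻¹ * m⁻¹ ≠ 1 := by
  intro h
  apply hm
  have h2 : (m * m)⁻¹ = m⁻¹ * m⁻¹ := mul_inv_rev m m
  have h3 : (m * m)⁻¹ = 1 := h2.trans h
  exact (@inv_eq_one (Dual K) _ (m * m)).mp h3

theorem h9_dual_ne_one {K : Subgroup G} {m : Dual K} (hm : m * m ≠ 1) : m ≠ 1 := by
  intro h
  apply hm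
  have : (1 : Dual K) * 1 = 1 := one_mul (1 : Dual K)
  exact (congrArg (fun z => z * z) h).trans this

/-- the sum over the classes `{m, m⁻¹}` against the delta function of `Θ m0` -/
theorem h9_sum_theta [Fintype G] {K : Subgroup G} {e : ℤ} {o χ : Cfsg.IrrCharacter G}
    {Θ : Dual K → Cfsg.IrrCharacter G} (P0 : Pat0 K e o χ Θ) (m0 : Dual K) (hm0 : m0 * m0 ≠ 1)
    (g : Dual K → ℂ) :
    ∑ m : Dual K, (if m * m = 1 then 0 else (kd (Θ m0) (Θ m) : ℂ) * g m) = g m0 + g m0⁻¹ := by
  have hne : m0 ≠ m0⁻¹ := (h9_dual_inv_ne_self hm0).symm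
  rw [Finset.sum_eq_add m0 m0⁻¹ hne]
  · rw [if_neg hm0, if_neg (h9_dual_sq_inv hm0), P0.hΘinv m0, kd_self]
    push_cast
    ring
  · intro c _ hc
    by_cases hc1 : c * c = 1
    · rw [if_pos hc1]
    · rw [if_neg hc1]
      have : Θ m0 ≠ Θ c := by
        intro h
        rcases P0.hΘinj m0 c hm0 hc1 h with h' | h'
        · exact hc.1 h'
        · exact hc.2 h'
      rw [kd_ne this]
      push_cast
      ring
  · intro h
    exact absurd (Finset.mem_univ _) h
  · intro h
    exact absurd (Finset.mem_univ _) h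

end Cfsg.Agent.Helper1.BswCh
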