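import Mathlib
import Cfsg.Prelude.Def_Characters
import Cfsg.Agent.Helper1.BswChDefs
import Cfsg.Agent.Helper8.BswCh_HU
import Cfsg.Agent.Helper9.BswCh_Aux9
import Cfsg.Agent.Helper8.BswCh_HM
import Cfsg.Agent.Helper8.BswCh_HV1_HE

/-!
# S3282 (abstract Brauer-Suzuki-Wall), character side: pieces HV2a - HV2d (helper9)
Values of the irreducible characters on `K ∖ 1` under the pattern.
-/

set_option autoImplicit false

namespace Cfsg.Agent.Helper1.BswCh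

open scoped ComplexConjugate Classical
open Cfsg.Agent.Lead.Bsw (F nInv)

universe u

variable {G : Type u} [Group G]

/-- HU7 restated with the decidability instance that `[Fintype G]` statements elaborate to -/
theorem h9_sum_dual_split [Fintype G] {K : Subgroup G} (l0 : Dual K) (hl0 : l0 ≠ 1 ∧ l0 * l0 = 1)
    (hl0u : ∀ l : Dual K, l * l = 1 → l = 1 ∨ l = l0) (g : Dual K → ℂ) :
    ∑ l : Dual K, g l = g 1 + g l0 + ∑ l : Dual K, (if l * l = 1 then 0 else g l) := by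
  rw [sum_dual_split l0 hl0 hl0u g]
  congr 1
  apply Finset.sum_congr rfl
  intro l _
  by_cases h : l * l = 1
  · rw [if_pos h, if_pos h]
  · rw [if_neg h, if_neg h]

/-- HU8 restated with the decidability instance that `[Fintype G]` statements elaborate to -/
theorem h9_sum_sq_ne_one_const [Fintype G] {t : G} {K : Subgroup G} (I : Inp t K) (l0 : Dual K)
    (hl0 : l0 ≠ 1 ∧ l0 * l0 = 1) (hl0u : ∀ l : Dual K, l * l = 1 → l = 1 ∨ l = l0) (c : ℂ) :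
    ∑ l : Dual K, (if l * l = 1 then (0 : ℂ) else c) = ((Nat.card K : ℂ) - 2) * c := by
  rw [← sum_sq_ne_one_const I l0 hl0 hl0u c]
  apply Finset.sum_congr rfl
  intro l _
  by_cases h : l * l = 1
  · rw [if_pos h, if_pos h]
  · rw [if_neg h, if_neg h]

/-- `ψ(x)` in terms of the multiplicities `a_l(ψ)`, `l ≠ 1`, split along `l² = 1`. -/
theorem h9_irr_val [Fintype G] {t : G} {K : Subgroup G} (I : Inp t K) (l0 : Dual K)
    (hl0 : l0 ≠ 1 ∧ l0 * l0 = 1) (hl0u : ∀ l : Dual K, l * l = 1 → l = 1 ∨ l = l0)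
    (ψ : Cfsg.IrrCharacter G) (x : ↥K) (hx : x ≠ 1) :
    (ψ : G → ℂ) (x : G) = - ((ai K l0 ψ : ℂ) * lam l0 x +
      ∑ l : Dual K, (if l * l = 1 then 0 else (ai K l ψ : ℂ) * lam l x)) := by
  rw [irr_apply_mem I ψ x hx, h9_sum_dual_split l0 hl0 hl0u (fun l => (ai K l ψ : ℂ) * lam l x),
    ai_one_left]
  push_cast
  ring

theorem h9_sum_lam_sq_ne_one [Fintype G] {t : G} {K : Subgroup G} (I : Inp t K) (l0 : Dual K)
    (hl0 : l0 ≠ 1 ∧ l0 * l0 = 1) (hl0u : ∀ l : Dual K, l * l = 1 → l = 1 ∨ l = l0)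
    (x : ↥K) (hx : x ≠ 1) :
    ∑ l : Dual K, (if l * l = 1 then 0 else lam l x) = -1 - lam l0 x := by
  have h1 := h9_sum_dual_split l0 hl0 hl0u (fun l => lam l x)
  rw [sum_dual_apply I x hx, lam_one_left] at h1
  linear_combination -h1

section PatVals

variable [Fintype G] [Fintype (Cfsg.IrrCharacter G)] {t : G} {K : Subgroup G}
  {l0 : Dual K} {e : ℤ} {o χ ξ1 ξ2 : Cfsg.IrrCharacter G} {Θ : Dual K → Cfsg.IrrCharacter G}
  {s1 s2 : ℤ}

/-- V2a -/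
theorem pat_val_chi (I : Inp t K) (P : Pat K l0 e o χ ξ1 ξ2 Θ s1 s2) (x : ↥K) (hx : x ≠ 1) :
    (χ : G → ℂ) (x : G) = (e : ℂ) := by
  rw [h9_irr_val I l0 P.hl0 P.hl0u χ x hx]
  have h0 : ai K l0 χ = e := by
    rw [P.hai0 χ, kd_ne P.p0.hχo, kd_self, kd_ne (Ne.symm P.hξ1.2), kd_ne (Ne.symm P.hξ2.2)]
    ring
  have h1 : ∀ l : Dual K, l * l ≠ 1 → ai K l χ = e := by
    intro l hl
    rw [P.p0.hai l hl χ, kd_ne P.p0.hχo, kd_self, kd_ne (Ne.symm (P.p0.hΘ l hl).2)]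
    ring
  have h2 : ∑ l : Dual K, (if l * l = 1 then 0 else (ai K l χ : ℂ) * lam l x) =
      (e : ℂ) * ∑ l : Dual K, (if l * l = 1 then 0 else lam l x) := by
    rw [Finset.mul_sum]
    apply Finset.sum_congr rfl
    intro l _
    by_cases hl : l * l = 1
    · rw [if_pos hl, if_pos hl, mul_zero]
    · rw [if_neg hl, if_neg hl, h1 l hl]
  rw [h2, h0, h9_sum_lam_sq_ne_one I l0 P.hl0 P.hl0u x hx]
  ring

/-- V2b -/
theorem pat_val_theta (I : Inp t K) (P : Pat K l0 e o χ ξ1 ξ2 Θ s1 s2) (x : ↥K) (hx : x ≠ 1)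
    (m : Dual K) (hm : m * m ≠ 1) :
    ((Θ m : Cfsg.IrrCharacter G) : G → ℂ) (x : G) = (e : ℂ) * (lam m x + lam m⁻¹ x) := by
  rw [h9_irr_val I l0 P.hl0 P.hl0u (Θ m) x hx]
  have h0 : ai K l0 (Θ m) = 0 := by
    rw [P.hai0 (Θ m), kd_ne (P.p0.hΘ m hm).1, kd_ne (P.p0.hΘ m hm).2, kd_ne (P.hΘξ m hm).1,
      kd_ne (P.hΘξ m hm).2]
    ring
  have h1 : ∀ l : Dual K, l * l ≠ 1 → ai K l (Θ m) = - e * kd (Θ m) (Θ l) := by
    intro l hl
    rw [P.p0.hai l hl (Θ m), kd_ne (P.p0.hΘ m hm).1, kd_ne (P.p0.hΘ m hm).2]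
    ring
  have h2 : ∑ l : Dual K, (if l * l = 1 then 0 else (ai K l (Θ m) : ℂ) * lam l x) =
      ∑ l : Dual K, (if l * l = 1 then 0 else
        (kd (Θ m) (Θ l) : ℂ) * (-(e : ℂ) * lam l x)) := by
    apply Finset.sum_congr rfl
    intro l _
    by_cases hl : l * l = 1
    · rw [if_pos hl, if_pos hl]
    · rw [if_neg hl, if_neg hl, h1 l hl]
      push_cast
      ring
  rw [h2, h0, h9_sum_theta P.p0 m hm (fun l => -(e : ℂ) * lam l x)]
  push_cast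
  ring

/-- V2c -/
theorem pat_val_xi (I : Inp t K) (P : Pat K l0 e o χ ξ1 ξ2 Θ s1 s2) (x : ↥K) (hx : x ≠ 1) :
    (ξ1 : G → ℂ) (x : G) = - (s1 : ℂ) * lam l0 x ∧
    (ξ2 : G → ℂ) (x : G) = - (s2 : ℂ) * lam l0 x := by
  constructor
  · rw [h9_irr_val I l0 P.hl0 P.hl0u ξ1 x hx]
    have h0 : ai K l0 ξ1 = s1 := by
      rw [P.hai0 ξ1, kd_ne P.hξ1.1, kd_ne P.hξ1.2, kd_self, kd_ne P.hξ12]
      ring
    have h1 : ∀ l : Dual K, l * l ≠ 1 → ai K l ξ1 = 0 := by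
      intro l hl
      rw [P.p0.hai l hl ξ1, kd_ne P.hξ1.1, kd_ne P.hξ1.2, kd_ne (Ne.symm (P.hΘξ l hl).1)]
      ring
    have h2 : ∑ l : Dual K, (if l * l = 1 then 0 else (ai K l ξ1 : ℂ) * lam l x) = 0 := by
      apply Finset.sum_eq_zero
      intro l _
      by_cases hl : l * l = 1
      · rw [if_pos hl]
      · rw [if_neg hl, h1 l hl]
        push_cast
        ring
    rw [h2, h0]
    ring
  · rw [h9_irr_val I l0 P.hl0 P.hl0u ξ2 x hx]
    have h0 : ai K l0 ξ2 = s2 := by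
      rw [P.hai0 ξ2, kd_ne P.hξ2.1, kd_ne P.hξ2.2, kd_self, kd_ne (Ne.symm P.hξ12)]
      ring
    have h1 : ∀ l : Dual K, l * l ≠ 1 → ai K l ξ2 = 0 := by
      intro l hl
      rw [P.p0.hai l hl ξ2, kd_ne P.hξ2.1, kd_ne P.hξ2.2, kd_ne (Ne.symm (P.hΘξ l hl).2)]
      ring
    have h2 : ∑ l : Dual K, (if l * l = 1 then 0 else (ai K l ξ2 : ℂ) * lam l x) = 0 := by
      apply Finset.sum_eq_zero
      intro l _
      by_cases hl : l * l = 1
      · rw [if_pos hl]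
      · rw [if_neg hl, h1 l hl]
        push_cast
        ring
    rw [h2, h0]
    ring

/-- V2d -/
theorem pat_val_other (I : Inp t K) (P : Pat K l0 e o χ ξ1 ξ2 Θ s1 s2) (x : ↥K) (hx : x ≠ 1)
    (ψ : Cfsg.IrrCharacter G) (h1 : ψ ≠ o) (h2 : ψ ≠ χ) (h3 : ψ ≠ ξ1) (h4 : ψ ≠ ξ2)
    (h5 : ∀ m : Dual K, m * m ≠ 1 → ψ ≠ Θ m) : (ψ : G → ℂ) (x : G) = 0 := by
  rw [h9_irr_val I l0 P.hl0 P.hl0u ψ x hx]
  have h0 : ai K l0 ψ = 0 := by
    rw [P.hai0 ψ, kd_ne h1, kd_ne h2, kd_ne h3, kd_ne h4]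
    ring
  have h6 : ∀ l : Dual K, l * l ≠ 1 → ai K l ψ = 0 := by
    intro l hl
    rw [P.p0.hai l hl ψ, kd_ne h1, kd_ne h2, kd_ne (h5 l hl)]
    ring
  have h7 : ∑ l : Dual K, (if l * l = 1 then 0 else (ai K l ψ : ℂ) * lam l x) = 0 := by
    apply Finset.sum_eq_zero
    intro l _
    by_cases hl : l * l = 1
    · rw [if_pos hl]
    · rw [if_neg hl, h6 l hl]
      push_cast
      ring
  rw [h7, h0]
  push_cast
  ring

end PatVals

end Cfsg.Agent.Helper1.BswCh
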