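import Mathlib
import Cfsg.Prelude.Def_Characters
import Cfsg.Agent.Helper1.BswChDefs
import Cfsg.Agent.Helper8.BswCh_HU
import Cfsg.Agent.Helper9.BswCh_Aux9
import Cfsg.Agent.Helper9.BswCh_HV2
import Cfsg.Agent.Helper6.BswCh_HC
import Cfsg.Agent.Helper8.BswCh_HM
import Cfsg.Agent.Helper8.BswCh_HV1_HE

/-!
# S3282 (abstract Brauer-Suzuki-Wall), character side: pieces HP3a, HP3b, HP3 (helper9)
The alternative shape of `D_{l0}` is impossible when there are at least two classes.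
-/

set_option autoImplicit false

namespace Cfsg.Agent.Helper1.BswCh

open scoped ComplexConjugate Classical
open Cfsg.Agent.Lead.Bsw (F nInv)

universe u

variable {G : Type u} [Group G]

theorem h9_t_ne_one {t : G} {K : Subgroup G} (I : Inp t K) : (⟨t, I.htK⟩ : ↥K) ≠ 1 := by
  intro h
  have h1 : t = 1 := congrArg Subtype.val h
  have h2 := I.ht
  rw [h1, orderOf_one] at h2
  exact absurd h2 (by norm_num)

/-- `lam l t` is real, so `lam l⁻¹ t = lam l t` -/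
theorem h9_lam_inv_t [Fintype G] {t : G} {K : Subgroup G} (I : Inp t K) (l : Dual K) :
    lam l⁻¹ ⟨t, I.htK⟩ = lam l ⟨t, I.htK⟩ := by
  rw [(lam_inv l ⟨t, I.htK⟩).2]
  rcases lam_t I l with h | h
  · rw [h, map_one]
  · rw [h, map_neg, map_one]

/-- P3a: values of `Θ_m` at `t` under the alternative -/
theorem alt_val_theta [Fintype G] [Fintype (Cfsg.IrrCharacter G)] {t : G} {K : Subgroup G}
    (I : Inp t K) (l0 : Dual K) (hl0 : l0 ≠ 1 ∧ l0 * l0 = 1)
    (hl0u : ∀ l : Dual K, l * l = 1 → l = 1 ∨ l = l0)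
    {e : ℤ} {o χ : Cfsg.IrrCharacter G} {Θ : Dual K → Cfsg.IrrCharacter G} (P0 : Pat0 K e o χ Θ)
    (hA : Alt K l0 e χ Θ) (m : Dual K) (hm : m * m ≠ 1) :
    ((Θ m : Cfsg.IrrCharacter G) : G → ℂ) t =
      (e : ℂ) * (2 * lam m ⟨t, I.htK⟩ + lam l0 ⟨t, I.htK⟩) := by
  have hx := h9_t_ne_one I
  have hval := h9_irr_val I l0 hl0 hl0u (Θ m) ⟨t, I.htK⟩ hx
  have h0 : ai K l0 (Θ m) = -e := hA.2 m hm
  have h1 : ∀ l : Dual K, l * l ≠ 1 → ai K l (Θ m) = - e * kd (Θ m) (Θ l) := by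
    intro l hl
    rw [P0.hai l hl (Θ m), kd_ne (P0.hΘ m hm).1, kd_ne (P0.hΘ m hm).2]
    ring
  have h2 : ∑ l : Dual K, (if l * l = 1 then 0 else
      (ai K l (Θ m) : ℂ) * lam l (⟨t, I.htK⟩ : ↥K)) =
      ∑ l : Dual K, (if l * l = 1 then 0 else
        (kd (Θ m) (Θ l) : ℂ) * (-(e : ℂ) * lam l (⟨t, I.htK⟩ : ↥K))) := by
    apply Finset.sum_congr rfl
    intro l _
    by_cases hl : l * l = 1
    · rw [if_pos hl, if_pos hl]
    · rw [if_neg hl, if_neg hl, h1 l hl]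
      push_cast
      ring
  rw [h2, h0, h9_sum_theta P0 m hm (fun l => -(e : ℂ) * lam l (⟨t, I.htK⟩ : ↥K)),
    h9_lam_inv_t I m] at hval
  have hval' : ((Θ m : Cfsg.IrrCharacter G) : G → ℂ) t = ((Θ m : Cfsg.IrrCharacter G) : G → ℂ)
      ((⟨t, I.htK⟩ : ↥K) : G) := rfl
  rw [hval', hval]
  push_cast
  ring

/-- P3b: under `Pat0`, `Θ_l(t)²` does not depend on `l` -/
theorem pat0_theta_sq [Fintype G] [Fintype (Cfsg.IrrCharacter G)] {t : G} {K : Subgroup G}
    (I : Inp t K) {e : ℤ} {o χ : Cfsg.IrrCharacter G} {Θ : Dual K → Cfsg.IrrCharacter G}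
    (P0 : Pat0 K e o χ Θ) (l m : Dual K) (hl : l * l ≠ 1) (hm : m * m ≠ 1) :
    (((Θ l : Cfsg.IrrCharacter G) : G → ℂ) t) ^ 2 = (((Θ m : Cfsg.IrrCharacter G) : G → ℂ) t) ^ 2 := by
  have hee : (e : ℂ) * (e : ℂ) = 1 := by
    rcases P0.he with h | h <;> rw [h] <;> norm_num
  have heeZ : e * e = 1 := by
    rcases P0.he with h | h <;> rw [h] <;> norm_num
  -- the structure equation, expanded
  have hS : ∀ l' : Dual K, l' * l' ≠ 1 →
      ((o : G → ℂ) t) ^ 2 / (o : G → ℂ) 1 + (e : ℂ) * (((χ : G → ℂ) t) ^ 2 / (χ : G → ℂ) 1) -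
        (e : ℂ) * ((((Θ l' : Cfsg.IrrCharacter G) : G → ℂ) t) ^ 2 /
          ((Θ l' : Cfsg.IrrCharacter G) : G → ℂ) 1) =
      2 * (Nat.card K : ℂ) ^ 2 / (nInv G : ℂ) := by
    intro l' hl'
    rw [← struct_eq I l' (h9_dual_ne_one hl')]
    have hterm : ∀ ψ : Cfsg.IrrCharacter G,
        (ai K l' ψ : ℂ) * ((ψ : G → ℂ) t) ^ 2 / (ψ : G → ℂ) 1 =
        (kd ψ o : ℂ) * (((ψ : G → ℂ) t) ^ 2 / (ψ : G → ℂ) 1) +
          (kd ψ χ : ℂ) * ((e : ℂ) * (((ψ : G → ℂ) t) ^ 2 / (ψ : G → ℂ) 1)) -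
          (kd ψ (Θ l') : ℂ) * ((e : ℂ) * (((ψ : G → ℂ) t) ^ 2 / (ψ : G → ℂ) 1)) := by
      intro ψ
      rw [P0.hai l' hl' ψ]
      push_cast
      ring
    rw [Finset.sum_congr rfl (fun ψ _ => hterm ψ), Finset.sum_sub_distrib, Finset.sum_add_distrib,
      sum_kd_mul_complex o (fun ψ : Cfsg.IrrCharacter G => ((ψ : G → ℂ) t) ^ 2 / (ψ : G → ℂ) 1),
      sum_kd_mul_complex χ
        (fun ψ : Cfsg.IrrCharacter G => (e : ℂ) * (((ψ : G → ℂ) t) ^ 2 / (ψ : G → ℂ) 1)),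
      sum_kd_mul_complex (Θ l')
        (fun ψ : Cfsg.IrrCharacter G => (e : ℂ) * (((ψ : G → ℂ) t) ^ 2 / (ψ : G → ℂ) 1))]
  -- the degrees
  have hD : ∀ l' : Dual K, l' * l' ≠ 1 → dg (Θ l') = e * dg o + dg χ := by
    intro l' hl'
    have h := ai_deg I l'
    have hterm : ∀ ψ : Cfsg.IrrCharacter G, ai K l' ψ * dg ψ =
        kd ψ o * dg ψ + kd ψ χ * (e * dg ψ) - kd ψ (Θ l') * (e * dg ψ) := by
      intro ψ
      rw [P0.hai l' hl' ψ]
      ring
    rw [Finset.sum_congr rfl (fun ψ _ => hterm ψ), Finset.sum_sub_distrib, Finset.sum_add_distrib,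
      sum_kd_mul o (fun ψ : Cfsg.IrrCharacter G => dg ψ),
      sum_kd_mul χ (fun ψ : Cfsg.IrrCharacter G => e * dg ψ),
      sum_kd_mul (Θ l') (fun ψ : Cfsg.IrrCharacter G => e * dg ψ)] at h
    have h' : e * dg (Θ l') = dg o + e * dg χ := by linarith
    calc dg (Θ l') = e * e * dg (Θ l') := by rw [heeZ, one_mul]
      _ = e * (e * dg (Θ l')) := by ring
      _ = e * (dg o + e * dg χ) := by rw [h']
      _ = e * dg o + e * e * dg χ := by ring
      _ = e * dg o + dg χ := by rw [heeZ, one_mul]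
  have hdl := (dg_spec (Θ l)).1
  have hdm := (dg_spec (Θ m)).1
  have hdpos := (dg_spec (Θ l)).2
  have hdeq : dg (Θ m) = dg (Θ l) := by rw [hD l hl, hD m hm]
  have hne : ((dg (Θ l) : ℤ) : ℂ) ≠ 0 := by
    have : dg (Θ l) ≠ 0 := by omega
    exact_mod_cast this
  have h1 := hS l hl
  have h2 := hS m hm
  rw [hdl] at h1
  rw [hdm, hdeq] at h2
  have h3 : (e : ℂ) * ((((Θ l : Cfsg.IrrCharacter G) : G → ℂ) t) ^ 2 / ((dg (Θ l) : ℤ) : ℂ)) =
      (e : ℂ) * ((((Θ m : Cfsg.IrrCharacter G) : G → ℂ) t) ^ 2 / ((dg (Θ l) : ℤ) : ℂ)) := by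
    linear_combination h2 - h1
  have h4 : (((Θ l : Cfsg.IrrCharacter G) : G → ℂ) t) ^ 2 / ((dg (Θ l) : ℤ) : ℂ) =
      (((Θ m : Cfsg.IrrCharacter G) : G → ℂ) t) ^ 2 / ((dg (Θ l) : ℤ) : ℂ) := by
    have := congrArg (fun z => (e : ℂ) * z) h3
    simp only [← mul_assoc, hee, one_mul] at this
    exact this
  field_simp at h4
  exact h4

/-- P3: the alternative is impossible when there are two classes -/
theorem alt_kill [Fintype G] [Fintype (Cfsg.IrrCharacter G)] {t : G} {K : Subgroup G}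
    (I : Inp t K) (l0 : Dual K) (hl0 : l0 ≠ 1 ∧ l0 * l0 = 1)
    (hl0u : ∀ l : Dual K, l * l = 1 → l = 1 ∨ l = l0)
    {e : ℤ} {o χ : Cfsg.IrrCharacter G} {Θ : Dual K → Cfsg.IrrCharacter G} (P0 : Pat0 K e o χ Θ)
    (hA : Alt K l0 e χ Θ) (h2 : TwoCl K) : False := by
  obtain ⟨l1, m1, hl1, hm1, hml, hmli⟩ := h2
  have hx := h9_t_ne_one I
  have hee : (e : ℂ) * (e : ℂ) = 1 := by
    rcases P0.he with h | h <;> rw [h] <;> norm_num
  have hw := lam_t I l0
  -- all `lam l t`, `l² ≠ 1`, coincide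
  have hconst : ∀ l : Dual K, l * l ≠ 1 → lam l ⟨t, I.htK⟩ = lam l1 ⟨t, I.htK⟩ := by
    intro l hl
    have h1 := pat0_theta_sq I P0 l l1 hl hl1
    rw [alt_val_theta I l0 hl0 hl0u P0 hA l hl, alt_val_theta I l0 hl0 hl0u P0 hA l1 hl1] at h1
    have h2 : (2 * lam l ⟨t, I.htK⟩ + lam l0 ⟨t, I.htK⟩) ^ 2 =
        (2 * lam l1 ⟨t, I.htK⟩ + lam l0 ⟨t, I.htK⟩) ^ 2 := by
      have e1 : ∀ z : ℂ, ((e : ℂ) * z) ^ 2 = z ^ 2 := by
        intro z
        calc ((e : ℂ) * z) ^ 2 = ((e : ℂ) * (e : ℂ)) * z ^ 2 := by ring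
          _ = z ^ 2 := by rw [hee, one_mul]
      rw [e1, e1] at h1
      exact h1
    rcases lam_t I l with hv | hv <;> rcases lam_t I l1 with hv1 | hv1 <;>
      rcases hw with hw | hw <;> rw [hv, hv1, hw] at h2 <;> rw [hv, hv1] <;> norm_num at h2
  -- the column relation at `t`
  have hsum := h9_sum_dual_split l0 hl0 hl0u (fun l => lam l (⟨t, I.htK⟩ : ↥K))
  rw [sum_dual_apply I ⟨t, I.htK⟩ hx, lam_one_left] at hsum
  have hsum2 : ∑ l : Dual K, (if l * l = 1 then 0 else lam l (⟨t, I.htK⟩ : ↥K)) =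
      ∑ l : Dual K, (if l * l = 1 then (0 : ℂ) else lam l1 (⟨t, I.htK⟩ : ↥K)) := by
    apply Finset.sum_congr rfl
    intro l _
    by_cases hl : l * l = 1
    · rw [if_pos hl, if_pos hl]
    · rw [if_neg hl, if_neg hl, hconst l hl]
  rw [hsum2, h9_sum_sq_ne_one_const I l0 hl0 hl0u] at hsum
  -- `k ≥ 5`
  have hk5 : 5 ≤ Nat.card K := by
    have hc := h9_sum_sq_ne_one_const I l0 hl0 hl0u 1
    rw [Finset.sum_ite, Finset.sum_const_zero, zero_add, Finset.sum_const, nsmul_eq_mul, mul_one,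
      mul_one] at hc
    have hc' : ((Finset.univ.filter (fun l : Dual K => ¬ l * l = 1)).card : ℂ) + 2 =
        (Nat.card K : ℂ) := by
      rw [hc]; ring
    have hc'' : (Finset.univ.filter (fun l : Dual K => ¬ l * l = 1)).card + 2 = Nat.card K := by
      exact_mod_cast hc'
    have hsub : ({l1, l1⁻¹, m1} : Finset (Dual K)) ⊆
        Finset.univ.filter (fun l : Dual K => ¬ l * l = 1) := by
      intro l hl
      simp only [Finset.mem_insert, Finset.mem_singleton] at hl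
      rw [Finset.mem_filter]
      refine ⟨Finset.mem_univ _, ?_⟩
      rcases hl with rfl | rfl | rfl
      · exact hl1
      · exact h9_dual_sq_inv hl1
      · exact hm1
    have h3 : ({l1, l1⁻¹, m1} : Finset (Dual K)).card = 3 := by
      rw [Finset.card_insert_of_notMem, Finset.card_insert_of_notMem, Finset.card_singleton]
      · rw [Finset.mem_singleton]
        exact fun h => hmli h.symm
      · rw [Finset.mem_insert, Finset.mem_singleton]
        rintro (h | h)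
        · exact h9_dual_inv_ne_self hl1 h.symm
        · exact hml h.symm
    have := Finset.card_le_card hsub
    omega
  have hk4 := I.k4
  rcases lam_t I l1 with hv | hv <;> rcases hw with hw | hw <;> rw [hv, hw] at hsum
  · -- 0 = 1 + 1 + (k - 2) * 1
    have h : (Nat.card K : ℂ) = 0 := by linear_combination -hsum
    have : Nat.card K = 0 := by exact_mod_cast h
    omega
  · -- 0 = 1 - 1 + (k - 2) * 1
    have h : (Nat.card K : ℂ) = 2 := by linear_combination -hsum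
    have : Nat.card K = 2 := by exact_mod_cast h
    omega
  · -- 0 = 1 + 1 + (k - 2) * (-1)
    have h : (Nat.card K : ℂ) = 4 := by linear_combination hsum
    have : Nat.card K = 4 := by exact_mod_cast h
    omega
  · -- 0 = 1 - 1 + (k - 2) * (-1)
    have h : (Nat.card K : ℂ) = 2 := by linear_combination hsum
    have : Nat.card K = 2 := by exact_mod_cast h
    omega

end Cfsg.Agent.Helper1.BswCh
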