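import Mathlib
import Cfsg.Prelude.Def_Characters
import Cfsg.Agent.Helper1.BswChDefs
import Cfsg.Agent.Helper9.BswCh_Aux9

/-!
# S3282 (abstract Brauer-Suzuki-Wall), character side: piece HS0 `sum_pat` (helper9)
-/

set_option autoImplicit false

namespace Cfsg.Agent.Helper1.BswCh

open scoped ComplexConjugate Classical
open Cfsg.Agent.Lead.Bsw (F nInv)

universe u

variable {G : Type u} [Group G]

section PatVals

variable [Fintype G] [Fintype (Cfsg.IrrCharacter G)] {t : G} {K : Subgroup G}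
  {l0 : Dual K} {e : ℤ} {o χ ξ1 ξ2 : Cfsg.IrrCharacter G} {Θ : Dual K → Cfsg.IrrCharacter G}
  {s1 s2 : ℤ}

/-- S0: splitting a sum over the irreducible characters along the pattern -/
theorem sum_pat (P : Pat K l0 e o χ ξ1 ξ2 Θ s1 s2) (T : Cfsg.IrrCharacter G → ℂ)
    (hT : ∀ ψ : Cfsg.IrrCharacter G, ψ ≠ o → ψ ≠ χ → ψ ≠ ξ1 → ψ ≠ ξ2 →
      (∀ m : Dual K, m * m ≠ 1 → ψ ≠ Θ m) → T ψ = 0) :
    ∑ ψ : Cfsg.IrrCharacter G, T ψ =
      T o + T χ + T ξ1 + T ξ2 +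
        (1 / 2 : ℂ) * ∑ m : Dual K, (if m * m = 1 then 0 else T (Θ m)) := by
  have hzero : ∀ ψ : Cfsg.IrrCharacter G, (∀ m : Dual K, m * m ≠ 1 → ψ ≠ Θ m) →
      ∑ m : Dual K, (if m * m = 1 then 0 else (kd ψ (Θ m) : ℂ) * T (Θ m)) = 0 := by
    intro ψ hψ
    apply Finset.sum_eq_zero
    intro m _
    by_cases hm : m * m = 1
    · rw [if_pos hm]
    · rw [if_neg hm, kd_ne (hψ m hm)]
      push_cast
      ring
  have hpt : ∀ ψ : Cfsg.IrrCharacter G, T ψ =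
      (kd ψ o : ℂ) * T o + (kd ψ χ : ℂ) * T χ + (kd ψ ξ1 : ℂ) * T ξ1 + (kd ψ ξ2 : ℂ) * T ξ2 +
        (1 / 2 : ℂ) * ∑ m : Dual K, (if m * m = 1 then 0 else (kd ψ (Θ m) : ℂ) * T (Θ m)) := by
    intro ψ
    by_cases h1 : ψ = o
    · subst h1
      rw [hzero ψ (fun m hm => ((P.p0.hΘ m hm).1).symm), kd_self,
        kd_ne (Ne.symm P.p0.hχo), kd_ne (Ne.symm P.hξ1.1), kd_ne (Ne.symm P.hξ2.1)]
      push_cast
      ring
    by_cases h2 : ψ = χ
    · subst h2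
      rw [hzero ψ (fun m hm => ((P.p0.hΘ m hm).2).symm), kd_self,
        kd_ne h1, kd_ne (Ne.symm P.hξ1.2), kd_ne (Ne.symm P.hξ2.2)]
      push_cast
      ring
    by_cases h3 : ψ = ξ1
    · subst h3
      rw [hzero ψ (fun m hm => ((P.hΘξ m hm).1).symm), kd_self,
        kd_ne h1, kd_ne h2, kd_ne P.hξ12]
      push_cast
      ring
    by_cases h4 : ψ = ξ2
    · subst h4
      rw [hzero ψ (fun m hm => ((P.hΘξ m hm).2).symm), kd_self,
        kd_ne h1, kd_ne h2, kd_ne h3]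
      push_cast
      ring
    by_cases h5 : ∃ m0 : Dual K, m0 * m0 ≠ 1 ∧ ψ = Θ m0
    · obtain ⟨m0, hm0, rfl⟩ := h5
      rw [h9_sum_theta P.p0 m0 hm0 (fun m => T (Θ m)), P.p0.hΘinv m0, kd_ne h1, kd_ne h2,
        kd_ne h3, kd_ne h4]
      push_cast
      ring
    · push Not at h5
      rw [hzero ψ (fun m hm => h5 m hm), kd_ne h1, kd_ne h2, kd_ne h3, kd_ne h4,
        hT ψ h1 h2 h3 h4 (fun m hm => h5 m hm)]
      push_cast
      ring
  rw [Finset.sum_congr rfl (fun ψ _ => hpt ψ)]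
  simp only [Finset.sum_add_distrib, ← Finset.mul_sum]
  rw [sum_kd_mul_complex o (fun _ => T o), sum_kd_mul_complex χ (fun _ => T χ),
    sum_kd_mul_complex ξ1 (fun _ => T ξ1), sum_kd_mul_complex ξ2 (fun _ => T ξ2),
    Finset.sum_comm]
  congr 2
  apply Finset.sum_congr rfl
  intro m _
  by_cases hm : m * m = 1
  · simp only [if_pos hm]
    exact Finset.sum_const_zero
  · simp only [if_neg hm]
    exact sum_kd_mul_complex (Θ m) (fun _ => T (Θ m))

end PatVals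

end Cfsg.Agent.Helper1.BswCh
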