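import Mathlib

set_option autoImplicit false

namespace Cfsg.Agent.Helper9

open Equiv

/-- the 3-cycle (0 1 2) -/
def cc3 : Perm (Fin 3) := swap 0 1 * swap 1 2
/-- the transposition (1 2) -/
def ss3 : Perm (Fin 3) := swap 1 2

theorem enum3 : ∀ σ : Perm (Fin 3),
    σ = 1 ∨ σ = cc3 ∨ σ = cc3 * cc3 ∨ σ = ss3 ∨ σ = cc3 * ss3 ∨ σ = cc3 * cc3 * ss3 := by
  decide

theorem swap01_eq : (swap 0 1 : Perm (Fin 3)) = cc3 * ss3 := by decide

/-- the underlying function of the homomorphism `S₃ → G` determined by a rotation `x` and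
a reflection `y` -/
def phi3 {G : Type*} [Group G] (x y : G) (σ : Perm (Fin 3)) : G :=
  x ^ (σ 0).val * y ^ (if σ 1 = σ 0 + 1 then 0 else 1)

theorem phi3_mul {G : Type*} [Group G] (x y : G) (hy : y * y = 1) (hx : x * (x * x) = 1)
    (hyx : y * x = x * (x * y)) (σ τ : Perm (Fin 3)) :
    phi3 x y (σ * τ) = phi3 x y σ * phi3 x y τ := by
  have hy' : ∀ z, y * (y * z) = z := fun z => by rw [← mul_assoc, hy, one_mul]
  have hx' : ∀ z, x * (x * (x * z)) = z := fun z => by
    calc x * (x * (x * z)) = (x * (x * x)) * z := by simp only [mul_assoc]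
      _ = z := by rw [hx, one_mul]
  have hyx' : ∀ z, y * (x * z) = x * (x * (y * z)) := fun z => by
    rw [← mul_assoc, hyx]; simp only [mul_assoc]
  rcases enum3 σ with rfl | rfl | rfl | rfl | rfl | rfl <;>
  rcases enum3 τ with rfl | rfl | rfl | rfl | rfl | rfl <;>
  simp (config := {decide := true}) only [phi3, cc3, ss3, Perm.mul_apply, swap_apply_def,
    Perm.one_apply, pow_zero, if_true, if_false, mul_one, one_mul, mul_assoc, hy, hx,
    hyx, hx', hyx', Fin.val_zero, Fin.val_one, Fin.val_two, pow_succ]

/-- The homomorphism `S₃ → G` attached to two involutions `d, e` satisfying the braid relation: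
`(1 2) ↦ d`, `(0 1) ↦ e`. -/
def hom3 {G : Type*} [Group G] (d e : G) (hd : d * d = 1) (he : e * e = 1)
    (hbr : d * e * d = e * d * e) : Perm (Fin 3) →* G :=
  MonoidHom.mk' (phi3 (e * d) d) (by
    intro σ τ
    apply phi3_mul _ _ hd
    · -- (e d)(e d)(e d) = (e d e)(d e d) = (d e d)(d e d) = 1
      calc (e * d) * ((e * d) * (e * d)) = (e * d * e) * (d * e * d) := by simp only [mul_assoc]
        _ = (d * e * d) * (d * e * d) := by rw [hbr]
        _ = d * (e * ((d * d) * (e * d))) := by simp only [mul_assoc]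
        _ = 1 := by rw [hd, one_mul, ← mul_assoc e e, he, one_mul, hd]
    · -- d * (e d) = (e d) (e d) d
      calc d * (e * d) = d * e * d := by rw [mul_assoc]
        _ = e * d * e := hbr
        _ = e * (d * (e * (d * d))) := by rw [hd, mul_one]; simp only [mul_assoc]
        _ = (e * d) * ((e * d) * d) := by simp only [mul_assoc])

theorem hom3_apply {G : Type*} [Group G] (d e : G) (hd : d * d = 1) (he : e * e = 1)
    (hbr : d * e * d = e * d * e) (σ : Perm (Fin 3)) :
    hom3 d e hd he hbr σ = phi3 (e * d) d σ := rfl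

theorem hom3_swap12 {G : Type*} [Group G] (d e : G) (hd : d * d = 1) (he : e * e = 1)
    (hbr : d * e * d = e * d * e) : hom3 d e hd he hbr (swap 1 2) = d := by
  rw [hom3_apply]
  simp (config := {decide := true}) only [phi3, swap_apply_def, if_true, if_false,
    Fin.val_zero, pow_zero, pow_one, one_mul]

theorem hom3_swap01 {G : Type*} [Group G] (d e : G) (hd : d * d = 1) (he : e * e = 1)
    (hbr : d * e * d = e * d * e) : hom3 d e hd he hbr (swap 0 1) = e := by
  rw [hom3_apply]
  simp (config := {decide := true}) only [phi3, swap_apply_def, if_true, if_false,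
    Fin.val_one, pow_one, mul_assoc, hd, mul_one]

theorem hom3_mem_closure {G : Type*} [Group G] (d e : G) (hd : d * d = 1) (he : e * e = 1)
    (hbr : d * e * d = e * d * e) (σ : Perm (Fin 3)) :
    hom3 d e hd he hbr σ ∈ Subgroup.closure ({d, e} : Set G) := by
  rw [hom3_apply]
  have h1 : d ∈ Subgroup.closure ({d, e} : Set G) := Subgroup.subset_closure (by simp)
  have h2 : e ∈ Subgroup.closure ({d, e} : Set G) := Subgroup.subset_closure (by simp)
  exact Subgroup.mul_mem _ (Subgroup.pow_mem _ (Subgroup.mul_mem _ h2 h1) _) (Subgroup.pow_mem _ h1 _)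

theorem hom3_range {G : Type*} [Group G] (d e : G) (hd : d * d = 1) (he : e * e = 1)
    (hbr : d * e * d = e * d * e) :
    (hom3 d e hd he hbr).range = Subgroup.closure ({d, e} : Set G) := by
  apply le_antisymm
  · rintro _ ⟨σ, rfl⟩
    exact hom3_mem_closure d e hd he hbr σ
  · rw [Subgroup.closure_le]
    intro z hz
    rcases hz with rfl | hz
    · exact ⟨swap 1 2, hom3_swap12 _ e hd he hbr⟩
    · rw [Set.mem_singleton_iff] at hz
      subst hz
      exact ⟨swap 0 1, hom3_swap01 d _ hd he hbr⟩

theorem hom3_injective {G : Type*} [Group G] (d e : G) (hd : d * d = 1) (he : e * e = 1)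
    (hbr : d * e * d = e * d * e) (hd1 : d ≠ 1) (hde : d ≠ e) :
    Function.Injective (hom3 d e hd he hbr) := by
  rw [injective_iff_map_eq_one]
  intro σ hσ
  rw [hom3_apply] at hσ
  have hei : e⁻¹ = e := inv_eq_of_mul_eq_one_left he
  have hx1 : e * d ≠ 1 := by
    intro h
    apply hde
    have : d = e⁻¹ := eq_inv_of_mul_eq_one_right h
    rw [this, hei]
  have hx3 : (e * d) * ((e * d) * (e * d)) = 1 := by
    calc (e * d) * ((e * d) * (e * d)) = (e * d * e) * (d * e * d) := by simp only [mul_assoc]
      _ = (d * e * d) * (d * e * d) := by rw [hbr]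
      _ = d * (e * ((d * d) * (e * d))) := by simp only [mul_assoc]
      _ = 1 := by rw [hd, one_mul, ← mul_assoc e e, he, one_mul, hd]
  rcases enum3 σ with rfl | rfl | rfl | rfl | rfl | rfl
  · rfl
  · exfalso
    simp (config := {decide := true}) only [phi3, cc3, Perm.mul_apply, swap_apply_def,
      if_true, if_false, Fin.val_one, pow_one, pow_zero, mul_one] at hσ
    exact hx1 hσ
  · exfalso
    simp (config := {decide := true}) only [phi3, cc3, Perm.mul_apply, swap_apply_def,
      if_true, if_false, Fin.val_two, pow_zero, mul_one, pow_succ, one_mul] at hσ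
    -- x * x = 1 and x^3 = 1 give x = 1
    rw [hσ, mul_one] at hx3
    exact hx1 hx3
  · exfalso
    simp (config := {decide := true}) only [phi3, ss3, swap_apply_def,
      if_true, if_false, Fin.val_zero, pow_one, pow_zero, one_mul] at hσ
    exact hd1 hσ
  · exfalso
    simp (config := {decide := true}) only [phi3, cc3, ss3, Perm.mul_apply, swap_apply_def,
      if_true, if_false, Fin.val_one, pow_one, pow_zero, mul_one, mul_assoc, hd] at hσ
    -- e = 1 → d e d = d d = 1 = e d e = d → d = 1
    apply hd1
    rw [hσ, mul_one, one_mul, mul_one, hd] at hbr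
    exact hbr.symm
  · exfalso
    simp (config := {decide := true}) only [phi3, cc3, ss3, Perm.mul_apply, swap_apply_def,
      if_true, if_false, Fin.val_two, pow_one, pow_zero, mul_one, one_mul, pow_succ, mul_assoc,
      hd] at hσ
    -- e d e = 1 → d = 1
    apply hd1
    have : e * (e * (d * e)) * e = e * 1 * e := by rw [hσ]
    rw [mul_one, he] at this
    rw [← this]
    calc d = (e * e) * d * (e * e) := by rw [he, one_mul, mul_one]
      _ = e * (e * (d * e)) * e := by simp only [mul_assoc]

/-- Two distinct non-commuting involutions satisfying the braid relation generate a copy of `S₃`. -/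
theorem closure_pair_equiv_perm3 {G : Type*} [Group G] (d e : G) (hd : d * d = 1) (he : e * e = 1)
    (hbr : d * e * d = e * d * e) (hd1 : d ≠ 1) (hde : d ≠ e) :
    Nonempty (Subgroup.closure ({d, e} : Set G) ≃* Perm (Fin 3)) := by
  have h1 := MonoidHom.ofInjective (hom3_injective d e hd he hbr hd1 hde)
  have h2 := MulEquiv.subgroupCongr (hom3_range d e hd he hbr)
  exact ⟨(h1.trans h2).symm⟩

end Cfsg.Agent.Helper9
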