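import Mathlib
import Cfsg.Prelude.Def_SporadicB

set_option autoImplicit false

namespace Cfsg.Agent.Helper9

variable {G : Type*} [Group G]

theorem mul_self_of_orderOf_two {d : G} (h : orderOf d = 2) : d * d = 1 := by
  have := pow_orderOf_eq_one d
  rw [h, pow_two] at this
  exact this

theorem inv_eq_self_of_mul_self {d : G} (h : d * d = 1) : d⁻¹ = d :=
  inv_eq_of_mul_eq_one_left h

theorem commute_of_sq {d e : G} (hd : d * d = 1) (he : e * e = 1) (h : (d * e) ^ 2 = 1) :
    Commute d e := by
  -- d e d e = 1 → d e = e⁻¹ d⁻¹ = e d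
  rw [pow_two] at h
  have h1 : d * e = (d * e)⁻¹ := (inv_eq_of_mul_eq_one_left h).symm
  rw [mul_inv_rev, inv_eq_self_of_mul_self hd, inv_eq_self_of_mul_self he] at h1
  exact h1

theorem braid_of_cube {d e : G} (hd : d * d = 1) (he : e * e = 1) (h : (d * e) ^ 3 = 1) :
    d * e * d = e * d * e := by
  -- (de)^3 = 1 → d e d e d e = 1 → d e d = (e d e)⁻¹ = e d e
  have h1 : d * e * d * (e * d * e) = 1 := by
    rw [pow_succ, pow_two] at h
    simpa [mul_assoc] using h
  have h2 : d * e * d = (e * d * e)⁻¹ := eq_inv_of_mul_eq_one_left h1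
  rw [h2]
  simp [mul_inv_rev, inv_eq_self_of_mul_self hd, inv_eq_self_of_mul_self he, mul_assoc]

/-- In a 3-transposition set, two members either commute or satisfy the braid relation. -/
theorem commute_or_braid {E : Set G} (hE : Cfsg.IsThreeTranspositionSet E) {d e : G}
    (hd : d ∈ E) (he : e ∈ E) : Commute d e ∨ d * e * d = e * d * e := by
  have hd2 := mul_self_of_orderOf_two (hE.1 d hd)
  have he2 := mul_self_of_orderOf_two (hE.1 e he)
  rcases hE.2 d hd e he with h | h
  · exact Or.inl (commute_of_sq hd2 he2 h)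
  · exact Or.inr (braid_of_cube hd2 he2 h)

end Cfsg.Agent.Helper9
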