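import Mathlib
import Cfsg.Agent.Helper4.MCDefs
import Cfsg.Agent.Helper1.BurnsideBasis
import Cfsg.Agent.Helper1.MaxClassNormal

set_option autoImplicit false

/-! Helper9, maximal class project, piece F: generators of a subgroup of a finite `p`-group from the index of a subgroup
of the product of its commutator subgroup and the subgroup generated by the `p`-th powers (Burnside's basis theorem). -/

namespace Cfsg.Agent.Helper9.MC

open scoped commutatorElement
open Cfsg.Agent.Helper8.HP (agemo)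
open Cfsg.Agent.Helper4.MC

section F
variable {G : Type*} [Group G] [Finite G] {p : ℕ} [Fact p.Prime]

/-- the commutator subgroup and the `p`-th powers of a subgroup lie in the image of its Frattini subgroup. -/
theorem sup_le_map_frattini (hG : IsPGroup p G) (H : Subgroup G) :
    ⁅H, H⁆ ⊔ agemo p H ≤ (frattini ↥H).map H.subtype := by
  have hH : IsPGroup p ↥H := hG.to_subgroup H
  apply sup_le
  · rw [← Subgroup.map_subtype_commutator]
    exact Subgroup.map_mono (Cfsg.Agent.Helper1.IsPGroup.commutator_le_frattini hH)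
  · unfold agemo
    rw [Subgroup.closure_le]
    rintro y ⟨h, hh, rfl⟩
    exact ⟨(⟨h, hh⟩ : ↥H) ^ p, Cfsg.Agent.Helper1.IsPGroup.pow_mem_frattini hH ⟨h, hh⟩, rfl⟩

theorem exists_gens_of_relIndex_le (hG : IsPGroup p G) (H N : Subgroup G)
    (hN : N ≤ ⁅H, H⁆ ⊔ agemo p H) {k : ℕ} (h : N.relIndex H ≤ p ^ k) :
    ∃ T : Finset G, T.card ≤ k ∧ Subgroup.closure (T : Set G) = H := by
  classical
  have hp : p.Prime := Fact.out
  have hH : IsPGroup p ↥H := hG.to_subgroup H
  -- the Frattini subgroup of `H` contains `N`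
  have hle : N.subgroupOf H ≤ frattini ↥H := by
    intro x hx
    obtain ⟨y, hy, hyx⟩ := sup_le_map_frattini hG H (hN (Subgroup.mem_subgroupOf.1 hx))
    have : y = x := Subtype.ext hyx
    rw [← this]
    exact hy
  obtain ⟨m, hm⟩ : ∃ m, (frattini ↥H).index = p ^ m := by
    have h1 : (frattini ↥H).index ∣ Nat.card ↥H := Subgroup.index_dvd_card _
    obtain ⟨a, ha⟩ := IsPGroup.iff_card.1 hH
    rw [ha] at h1
    obtain ⟨m, -, hm⟩ := (Nat.dvd_prime_pow hp).1 h1
    exact ⟨m, hm⟩
  have hmk : m ≤ k := by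
    have h1 : (frattini ↥H).index ∣ (N.subgroupOf H).index := Subgroup.index_dvd_of_le hle
    have h2 : (N.subgroupOf H).index ≠ 0 := Subgroup.index_ne_zero_of_finite
    have h3 : (frattini ↥H).index ≤ (N.subgroupOf H).index := Nat.le_of_dvd (Nat.pos_of_ne_zero h2) h1
    have h4 : p ^ m ≤ p ^ k := by
      rw [← hm]
      exact h3.trans h
    exact (Nat.pow_le_pow_iff_right hp.one_lt).1 h4
  obtain ⟨hA, -⟩ := Cfsg.Agent.Helper1.burnside_basis (G := ↥H) p m hH hm
  letI : Fintype ↥H := Fintype.ofFinite ↥H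
  obtain ⟨T, -, hTc, hT⟩ := hA Finset.univ (by
    rw [Finset.coe_univ, Subgroup.closure_univ])
  refine ⟨T.image H.subtype, ?_, ?_⟩
  · exact (Finset.card_image_le).trans (by rw [hTc]; exact hmk)
  · rw [Finset.coe_image, ← MonoidHom.map_closure, hT, ← MonoidHom.range_eq_map, Subgroup.range_subtype]

theorem exists_gens_of_relIndex_agemo_le (hG : IsPGroup p G) (H : Subgroup G) {k : ℕ}
    (h : (agemo p H).relIndex H ≤ p ^ k) :
    ∃ T : Finset G, T.card ≤ k ∧ Subgroup.closure (T : Set G) = H :=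
  exists_gens_of_relIndex_le hG H (agemo p H) le_sup_right h

theorem IsMC.exists_two_gens {n : ℕ} (hG : IsMC p n G) :
    ∃ T : Finset G, T.card ≤ 2 ∧ Subgroup.closure (T : Set G) = ⊤ := by
  have hp : p.Prime := Fact.out
  have hGp : IsPGroup p G := IsPGroup.of_card hG.card
  have h3 := hG.three_le
  apply exists_gens_of_relIndex_le hGp ⊤ (gam G 2)
  · exact le_sup_left
  · rw [Subgroup.relIndex_top_right]
    have h1 : Nat.card (gam G 2) = p ^ (n - 1 - 1) :=
      Cfsg.Agent.Helper1.maxClass_card_lcs n hG.card hG.cls hG.three_le 1 le_rfl (by omega)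
    have h2 := Subgroup.card_mul_index (gam G 2)
    rw [h1, hG.card] at h2
    have h4 : p ^ n = p ^ (n - 1 - 1) * p ^ 2 := by
      rw [← pow_add]
      congr 1
      omega
    rw [h4] at h2
    have h5 : 0 < p ^ (n - 1 - 1) := Nat.pos_of_ne_zero (pow_ne_zero _ hp.ne_zero)
    exact le_of_eq (Nat.eq_of_mul_eq_mul_left h5 h2)

end F

end Cfsg.Agent.Helper9.MC
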