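import Mathlib

set_option autoImplicit false

/-!
Helper9: irreducibility (over the prime field, i.e. for additive subgroups) of the natural module of the derived
group of `SL₂(F)` (any field `F`), and of the even-weight submodule of `𝔽₂ⁿ`, `n` odd, for the alternating group.
Pure linear algebra / permutation combinatorics, Mathlib only.
-/

namespace Cfsg.Agent.Helper9.BB

open Matrix
open scoped commutatorElement

section SL2

variable {F : Type*} [Field F]

/-- upper transvection -/
def tU (μ : F) : Matrix.SpecialLinearGroup (Fin 2) F :=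
  ⟨!![1, μ; 0, 1], by simp [Matrix.det_fin_two]⟩

/-- lower transvection -/
def tL (μ : F) : Matrix.SpecialLinearGroup (Fin 2) F :=
  ⟨!![1, 0; μ, 1], by simp [Matrix.det_fin_two]⟩

/-- diagonal element -/
def dG (a : F) (ha : a ≠ 0) : Matrix.SpecialLinearGroup (Fin 2) F :=
  ⟨!![a, 0; 0, a⁻¹], by simp [Matrix.det_fin_two, ha]⟩

theorem tU_mul (a b : F) : tU a * tU b = tU (a + b) := by
  apply Subtype.ext
  show (tU a).1 * (tU b).1 = (tU (a + b)).1
  simp [tU, add_comm]

theorem tL_mul (a b : F) : tL a * tL b = tL (a + b) := by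
  apply Subtype.ext
  show (tL a).1 * (tL b).1 = (tL (a + b)).1
  simp [tL]

theorem tU_zero : tU (0 : F) = 1 := by
  apply Matrix.SpecialLinearGroup.ext
  intro i j
  fin_cases i <;> fin_cases j <;> simp [tU]

theorem tL_zero : tL (0 : F) = 1 := by
  apply Matrix.SpecialLinearGroup.ext
  intro i j
  fin_cases i <;> fin_cases j <;> simp [tL]

theorem tU_inv (a : F) : (tU a)⁻¹ = tU (-a) := by
  rw [inv_eq_iff_mul_eq_one, tU_mul, add_neg_cancel, tU_zero]

theorem tL_inv (a : F) : (tL a)⁻¹ = tL (-a) := by
  rw [inv_eq_iff_mul_eq_one, tL_mul, add_neg_cancel, tL_zero]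

theorem dG_mul_tU (a : F) (ha : a ≠ 0) (l : F) : dG a ha * tU l = tU (a ^ 2 * l) * dG a ha := by
  apply Subtype.ext
  show (dG a ha).1 * (tU l).1 = (tU (a ^ 2 * l)).1 * (dG a ha).1
  simp [tU, dG]
  field_simp

theorem dG_mul_tL (a : F) (ha : a ≠ 0) (l : F) :
    dG a ha * tL l = tL ((a⁻¹) ^ 2 * l) * dG a ha := by
  apply Subtype.ext
  show (dG a ha).1 * (tL l).1 = (tL ((a⁻¹) ^ 2 * l)).1 * (dG a ha).1
  simp [tL, dG]
  field_simp

theorem comm_dG_tU (a : F) (ha : a ≠ 0) (l : F) : ⁅dG a ha, tU l⁆ = tU ((a ^ 2 - 1) * l) := by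
  rw [commutatorElement_def, dG_mul_tU, mul_assoc (tU _), mul_inv_cancel, mul_one, tU_inv, tU_mul]
  congr 1
  ring

theorem comm_dG_tL (a : F) (ha : a ≠ 0) (l : F) :
    ⁅dG a ha, tL l⁆ = tL (((a⁻¹) ^ 2 - 1) * l) := by
  rw [commutatorElement_def, dG_mul_tL, mul_assoc (tL _), mul_inv_cancel, mul_one, tL_inv, tL_mul]
  congr 1
  ring

theorem tU_mem_commutator {a : F} (ha : a ≠ 0) (ha2 : a ^ 2 ≠ 1) (μ : F) :
    tU μ ∈ commutator (Matrix.SpecialLinearGroup (Fin 2) F) := by
  have h : a ^ 2 - 1 ≠ 0 := sub_ne_zero.2 ha2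
  have : tU μ = ⁅dG a ha, tU (μ / (a ^ 2 - 1))⁆ := by
    rw [comm_dG_tU]; congr 1; field_simp
  rw [this, commutator_def]
  exact Subgroup.commutator_mem_commutator (Subgroup.mem_top _) (Subgroup.mem_top _)

theorem tL_mem_commutator {a : F} (ha : a ≠ 0) (ha2 : a ^ 2 ≠ 1) (μ : F) :
    tL μ ∈ commutator (Matrix.SpecialLinearGroup (Fin 2) F) := by
  have ha2' : (a⁻¹) ^ 2 ≠ 1 := by
    intro h
    apply ha2
    have : (a⁻¹) ^ 2 * a ^ 2 = 1 := by field_simp
    rw [h, one_mul] at this
    exact this
  have h : (a⁻¹) ^ 2 - 1 ≠ 0 := sub_ne_zero.2 ha2'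
  have : tL μ = ⁅dG a ha, tL (μ / ((a⁻¹) ^ 2 - 1))⁆ := by
    rw [comm_dG_tL]; congr 1; field_simp
  rw [this, commutator_def]
  exact Subgroup.commutator_mem_commutator (Subgroup.mem_top _) (Subgroup.mem_top _)

/-- the commutator `[tU 1, tL 1]`. -/
def cG : Matrix.SpecialLinearGroup (Fin 2) F :=
  ⟨!![3, -1; 1, 0], by simp [Matrix.det_fin_two]⟩

theorem cG_eq : (cG : Matrix.SpecialLinearGroup (Fin 2) F) = ⁅tU (1 : F), tL (1 : F)⁆ := by
  rw [commutatorElement_def, tU_inv, tL_inv]
  apply Subtype.ext
  show (cG : Matrix.SpecialLinearGroup (Fin 2) F).1 = (tU 1).1 * (tL 1).1 * (tU (-1)).1 * (tL (-1)).1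
  simp [cG, tU, tL]
  norm_num

theorem cG_mem_commutator :
    (cG : Matrix.SpecialLinearGroup (Fin 2) F) ∈ commutator (Matrix.SpecialLinearGroup (Fin 2) F) := by
  rw [cG_eq, commutator_def]
  exact Subgroup.commutator_mem_commutator (Subgroup.mem_top _) (Subgroup.mem_top _)

theorem tU_mulVec (μ : F) (v : Fin 2 → F) :
    (tU μ : Matrix (Fin 2) (Fin 2) F).mulVec v = ![v 0 + μ * v 1, v 1] := by
  ext i
  fin_cases i <;> simp [tU, Matrix.mulVec, dotProduct, Fin.sum_univ_two]

theorem tL_mulVec (μ : F) (v : Fin 2 → F) :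
    (tL μ : Matrix (Fin 2) (Fin 2) F).mulVec v = ![v 0, μ * v 0 + v 1] := by
  ext i
  fin_cases i <;> simp [tL, Matrix.mulVec, dotProduct, Fin.sum_univ_two]

theorem cG_mulVec (v : Fin 2 → F) :
    (cG : Matrix.SpecialLinearGroup (Fin 2) F).1.mulVec v = ![3 * v 0 - v 1, v 0] := by
  ext i
  fin_cases i <;> simp [cG, Matrix.mulVec, dotProduct, Fin.sum_univ_two, sub_eq_add_neg]

/-- **Irreducibility of the natural module of `SL₂(F)'` over the prime field.** -/
theorem sl2_commutator_irred (M : AddSubgroup (Fin 2 → F))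
    (hM : ∀ g ∈ commutator (Matrix.SpecialLinearGroup (Fin 2) F), ∀ v ∈ M,
      (g : Matrix (Fin 2) (Fin 2) F).mulVec v ∈ M) : M = ⊥ ∨ M = ⊤ := by
  by_cases hbot : M = ⊥
  · exact Or.inl hbot
  right
  obtain ⟨v, hv, hv0⟩ : ∃ v ∈ M, v ≠ 0 := by
    by_contra h
    push Not at h
    apply hbot
    rw [eq_bot_iff]
    intro v hv
    rw [AddSubgroup.mem_bot]
    exact h v hv
  rw [eq_top_iff]
  by_cases hex : ∃ a : F, a ≠ 0 ∧ a ^ 2 ≠ 1
  · obtain ⟨a, ha, ha2⟩ := hex
    -- transvections are available
    have hU : ∀ μ : F, ∀ w ∈ M, (![μ * w 1, 0] : Fin 2 → F) ∈ M := by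
      intro μ w hw
      have h1 := hM _ (tU_mem_commutator ha ha2 μ) w hw
      rw [tU_mulVec] at h1
      have h2 := M.sub_mem h1 hw
      have : (![w 0 + μ * w 1, w 1] - w : Fin 2 → F) = ![μ * w 1, 0] := by
        ext i; fin_cases i <;> simp
      rwa [this] at h2
    have hL : ∀ μ : F, ∀ w ∈ M, (![0, μ * w 0] : Fin 2 → F) ∈ M := by
      intro μ w hw
      have h1 := hM _ (tL_mem_commutator ha ha2 μ) w hw
      rw [tL_mulVec] at h1
      have h2 := M.sub_mem h1 hw
      have : (![w 0, μ * w 0 + w 1] - w : Fin 2 → F) = ![0, μ * w 0] := by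
        ext i; fin_cases i <;> simp
      rwa [this] at h2
    -- both coordinate lines are in `M`
    have key : (∀ s : F, (![s, 0] : Fin 2 → F) ∈ M) ∧ (∀ t : F, (![0, t] : Fin 2 → F) ∈ M) := by
      by_cases hy : v 1 = 0
      · have hx : v 0 ≠ 0 := by
          intro hx
          apply hv0
          ext i; fin_cases i
          · exact hx
          · exact hy
        have h2 : ∀ t : F, (![0, t] : Fin 2 → F) ∈ M := by
          intro t
          have := hL (t / v 0) v hv
          rwa [div_mul_cancel₀ _ hx] at this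
        refine ⟨?_, h2⟩
        intro s
        have := hU s _ (h2 1)
        simpa using this
      · have h1 : ∀ s : F, (![s, 0] : Fin 2 → F) ∈ M := by
          intro s
          have := hU (s / v 1) v hv
          rwa [div_mul_cancel₀ _ hy] at this
        refine ⟨h1, ?_⟩
        intro t
        have := hL t _ (h1 1)
        simpa using this
    intro w _
    have : w = ![w 0, 0] + ![0, w 1] := by
      ext i; fin_cases i <;> simp
    rw [this]
    exact M.add_mem (key.1 _) (key.2 _)
  · -- every nonzero element has square one: `F = {0, 1, -1}`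
    push Not at hex
    have hF : ∀ a : F, a = 0 ∨ a = 1 ∨ a = -1 := by
      intro a
      by_cases ha : a = 0
      · exact Or.inl ha
      · right
        have h1 := hex a ha
        have h2 : (a - 1) * (a + 1) = 0 := by ring_nf; rw [h1]; ring
        rcases mul_eq_zero.1 h2 with h | h
        · left; exact sub_eq_zero.1 h
        · right; exact eq_neg_of_add_eq_zero_left h
    have h5 : (5 : F) ≠ 0 := by
      rcases hF 2 with h | h | h
      · intro h5
        have : (5 : F) = 2 * 2 + 1 := by norm_num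
        rw [this, h] at h5
        simp at h5
      · exfalso
        have : (1 : F) = 0 := by
          have h' : (2 : F) = 1 + 1 := by norm_num
          rw [h'] at h
          exact add_eq_right.1 h
        exact one_ne_zero this
      · intro h5
        have : (5 : F) = 2 * 2 + 1 := by norm_num
        rw [this, h] at h5
        have h6 : (2 : F) = 0 := by
          have : (-1 : F) * -1 + 1 = 2 := by norm_num
          rw [← this]; exact h5
        rw [h6] at h
        have : (1 : F) = 0 := by
          have := congrArg (fun x => -x) h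
          simpa using this.symm
        exact one_ne_zero this
    have hneg1 : (-1 : F) ≠ 0 := neg_ne_zero.2 one_ne_zero
    set x := v 0 with hx
    set y := v 1 with hy
    have hN : x ^ 2 - 3 * x * y + y ^ 2 ≠ 0 := by
      have hxy : ¬ (x = 0 ∧ y = 0) := by
        rintro ⟨h1, h2⟩
        apply hv0
        ext i; fin_cases i
        · exact h1
        · exact h2
      rcases hF x with h1 | h1 | h1 <;> rcases hF y with h2 | h2 | h2 <;> rw [h1, h2]
      · exact absurd ⟨h1, h2⟩ hxy
      · norm_num
      · norm_num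
      · norm_num
      · have : (1 : F) ^ 2 - 3 * 1 * 1 + 1 ^ 2 = -1 := by norm_num
        rw [this]; exact hneg1
      · have : (1 : F) ^ 2 - 3 * 1 * (-1) + (-1) ^ 2 = 5 := by norm_num
        rw [this]; exact h5
      · norm_num
      · have : (-1 : F) ^ 2 - 3 * (-1) * 1 + 1 ^ 2 = 5 := by norm_num
        rw [this]; exact h5
      · have : (-1 : F) ^ 2 - 3 * (-1) * (-1) + (-1) ^ 2 = -1 := by norm_num
        rw [this]; exact hneg1
    have hCv : (![3 * x - y, x] : Fin 2 → F) ∈ M := by
      have := hM _ cG_mem_commutator v hv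
      rwa [cG_mulVec] at this
    have hsmul : ∀ (α : F) (u : Fin 2 → F), u ∈ M → α • u ∈ M := by
      intro α u hu
      rcases hF α with h | h | h <;> rw [h]
      · simp
      · simpa using hu
      · simpa using M.neg_mem hu
    intro w _
    set N := x ^ 2 - 3 * x * y + y ^ 2 with hNdef
    have : w = ((w 0 * x - w 1 * (3 * x - y)) / N) • v + ((x * w 1 - y * w 0) / N) • ![3 * x - y, x] := by
      ext i
      fin_cases i
      · simp only [Fin.zero_eta, Fin.isValue, Pi.add_apply, Pi.smul_apply, smul_eq_mul,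
          Matrix.cons_val_zero]
        rw [← hx]
        field_simp
        ring
      · simp only [Fin.mk_one, Fin.isValue, Pi.add_apply, Pi.smul_apply, smul_eq_mul,
          Matrix.cons_val_one, Matrix.cons_val_fin_one]
        rw [← hy]
        field_simp
        ring
    rw [this]
    exact M.add_mem (hsmul _ _ hv) (hsmul _ _ hCv)

end SL2

section Alt

variable {n : ℕ}

theorem zmod2_cases (x : ZMod 2) : x = 0 ∨ x = 1 := by
  revert x; decide

theorem single_perm (τ : Equiv.Perm (Fin n)) (j : Fin n) :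
    (fun x => (Pi.single j (1 : ZMod 2) : Fin n → ZMod 2) (τ⁻¹ x)) = Pi.single (τ j) 1 := by
  funext x
  simp only [Pi.single_apply]
  have : τ⁻¹ x = j ↔ x = τ j := by
    constructor
    · intro h; rw [← h]; simp
    · intro h; rw [h]; simp
  simp only [this]

/-- **Irreducibility of the even-weight module of `𝔽₂ⁿ`, `n` odd, for the alternating group.** -/
theorem alt_even_irred (hn : Odd n) (M : AddSubgroup (Fin n → ZMod 2))
    (hev : ∀ v ∈ M, ∑ i, v i = 0)
    (hM : ∀ σ ∈ alternatingGroup (Fin n), ∀ v ∈ M, (fun i => v (σ⁻¹ i)) ∈ M) :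
    M = ⊥ ∨ ∀ v : Fin n → ZMod 2, ∑ i, v i = 0 → v ∈ M := by
  by_cases hbot : M = ⊥
  · exact Or.inl hbot
  right
  obtain ⟨v, hv, hv0⟩ : ∃ v ∈ M, v ≠ 0 := by
    by_contra h
    push Not at h
    apply hbot
    rw [eq_bot_iff]
    intro v hv
    rw [AddSubgroup.mem_bot]
    exact h v hv
  -- a coordinate equal to one
  obtain ⟨i, hi⟩ : ∃ i, v i = 1 := by
    by_contra h
    push Not at h
    apply hv0
    funext x
    rcases zmod2_cases (v x) with h0 | h1
    · exact h0
    · exact absurd h1 (h x)
  -- a second one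
  obtain ⟨k, hki, hk⟩ : ∃ k, k ≠ i ∧ v k = 1 := by
    by_contra h
    push Not at h
    have h1 : ∑ x, v x = v i := by
      apply Finset.sum_eq_single i
      · intro b _ hb
        rcases zmod2_cases (v b) with h0 | h1
        · exact h0
        · exact absurd h1 (h b hb)
      · intro hni; exact absurd (Finset.mem_univ i) hni
    rw [hev v hv, hi] at h1
    exact zero_ne_one h1
  -- a coordinate equal to zero
  obtain ⟨j, hj⟩ : ∃ j, v j = 0 := by
    by_contra h
    push Not at h
    have hall : ∀ x, v x = 1 := by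
      intro x
      rcases zmod2_cases (v x) with h0 | h1
      · exact absurd h0 (h x)
      · exact h1
    have h1 : ∑ x, v x = (n : ZMod 2) := by
      simp [hall]
    rw [hev v hv] at h1
    have h2 : (2 : ℕ) ∣ n := (ZMod.natCast_eq_zero_iff n 2).1 h1.symm
    exact (Nat.not_even_iff_odd.2 hn) (even_iff_two_dvd.2 h2)
  have hji : j ≠ i := by
    intro h; rw [h, hi] at hj; exact one_ne_zero hj
  have hjk : j ≠ k := by
    intro h; rw [h, hk] at hj; exact one_ne_zero hj
  -- the 3-cycle
  have hσ : Equiv.swap i j * Equiv.swap j k ∈ alternatingGroup (Fin n) := by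
    rw [Equiv.Perm.mem_alternatingGroup, map_mul, Equiv.Perm.sign_swap hji.symm,
      Equiv.Perm.sign_swap hjk]
    simp
  have hw := M.sub_mem (hM _ hσ v hv) hv
  have hwe : ((fun x => v ((Equiv.swap i j * Equiv.swap j k)⁻¹ x)) - v : Fin n → ZMod 2) =
      Pi.single j 1 + Pi.single k 1 := by
    funext x
    have hinv : (Equiv.swap i j * Equiv.swap j k)⁻¹ = Equiv.swap j k * Equiv.swap i j := by
      rw [_root_.mul_inv_rev, Equiv.swap_inv, Equiv.swap_inv]
    simp only [hinv, Pi.sub_apply, Pi.add_apply, Equiv.Perm.coe_mul, Function.comp_apply,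
      Pi.single_apply]
    by_cases hxi : x = i
    · subst hxi
      rw [Equiv.swap_apply_left, Equiv.swap_apply_left, hk, hi]
      simp [hji.symm, hki.symm]
    · by_cases hxj : x = j
      · subst hxj
        rw [Equiv.swap_apply_right, Equiv.swap_apply_of_ne_of_ne hji.symm hki.symm, hi, hj]
        simp [hjk]
      · by_cases hxk : x = k
        · subst hxk
          rw [Equiv.swap_apply_of_ne_of_ne hxi hxj, Equiv.swap_apply_right, hj, hk]
          simp [hxj]
        · rw [Equiv.swap_apply_of_ne_of_ne hxi hxj, Equiv.swap_apply_of_ne_of_ne hxj hxk]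
          simp [hxj, hxk]
  rw [hwe] at hw
  -- all weight-two vectors
  have hpair : ∀ a b : Fin n, a ≠ b →
      (Pi.single a 1 + Pi.single b 1 : Fin n → ZMod 2) ∈ M := by
    intro a b hab
    set k' := Equiv.swap j a k with hk'
    have hk'a : k' ≠ a := by
      intro h
      have : Equiv.swap j a k = Equiv.swap j a j := by rw [Equiv.swap_apply_left]; exact h
      exact hjk ((Equiv.swap j a).injective this).symm
    set π : Equiv.Perm (Fin n) := Equiv.swap k' b * Equiv.swap j a with hπ
    have hπj : π j = a := by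
      rw [hπ, Equiv.Perm.coe_mul, Function.comp_apply, Equiv.swap_apply_left,
        Equiv.swap_apply_of_ne_of_ne hk'a.symm hab]
    have hπk : π k = b := by
      rw [hπ, Equiv.Perm.coe_mul, Function.comp_apply, ← hk', Equiv.swap_apply_left]
    have hmem : ∀ τ : Equiv.Perm (Fin n), τ ∈ alternatingGroup (Fin n) →
        (Pi.single (τ j) 1 + Pi.single (τ k) 1 : Fin n → ZMod 2) ∈ M := by
      intro τ hτ
      have := hM τ hτ _ hw
      have e : (fun x => (Pi.single j 1 + Pi.single k 1 : Fin n → ZMod 2) (τ⁻¹ x)) =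
          (fun x => (Pi.single j (1 : ZMod 2) : Fin n → ZMod 2) (τ⁻¹ x)) +
            (fun x => (Pi.single k (1 : ZMod 2) : Fin n → ZMod 2) (τ⁻¹ x)) := by
        funext x; simp
      rw [e, single_perm, single_perm] at this
      exact this
    rcases Int.units_eq_one_or (Equiv.Perm.sign π) with h | h
    · have := hmem π (Equiv.Perm.mem_alternatingGroup.2 h)
      rwa [hπj, hπk] at this
    · have hτ : π * Equiv.swap j k ∈ alternatingGroup (Fin n) := by
        rw [Equiv.Perm.mem_alternatingGroup, map_mul, h, Equiv.Perm.sign_swap hjk]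
        simp
      have := hmem _ hτ
      rw [Equiv.Perm.coe_mul, Function.comp_apply, Function.comp_apply, Equiv.swap_apply_left,
        Equiv.swap_apply_right, hπj, hπk, add_comm] at this
      exact this
  -- spanning
  intro u hu
  have hnpos : 0 < n := hn.pos
  set z : Fin n := ⟨0, hnpos⟩ with hz
  have hterm : ∀ x : Fin n, u x • (Pi.single x 1 + Pi.single z 1 : Fin n → ZMod 2) ∈ M := by
    intro x
    rcases zmod2_cases (u x) with h0 | h1
    · rw [h0, zero_smul]; exact M.zero_mem
    · rw [h1, one_smul]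
      by_cases hxz : x = z
      · rw [hxz]
        have : (Pi.single z 1 + Pi.single z 1 : Fin n → ZMod 2) = 0 := by
          funext y
          simp only [Pi.add_apply, Pi.single_apply, Pi.zero_apply]
          split_ifs
          · decide
          · simp
        rw [this]; exact M.zero_mem
      · exact hpair x z hxz
  have hsum : u = ∑ x, u x • (Pi.single x 1 + Pi.single z 1 : Fin n → ZMod 2) := by
    funext y
    rw [Finset.sum_apply]
    simp only [Pi.smul_apply, Pi.add_apply, Pi.single_apply, smul_eq_mul, mul_add, mul_ite,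
      mul_one, mul_zero]
    rw [Finset.sum_add_distrib, Finset.sum_ite_eq Finset.univ y (fun x => u x)]
    simp only [Finset.mem_univ, if_true]
    by_cases hyz : y = z
    · simp [hyz, hu]
    · simp [hyz]
  rw [hsum]
  exact M.sum_mem fun x _ => hterm x

end Alt

end Cfsg.Agent.Helper9.BB
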