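import Mathlib
import Cfsg.Prelude.Def_GeometricClasses
import Cfsg.Agent.Helper2.SymTA

set_option autoImplicit false
open scoped MatrixGroups

/-!
S6000 / S6001: the matrix-level description of an absolutely irreducible 2-group of symplectic
type `4 ∘ 2^{1+4}` inside `GL₄(F)`, and its derivation from the hypotheses of the frozen
statements (via helper2's abstract structure theorem).
-/

namespace Cfsg.Agent.Helper9.S4

open Matrix
open scoped commutatorElement

variable {F : Type*} [Field F]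

/-- Matrix-level description of a group `4 ∘ 2^{1+4}` inside `GL₄(F)`: order 64, centre of order 4
consisting of scalars `c` with `c⁴ = 1`, any two elements commute or anticommute, squares are `±1`,
and the commutant of `R` in the matrix algebra consists of the scalars. -/
structure S4Data (R : Subgroup (GL (Fin 4) F)) : Prop where
  card : Nat.card R = 64
  card_center : Nat.card (Subgroup.center R) = 4
  comm_or : ∀ g ∈ R, ∀ h ∈ R, g * h = h * g ∨ g * h = -(h * g)
  sq : ∀ g ∈ R, g * g = 1 ∨ g * g = -1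
  center : ∀ g ∈ R, (∀ h ∈ R, g * h = h * g) →
    ∃ c : F, c ^ 4 = 1 ∧ (g : Matrix (Fin 4) (Fin 4) F) = c • (1 : Matrix (Fin 4) (Fin 4) F)
  scalar_of_comm : ∀ M : Matrix (Fin 4) (Fin 4) F,
    (∀ g ∈ R, M * (g : Matrix (Fin 4) (Fin 4) F) = (g : Matrix (Fin 4) (Fin 4) F) * M) →
    ∃ c : F, M = c • (1 : Matrix (Fin 4) (Fin 4) F)

theorem eq_one_or_neg_one_of_sq {c : F} (hc : c ^ 2 = 1) : c = 1 ∨ c = -1 := by
  have : (c - 1) * (c + 1) = 0 := by linear_combination hc
  rcases mul_eq_zero.mp this with h | h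
  · exact Or.inl (sub_eq_zero.mp h)
  · exact Or.inr (eq_neg_of_add_eq_zero_left h)

theorem smul_one_pow (c : F) (k : ℕ) :
    (c • (1 : Matrix (Fin 4) (Fin 4) F)) ^ k = c ^ k • (1 : Matrix (Fin 4) (Fin 4) F) := by
  rw [smul_pow, one_pow]

theorem smul_one_inj {c d : F}
    (h : c • (1 : Matrix (Fin 4) (Fin 4) F) = d • (1 : Matrix (Fin 4) (Fin 4) F)) : c = d := by
  have := congrFun (congrFun h 0) 0
  simpa using this

/-- The hypotheses of S6000 / S6001 give `S4Data`. -/
theorem s4data_of_hyps (R : Subgroup (GL (Fin 4) F))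
    (hRs : Cfsg.Geo.IsSymplecticTypeGroup 2 R)
    (hRi : Cfsg.Geo.ActsAbsolutelyIrreducibly (Cfsg.Geo.matrixSet R))
    (hR6 : Nat.card R = 2 ^ 6) (hRZ : Nat.card (Subgroup.center R) = 4) : S4Data R := by
  have hcard : Nat.card R = 64 := by rw [hR6]; norm_num
  haveI : Finite R := Nat.finite_of_card_ne_zero (by rw [hcard]; norm_num)
  have hexp : ∀ g : R, g ^ 4 = 1 := by
    intro g
    have h := Monoid.pow_exponent_eq_one g
    rw [hRs.exponent_eq] at h
    exact h
  have hstr := Cfsg.Agent.Helper2.SymT.structure_of_symplectic_type hcard hRZ hexp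
    hRs.cyclic_of_characteristic
  -- commuting with R implies scalar
  have hsc : ∀ M : Matrix (Fin 4) (Fin 4) F,
      (∀ g ∈ R, M * (g : Matrix (Fin 4) (Fin 4) F) = (g : Matrix (Fin 4) (Fin 4) F) * M) →
      ∃ c : F, M = c • (1 : Matrix (Fin 4) (Fin 4) F) := by
    intro M hM
    apply hRi.2 M
    rintro s ⟨g, hg, rfl⟩
    exact hM g hg
  -- central elements are scalars
  have hcen : ∀ z : R, z ∈ Subgroup.center R →
      ∃ c : F, c ^ 4 = 1 ∧ ((z : GL (Fin 4) F) : Matrix (Fin 4) (Fin 4) F) =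
        c • (1 : Matrix (Fin 4) (Fin 4) F) := by
    intro z hz
    obtain ⟨c, hc⟩ := hsc ((z : GL (Fin 4) F) : Matrix (Fin 4) (Fin 4) F) (by
      intro g hg
      have := Subgroup.mem_center_iff.mp hz ⟨g, hg⟩
      have h2 := congrArg (fun t : R => ((t : GL (Fin 4) F) : Matrix (Fin 4) (Fin 4) F)) this
      simp only [Subgroup.coe_mul, Units.val_mul] at h2
      exact h2.symm)
    refine ⟨c, ?_, hc⟩
    have h4 := congrArg (fun t : R => ((t : GL (Fin 4) F) : Matrix (Fin 4) (Fin 4) F)) (hexp z)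
    simp only [SubmonoidClass.coe_pow, Units.val_pow_eq_pow_val, OneMemClass.coe_one,
      Units.val_one] at h4
    rw [hc, smul_one_pow] at h4
    have : c ^ 4 • (1 : Matrix (Fin 4) (Fin 4) F) = (1 : F) • (1 : Matrix (Fin 4) (Fin 4) F) := by
      rw [h4, one_smul]
    exact smul_one_inj this
  refine ⟨hcard, hRZ, ?_, ?_, ?_, hsc⟩
  · -- comm_or
    intro g hg h hh
    obtain ⟨hkZ, hk2⟩ := hstr.1 ⟨g, hg⟩ ⟨h, hh⟩
    obtain ⟨c, -, hc⟩ := hcen _ hkZ
    have hc2 : c ^ 2 = 1 := by
      have h4 := congrArg (fun t : R => ((t : GL (Fin 4) F) : Matrix (Fin 4) (Fin 4) F)) hk2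
      simp only [SubmonoidClass.coe_pow, Units.val_pow_eq_pow_val, OneMemClass.coe_one,
        Units.val_one] at h4
      rw [hc, smul_one_pow] at h4
      have : c ^ 2 • (1 : Matrix (Fin 4) (Fin 4) F) = (1 : F) • (1 : Matrix (Fin 4) (Fin 4) F) := by
        rw [h4, one_smul]
      exact smul_one_inj this
    have hgh : g * h = (⁅(⟨g, hg⟩ : R), ⟨h, hh⟩⁆ : R) * (h * g) := by
      simp only [commutatorElement_def, Subgroup.coe_mul, Subgroup.coe_inv]
      group
    rcases eq_one_or_neg_one_of_sq hc2 with h1 | h1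
    · left
      have : ((⁅(⟨g, hg⟩ : R), ⟨h, hh⟩⁆ : R) : GL (Fin 4) F) = 1 := by
        apply Units.ext
        rw [hc, h1, one_smul, Units.val_one]
      rw [hgh, this, one_mul]
    · right
      have : ((⁅(⟨g, hg⟩ : R), ⟨h, hh⟩⁆ : R) : GL (Fin 4) F) = -1 := by
        apply Units.ext
        rw [hc, h1, Units.val_neg, Units.val_one, neg_smul, one_smul]
      rw [hgh, this, neg_one_mul]
  · -- sq
    intro g hg
    have hZ := hstr.2 ⟨g, hg⟩
    obtain ⟨c, -, hc⟩ := hcen _ hZ
    have hc2 : c ^ 2 = 1 := by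
      have h4 := congrArg (fun t : R => ((t : GL (Fin 4) F) : Matrix (Fin 4) (Fin 4) F))
        (hexp ⟨g, hg⟩)
      simp only [SubmonoidClass.coe_pow, Units.val_pow_eq_pow_val, OneMemClass.coe_one,
        Units.val_one] at h4
      have e : (g : Matrix (Fin 4) (Fin 4) F) ^ 4 = ((g : Matrix (Fin 4) (Fin 4) F) ^ 2) ^ 2 := by
        rw [← pow_mul]
      have hc' : (g : Matrix (Fin 4) (Fin 4) F) ^ 2 = c • (1 : Matrix (Fin 4) (Fin 4) F) := by
        have := hc
        simp only [SubmonoidClass.coe_pow, Units.val_pow_eq_pow_val] at this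
        exact this
      rw [e, hc', smul_one_pow] at h4
      have : c ^ 2 • (1 : Matrix (Fin 4) (Fin 4) F) = (1 : F) • (1 : Matrix (Fin 4) (Fin 4) F) := by
        rw [h4, one_smul]
      exact smul_one_inj this
    have hc' : (g : Matrix (Fin 4) (Fin 4) F) ^ 2 = c • (1 : Matrix (Fin 4) (Fin 4) F) := by
      have := hc
      simp only [SubmonoidClass.coe_pow, Units.val_pow_eq_pow_val] at this
      exact this
    rcases eq_one_or_neg_one_of_sq hc2 with h1 | h1
    · left
      apply Units.ext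
      rw [Units.val_mul, ← pow_two, hc', h1, one_smul, Units.val_one]
    · right
      apply Units.ext
      rw [Units.val_mul, ← pow_two, hc', h1, Units.val_neg, Units.val_one, neg_smul, one_smul]
  · -- center
    intro g hg hcomm
    apply hcen ⟨g, hg⟩
    rw [Subgroup.mem_center_iff]
    intro h
    apply Subtype.ext
    simp only [Subgroup.coe_mul]
    exact (hcomm h h.2).symm

end Cfsg.Agent.Helper9.S4
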