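import Mathlib

set_option autoImplicit false
open scoped MatrixGroups

/-!
The trace formula for normalizers of groups of central type (used for S6000 / S6001): if a finite
group `R` of invertible matrices has scalar commutant and its non-scalar elements have trace zero,
then for `x` normalizing `R` (and not multiplying any element of `R` by a non-trivial scalar)
`|R| · tr(x) · tr(x⁻¹) = n² · |C_R(x)|`.
-/

namespace Cfsg.Agent.Helper9.SymTr

open Matrix

variable {n : Type*} [Fintype n] [DecidableEq n] {F : Type*} [Field F]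

/-- The Schur average `Σ_{g ∈ R} g A g⁻¹`. -/
noncomputable def avg (R : Subgroup (GL n F)) [Fintype R] (A : Matrix n n F) : Matrix n n F :=
  ∑ g : R, ((g : GL n F) : Matrix n n F) * A * (((g : GL n F)⁻¹ : GL n F) : Matrix n n F)

theorem avg_comm (R : Subgroup (GL n F)) [Fintype R] (A : Matrix n n F) (h : GL n F)
    (hh : h ∈ R) : avg R A * (h : Matrix n n F) = (h : Matrix n n F) * avg R A := by
  unfold avg
  rw [Finset.sum_mul, Finset.mul_sum]
  -- reindex by g ↦ h * g
  rw [← Equiv.sum_comp (Equiv.mulLeft (⟨h, hh⟩ : R))]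
  apply Finset.sum_congr rfl
  intro g _
  simp only [Equiv.coe_mulLeft, Subgroup.coe_mul, _root_.mul_inv_rev, Units.val_mul]
  have e : ((h⁻¹ : GL n F) : Matrix n n F) * (h : Matrix n n F) = 1 := by
    rw [← Units.val_mul, inv_mul_cancel, Units.val_one]
  calc (h : Matrix n n F) * ((g : GL n F) : Matrix n n F) * A *
        ((((g : GL n F)⁻¹ : GL n F) : Matrix n n F) * ((h⁻¹ : GL n F) : Matrix n n F)) *
        (h : Matrix n n F)
      = (h : Matrix n n F) * ((g : GL n F) : Matrix n n F) * A *
        (((g : GL n F)⁻¹ : GL n F) : Matrix n n F) *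
        (((h⁻¹ : GL n F) : Matrix n n F) * (h : Matrix n n F)) := by
        simp only [mul_assoc]
    _ = (h : Matrix n n F) * (((g : GL n F) : Matrix n n F) * A *
        (((g : GL n F)⁻¹ : GL n F) : Matrix n n F)) := by
        rw [e, mul_one]; simp only [mul_assoc]

theorem trace_avg (R : Subgroup (GL n F)) [Fintype R] (A : Matrix n n F) :
    Matrix.trace (avg R A) = (Fintype.card R : F) * Matrix.trace A := by
  unfold avg
  rw [Matrix.trace_sum]
  have : ∀ g : R, Matrix.trace (((g : GL n F) : Matrix n n F) * A *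
      (((g : GL n F)⁻¹ : GL n F) : Matrix n n F)) = Matrix.trace A := by
    intro g
    rw [Matrix.trace_mul_cycle, ← Units.val_mul, inv_mul_cancel, Units.val_one, one_mul]
  rw [Finset.sum_congr rfl (fun g _ => this g), Finset.sum_const, Finset.card_univ, nsmul_eq_mul]

/-- **The trace formula.** -/
theorem trace_formula (R : Subgroup (GL n F)) [Finite R]
    (hcomm : ∀ M : Matrix n n F,
      (∀ g ∈ R, M * (g : Matrix n n F) = (g : Matrix n n F) * M) →
      ∃ c : F, M = c • (1 : Matrix n n F))
    (htr : ∀ g ∈ R, (∀ c : F, (g : Matrix n n F) ≠ c • (1 : Matrix n n F)) →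
      Matrix.trace (g : Matrix n n F) = 0)
    (x : GL n F) (hx : ∀ g ∈ R, x⁻¹ * g * x ∈ R)
    (hfix : ∀ g ∈ R, ∀ c : F,
      ((x⁻¹ * g * x : GL n F) : Matrix n n F) = c • (g : Matrix n n F) → c = 1) :
    (Nat.card R : F) * (Matrix.trace (x : Matrix n n F) *
      Matrix.trace ((x⁻¹ : GL n F) : Matrix n n F)) =
      (Fintype.card n : F) ^ 2 * (Nat.card {g : R // (g : GL n F) * x = x * (g : GL n F)} : F) := by
  classical
  haveI : Fintype R := Fintype.ofFinite R
  obtain ⟨c, hc⟩ := hcomm (avg R ((x⁻¹ : GL n F) : Matrix n n F))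
    (fun g hg => avg_comm R _ g hg)
  have hc1 : c * (Fintype.card n : F) =
      (Fintype.card R : F) * Matrix.trace ((x⁻¹ : GL n F) : Matrix n n F) := by
    have := trace_avg R ((x⁻¹ : GL n F) : Matrix n n F)
    rw [hc, Matrix.trace_smul, Matrix.trace_one, smul_eq_mul] at this
    exact this
  -- multiply by x and take traces
  have h2 : Matrix.trace (avg R ((x⁻¹ : GL n F) : Matrix n n F) * (x : Matrix n n F)) =
      c * Matrix.trace (x : Matrix n n F) := by
    rw [hc, Matrix.smul_mul, Matrix.one_mul, Matrix.trace_smul, smul_eq_mul]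
  have h3 : Matrix.trace (avg R ((x⁻¹ : GL n F) : Matrix n n F) * (x : Matrix n n F)) =
      ∑ g : R, if (g : GL n F) * x = x * (g : GL n F) then (Fintype.card n : F) else 0 := by
    unfold avg
    rw [Finset.sum_mul, Matrix.trace_sum]
    apply Finset.sum_congr rfl
    intro g _
    -- the element k = g * (x⁻¹ g⁻¹ x) of R
    have hk : ((g : GL n F) : Matrix n n F) * ((x⁻¹ : GL n F) : Matrix n n F) *
        (((g : GL n F)⁻¹ : GL n F) : Matrix n n F) * (x : Matrix n n F) =
        (((g : GL n F) * (x⁻¹ * (g : GL n F)⁻¹ * x) : GL n F) : Matrix n n F) := by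
      simp only [Units.val_mul, mul_assoc]
    rw [hk]
    have hkR : (g : GL n F) * (x⁻¹ * (g : GL n F)⁻¹ * x) ∈ R :=
      R.mul_mem g.2 (hx _ (R.inv_mem g.2))
    by_cases hgx : (g : GL n F) * x = x * (g : GL n F)
    · rw [if_pos hgx]
      have : (g : GL n F) * (x⁻¹ * (g : GL n F)⁻¹ * x) = 1 := by
        have e : x⁻¹ * (g : GL n F)⁻¹ * x = (g : GL n F)⁻¹ := by
          have : (g : GL n F)⁻¹ * x = x * (g : GL n F)⁻¹ := by
            calc (g : GL n F)⁻¹ * x = (g : GL n F)⁻¹ * (x * (g : GL n F)) * (g : GL n F)⁻¹ := by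
                  group
              _ = (g : GL n F)⁻¹ * ((g : GL n F) * x) * (g : GL n F)⁻¹ := by rw [hgx]
              _ = x * (g : GL n F)⁻¹ := by group
          rw [mul_assoc, this]
          group
        rw [e, mul_inv_cancel]
      rw [this, Units.val_one, Matrix.trace_one]
    · rw [if_neg hgx]
      apply htr _ hkR
      intro c' hc'
      apply hgx
      -- x⁻¹ g⁻¹ x = c' • g⁻¹
      have e1 : ((x⁻¹ * (g : GL n F)⁻¹ * x : GL n F) : Matrix n n F) =
          c' • (((g : GL n F)⁻¹ : GL n F) : Matrix n n F) := by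
        have : ((x⁻¹ * (g : GL n F)⁻¹ * x : GL n F) : Matrix n n F) =
            (((g : GL n F)⁻¹ : GL n F) : Matrix n n F) *
            (((g : GL n F) * (x⁻¹ * (g : GL n F)⁻¹ * x) : GL n F) : Matrix n n F) := by
          rw [← Units.val_mul]
          congr 1
          group
        rw [this, hc', Matrix.mul_smul, Matrix.mul_one]
      have hc1' := hfix _ (R.inv_mem g.2) c' e1
      rw [hc1', one_smul] at e1
      have e2 : x⁻¹ * (g : GL n F)⁻¹ * x = (g : GL n F)⁻¹ := Units.ext e1
      calc (g : GL n F) * x = (g : GL n F) * x * ((x⁻¹ * (g : GL n F)⁻¹ * x) * (g : GL n F)) := by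
            rw [e2]; group
        _ = x * (g : GL n F) := by group
  rw [h3] at h2
  have h4 : (∑ g : R, if (g : GL n F) * x = x * (g : GL n F) then (Fintype.card n : F) else 0) =
      (Fintype.card n : F) *
        (Nat.card {g : R // (g : GL n F) * x = x * (g : GL n F)} : F) := by
    rw [← Finset.sum_filter, Finset.sum_const, nsmul_eq_mul, mul_comm]
    congr 2
    rw [Nat.card_eq_fintype_card, Fintype.card_subtype]
  rw [h4] at h2
  rw [Nat.card_eq_fintype_card]
  calc (Fintype.card R : F) * (Matrix.trace (x : Matrix n n F) *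
        Matrix.trace ((x⁻¹ : GL n F) : Matrix n n F))
      = ((Fintype.card R : F) * Matrix.trace ((x⁻¹ : GL n F) : Matrix n n F)) *
        Matrix.trace (x : Matrix n n F) := by ring
    _ = c * (Fintype.card n : F) * Matrix.trace (x : Matrix n n F) := by rw [hc1]
    _ = (Fintype.card n : F) * (c * Matrix.trace (x : Matrix n n F)) := by ring
    _ = (Fintype.card n : F) * ((Fintype.card n : F) *
        (Nat.card {g : R // (g : GL n F) * x = x * (g : GL n F)} : F)) := by rw [h2]
    _ = _ := by ring

end Cfsg.Agent.Helper9.SymTr
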