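import Mathlib
import Cfsg.Agent.Helper9.S4Data
import Cfsg.Agent.Helper9.SymTrace

set_option autoImplicit false
open scoped MatrixGroups

/-!
S6000 / S6001, obstruction side, part A: non-scalar elements of `R` have trace zero, and the trace
formula `4 · tr(x) · tr(x⁻¹) = |C_R(x)|` for `x` normalizing `R` with `x ^ r` scalar, `r` odd.
-/

namespace Cfsg.Agent.Helper9.S4

open Matrix

variable {F : Type*} [Field F] {R : Subgroup (GL (Fin 4) F)}

theorem S4Data.finite (D : S4Data R) : Finite R :=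
  Nat.finite_of_card_ne_zero (by rw [D.card]; norm_num)

/-- Scalar elements of `R` are fourth roots of unity. -/
theorem S4Data.scalar_pow_four (D : S4Data R) {g : GL (Fin 4) F} (hg : g ∈ R) {c : F}
    (hc : (g : Matrix (Fin 4) (Fin 4) F) = c • (1 : Matrix (Fin 4) (Fin 4) F)) : c ^ 4 = 1 := by
  obtain ⟨c', hc'4, hc'⟩ := D.center g hg (by
    intro h _
    apply Units.ext
    rw [Units.val_mul, Units.val_mul, hc]
    simp)
  rw [hc] at hc'
  rw [smul_one_inj hc']
  exact hc'4

/-- Non-central elements have an anticommuting partner. -/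
theorem S4Data.exists_anticomm (D : S4Data R) {g : GL (Fin 4) F} (hg : g ∈ R)
    (hns : ∀ c : F, (g : Matrix (Fin 4) (Fin 4) F) ≠ c • (1 : Matrix (Fin 4) (Fin 4) F)) :
    ∃ h ∈ R, g * h = -(h * g) := by
  by_contra hcon
  push Not at hcon
  obtain ⟨c, -, hc⟩ := D.center g hg (by
    intro h hh
    rcases D.comm_or g hg h hh with h1 | h1
    · exact h1
    · exact absurd h1 (hcon h hh))
  exact hns c hc

/-- Non-scalar elements of `R` have trace zero. -/
theorem S4Data.trace_eq_zero (D : S4Data R) (h2 : (2 : F) ≠ 0) {g : GL (Fin 4) F} (hg : g ∈ R)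
    (hns : ∀ c : F, (g : Matrix (Fin 4) (Fin 4) F) ≠ c • (1 : Matrix (Fin 4) (Fin 4) F)) :
    Matrix.trace (g : Matrix (Fin 4) (Fin 4) F) = 0 := by
  obtain ⟨h, hh, hgh⟩ := D.exists_anticomm hg hns
  -- g = -(h g h⁻¹)
  have e : (g : Matrix (Fin 4) (Fin 4) F) =
      -((h : Matrix (Fin 4) (Fin 4) F) * (g : Matrix (Fin 4) (Fin 4) F) *
        ((h⁻¹ : GL (Fin 4) F) : Matrix (Fin 4) (Fin 4) F)) := by
    have h1 : g = -(h * g * h⁻¹) := by
      have : g * h * h⁻¹ = -(h * g) * h⁻¹ := by rw [hgh]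
      rw [mul_inv_cancel_right, neg_mul] at this
      exact this
    have := congrArg (fun t : GL (Fin 4) F => (t : Matrix (Fin 4) (Fin 4) F)) h1
    simpa using this
  have ht : Matrix.trace (g : Matrix (Fin 4) (Fin 4) F) =
      -Matrix.trace (g : Matrix (Fin 4) (Fin 4) F) := by
    conv_lhs => rw [e]
    rw [Matrix.trace_neg, Matrix.trace_mul_cycle, ← Units.val_mul, inv_mul_cancel, Units.val_one,
      one_mul]
  have : (2 : F) * Matrix.trace (g : Matrix (Fin 4) (Fin 4) F) = 0 := by linear_combination ht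
  exact (mul_eq_zero.mp this).resolve_left h2

theorem conj_mem_of_mem_normalizer {x : GL (Fin 4) F}
    (hx : x ∈ Cfsg.Geo.subgroupNormalizer R) {g : GL (Fin 4) F} (hg : g ∈ R) :
    x⁻¹ * g * x ∈ R := by
  have hx' : x⁻¹ ∈ Subgroup.normalizer (R : Set (GL (Fin 4) F)) := Subgroup.inv_mem _ hx
  have := (Subgroup.mem_normalizer_iff.mp hx' g).mp hg
  rwa [inv_inv] at this

/-- Iterated conjugation multiplies by the power of the scalar. -/
theorem conj_pow_smul {x g : GL (Fin 4) F} {c : F}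
    (h : ((x⁻¹ * g * x : GL (Fin 4) F) : Matrix (Fin 4) (Fin 4) F) =
      c • (g : Matrix (Fin 4) (Fin 4) F)) (j : ℕ) :
    (((x⁻¹) ^ j * g * x ^ j : GL (Fin 4) F) : Matrix (Fin 4) (Fin 4) F) =
      c ^ j • (g : Matrix (Fin 4) (Fin 4) F) := by
  induction j with
  | zero => simp
  | succ j ih =>
    have e : (x⁻¹) ^ (j + 1) * g * x ^ (j + 1) = x⁻¹ * ((x⁻¹) ^ j * g * x ^ j) * x := by
      rw [pow_succ', pow_succ]
      group
    rw [e, Units.val_mul, Units.val_mul, ih, Matrix.mul_smul, Matrix.smul_mul, ← Units.val_mul,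
      ← Units.val_mul, h, smul_smul, pow_succ]

/-- **Trace formula** for elements of odd order modulo scalars in the normalizer. -/
theorem S4Data.trace_formula_odd (D : S4Data R) (h2 : (2 : F) ≠ 0) {x : GL (Fin 4) F}
    (hx : x ∈ Cfsg.Geo.subgroupNormalizer R) {r : ℕ} (hr : Odd r) {z : F}
    (hz : ((x ^ r : GL (Fin 4) F) : Matrix (Fin 4) (Fin 4) F) =
      z • (1 : Matrix (Fin 4) (Fin 4) F)) :
    (4 : F) * (Matrix.trace (x : Matrix (Fin 4) (Fin 4) F) *
      Matrix.trace ((x⁻¹ : GL (Fin 4) F) : Matrix (Fin 4) (Fin 4) F)) =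
      (Nat.card {g : R // (g : GL (Fin 4) F) * x = x * (g : GL (Fin 4) F)} : F) := by
  haveI := D.finite
  have hfix : ∀ g ∈ R, ∀ c : F,
      ((x⁻¹ * g * x : GL (Fin 4) F) : Matrix (Fin 4) (Fin 4) F) =
        c • (g : Matrix (Fin 4) (Fin 4) F) → c = 1 := by
    intro g hg c hc
    -- c^4 = 1 since x⁻¹ g x g⁻¹ is a scalar element of R
    have hk : x⁻¹ * g * x * g⁻¹ ∈ R := R.mul_mem (conj_mem_of_mem_normalizer hx hg) (R.inv_mem hg)
    have hkc : ((x⁻¹ * g * x * g⁻¹ : GL (Fin 4) F) : Matrix (Fin 4) (Fin 4) F) =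
        c • (1 : Matrix (Fin 4) (Fin 4) F) := by
      rw [Units.val_mul, hc, Matrix.smul_mul, ← Units.val_mul, mul_inv_cancel, Units.val_one]
    have hc4 := D.scalar_pow_four hk hkc
    -- c^r = 1
    have hcr : c ^ r = 1 := by
      have h1 := conj_pow_smul hc r
      have hxr : (x⁻¹) ^ r * g * x ^ r = g := by
        have hcomm : g * x ^ r = x ^ r * g := by
          apply Units.ext
          rw [Units.val_mul, Units.val_mul, hz]
          simp
        rw [mul_assoc, hcomm, ← mul_assoc, inv_pow, inv_mul_cancel, one_mul]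
      rw [hxr] at h1
      have hg0 : (g : Matrix (Fin 4) (Fin 4) F) ≠ 0 := g.isUnit.ne_zero
      have : (c ^ r - 1) • (g : Matrix (Fin 4) (Fin 4) F) = 0 := by
        rw [sub_smul, one_smul, ← h1, sub_self]
      rcases smul_eq_zero.mp this with h | h
      · exact sub_eq_zero.mp h
      · exact absurd h hg0
    -- gcd(4, r) = 1
    obtain ⟨k, hk⟩ := hr
    rw [hk] at hcr
    have h4k : c ^ (4 * k) = 1 := by rw [pow_mul, hc4, one_pow]
    have hc2 : c ^ 2 = 1 := by
      have h1 : c ^ (4 * k + 2) = 1 := by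
        have : 4 * k + 2 = (2 * k + 1) * 2 := by ring
        rw [this, pow_mul, hcr, one_pow]
      rw [pow_add, h4k, one_mul] at h1
      exact h1
    rw [pow_succ, pow_mul, hc2, one_pow, one_mul] at hcr
    exact hcr
  have hgen := Cfsg.Agent.Helper9.SymTr.trace_formula R D.scalar_of_comm
    (fun g hg hns => D.trace_eq_zero h2 hg hns) x
    (fun g hg => conj_mem_of_mem_normalizer hx hg) hfix
  rw [D.card, Fintype.card_fin] at hgen
  have h16 : (16 : F) ≠ 0 := by
    have : (16 : F) = 2 ^ 4 := by norm_num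
    rw [this]; exact pow_ne_zero 4 h2
  have : (16 : F) * ((4 : F) * (Matrix.trace (x : Matrix (Fin 4) (Fin 4) F) *
      Matrix.trace ((x⁻¹ : GL (Fin 4) F) : Matrix (Fin 4) (Fin 4) F))) =
      (16 : F) * (Nat.card {g : R // (g : GL (Fin 4) F) * x = x * (g : GL (Fin 4) F)} : F) := by
    simp only [Nat.cast_ofNat] at hgen
    linear_combination hgen
  exact mul_left_cancel₀ h16 this

end Cfsg.Agent.Helper9.S4
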