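import Mathlib
import Cfsg.Agent.Helper9.S4ObsA

set_option autoImplicit false
open scoped MatrixGroups

/-!
S6000 / S6001, obstruction side, part B: orbit counting for the conjugation action of an element of
the normalizer of `R`, centralizers of non-central elements of `R` have index 2, and an element `x`
of the normalizer with `x ^ r` scalar for a prime `r ∉ {2, 3, 5}` is scalar.
-/

namespace Cfsg.Agent.Helper9.S4

open Matrix

variable {F : Type*} [Field F] {R : Subgroup (GL (Fin 4) F)}

/-- The elements of `R` commuting with `x`. -/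
def cen (R : Subgroup (GL (Fin 4) F)) (x : GL (Fin 4) F) : Subgroup (GL (Fin 4) F) :=
  R ⊓ Subgroup.centralizer {x}

theorem mem_cen {x g : GL (Fin 4) F} : g ∈ cen R x ↔ g ∈ R ∧ g * x = x * g := by
  unfold cen
  rw [Subgroup.mem_inf, Subgroup.mem_centralizer_singleton_iff]

theorem cen_le (x : GL (Fin 4) F) : cen R x ≤ R := inf_le_left

/-- The centre of `R` as a subgroup of `GL₄(F)`. -/
def zen (R : Subgroup (GL (Fin 4) F)) : Subgroup (GL (Fin 4) F) :=
  (Subgroup.center R).map R.subtype

theorem mem_zen {g : GL (Fin 4) F} : g ∈ zen R ↔ g ∈ R ∧ ∀ h ∈ R, g * h = h * g := by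
  unfold zen
  rw [Subgroup.mem_map]
  constructor
  · rintro ⟨z, hz, rfl⟩
    refine ⟨z.2, fun h hh => ?_⟩
    have := Subgroup.mem_center_iff.mp hz ⟨h, hh⟩
    have h2 := congrArg Subtype.val this
    simp only [Subgroup.coe_mul] at h2
    exact h2.symm
  · rintro ⟨hg, hc⟩
    refine ⟨⟨g, hg⟩, ?_, rfl⟩
    rw [Subgroup.mem_center_iff]
    intro h
    apply Subtype.ext
    simp only [Subgroup.coe_mul]
    exact (hc h h.2).symm

theorem card_zen (D : S4Data R) : Nat.card (zen R) = 4 := by
  unfold zen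
  rw [Subgroup.card_map_of_injective R.subtype_injective, D.card_center]

theorem zen_le_cen (D : S4Data R) (x : GL (Fin 4) F) : zen R ≤ cen R x := by
  intro g hg
  obtain ⟨hgR, hgc⟩ := mem_zen.mp hg
  obtain ⟨c, -, hc⟩ := D.center g hgR hgc
  refine mem_cen.mpr ⟨hgR, ?_⟩
  apply Units.ext
  rw [Units.val_mul, Units.val_mul, hc]
  simp

/-- Orbit counting on an invariant subgroup. -/
theorem card_modEq_card_inf_cen (D : S4Data R) {x : GL (Fin 4) F} {r : ℕ} [hr : Fact r.Prime]
    {z : F} (hz : ((x ^ r : GL (Fin 4) F) : Matrix (Fin 4) (Fin 4) F) =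
      z • (1 : Matrix (Fin 4) (Fin 4) F))
    (T : Subgroup (GL (Fin 4) F)) (hTR : T ≤ R) (hT : ∀ g ∈ T, x⁻¹ * g * x ∈ T) :
    Nat.card T ≡ Nat.card (T ⊓ cen R x : Subgroup (GL (Fin 4) F)) [MOD r] := by
  classical
  haveI := D.finite
  haveI : Finite T := Finite.of_injective (fun t : T => (⟨t.1, hTR t.2⟩ : R))
    (fun a b h => Subtype.ext (congrArg (fun t : R => (t : GL (Fin 4) F)) h))
  haveI : Fintype T := Fintype.ofFinite T
  let f : Function.End T := fun g => ⟨x⁻¹ * g.1 * x, hT g.1 g.2⟩
  have hpow : ∀ k : ℕ, ∀ g : T, ((f ^ k) g).1 = (x⁻¹) ^ k * g.1 * x ^ k := by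
    intro k
    induction k with
    | zero => intro g; simp; rfl
    | succ k ih =>
      intro g
      rw [pow_succ']
      show (f ((f ^ k) g)).1 = _
      show x⁻¹ * ((f ^ k) g).1 * x = _
      rw [ih, pow_succ', pow_succ]
      group
  have hxr : ∀ g : GL (Fin 4) F, (x⁻¹) ^ r * g * x ^ r = g := by
    intro g
    have hcomm : g * x ^ r = x ^ r * g := by
      apply Units.ext
      rw [Units.val_mul, Units.val_mul, hz]
      simp
    rw [mul_assoc, hcomm, ← mul_assoc, inv_pow, inv_mul_cancel, one_mul]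
  have hf : f ^ r ^ 1 = 1 := by
    rw [pow_one]
    funext g
    apply Subtype.ext
    rw [hpow, hxr]
    rfl
  have h := Equiv.Perm.card_fixedPoints_modEq (p := r) (n := 1) hf
  rw [Nat.card_eq_fintype_card]
  refine h.trans ?_
  rw [← Nat.card_eq_fintype_card]
  have : Nat.card (Function.fixedPoints f) =
      Nat.card (T ⊓ cen R x : Subgroup (GL (Fin 4) F)) := by
    apply Nat.card_congr
    refine
      { toFun := fun g => ⟨g.1.1, Subgroup.mem_inf.mpr ⟨g.1.2, mem_cen.mpr ⟨hTR g.1.2, ?_⟩⟩⟩
        invFun := fun g => ⟨⟨g.1, (Subgroup.mem_inf.mp g.2).1⟩, ?_⟩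
        left_inv := fun g => rfl
        right_inv := fun g => rfl }
    · have := congrArg Subtype.val g.2
      change x⁻¹ * g.1.1 * x = g.1.1 at this
      calc g.1.1 * x = x * (x⁻¹ * g.1.1 * x) := by group
        _ = x * g.1.1 := by rw [this]
    · apply Subtype.ext
      change x⁻¹ * g.1 * x = g.1
      have := (mem_cen.mp (Subgroup.mem_inf.mp g.2).2).2
      rw [mul_assoc, this]
      group
  rw [this]

/-- The centralizer in `R` of a non-central element has order 32. -/
theorem card_cen_of_not_mem_zen (D : S4Data R) (h2 : (2 : F) ≠ 0) {a : GL (Fin 4) F}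
    (ha : a ∈ R) (haz : a ∉ zen R) : Nat.card (cen R a) = 32 := by
  haveI := D.finite
  have hns : ∀ c : F, (a : Matrix (Fin 4) (Fin 4) F) ≠ c • (1 : Matrix (Fin 4) (Fin 4) F) := by
    intro c hc
    apply haz
    refine mem_zen.mpr ⟨ha, fun h _ => ?_⟩
    apply Units.ext
    rw [Units.val_mul, Units.val_mul, hc]
    simp
  obtain ⟨h, hh, hah⟩ := D.exists_anticomm ha hns
  have hne : ∀ g : GL (Fin 4) F, g ≠ -g := by
    intro g hg
    have h1 := congrArg (fun t : GL (Fin 4) F => (t : Matrix (Fin 4) (Fin 4) F)) hg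
    simp only [Units.val_neg] at h1
    have h3 : (2 : F) • (g : Matrix (Fin 4) (Fin 4) F) = 0 := by
      rw [two_smul]
      nth_rewrite 1 [h1]
      simp
    rcases smul_eq_zero.mp h3 with h4 | h4
    · exact h2 h4
    · exact g.isUnit.ne_zero h4
  -- index two
  have hidx : ((cen R a).subgroupOf R).index = 2 := by
    rw [Subgroup.index_eq_two_iff]
    refine ⟨⟨h, hh⟩, fun b => ?_⟩
    have hmem : ∀ t : R, t ∈ (cen R a).subgroupOf R ↔ (t : GL (Fin 4) F) * a = a * t := by
      intro t
      rw [Subgroup.mem_subgroupOf, mem_cen]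
      exact ⟨fun h => h.2, fun h => ⟨t.2, h⟩⟩
    rw [hmem, hmem]
    simp only [Subgroup.coe_mul]
    have hha : h * a = -(a * h) := by
      rw [hah, neg_neg]
    rcases D.comm_or b.1 b.2 a ha with hb | hb
    · -- b commutes with a: b * h does not
      right
      refine ⟨hb, fun hcon => ?_⟩
      have : (b : GL (Fin 4) F) * h * a = -(a * (b * h)) := by
        rw [mul_assoc, hha, mul_neg, ← mul_assoc, hb, mul_assoc]
      rw [this] at hcon
      exact hne _ hcon.symm
    · left
      refine ⟨?_, fun hcon => ?_⟩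
      · rw [mul_assoc, hha, mul_neg, ← mul_assoc, hb, neg_mul, neg_neg, mul_assoc]
      · rw [hb] at hcon
        exact hne _ hcon.symm
  have hcard := Subgroup.index_mul_card ((cen R a).subgroupOf R)
  rw [hidx, D.card] at hcard
  have heq : Nat.card ((cen R a).subgroupOf R) = Nat.card (cen R a) :=
    Nat.card_congr (Subgroup.subgroupOfEquivOfLe (cen_le a)).toEquiv
  omega

end Cfsg.Agent.Helper9.S4
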