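import Mathlib
import Cfsg.Agent.Helper9.S4ObsB

set_option autoImplicit false
open scoped MatrixGroups

/-!
S6000 / S6001, obstruction side, part C: an element `x` of the normalizer of `R` with `x ^ r`
scalar for a prime `r ∉ {2, 3, 5}` is scalar.
-/

namespace Cfsg.Agent.Helper9.S4

open Matrix

variable {F : Type*} [Field F] {R : Subgroup (GL (Fin 4) F)}

theorem prime_eq_of_dvd_pow {r p : ℕ} (hr : r.Prime) (hp : p.Prime) {a : ℕ} (h : r ∣ p ^ a) :
    r = p := (Nat.prime_dvd_prime_iff_eq hr hp).mp (hr.dvd_of_dvd_pow h)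

theorem prime_cases_235 {r : ℕ} (hr : r.Prime) (a b c : ℕ) (h : r ∣ 2 ^ a * 3 ^ b * 5 ^ c) :
    r = 2 ∨ r = 3 ∨ r = 5 := by
  rcases (Nat.Prime.dvd_mul hr).mp h with h1 | h1
  · rcases (Nat.Prime.dvd_mul hr).mp h1 with h2 | h2
    · exact Or.inl (prime_eq_of_dvd_pow hr Nat.prime_two h2)
    · exact Or.inr (Or.inl (prime_eq_of_dvd_pow hr Nat.prime_three h2))
  · exact Or.inr (Or.inr (prime_eq_of_dvd_pow hr Nat.prime_five h1))

theorem card_cen_cases (D : S4Data R) (x : GL (Fin 4) F) :
    Nat.card (cen R x) = 4 ∨ Nat.card (cen R x) = 8 ∨ Nat.card (cen R x) = 16 ∨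
      Nat.card (cen R x) = 32 ∨ Nat.card (cen R x) = 64 := by
  haveI := D.finite
  have h1 : Nat.card (cen R x) ∣ 64 := by
    rw [← D.card]; exact Subgroup.card_dvd_of_le (cen_le x)
  have h2 : 4 ∣ Nat.card (cen R x) := by
    have := Subgroup.card_dvd_of_le (zen_le_cen D x)
    rw [card_zen D] at this
    exact this
  have hmem : Nat.card (cen R x) ∈ Nat.divisors 64 := Nat.mem_divisors.mpr ⟨h1, by norm_num⟩
  have hdiv : Nat.divisors 64 = {1, 2, 4, 8, 16, 32, 64} := by decide
  rw [hdiv] at hmem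
  simp only [Finset.mem_insert, Finset.mem_singleton] at hmem
  rcases hmem with h | h | h | h | h | h | h <;> rw [h] at h2 ⊢ <;> simp at h2 ⊢

/-- **No elements of prime order `r ∉ {2, 3, 5}` modulo scalars in the normalizer.** -/
theorem S4Data.scalar_of_pow_prime (D : S4Data R) (h2 : (2 : F) ≠ 0) {x : GL (Fin 4) F}
    (hx : x ∈ Cfsg.Geo.subgroupNormalizer R) {r : ℕ} [hr : Fact r.Prime] (hr2 : r ≠ 2)
    (hr3 : r ≠ 3) (hr5 : r ≠ 5) {z : F}
    (hz : ((x ^ r : GL (Fin 4) F) : Matrix (Fin 4) (Fin 4) F) =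
      z • (1 : Matrix (Fin 4) (Fin 4) F)) :
    ∃ c : F, (x : Matrix (Fin 4) (Fin 4) F) = c • (1 : Matrix (Fin 4) (Fin 4) F) := by
  haveI := D.finite
  have hcount := card_modEq_card_inf_cen D hz R le_rfl
    (fun g hg => conj_mem_of_mem_normalizer hx hg)
  have hinf : (R ⊓ cen R x : Subgroup (GL (Fin 4) F)) = cen R x := by
    unfold cen
    rw [← inf_assoc, inf_idem]
  rw [hinf, D.card] at hcount
  -- r divides 64 - |C|
  have hdvd : ∀ c : ℕ, Nat.card (cen R x) = c → c ≤ 64 → r ∣ 64 - c := by
    intro c hc hle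
    rw [hc] at hcount
    exact (Nat.modEq_iff_dvd' hle).mp hcount.symm
  have hrp := hr.out
  have small : ∀ a b c : ℕ, r ∣ 2 ^ a * 3 ^ b * 5 ^ c → False := by
    intro a b c hd
    rcases prime_cases_235 hrp a b c hd with h | h | h
    · exact hr2 h
    · exact hr3 h
    · exact hr5 h
  rcases card_cen_cases D x with h | h | h | h | h
  · exfalso
    have := hdvd 4 h (by norm_num)
    exact small 2 1 1 (by norm_num at this ⊢; exact this)
  · -- the case |C| = 8, r = 7
    exfalso
    have h56 := hdvd 8 h (by norm_num)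
    have hr7 : r = 7 := by
      have h56' : r ∣ 2 ^ 3 * 7 := by norm_num at h56 ⊢; exact h56
      rcases (Nat.Prime.dvd_mul hrp).mp h56' with h' | h'
      · exact absurd (prime_eq_of_dvd_pow hrp Nat.prime_two h') hr2
      · exact (Nat.prime_dvd_prime_iff_eq hrp (by norm_num)).mp h'
    -- an element a of C outside the centre
    have hex : ∃ a ∈ cen R x, a ∉ zen R := by
      by_contra hcon
      push Not at hcon
      have hle : cen R x ≤ zen R := hcon
      have := Subgroup.card_dvd_of_le hle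
      rw [h, card_zen D] at this
      norm_num at this
    obtain ⟨a, haC, haz⟩ := hex
    obtain ⟨haR, hax⟩ := mem_cen.mp haC
    have hS := card_cen_of_not_mem_zen D h2 haR haz
    have hSinv : ∀ g ∈ cen R a, x⁻¹ * g * x ∈ cen R a := by
      intro g hg
      obtain ⟨hgR, hga⟩ := mem_cen.mp hg
      refine mem_cen.mpr ⟨conj_mem_of_mem_normalizer hx hgR, ?_⟩
      have hax' : x * a = a * x := hax.symm
      have hax'' : x⁻¹ * a = a * x⁻¹ := by
        calc x⁻¹ * a = x⁻¹ * (a * x) * x⁻¹ := by group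
          _ = x⁻¹ * (x * a) * x⁻¹ := by rw [hax']
          _ = a * x⁻¹ := by group
      calc x⁻¹ * g * x * a = x⁻¹ * g * (x * a) := by group
        _ = x⁻¹ * (g * a) * x := by rw [hax']; group
        _ = x⁻¹ * (a * g) * x := by rw [hga]
        _ = (x⁻¹ * a) * g * x := by group
        _ = a * (x⁻¹ * g * x) := by rw [hax'']; group
    have hcount2 := card_modEq_card_inf_cen D hz (cen R a) (cen_le a) hSinv
    rw [hS] at hcount2
    -- the intersection has order 8
    have hle1 : (cen R a ⊓ cen R x : Subgroup (GL (Fin 4) F)) ≤ cen R x := inf_le_right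
    haveI : Finite (cen R x) := Finite.of_injective (fun t : cen R x => (⟨t.1, cen_le x t.2⟩ : R))
        (fun a b h => Subtype.ext (congrArg (fun t : R => (t : GL (Fin 4) F)) h))
    have hd1 : Nat.card (cen R a ⊓ cen R x : Subgroup (GL (Fin 4) F)) ∣ 8 := by
      have := Subgroup.card_dvd_of_le hle1
      rw [h] at this
      exact this
    have hle2 : zen R ≤ (cen R a ⊓ cen R x : Subgroup (GL (Fin 4) F)) :=
      le_inf (zen_le_cen D a) (zen_le_cen D x)
    haveI : Finite (cen R a ⊓ cen R x : Subgroup (GL (Fin 4) F)) :=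
      Finite.of_injective (fun t : (cen R a ⊓ cen R x : Subgroup (GL (Fin 4) F)) =>
        (⟨t.1, cen_le x (hle1 t.2)⟩ : R))
        (fun a b h => Subtype.ext (congrArg (fun t : R => (t : GL (Fin 4) F)) h))
    have hd2 : 4 ∣ Nat.card (cen R a ⊓ cen R x : Subgroup (GL (Fin 4) F)) := by
      have := Subgroup.card_dvd_of_le hle2
      rw [card_zen D] at this
      exact this
    have hne4 : Nat.card (cen R a ⊓ cen R x : Subgroup (GL (Fin 4) F)) ≠ 4 := by
      intro h4
      have heq : zen R = (cen R a ⊓ cen R x : Subgroup (GL (Fin 4) F)) :=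
        Subgroup.eq_of_le_of_card_ge hle2 (by rw [h4, card_zen D])
      apply haz
      rw [heq]
      exact Subgroup.mem_inf.mpr ⟨mem_cen.mpr ⟨haR, rfl⟩, haC⟩
    have h8 : Nat.card (cen R a ⊓ cen R x : Subgroup (GL (Fin 4) F)) = 8 := by
      have hmem : Nat.card (cen R a ⊓ cen R x : Subgroup (GL (Fin 4) F)) ∈ Nat.divisors 8 :=
        Nat.mem_divisors.mpr ⟨hd1, by norm_num⟩
      have hdiv : Nat.divisors 8 = {1, 2, 4, 8} := by decide
      rw [hdiv] at hmem
      simp only [Finset.mem_insert, Finset.mem_singleton] at hmem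
      rcases hmem with h' | h' | h' | h'
      · rw [h'] at hd2; norm_num at hd2
      · rw [h'] at hd2; norm_num at hd2
      · exact absurd h' hne4
      · exact h'
    rw [h8, hr7] at hcount2
    exact absurd hcount2 (by decide)
  · exfalso
    have := hdvd 16 h (by norm_num)
    exact small 4 1 0 (by norm_num at this ⊢; exact this)
  · exfalso
    have := hdvd 32 h (by norm_num)
    exact small 5 0 0 (by norm_num at this ⊢; exact this)
  · -- C = R: x commutes with R
    have heq : cen R x = R := Subgroup.eq_of_le_of_card_ge (cen_le x) (by rw [h, D.card])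
    apply D.scalar_of_comm
    intro g hg
    rw [← heq] at hg
    have := (mem_cen.mp hg).2
    have h3 := congrArg (fun t : GL (Fin 4) F => (t : Matrix (Fin 4) (Fin 4) F)) this
    simp only [Units.val_mul] at h3
    exact h3.symm

end Cfsg.Agent.Helper9.S4
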