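import Mathlib
import Cfsg.Agent.Helper9.S4ObsC

set_option autoImplicit false
open scoped MatrixGroups

/-!
S6000 / S6001, obstruction side, part D: a transvection `1 + u φᵀ` (`φ(u) = 0`) normalizing `R`
is the identity.
-/

namespace Cfsg.Agent.Helper9.S4

open Matrix Module

variable {F : Type*} [Field F] {R : Subgroup (GL (Fin 4) F)}

/-- Two linear conditions on `F⁴` have a common non-zero solution. -/
theorem exists_ne_zero_two_conditions (φ ψ : Fin 4 → F) :
    ∃ v : Fin 4 → F, v ≠ 0 ∧ φ ⬝ᵥ v = 0 ∧ ψ ⬝ᵥ v = 0 := by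
  let A : Matrix (Fin 2) (Fin 4) F := Matrix.of ![φ, ψ]
  have hker : LinearMap.ker (Matrix.toLin' A) ≠ ⊥ := by
    apply LinearMap.ker_ne_bot_of_finrank_lt
    rw [Module.finrank_pi, Module.finrank_pi, Fintype.card_fin, Fintype.card_fin]
    norm_num
  obtain ⟨v, hv, hv0⟩ := (Submodule.ne_bot_iff _).mp hker
  rw [LinearMap.mem_ker, Matrix.toLin'_apply] at hv
  refine ⟨v, hv0, ?_, ?_⟩
  · have := congrFun hv 0
    simpa [A, Matrix.mulVec] using this
  · have := congrFun hv 1
    simpa [A, Matrix.mulVec] using this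

theorem trace_conj (g x : GL (Fin 4) F) :
    Matrix.trace ((g * x * g⁻¹ : GL (Fin 4) F) : Matrix (Fin 4) (Fin 4) F) =
      Matrix.trace (x : Matrix (Fin 4) (Fin 4) F) := by
  rw [Units.val_mul, Units.val_mul, Matrix.trace_mul_cycle, ← Units.val_mul, inv_mul_cancel,
    Units.val_one, one_mul]

/-- **No transvections in the normalizer.** -/
theorem S4Data.no_transvection (D : S4Data R) (h2 : (2 : F) ≠ 0) {x : GL (Fin 4) F}
    (hx : x ∈ Cfsg.Geo.subgroupNormalizer R) (u φ : Fin 4 → F) (hφu : φ ⬝ᵥ u = 0)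
    (hxN : (x : Matrix (Fin 4) (Fin 4) F) = 1 + Matrix.vecMulVec u φ) : x = 1 := by
  set N : Matrix (Fin 4) (Fin 4) F := Matrix.vecMulVec u φ with hN
  have hNN : N * N = 0 := by
    rw [hN, Matrix.vecMulVec_mul_vecMulVec, hφu, zero_smul]
    ext i j
    simp [Matrix.vecMulVec_apply]
  have htrN : Matrix.trace N = 0 := by
    rw [hN, Matrix.trace_vecMulVec, dotProduct_comm]
    exact hφu
  have hNv : ∀ v : Fin 4 → F, N *ᵥ v = (φ ⬝ᵥ v) • u := by
    intro v
    rw [hN, Matrix.vecMulVec_mulVec, op_smul_eq_smul]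
  have hxinv : ((x⁻¹ : GL (Fin 4) F) : Matrix (Fin 4) (Fin 4) F) = 1 - N := by
    have h1 : (x : Matrix (Fin 4) (Fin 4) F) * (1 - N) = 1 := by
      rw [hxN, mul_sub, mul_one, add_mul, one_mul, hNN]
      abel
    have h3 : ((x⁻¹ : GL (Fin 4) F) : Matrix (Fin 4) (Fin 4) F) =
        ((x⁻¹ : GL (Fin 4) F) : Matrix (Fin 4) (Fin 4) F) *
          ((x : Matrix (Fin 4) (Fin 4) F) * (1 - N)) := by rw [h1, mul_one]
    rw [h3, ← mul_assoc, ← Units.val_mul, inv_mul_cancel, Units.val_one, one_mul]
  have htrx : Matrix.trace (x : Matrix (Fin 4) (Fin 4) F) = 4 := by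
    rw [hxN, Matrix.trace_add, htrN, Matrix.trace_one, Fintype.card_fin]
    norm_num
  have htrxi : Matrix.trace ((x⁻¹ : GL (Fin 4) F) : Matrix (Fin 4) (Fin 4) F) = 4 := by
    rw [hxinv, Matrix.trace_sub, htrN, Matrix.trace_one, Fintype.card_fin]
    norm_num
  have h8 : (8 : F) ≠ 0 := by
    have : (8 : F) = 2 ^ 3 := by norm_num
    rw [this]; exact pow_ne_zero 3 h2
  -- every commutator is trivial
  have hcomm : ∀ g ∈ R, g * x = x * g := by
    intro g hg
    obtain ⟨k, hkdef⟩ : ∃ k : GL (Fin 4) F, k = g * x * g⁻¹ * x⁻¹ := ⟨_, rfl⟩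
    have hkR : k ∈ R := by
      rw [hkdef]
      have h1 : x * g⁻¹ * x⁻¹ ∈ R :=
        (Subgroup.mem_normalizer_iff.mp hx g⁻¹).mp (R.inv_mem hg)
      have : g * x * g⁻¹ * x⁻¹ = g * (x * g⁻¹ * x⁻¹) := by group
      rw [this]
      exact R.mul_mem hg h1
    -- a fixed vector
    obtain ⟨v, hv0, hv1, hv2⟩ := exists_ne_zero_two_conditions φ
      (φ ᵥ* ((g⁻¹ : GL (Fin 4) F) : Matrix (Fin 4) (Fin 4) F))
    rw [← Matrix.dotProduct_mulVec] at hv2
    have hkv : (k : Matrix (Fin 4) (Fin 4) F) *ᵥ v = v := by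
      rw [hkdef]
      simp only [Units.val_mul]
      rw [← Matrix.mulVec_mulVec, ← Matrix.mulVec_mulVec, ← Matrix.mulVec_mulVec, hxinv,
        Matrix.sub_mulVec, Matrix.one_mulVec, hNv, hv1, zero_smul, sub_zero, hxN,
        Matrix.add_mulVec, Matrix.one_mulVec, hNv, hv2, zero_smul, add_zero,
        Matrix.mulVec_mulVec, ← Units.val_mul, mul_inv_cancel, Units.val_one, Matrix.one_mulVec]
    -- k * k = 1
    have hkk : k * k = 1 := by
      rcases D.sq k hkR with h | h
      · exact h
      · exfalso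
        have h1 := congrArg (fun t : GL (Fin 4) F => (t : Matrix (Fin 4) (Fin 4) F) *ᵥ v) h
        simp only [Units.val_mul, Units.val_neg, Units.val_one] at h1
        rw [← Matrix.mulVec_mulVec, hkv, hkv, Matrix.neg_mulVec, Matrix.one_mulVec] at h1
        have h3 : (2 : F) • v = 0 := by
          rw [two_smul]
          nth_rewrite 1 [h1]
          simp
        rcases smul_eq_zero.mp h3 with h4 | h4
        · exact h2 h4
        · exact hv0 h4
    have hk1 : k = 1 := by
      by_cases hsc : ∃ c : F, (k : Matrix (Fin 4) (Fin 4) F) = c • (1 : Matrix (Fin 4) (Fin 4) F)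
      · obtain ⟨c, hc⟩ := hsc
        rw [hc, Matrix.smul_mulVec, Matrix.one_mulVec] at hkv
        have hc1 : c = 1 := by
          have : (c - 1) • v = 0 := by rw [sub_smul, one_smul, hkv, sub_self]
          rcases smul_eq_zero.mp this with h4 | h4
          · exact sub_eq_zero.mp h4
          · exact absurd h4 hv0
        apply Units.ext
        rw [hc, hc1, one_smul, Units.val_one]
      · exfalso
        push Not at hsc
        have htrk := D.trace_eq_zero h2 hkR hsc
        -- k * x = g * x * g⁻¹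
        have e1 : k * x = g * x * g⁻¹ := by rw [hkdef]; group
        have t1 : Matrix.trace ((k : Matrix (Fin 4) (Fin 4) F) * N) = 4 := by
          have h1 : Matrix.trace ((k * x : GL (Fin 4) F) : Matrix (Fin 4) (Fin 4) F) = 4 := by
            rw [e1, trace_conj, htrx]
          rw [Units.val_mul, hxN, mul_add, mul_one, Matrix.trace_add, htrk, zero_add] at h1
          exact h1
        -- x⁻¹ * k = g * x⁻¹ * g⁻¹  (using k⁻¹ = k)
        have hkinv : k⁻¹ = k := by
          rw [inv_eq_iff_mul_eq_one]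
          exact hkk
        have e2 : x⁻¹ * k = g * x⁻¹ * g⁻¹ := by
          have : x⁻¹ * k⁻¹ = g * x⁻¹ * g⁻¹ := by rw [hkdef]; group
          rw [hkinv] at this
          exact this
        have t2 : Matrix.trace (N * (k : Matrix (Fin 4) (Fin 4) F)) = -4 := by
          have h1 : Matrix.trace ((x⁻¹ * k : GL (Fin 4) F) : Matrix (Fin 4) (Fin 4) F) = 4 := by
            rw [e2, trace_conj, htrxi]
          rw [Units.val_mul, hxinv, sub_mul, one_mul, Matrix.trace_sub, htrk, zero_sub] at h1
          linear_combination -h1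
        rw [Matrix.trace_mul_comm] at t2
        apply h8
        linear_combination t2 - t1
    rw [hkdef] at hk1
    calc g * x = (g * x * g⁻¹ * x⁻¹) * (x * g) := by group
      _ = x * g := by rw [hk1, one_mul]
  -- x is scalar
  obtain ⟨c, hc⟩ := D.scalar_of_comm (x : Matrix (Fin 4) (Fin 4) F) (by
    intro g hg
    have := congrArg (fun t : GL (Fin 4) F => (t : Matrix (Fin 4) (Fin 4) F)) (hcomm g hg)
    simp only [Units.val_mul] at this
    exact this.symm)
  have hc1 : c = 1 := by
    have := htrx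
    rw [hc, Matrix.trace_smul, Matrix.trace_one, Fintype.card_fin, smul_eq_mul] at this
    have h4 : (4 : F) ≠ 0 := by
      have : (4 : F) = 2 ^ 2 := by norm_num
      rw [this]; exact pow_ne_zero 2 h2
    have h5 : (4 : F) * (c - 1) = 0 := by
      push_cast at this
      linear_combination this
    exact sub_eq_zero.mp ((mul_eq_zero.mp h5).resolve_left h4)
  apply Units.ext
  rw [hc, hc1, one_smul, Units.val_one]

end Cfsg.Agent.Helper9.S4
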