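import Mathlib
import Cfsg.Agent.Helper9.S4ObsD

set_option autoImplicit false
open scoped MatrixGroups

/-!
S6000 / S6001, obstruction side, part E: the traces of elements of order 3 and 5 (modulo scalars)
of the normalizer of `R`.
-/

namespace Cfsg.Agent.Helper9.S4

open Matrix

variable {F : Type*} [Field F] {R : Subgroup (GL (Fin 4) F)}

theorem card_comm_eq_card_cen (x : GL (Fin 4) F) :
    Nat.card {g : R // (g : GL (Fin 4) F) * x = x * (g : GL (Fin 4) F)} = Nat.card (cen R x) := by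
  apply Nat.card_congr
  exact
    { toFun := fun g => ⟨g.1.1, mem_cen.mpr ⟨g.1.2, g.2⟩⟩
      invFun := fun g => ⟨⟨g.1, (mem_cen.mp g.2).1⟩, (mem_cen.mp g.2).2⟩
      left_inv := fun g => rfl
      right_inv := fun g => rfl }

theorem scalar_of_card_cen (D : S4Data R) {x : GL (Fin 4) F} (h : Nat.card (cen R x) = 64) :
    ∃ c : F, (x : Matrix (Fin 4) (Fin 4) F) = c • (1 : Matrix (Fin 4) (Fin 4) F) := by
  haveI := D.finite
  have heq : cen R x = R := Subgroup.eq_of_le_of_card_ge (cen_le x) (by rw [h, D.card])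
  apply D.scalar_of_comm
  intro g hg
  rw [← heq] at hg
  have := (mem_cen.mp hg).2
  have h3 := congrArg (fun t : GL (Fin 4) F => (t : Matrix (Fin 4) (Fin 4) F)) this
  simp only [Units.val_mul] at h3
  exact h3.symm

/-- Elements of order 5 modulo scalars of the normalizer have `tr(x) · tr(x⁻¹) = 1`. -/
theorem S4Data.trace_of_pow_five (D : S4Data R) (h2 : (2 : F) ≠ 0) {x : GL (Fin 4) F}
    (hx : x ∈ Cfsg.Geo.subgroupNormalizer R) {z : F}
    (hz : ((x ^ 5 : GL (Fin 4) F) : Matrix (Fin 4) (Fin 4) F) =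
      z • (1 : Matrix (Fin 4) (Fin 4) F))
    (hns : ∀ c : F, (x : Matrix (Fin 4) (Fin 4) F) ≠ c • (1 : Matrix (Fin 4) (Fin 4) F)) :
    Matrix.trace (x : Matrix (Fin 4) (Fin 4) F) *
      Matrix.trace ((x⁻¹ : GL (Fin 4) F) : Matrix (Fin 4) (Fin 4) F) = 1 := by
  haveI : Fact (Nat.Prime 5) := ⟨by norm_num⟩
  have htf := D.trace_formula_odd h2 hx (r := 5) (by decide) hz
  rw [card_comm_eq_card_cen] at htf
  have hcount := card_modEq_card_inf_cen D hz R le_rfl
    (fun g hg => conj_mem_of_mem_normalizer hx hg)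
  have hinf : (R ⊓ cen R x : Subgroup (GL (Fin 4) F)) = cen R x := by
    unfold cen
    rw [← inf_assoc, inf_idem]
  rw [hinf, D.card] at hcount
  have h4 : (4 : F) ≠ 0 := by
    have : (4 : F) = 2 ^ 2 := by norm_num
    rw [this]; exact pow_ne_zero 2 h2
  rcases card_cen_cases D x with h | h | h | h | h
  · rw [h] at htf
    simp only [Nat.cast_ofNat] at htf
    have : (4 : F) * (Matrix.trace (x : Matrix (Fin 4) (Fin 4) F) *
        Matrix.trace ((x⁻¹ : GL (Fin 4) F) : Matrix (Fin 4) (Fin 4) F)) = 4 * 1 := by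
      rw [htf, mul_one]
    exact mul_left_cancel₀ h4 this
  · rw [h] at hcount; exact absurd hcount (by decide)
  · rw [h] at hcount; exact absurd hcount (by decide)
  · rw [h] at hcount; exact absurd hcount (by decide)
  · obtain ⟨c, hc⟩ := scalar_of_card_cen D h
    exact absurd hc (hns c)

/-- Elements of order 3 modulo scalars of the normalizer have `tr(x) · tr(x⁻¹) ∈ {1, 4}`. -/
theorem S4Data.trace_of_pow_three (D : S4Data R) (h2 : (2 : F) ≠ 0) {x : GL (Fin 4) F}
    (hx : x ∈ Cfsg.Geo.subgroupNormalizer R) {z : F}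
    (hz : ((x ^ 3 : GL (Fin 4) F) : Matrix (Fin 4) (Fin 4) F) =
      z • (1 : Matrix (Fin 4) (Fin 4) F))
    (hns : ∀ c : F, (x : Matrix (Fin 4) (Fin 4) F) ≠ c • (1 : Matrix (Fin 4) (Fin 4) F)) :
    Matrix.trace (x : Matrix (Fin 4) (Fin 4) F) *
        Matrix.trace ((x⁻¹ : GL (Fin 4) F) : Matrix (Fin 4) (Fin 4) F) = 1 ∨
      Matrix.trace (x : Matrix (Fin 4) (Fin 4) F) *
        Matrix.trace ((x⁻¹ : GL (Fin 4) F) : Matrix (Fin 4) (Fin 4) F) = 4 := by
  haveI : Fact (Nat.Prime 3) := ⟨by norm_num⟩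
  have htf := D.trace_formula_odd h2 hx (r := 3) (by decide) hz
  rw [card_comm_eq_card_cen] at htf
  have hcount := card_modEq_card_inf_cen D hz R le_rfl
    (fun g hg => conj_mem_of_mem_normalizer hx hg)
  have hinf : (R ⊓ cen R x : Subgroup (GL (Fin 4) F)) = cen R x := by
    unfold cen
    rw [← inf_assoc, inf_idem]
  rw [hinf, D.card] at hcount
  have h4 : (4 : F) ≠ 0 := by
    have : (4 : F) = 2 ^ 2 := by norm_num
    rw [this]; exact pow_ne_zero 2 h2
  rcases card_cen_cases D x with h | h | h | h | h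
  · left
    rw [h] at htf
    simp only [Nat.cast_ofNat] at htf
    have : (4 : F) * (Matrix.trace (x : Matrix (Fin 4) (Fin 4) F) *
        Matrix.trace ((x⁻¹ : GL (Fin 4) F) : Matrix (Fin 4) (Fin 4) F)) = 4 * 1 := by
      rw [htf, mul_one]
    exact mul_left_cancel₀ h4 this
  · rw [h] at hcount; exact absurd hcount (by decide)
  · right
    rw [h] at htf
    simp only [Nat.cast_ofNat] at htf
    have : (4 : F) * (Matrix.trace (x : Matrix (Fin 4) (Fin 4) F) *
        Matrix.trace ((x⁻¹ : GL (Fin 4) F) : Matrix (Fin 4) (Fin 4) F)) = 4 * 4 := by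
      rw [htf]; norm_num
    exact mul_left_cancel₀ h4 this
  · rw [h] at hcount; exact absurd hcount (by decide)
  · obtain ⟨c, hc⟩ := scalar_of_card_cen D h
    exact absurd hc (hns c)

end Cfsg.Agent.Helper9.S4
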