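import Mathlib
import Cfsg.Agent.Helper8.GUOrder
import Cfsg.Agent.Helper8.AutSUl
import Cfsg.Agent.Helper7.Ex27B

set_option autoImplicit false
set_option linter.unusedSectionVars false

/-!
S6001: conjugacy in `GU_n ⊓ SL_n` of two matrices which are "the same" in two frames with the same
Gram matrix.
-/

namespace Cfsg.Agent.Helper9.U4

open Matrix Cfsg Cfsg.Agent.Helper8.GUOrder Cfsg.Agent.Helper8.AutSU

variable {F : Type*} [Field F] [Fintype F] {q : ℕ} [hF : Fact (Fintype.card F = q ^ 2)] {n : ℕ}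

/-- the Frobenius twist `M ↦ M^{(q)}` of a matrix. -/
def sig (q : ℕ) (M : Matrix (Fin n) (Fin n) F) : Matrix (Fin n) (Fin n) F := M.map (· ^ q)

theorem sig_eq (M : Matrix (Fin n) (Fin n) F) : sig q M = M.map (frobq F q) := rfl

theorem sig_apply (M : Matrix (Fin n) (Fin n) F) (i j : Fin n) : sig q M i j = M i j ^ q := rfl

theorem sig_mul (M N : Matrix (Fin n) (Fin n) F) : sig q (M * N) = sig q M * sig q N := by
  rw [sig_eq, sig_eq, sig_eq, Matrix.map_mul]

theorem sig_one : sig q (1 : Matrix (Fin n) (Fin n) F) = 1 := by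
  rw [sig_eq, Matrix.map_one _ (map_zero _) (map_one _)]

theorem det_sig (M : Matrix (Fin n) (Fin n) F) : (sig q M).det = M.det ^ q :=
  det_map_q hF.out M

theorem mem_GU_iff_sig (g : GL (Fin n) F) :
    g ∈ GU n F q ↔ (g : Matrix (Fin n) (Fin n) F)ᵀ * sig q (g : Matrix (Fin n) (Fin n) F) = 1 :=
  mem_GU_iff hF.out g

/-- the Gram matrix of the columns of `B`. -/
def gram (q : ℕ) (B : Matrix (Fin n) (Fin n) F) : Matrix (Fin n) (Fin n) F := Bᵀ * sig q B

theorem gram_apply (B : Matrix (Fin n) (Fin n) F) (j k : Fin n) :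
    gram q B j k = hermForm n F q (fun r => B r j) (fun r => B r k) := by
  unfold gram hermForm
  rw [Matrix.mul_apply]
  rfl

theorem det_ne_zero_of_gram {B J : Matrix (Fin n) (Fin n) F} (hB : gram q B = J) (hJ : J.det ≠ 0) :
    B.det ≠ 0 := by
  intro h
  apply hJ
  rw [← hB, gram, Matrix.det_mul, Matrix.det_transpose, h, zero_mul]

/-- **Frame conjugacy.**  If `Y` acts as `D` in the frame `B` and `Y'` acts as `D` in the frame `B'`,
the two frames have the same nonsingular Gram matrix `J`, and `A` is an isometry of `J` commuting with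
`D` with `det B * det A = det B'`, then `Y` and `Y'` are conjugate under `GU_n ⊓ SL_n`. -/
theorem conj_of_frames (J D A B B' : Matrix (Fin n) (Fin n) F) (hJ : J.det ≠ 0)
    (hB : gram q B = J) (hB' : gram q B' = J) (hA : Aᵀ * J * sig q A = J) (hAD : A * D = D * A)
    (hdet : B.det * A.det = B'.det) (Y Y' : GL (Fin n) F)
    (hY : (Y : Matrix (Fin n) (Fin n) F) * B = B * D)
    (hY' : (Y' : Matrix (Fin n) (Fin n) F) * B' = B' * D) :
    ∃ g ∈ GU n F q ⊓ Geo.specialLinear (Fin n) F, g⁻¹ * Y * g = Y' := by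
  have hBd := det_ne_zero_of_gram hB hJ
  have hB'd := det_ne_zero_of_gram hB' hJ
  have hB'u : IsUnit B'.det := isUnit_iff_ne_zero.mpr hB'd
  have hi1 : B'⁻¹ * B' = 1 := Matrix.nonsing_inv_mul _ hB'u
  have hi2 : B' * B'⁻¹ = 1 := Matrix.mul_nonsing_inv _ hB'u
  -- the conjugating matrix
  obtain ⟨G, hG⟩ : ∃ G, G = B * A * B'⁻¹ := ⟨_, rfl⟩
  have hGB : G * B' = B * A := by rw [hG, Matrix.mul_assoc, hi1, Matrix.mul_one]
  have hGd : G.det = 1 := by
    have h1 : G.det * B'.det = B'.det := by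
      rw [← Matrix.det_mul, hGB, Matrix.det_mul, hdet]
    exact mul_right_cancel₀ hB'd (by rw [h1, one_mul])
  have hGu : IsUnit G.det := by rw [hGd]; exact isUnit_one
  obtain ⟨g, hg⟩ : ∃ g : GL (Fin n) F, (g : Matrix (Fin n) (Fin n) F) = G :=
    ⟨Matrix.GeneralLinearGroup.mk'' G hGu, rfl⟩
  refine ⟨g, ⟨?_, ?_⟩, ?_⟩
  · change g ∈ GU n F q
    rw [mem_GU_iff_sig, hg]
    -- B'ᵀ (Gᵀ G^σ) B'^σ = B'ᵀ B'^σ
    have h1 : B'ᵀ * (Gᵀ * sig q G) * sig q B' = B'ᵀ * 1 * sig q B' := by
      have e1 : B'ᵀ * (Gᵀ * sig q G) * sig q B' = (G * B')ᵀ * sig q (G * B') := by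
        rw [Matrix.transpose_mul, sig_mul]
        simp only [Matrix.mul_assoc]
      rw [e1, hGB, Matrix.transpose_mul, sig_mul, Matrix.mul_one]
      have e2 : Aᵀ * Bᵀ * (sig q B * sig q A) = Aᵀ * (Bᵀ * sig q B) * sig q A := by
        simp only [Matrix.mul_assoc]
      rw [e2]
      change Aᵀ * gram q B * sig q A = gram q B'
      rw [hB, hB', hA]
    have hsu : IsUnit (sig q B').det := by
      rw [det_sig]; exact hB'u.pow q
    have htu : IsUnit (B'ᵀ).det := by rw [Matrix.det_transpose]; exact hB'u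
    have h2 : B'ᵀ * (Gᵀ * sig q G) = B'ᵀ * 1 := by
      have := congrArg (fun M => M * (sig q B')⁻¹) h1
      simp only [Matrix.mul_assoc, Matrix.mul_nonsing_inv _ hsu, Matrix.mul_one] at this
      simpa [Matrix.mul_assoc] using this
    have := congrArg (fun M => (B'ᵀ)⁻¹ * M) h2
    simp only [← Matrix.mul_assoc, Matrix.nonsing_inv_mul _ htu, Matrix.one_mul] at this
    simpa using this
  · change g ∈ Geo.specialLinear (Fin n) F
    rw [Cfsg.Agent.Helper7.Ex27.mem_SL_iff, hg, hGd]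
  · have h1 : Y * g = g * Y' := by
      apply Units.ext
      rw [Units.val_mul, Units.val_mul, hg]
      have h2 : (Y : Matrix (Fin n) (Fin n) F) * G * B' = G * (Y' : Matrix (Fin n) (Fin n) F) * B' := by
        rw [Matrix.mul_assoc, hGB, ← Matrix.mul_assoc, hY, Matrix.mul_assoc, ← hAD,
          ← Matrix.mul_assoc, ← hGB, Matrix.mul_assoc, Matrix.mul_assoc, hY']
      have := congrArg (fun M => M * B'⁻¹) h2
      simp only [Matrix.mul_assoc, hi2, Matrix.mul_one] at this
      exact this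
    rw [mul_assoc, h1, ← mul_assoc, inv_mul_cancel, one_mul]

end Cfsg.Agent.Helper9.U4
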