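import Mathlib
import Cfsg.Agent.Helper9.U4ConjA

set_option autoImplicit false
set_option linter.unusedSectionVars false

/-!
S6001: the property "every element of `SU_4` of order `r` modulo scalars is `SU_4`-conjugate into
`N`" and its transport along a conjugation by an element of `GU_4`.
-/

namespace Cfsg.Agent.Helper9.U4

open Matrix Cfsg

variable {F : Type*} [Field F]

/-- every element of `SU_4(q)` whose `r`-th power is scalar, and which is not scalar, is conjugate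
under `SU_4(q)` into `N`. -/
def GoodU (q r : ℕ) (N : Subgroup (GL (Fin 4) F)) : Prop :=
  ∀ x ∈ GU 4 F q ⊓ Geo.specialLinear (Fin 4) F,
    (∃ z : F, ((x ^ r : GL (Fin 4) F) : Matrix (Fin 4) (Fin 4) F) =
      z • (1 : Matrix (Fin 4) (Fin 4) F)) →
    (∀ z : F, (x : Matrix (Fin 4) (Fin 4) F) ≠ z • (1 : Matrix (Fin 4) (Fin 4) F)) →
    ∃ g ∈ GU 4 F q ⊓ Geo.specialLinear (Fin 4) F, g⁻¹ * x * g ∈ N

theorem conj_mem_SL4 (P g : GL (Fin 4) F) (hg : g ∈ Geo.specialLinear (Fin 4) F) :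
    P⁻¹ * g * P ∈ Geo.specialLinear (Fin 4) F := by
  have hn : (Geo.specialLinear (Fin 4) F).Normal := by
    unfold Geo.specialLinear
    exact MonoidHom.normal_ker _
  have := hn.conj_mem g hg P⁻¹
  rwa [inv_inv] at this

theorem conj_mem_SU4 {q : ℕ} (P g : GL (Fin 4) F) (hP : P ∈ GU 4 F q)
    (hg : g ∈ GU 4 F q ⊓ Geo.specialLinear (Fin 4) F) :
    P⁻¹ * g * P ∈ GU 4 F q ⊓ Geo.specialLinear (Fin 4) F :=
  ⟨(GU 4 F q).mul_mem ((GU 4 F q).mul_mem ((GU 4 F q).inv_mem hP) hg.1) hP, conj_mem_SL4 P g hg.2⟩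

theorem conj_scalar4 (P : GL (Fin 4) F) (g : GL (Fin 4) F) (z : F)
    (hg : (g : Matrix (Fin 4) (Fin 4) F) = z • (1 : Matrix (Fin 4) (Fin 4) F)) :
    ((P⁻¹ * g * P : GL (Fin 4) F) : Matrix (Fin 4) (Fin 4) F) =
      z • (1 : Matrix (Fin 4) (Fin 4) F) := by
  rw [Units.val_mul, Units.val_mul, hg, Matrix.mul_smul, Matrix.mul_one, Matrix.smul_mul,
    ← Units.val_mul, inv_mul_cancel, Units.val_one]

/-- transport of `GoodU` along a conjugation by an element of `GU_4`. -/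
theorem goodU_of_conj {q : ℕ} (r : ℕ) (N N' : Subgroup (GL (Fin 4) F)) (P : GL (Fin 4) F)
    (hP : P ∈ GU 4 F q) (hN : ∀ g, g ∈ N ↔ P⁻¹ * g * P ∈ N') (h : GoodU q r N') :
    GoodU q r N := by
  intro x hx hxr hxns
  obtain ⟨z, hz⟩ := hxr
  have h1 : (P⁻¹ * x * P) ^ r = P⁻¹ * x ^ r * P := by
    have := conj_pow (a := P⁻¹) (b := x) (i := r)
    rw [inv_inv] at this
    exact this
  obtain ⟨g', hg', hmem⟩ := h (P⁻¹ * x * P) (conj_mem_SU4 P x hP hx)
    ⟨z, by rw [h1]; exact conj_scalar4 P _ z hz⟩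
    (by
      intro z' hz'
      apply hxns z'
      have := conj_scalar4 P⁻¹ _ z' hz'
      rw [inv_inv] at this
      rw [← this]
      congr 1
      group)
  refine ⟨P * g' * P⁻¹, ?_, ?_⟩
  · have := conj_mem_SU4 P⁻¹ g' ((GU 4 F q).inv_mem hP) hg'
    rwa [inv_inv] at this
  · rw [hN]
    have : P⁻¹ * ((P * g' * P⁻¹)⁻¹ * x * (P * g' * P⁻¹)) * P = g'⁻¹ * (P⁻¹ * x * P) * g' := by
      group
    rw [this]
    exact hmem

theorem normalizer_conj4 (R R' : Subgroup (GL (Fin 4) F)) (P : GL (Fin 4) F)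
    (hR : ∀ g, g ∈ R ↔ P⁻¹ * g * P ∈ R') :
    ∀ g, g ∈ Geo.subgroupNormalizer R ↔ P⁻¹ * g * P ∈ Geo.subgroupNormalizer R' := by
  intro g
  unfold Geo.subgroupNormalizer
  rw [Subgroup.mem_normalizer_iff, Subgroup.mem_normalizer_iff]
  constructor
  · intro h n
    have h1 := h (P * n * P⁻¹)
    rw [hR, hR] at h1
    have e1 : P⁻¹ * (P * n * P⁻¹) * P = n := by group
    have e2 : P⁻¹ * (g * (P * n * P⁻¹) * g⁻¹) * P = P⁻¹ * g * P * n * (P⁻¹ * g * P)⁻¹ := by group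
    rw [e1, e2] at h1
    exact h1
  · intro h n
    have h1 := h (P⁻¹ * n * P)
    rw [hR, hR]
    have e2 : P⁻¹ * (g * n * g⁻¹) * P = P⁻¹ * g * P * (P⁻¹ * n * P) * (P⁻¹ * g * P)⁻¹ := by group
    rw [e2]
    exact h1

end Cfsg.Agent.Helper9.U4
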