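import Mathlib
import Cfsg.Agent.Lead.BswDefs
import Cfsg.Agent.Helper5.Bsw_A13_20
import Cfsg.Agent.Helper7.Bsw_A31_35
import Cfsg.Agent.Helper7.Bsw_B1_9

/-!
# S3282 (abstract Brauer-Suzuki-Wall), group side, pieces B10 - B17  (helper9)

`A = C_G(y)` for a torus element `y`, `N = N_G(A)`.
-/

set_option autoImplicit false
namespace Cfsg.Agent.Lead.Bsw
variable {G : Type*} [Group G] [Finite G] {t s : G} {K : Subgroup G}

/-! ### small general facts on involutions -/

omit [Finite G] in
theorem h9_inv_sq {z : G} (hz : orderOf z = 2) : z * z = 1 := by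
  have := pow_orderOf_eq_one z
  rw [hz, pow_two] at this
  exact this

omit [Finite G] in
theorem h9_inv_inv {z : G} (hz : orderOf z = 2) : z⁻¹ = z :=
  inv_eq_of_mul_eq_one_left (h9_inv_sq hz)

omit [Finite G] in
theorem h9_inv_ne_one {z : G} (hz : orderOf z = 2) : z ≠ 1 := by
  rintro rfl
  rw [orderOf_one] at hz
  exact absurd hz (by norm_num)

omit [Finite G] in
theorem h9_orderOf_two {z : G} (h1 : z * z = 1) (h2 : z ≠ 1) : orderOf z = 2 :=
  orderOf_eq_prime (by rw [pow_two]; exact h1) h2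

omit [Finite G] in
theorem h9_orderOf_conj_two {g u : G} (hu : orderOf u = 2) : orderOf (g * u * g⁻¹) = 2 := by
  apply h9_orderOf_two
  · calc g * u * g⁻¹ * (g * u * g⁻¹) = g * (u * u) * g⁻¹ := by group
      _ = 1 := by rw [h9_inv_sq hu]; group
  · intro h1
    apply h9_inv_ne_one hu
    calc u = g⁻¹ * (g * u * g⁻¹) * g := by group
      _ = 1 := by rw [h1]; group

omit [Finite G] in
theorem h9_self_mem_cent (y : G) : y ∈ Subgroup.centralizer ({y} : Set G) :=
  Subgroup.mem_centralizer_singleton_iff.mpr rfl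

omit [Finite G] in
/-- a torus contains no involution -/
theorem h9_no_inv_in_torus {y z : G} (hy : IsTorusElt y) (hz : orderOf z = 2) :
    z ∉ Subgroup.centralizer ({y} : Set G) := by
  intro hzA
  have hdvd := Subgroup.orderOf_dvd_natCard _ hzA
  rw [hz] at hdvd
  exact (Nat.not_even_iff_odd.mpr hy.2.2) (even_iff_two_dvd.mpr hdvd)

omit [Finite G] in
/-- square roots in a torus -/
theorem h9_torus_sqrt {y a : G} (hy : IsTorusElt y) (ha : a ∈ Subgroup.centralizer ({y} : Set G)) :
    ∃ b ∈ Subgroup.centralizer ({y} : Set G), b * b = a := by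
  obtain ⟨k, hk⟩ := hy.2.2
  have hdvd := Subgroup.orderOf_dvd_natCard _ ha
  have hpow : a ^ (2 * k + 1) = 1 := by
    rw [← hk]; exact orderOf_dvd_iff_pow_eq_one.mp hdvd
  refine ⟨a ^ (k + 1), Subgroup.pow_mem _ ha _, ?_⟩
  calc a ^ (k + 1) * a ^ (k + 1) = a ^ (2 * k + 1) * a := by
        rw [← pow_add, ← pow_succ]; congr 1; ring
    _ = a := by rw [hpow, one_mul]

-- B10 : A meets every K_w trivially
theorem torus_inf_Kz (h : Hyp t K s) {y w : G} (hy : IsTorusElt y) (hw : orderOf w = 2) :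
    Subgroup.centralizer ({y} : Set G) ⊓ Kz w = ⊥ := by
  rw [eq_bot_iff]
  intro a ha
  rw [Subgroup.mem_bot]
  by_contra ha1
  obtain ⟨haA, haK⟩ := Subgroup.mem_inf.mp ha
  have hodd := (torus_cent h hy haA ha1).2.2.2
  have heven := even_card_cent_of_mem_Kz h hw haK
  exact (Nat.not_even_iff_odd.mpr hodd) heven

-- B11 : N(A)/A acts semiregularly on A \ 1
theorem torus_semireg (h : Hyp t K s) {y g a : G} (hy : IsTorusElt y)
    (ha : a ∈ Subgroup.centralizer ({y} : Set G)) (ha1 : a ≠ 1) (hga : g * a * g⁻¹ = a) :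
    g ∈ Subgroup.centralizer ({y} : Set G) := by
  rw [← (torus_cent h hy ha ha1).1, Subgroup.mem_centralizer_singleton_iff]
  calc g * a = g * a * g⁻¹ * g := by group
    _ = a * g := by rw [hga]

-- B14 : two involutions of N(A) : their product lies in A
theorem torus_mul_inv (h : Hyp t K s) {y u v : G} (hy : IsTorusElt y) (hu : orderOf u = 2) (hv : orderOf v = 2)
    (huN : u ∈ Subgroup.normalizer ((Subgroup.centralizer ({y} : Set G) : Subgroup G) : Set G))
    (hvN : v ∈ Subgroup.normalizer ((Subgroup.centralizer ({y} : Set G) : Subgroup G) : Set G)) :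
    u * v ∈ Subgroup.centralizer ({y} : Set G) := by
  have h1 := torus_inverts h hy hu huN y (h9_self_mem_cent y)
  have h2 := torus_inverts h hy hv hvN y (h9_self_mem_cent y)
  rw [Subgroup.mem_centralizer_singleton_iff]
  have h3 : u * v * y * (u * v)⁻¹ = y := by
    calc u * v * y * (u * v)⁻¹ = u * (v * y * v⁻¹) * u⁻¹ := by group
      _ = u * y⁻¹ * u⁻¹ := by rw [h2]
      _ = (u * y * u⁻¹)⁻¹ := by group
      _ = y := by rw [h1, inv_inv]
  calc u * v * y = u * v * y * (u * v)⁻¹ * (u * v) := by group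
    _ = y * (u * v) := by rw [h3]

-- B12 : the involutions of N(A) form a coset of A : there are exactly |A| of them
theorem torus_card_inv (h : Hyp t K s) {y : G} (hy : IsTorusElt y) :
    Nat.card {u : G // orderOf u = 2 ∧
      u ∈ Subgroup.normalizer ((Subgroup.centralizer ({y} : Set G) : Subgroup G) : Set G)} =
    Nat.card (Subgroup.centralizer ({y} : Set G)) := by
  obtain ⟨z, hz, hzy⟩ := hy.2.1
  have hzN : z ∈ Subgroup.normalizer ((Subgroup.centralizer ({y} : Set G) : Subgroup G) : Set G) :=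
    inverter_mem_normalizer hzy
  have hzinv := torus_inverts h hy hz hzN
  have key : ∀ a ∈ Subgroup.centralizer ({y} : Set G), orderOf (a * z) = 2 ∧
      a * z ∈ Subgroup.normalizer ((Subgroup.centralizer ({y} : Set G) : Subgroup G) : Set G) := by
    intro a ha
    refine ⟨h9_orderOf_two ?_ ?_, Subgroup.mul_mem _ (Subgroup.le_normalizer ha) hzN⟩
    · calc a * z * (a * z) = a * (z * a * z⁻¹) * (z * z) := by group
        _ = 1 := by rw [hzinv a ha, h9_inv_sq hz]; group
    · intro h1
      apply h9_no_inv_in_torus hy hz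
      have : z = a⁻¹ := eq_inv_of_mul_eq_one_right h1
      rw [this]
      exact Subgroup.inv_mem _ ha
  symm
  refine Nat.card_eq_of_bijective
    (fun a : Subgroup.centralizer ({y} : Set G) =>
      (⟨a.1 * z, key a.1 a.2⟩ : {u : G // orderOf u = 2 ∧
        u ∈ Subgroup.normalizer ((Subgroup.centralizer ({y} : Set G) : Subgroup G) : Set G)}))
    ⟨?_, ?_⟩
  · intro a b hab
    have : a.1 * z = b.1 * z := congrArg Subtype.val hab
    exact Subtype.ext (mul_right_cancel this)
  · rintro ⟨u, hu, huN⟩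
    refine ⟨⟨u * z, torus_mul_inv h hy hu hz huN hzN⟩, ?_⟩
    apply Subtype.ext
    show u * z * z = u
    rw [mul_assoc, h9_inv_sq hz, mul_one]

-- B13 : F(y) = |A|
theorem F_torus (h : Hyp t K s) {y : G} (hy : IsTorusElt y) :
    F y = Nat.card (Subgroup.centralizer ({y} : Set G)) := by
  rw [F_eq_inverters (torusElt_sq_ne h hy).1, ← torus_card_inv h hy]
  apply Nat.card_congr
  apply Equiv.subtypeEquivRight
  intro z
  constructor
  · rintro ⟨hz, hzy⟩
    exact ⟨hz, inverter_mem_normalizer hzy⟩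
  · rintro ⟨hz, hzN⟩
    exact ⟨hz, torus_inverts h hy hz hzN y (h9_self_mem_cent y)⟩

/-- two different commuting involutions cannot both normalize a torus (this is B20) -/
theorem h9_torus_no_comm (h : Hyp t K s) {y u v : G} (hy : IsTorusElt y) (hu : orderOf u = 2)
    (hv : orderOf v = 2)
    (huN : u ∈ Subgroup.normalizer ((Subgroup.centralizer ({y} : Set G) : Subgroup G) : Set G))
    (hvN : v ∈ Subgroup.normalizer ((Subgroup.centralizer ({y} : Set G) : Subgroup G) : Set G))
    (hne : u ≠ v) (hcomm : u * v = v * u) : False := by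
  have hA := torus_mul_inv h hy hu hv huN hvN
  have h2 : orderOf (u * v) = 2 := by
    apply h9_orderOf_two
    · calc u * v * (u * v) = u * v * (v * u) := by rw [hcomm]
        _ = u * (v * v) * u := by group
        _ = 1 := by rw [h9_inv_sq hv, mul_one, h9_inv_sq hu]
    · intro h1
      apply hne
      have : u = v⁻¹ := eq_inv_of_mul_eq_one_left h1
      rw [this, h9_inv_inv hv]
  exact h9_no_inv_in_torus hy h2 hA

/-- every element of `N(A)` is a product of an element of `A` and an element of `N(A) ∩ K_u` -/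
theorem h9_normalizer_decomp (h : Hyp t K s) {y u : G} (hy : IsTorusElt y) (hu : orderOf u = 2)
    (huN : u ∈ Subgroup.normalizer ((Subgroup.centralizer ({y} : Set G) : Subgroup G) : Set G))
    {g : G}
    (hg : g ∈ Subgroup.normalizer ((Subgroup.centralizer ({y} : Set G) : Subgroup G) : Set G)) :
    ∃ b ∈ Subgroup.centralizer ({y} : Set G),
      ∃ c ∈ Subgroup.normalizer ((Subgroup.centralizer ({y} : Set G) : Subgroup G) : Set G) ⊓ Kz u,
        g = b * c := by
  have hu' : orderOf (g * u * g⁻¹) = 2 := h9_orderOf_conj_two hu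
  have hu'N : g * u * g⁻¹ ∈
      Subgroup.normalizer ((Subgroup.centralizer ({y} : Set G) : Subgroup G) : Set G) :=
    Subgroup.mul_mem _ (Subgroup.mul_mem _ hg huN) (Subgroup.inv_mem _ hg)
  have haA : g * u * g⁻¹ * u ∈ Subgroup.centralizer ({y} : Set G) :=
    torus_mul_inv h hy hu' hu hu'N huN
  obtain ⟨b, hbA, hb2⟩ := h9_torus_sqrt hy haA
  have hub := torus_inverts h hy hu huN b hbA
  have hub' : u * b⁻¹ * u⁻¹ = b := by
    calc u * b⁻¹ * u⁻¹ = (u * b * u⁻¹)⁻¹ := by group
      _ = b := by rw [hub, inv_inv]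
  have hbu : b * u * b⁻¹ = g * u * g⁻¹ := by
    calc b * u * b⁻¹ = b * (u * b⁻¹ * u⁻¹) * u := by group
      _ = b * b * u := by rw [hub']
      _ = g * u * g⁻¹ * u * u := by rw [hb2]
      _ = g * u * g⁻¹ * (u * u) := by group
      _ = g * u * g⁻¹ := by rw [h9_inv_sq hu, mul_one]
  have hcN : b⁻¹ * g ∈
      Subgroup.normalizer ((Subgroup.centralizer ({y} : Set G) : Subgroup G) : Set G) :=
    Subgroup.mul_mem _ (Subgroup.inv_mem _ (Subgroup.le_normalizer hbA)) hg
  have hcu : b⁻¹ * g ∈ Subgroup.centralizer ({u} : Set G) := by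
    rw [Subgroup.mem_centralizer_singleton_iff]
    calc b⁻¹ * g * u = b⁻¹ * (g * u * g⁻¹) * g := by group
      _ = b⁻¹ * (b * u * b⁻¹) * g := by rw [hbu]
      _ = u * (b⁻¹ * g) := by group
  refine ⟨b, hbA, b⁻¹ * g, Subgroup.mem_inf.mpr ⟨hcN, ?_⟩, by group⟩
  by_contra hcK
  obtain ⟨hc2, -⟩ := cent_diff_Kz h hu hcu hcK
  have hcne : u ≠ b⁻¹ * g := by
    intro heq
    apply hcK
    rw [← heq]
    exact mem_Kz_self h hu
  exact h9_torus_no_comm h hy hu hc2 huN hcN hcne
    (Subgroup.mem_centralizer_singleton_iff.mp hcu).symm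

-- B15 : N(A) = A * (N(A) ∩ K_u)  for an involution u of N(A)   (Frattini-type)
theorem torus_normalizer_eq (h : Hyp t K s) {y u : G} (hy : IsTorusElt y) (hu : orderOf u = 2)
    (huN : u ∈ Subgroup.normalizer ((Subgroup.centralizer ({y} : Set G) : Subgroup G) : Set G)) :
    Subgroup.normalizer ((Subgroup.centralizer ({y} : Set G) : Subgroup G) : Set G) =
      Subgroup.centralizer ({y} : Set G) ⊔
        (Subgroup.normalizer ((Subgroup.centralizer ({y} : Set G) : Subgroup G) : Set G) ⊓ Kz u) := by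
  apply le_antisymm
  · intro g hg
    obtain ⟨b, hb, c, hc, rfl⟩ := h9_normalizer_decomp h hy hu huN hg
    exact Subgroup.mul_mem_sup hb hc
  · exact sup_le Subgroup.le_normalizer inf_le_left

-- B16 : |N(A)| = |A| * |N(A) ∩ K_u|
theorem torus_normalizer_card (h : Hyp t K s) {y u : G} (hy : IsTorusElt y) (hu : orderOf u = 2)
    (huN : u ∈ Subgroup.normalizer ((Subgroup.centralizer ({y} : Set G) : Subgroup G) : Set G)) :
    Nat.card (Subgroup.normalizer ((Subgroup.centralizer ({y} : Set G) : Subgroup G) : Set G)) =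
      Nat.card (Subgroup.centralizer ({y} : Set G)) *
        Nat.card ((Subgroup.normalizer ((Subgroup.centralizer ({y} : Set G) : Subgroup G) : Set G) ⊓ Kz u : Subgroup G)) := by
  rw [← Nat.card_prod]
  symm
  have hmem : ∀ p : (Subgroup.centralizer ({y} : Set G)) ×
      ((Subgroup.normalizer ((Subgroup.centralizer ({y} : Set G) : Subgroup G) : Set G) ⊓ Kz u : Subgroup G)),
      p.1.1 * p.2.1 ∈
        Subgroup.normalizer ((Subgroup.centralizer ({y} : Set G) : Subgroup G) : Set G) := by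
    intro p
    exact Subgroup.mul_mem _ (Subgroup.le_normalizer p.1.2) (Subgroup.mem_inf.mp p.2.2).1
  refine Nat.card_eq_of_bijective
    (fun p : (Subgroup.centralizer ({y} : Set G)) ×
      ((Subgroup.normalizer ((Subgroup.centralizer ({y} : Set G) : Subgroup G) : Set G) ⊓ Kz u : Subgroup G)) =>
      (⟨p.1.1 * p.2.1, hmem p⟩ :
        Subgroup.normalizer ((Subgroup.centralizer ({y} : Set G) : Subgroup G) : Set G)))
    ⟨?_, ?_⟩
  · rintro ⟨⟨a, ha⟩, ⟨c, hc⟩⟩ ⟨⟨a', ha'⟩, ⟨c', hc'⟩⟩ hp
    have hp' : a * c = a' * c' := congrArg Subtype.val hp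
    have hx : a'⁻¹ * a = c' * c⁻¹ := by
      calc a'⁻¹ * a = a'⁻¹ * (a * c) * c⁻¹ := by group
        _ = a'⁻¹ * (a' * c') * c⁻¹ := by rw [hp']
        _ = c' * c⁻¹ := by group
    have hxA : a'⁻¹ * a ∈ Subgroup.centralizer ({y} : Set G) :=
      Subgroup.mul_mem _ (Subgroup.inv_mem _ ha') ha
    have hxK : a'⁻¹ * a ∈ Kz u := by
      rw [hx]
      exact Subgroup.mul_mem _ (Subgroup.mem_inf.mp hc').2
        (Subgroup.inv_mem _ (Subgroup.mem_inf.mp hc).2)
    have hx1 : a'⁻¹ * a = 1 := by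
      have : a'⁻¹ * a ∈ Subgroup.centralizer ({y} : Set G) ⊓ Kz u := Subgroup.mem_inf.mpr ⟨hxA, hxK⟩
      rw [torus_inf_Kz h hy hu, Subgroup.mem_bot] at this
      exact this
    have haa : a = a' := by
      calc a = a' * (a'⁻¹ * a) := by group
        _ = a' := by rw [hx1, mul_one]
    have hcc : c = c' := by
      have : c' * c⁻¹ = 1 := by rw [← hx, hx1]
      calc c = (c' * c⁻¹)⁻¹ * c' := by group
        _ = c' := by rw [this, inv_one, one_mul]
    subst haa
    subst hcc
    rfl
  · rintro ⟨g, hg⟩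
    obtain ⟨b, hb, c, hc, rfl⟩ := h9_normalizer_decomp h hy hu huN hg
    exact ⟨(⟨b, hb⟩, ⟨c, hc⟩), rfl⟩

/-! ### a free action : the order of the group divides the cardinality of the set -/

theorem h9_card_dvd_of_free {W X : Type*} [Group W] [MulAction W X]
    (hfree : ∀ (w : W) (x : X), w • x = x → w = 1) : Nat.card W ∣ Nat.card X := by
  have hstab : ∀ x : X, MulAction.stabilizer W x = ⊥ := by
    intro x
    rw [eq_bot_iff]
    intro w hw
    rw [Subgroup.mem_bot]
    exact hfree w x (MulAction.mem_stabilizer_iff.mp hw)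
  have e1 := MulAction.selfEquivSigmaOrbitsQuotientStabilizer W X
  have e2 : ∀ ω : Quotient (MulAction.orbitRel W X),
      (W ⧸ MulAction.stabilizer W ω.out) ≃ W := by
    intro ω
    rw [hstab]
    exact QuotientGroup.quotientBot.toEquiv
  have e3 : X ≃ Quotient (MulAction.orbitRel W X) × W :=
    e1.trans ((Equiv.sigmaCongrRight e2).trans (Equiv.sigmaEquivProd _ W))
  rw [Nat.card_congr e3, Nat.card_prod]
  exact dvd_mul_left _ _

omit [Finite G] in
/-- conjugation action of a subgroup on a stable set -/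
@[reducible] def h9_conjAct (W : Subgroup G) (S : Set G)
    (hS : ∀ c ∈ W, ∀ a ∈ S, c * a * c⁻¹ ∈ S) : MulAction W S where
  smul c a := ⟨c.1 * a.1 * c.1⁻¹, hS c.1 c.2 a.1 a.2⟩
  one_smul a := by
    apply Subtype.ext
    show (1 : G) * a.1 * (1 : G)⁻¹ = a.1
    group
  mul_smul c d a := by
    apply Subtype.ext
    show (c.1 * d.1) * a.1 * (c.1 * d.1)⁻¹ = c.1 * (d.1 * a.1 * d.1⁻¹) * c.1⁻¹
    group

omit [Finite G] in
theorem h9_card_dvd_of_free_conj (W : Subgroup G) (S : Set G)
    (hS : ∀ c ∈ W, ∀ a ∈ S, c * a * c⁻¹ ∈ S)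
    (hfree : ∀ c ∈ W, ∀ a ∈ S, c * a * c⁻¹ = a → c = 1) : Nat.card W ∣ Nat.card S := by
  let _ := h9_conjAct W S hS
  apply h9_card_dvd_of_free
  intro w x hwx
  apply Subtype.ext
  apply hfree w.1 w.2 x.1 x.2
  exact congrArg Subtype.val hwx

-- B17 : w := |N(A) ∩ K_u| divides |A| - 1
theorem torus_W_dvd (h : Hyp t K s) {y u : G} (hy : IsTorusElt y) (hu : orderOf u = 2)
    (huN : u ∈ Subgroup.normalizer ((Subgroup.centralizer ({y} : Set G) : Subgroup G) : Set G)) :
    Nat.card ((Subgroup.normalizer ((Subgroup.centralizer ({y} : Set G) : Subgroup G) : Set G) ⊓ Kz u : Subgroup G)) ∣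
      Nat.card (Subgroup.centralizer ({y} : Set G)) - 1 := by
  have hcard : Nat.card (((Subgroup.centralizer ({y} : Set G) : Subgroup G) : Set G) \ {1} : Set G) =
      Nat.card (Subgroup.centralizer ({y} : Set G)) - 1 := by
    rw [Nat.card_coe_set_eq, Set.ncard_sdiff_singleton_of_mem (Subgroup.one_mem _),
      ← Nat.card_coe_set_eq]
    rfl
  rw [← hcard]
  apply h9_card_dvd_of_free_conj
  · intro c hc a ha
    have hcN := (Subgroup.mem_inf.mp hc).1
    refine ⟨(Subgroup.mem_normalizer_iff.mp hcN a).mp ha.1, ?_⟩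
    intro h1
    apply ha.2
    have h1' : c * a * c⁻¹ = 1 := h1
    show a = 1
    calc a = c⁻¹ * (c * a * c⁻¹) * c := by group
      _ = 1 := by rw [h1']; group
  · intro c hc a ha hca
    have hcA := torus_semireg h hy ha.1 ha.2 hca
    have : c ∈ Subgroup.centralizer ({y} : Set G) ⊓ Kz u :=
      Subgroup.mem_inf.mpr ⟨hcA, (Subgroup.mem_inf.mp hc).2⟩
    rw [torus_inf_Kz h hy hu, Subgroup.mem_bot] at this
    exact this

end Cfsg.Agent.Lead.Bsw
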