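import Mathlib

set_option autoImplicit false

/-!
Elements of order 5 in a finite group in which commuting elements of order dividing 5 generate
cyclic groups: all subgroups of order 5 are conjugate (Sylow argument).  Used for the rows
S6000 / S6001 / S6002 (normalizers of symplectic-type 2-groups in dimension 4, `r = 5`).
-/

namespace Cfsg.Agent.Helper9.XS

/-- If in a finite group `G` any element `e` of order dividing 5 commuting with an element `h` of
order 5 lies in `⟨h⟩`, then every nontrivial `x` with `x ^ 5 = 1` is conjugate to a power of any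
given element `y` of order 5. -/
theorem conj_pow_of_unique {G : Type*} [Group G] [Finite G]
    (huniq : ∀ h e : G, h * e = e * h → h ^ 5 = 1 → h ≠ 1 → e ^ 5 = 1 → e ∈ Subgroup.zpowers h)
    {x y : G} (hy5 : orderOf y = 5) (hx5 : x ^ 5 = 1) (hx1 : x ≠ 1) :
    ∃ g : G, ∃ k : ℕ, g⁻¹ * x * g = y ^ k := by
  classical
  haveI : Fact (Nat.Prime 5) := ⟨by norm_num⟩
  -- Sylow subgroups containing y and x
  have hyP : IsPGroup 5 (Subgroup.zpowers y) := by
    apply IsPGroup.of_card (n := 1)
    rw [Nat.card_zpowers, hy5, pow_one]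
  have hxo : orderOf x = 5 := orderOf_eq_prime hx5 hx1
  have hxP : IsPGroup 5 (Subgroup.zpowers x) := by
    apply IsPGroup.of_card (n := 1)
    rw [Nat.card_zpowers, hxo, pow_one]
  obtain ⟨P, hP⟩ := hyP.exists_le_sylow
  obtain ⟨Q, hQ⟩ := hxP.exists_le_sylow
  obtain ⟨g, hg⟩ := MulAction.exists_smul_eq G P Q
  have hxQ : x ∈ (Q : Subgroup G) := hQ (Subgroup.mem_zpowers x)
  have hyPm : y ∈ (P : Subgroup G) := hP (Subgroup.mem_zpowers y)
  have hx' : g⁻¹ * x * g ∈ (P : Subgroup G) := by
    rw [← hg, Sylow.coe_subgroup_smul, Subgroup.mem_pointwise_smul_iff_inv_smul_mem] at hxQ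
    simpa [MulAut.smul_def, MulAut.conj_apply] using hxQ
  -- a central element of order 5 of P
  have hPnt : Nontrivial (P : Subgroup G) := ⟨⟨⟨y, hyPm⟩, 1, fun h => by
    have : y = 1 := congrArg Subtype.val h
    rw [this, orderOf_one] at hy5
    norm_num at hy5⟩⟩
  haveI := hPnt
  have hcen : Nontrivial (Subgroup.center (P : Subgroup G)) := P.2.center_nontrivial
  have h5dvd : 5 ∣ Nat.card (Subgroup.center (P : Subgroup G)) := by
    have hpg : IsPGroup 5 (Subgroup.center (P : Subgroup G)) := P.2.to_subgroup _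
    obtain ⟨n, hn⟩ := IsPGroup.iff_card.mp hpg
    have hn0 : n ≠ 0 := by
      rintro rfl
      rw [pow_zero] at hn
      have := (Nat.card_eq_one_iff_unique.mp hn).1
      exact not_subsingleton _ this
    rw [hn]
    exact dvd_pow_self 5 hn0
  obtain ⟨c, hc⟩ := exists_prime_orderOf_dvd_card' 5 h5dvd
  obtain ⟨h, hhdef⟩ : ∃ h : G, h = ((c : (P : Subgroup G)) : G) := ⟨_, rfl⟩
  have hh5 : orderOf h = 5 := by
    rw [hhdef, Subgroup.orderOf_coe, Subgroup.orderOf_coe]
    exact hc
  have hhpow : h ^ 5 = 1 := by rw [← hh5]; exact pow_orderOf_eq_one h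
  have hh1 : h ≠ 1 := by
    intro h1
    rw [h1, orderOf_one] at hh5
    norm_num at hh5
  have hcomm : ∀ e ∈ (P : Subgroup G), h * e = e * h := by
    intro e he
    have := Subgroup.mem_center_iff.mp c.2 ⟨e, he⟩
    have h2 := congrArg Subtype.val this
    simp only [Subgroup.coe_mul] at h2
    rw [hhdef]
    exact h2.symm
  have hy5' : y ^ 5 = 1 := by rw [← hy5]; exact pow_orderOf_eq_one y
  have hyh : y ∈ Subgroup.zpowers h := huniq h y (hcomm y hyPm) hhpow hh1 hy5'
  have hx'5 : (g⁻¹ * x * g) ^ 5 = 1 := by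
    have : (g⁻¹ * x * g) ^ 5 = g⁻¹ * x ^ 5 * g := by
      have := conj_pow (a := g⁻¹) (b := x) (i := 5)
      rw [inv_inv] at this
      exact this
    rw [this, hx5]
    group
  have hxh : g⁻¹ * x * g ∈ Subgroup.zpowers h :=
    huniq h _ (hcomm _ hx') hhpow hh1 hx'5
  -- zpowers y = zpowers h
  have hle : Subgroup.zpowers y ≤ Subgroup.zpowers h := by
    rw [Subgroup.zpowers_le]; exact hyh
  have heq : Subgroup.zpowers y = Subgroup.zpowers h := by
    apply Subgroup.eq_of_le_of_card_ge hle
    rw [Nat.card_zpowers, Nat.card_zpowers, hy5, hh5]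
  rw [← heq] at hxh
  have hfin : IsOfFinOrder y := isOfFinOrder_of_finite y
  rw [← hfin.mem_powers_iff_mem_zpowers, Submonoid.mem_powers_iff] at hxh
  obtain ⟨k, hk⟩ := hxh
  exact ⟨g, k, hk.symm⟩

end Cfsg.Agent.Helper9.XS
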