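import Mathlib
import Cfsg.Agent.Helper9.XSFiveA

set_option autoImplicit false

/-!
The "sum trick": in a group of invertible matrices in which every nontrivial element `m` with
`m ^ 5 = 1` satisfies `1 + m + m² + m³ + m⁴ = 0`, commuting elements of order dividing 5 generate a
cyclic group; hence all subgroups of order 5 are conjugate.
-/

namespace Cfsg.Agent.Helper9.XS

open Matrix

variable {n : Type*} [Fintype n] [DecidableEq n] {F : Type*} [Field F]

/-- `1 + m + m² + m³ + m⁴`. -/
def S5 (m : Matrix n n F) : Matrix n n F := 1 + m + m ^ 2 + m ^ 3 + m ^ 4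

theorem pow_mod_five {E : Matrix n n F} (hE : E ^ 5 = 1) (a : ℕ) : E ^ a = E ^ (a % 5) := by
  conv_lhs => rw [← Nat.div_add_mod a 5, pow_add, pow_mul, hE, one_pow, one_mul]

/-- The double-sum identity. -/
theorem sum_S5 {H E : Matrix n n F} (hc : Commute H E) (hE : E ^ 5 = 1) :
    S5 H + S5 (H * E) + S5 (H * E ^ 2) + S5 (H * E ^ 3) + S5 (H * E ^ 4) =
      (5 : ℕ) • (1 : Matrix n n F) + (H + H ^ 2 + H ^ 3 + H ^ 4) * S5 E := by
  have e1 : ∀ j k : ℕ, (H * E ^ j) ^ k = H ^ k * E ^ (j * k) := by
    intro j k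
    rw [(hc.pow_right j).mul_pow, ← pow_mul]
  have hE6 : E ^ 6 = E := by rw [pow_mod_five hE 6]; norm_num
  have hE8 : E ^ 8 = E ^ 3 := by rw [pow_mod_five hE 8]
  have hE9 : E ^ 9 = E ^ 4 := by rw [pow_mod_five hE 9]
  have hE12 : E ^ 12 = E ^ 2 := by rw [pow_mod_five hE 12]
  have hE16 : E ^ 16 = E := by rw [pow_mod_five hE 16]; norm_num
  unfold S5
  have h1 : ∀ k : ℕ, (H * E) ^ k = H ^ k * E ^ k := by
    intro k
    have := e1 1 k
    rwa [pow_one, one_mul] at this
  rw [h1, h1, h1, e1 2 2, e1 2 3, e1 2 4, e1 3 2, e1 3 3, e1 3 4, e1 4 2, e1 4 3, e1 4 4]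
  norm_num only [hE6, hE8, hE9, hE12, hE16]
  simp only [mul_add, add_mul, mul_one]
  abel

/-- In a subgroup of `GL n F` where elements of order 5 are "fixed-point-free", an element of
order dividing 5 commuting with an element of order 5 is a power of it. -/
theorem mem_zpowers_of_fpf (h5 : (5 : F) ≠ 0) (S : Subgroup (GL n F))
    (hfpf : ∀ m ∈ S, m ^ 5 = 1 → m ≠ 1 → S5 (m : Matrix n n F) = 0)
    {h e : GL n F} (hh : h ∈ S) (he : e ∈ S) (hcomm : h * e = e * h) (hh5 : h ^ 5 = 1)
    (hh1 : h ≠ 1) (he5 : e ^ 5 = 1) : e ∈ Subgroup.zpowers h := by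
  by_contra hne
  have he1 : e ≠ 1 := by
    rintro rfl
    exact hne (Subgroup.one_mem _)
  -- the elements h * e ^ j are nontrivial of order dividing 5
  have key : ∀ j : ℕ, S5 ((h * e ^ j : GL n F) : Matrix n n F) = 0 := by
    intro j
    apply hfpf _ (S.mul_mem hh (S.pow_mem he j))
    · have hc : Commute h (e ^ j) := (show Commute h e from hcomm).pow_right j
      rw [hc.mul_pow, hh5, ← pow_mul, mul_comm, pow_mul, he5, one_pow, one_mul]
    · intro h1
      -- e ^ j = h⁻¹
      have hej : e ^ j = h⁻¹ := by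
        rw [eq_inv_iff_mul_eq_one]
        have hc : Commute h (e ^ j) := (show Commute h e from hcomm).pow_right j
        rw [← hc.eq]
        exact h1
      by_cases hj : j % 5 = 0
      · have : e ^ j = 1 := by
          rw [← Nat.div_add_mod j 5, hj, add_zero, pow_mul, he5, one_pow]
        rw [this] at hej
        exact hh1 (inv_eq_one.mp hej.symm)
      · -- e is a power of e ^ j
        apply hne
        have hcop : Nat.Coprime j 5 := by
          rw [Nat.coprime_comm, Nat.Prime.coprime_iff_not_dvd (by norm_num)]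
          intro hd
          exact hj (Nat.mod_eq_zero_of_dvd hd)
        have hgen : e ∈ Subgroup.zpowers (e ^ j) := by
          haveI : Fact (Nat.Prime 5) := ⟨by norm_num⟩
          have hoe : orderOf e = 5 := orderOf_eq_prime he5 he1
          have hcop' : Nat.Coprime j (orderOf e) := by rw [hoe]; exact hcop
          obtain ⟨m, hm⟩ := exists_pow_eq_self_of_coprime hcop'
          have hmem := Subgroup.npow_mem_zpowers (e ^ j) m
          rwa [hm] at hmem
        have hle : Subgroup.zpowers (e ^ j) ≤ Subgroup.zpowers h := by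
          rw [Subgroup.zpowers_le, hej]
          exact Subgroup.inv_mem _ (Subgroup.mem_zpowers h)
        exact hle hgen
  have hcM : Commute (h : Matrix n n F) (e : Matrix n n F) := by
    have := congrArg (fun g : GL n F => (g : Matrix n n F)) hcomm
    simp only [Units.val_mul] at this
    exact this
  have hE5 : (e : Matrix n n F) ^ 5 = 1 := by
    rw [← Units.val_pow_eq_pow_val, he5, Units.val_one]
  have hsum := sum_S5 hcM hE5
  have k0 := key 0
  have k1 := key 1
  have k2 := key 2
  have k3 := key 3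
  have k4 := key 4
  rw [pow_zero, mul_one] at k0
  rw [pow_one] at k1
  simp only [Units.val_mul, Units.val_pow_eq_pow_val] at k1 k2 k3 k4
  rw [k0, k1, k2, k3, k4, hfpf e he he5 he1, mul_zero, add_zero] at hsum
  simp only [add_zero] at hsum
  -- 0 = 5 in the matrix ring
  rcases isEmpty_or_nonempty n with hn | ⟨⟨i⟩⟩
  · -- no indices: GL is trivial
    apply hh1
    apply Units.ext
    ext i
    exact (hn.false i).elim
  · have := congrFun (congrFun hsum i) i
    have h55 : ((5 : ℕ) • (1 : Matrix n n F)) i i = (5 : F) := by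
      simp
    rw [h55, Matrix.zero_apply] at this
    exact h5 this.symm

/-- **All subgroups of order 5 are conjugate** in a finite group of matrices whose elements of
order 5 are fixed-point-free. -/
theorem conj_pow_of_fpf (h5 : (5 : F) ≠ 0) (S : Subgroup (GL n F)) [Finite S]
    (hfpf : ∀ m ∈ S, m ^ 5 = 1 → m ≠ 1 → S5 (m : Matrix n n F) = 0)
    {x y : GL n F} (hx : x ∈ S) (hy : y ∈ S) (hy5 : orderOf y = 5) (hx5 : x ^ 5 = 1)
    (hx1 : x ≠ 1) : ∃ g ∈ S, ∃ k : ℕ, g⁻¹ * x * g = y ^ k := by
  have huniq : ∀ h e : S, h * e = e * h → h ^ 5 = 1 → h ≠ 1 → e ^ 5 = 1 →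
      e ∈ Subgroup.zpowers h := by
    intro h e hc hh5 hh1 he5
    have h1 : (h : GL n F) * (e : GL n F) = (e : GL n F) * (h : GL n F) := by
      have := congrArg Subtype.val hc
      simpa using this
    have h2 : (h : GL n F) ^ 5 = 1 := by
      have := congrArg Subtype.val hh5
      simpa using this
    have h3 : (h : GL n F) ≠ 1 := fun h' => hh1 (Subtype.ext h')
    have h4 : (e : GL n F) ^ 5 = 1 := by
      have := congrArg Subtype.val he5
      simpa using this
    have := mem_zpowers_of_fpf h5 S hfpf h.2 e.2 h1 h2 h3 h4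
    rw [Subgroup.mem_zpowers_iff] at this ⊢
    obtain ⟨k, hk⟩ := this
    exact ⟨k, Subtype.ext (by simpa using hk)⟩
  have hy5' : orderOf (⟨y, hy⟩ : S) = 5 := by
    rw [← hy5]
    exact Subgroup.orderOf_mk y hy
  obtain ⟨g, k, hk⟩ := conj_pow_of_unique huniq (x := ⟨x, hx⟩) (y := ⟨y, hy⟩) hy5'
    (Subtype.ext (by simpa using hx5)) (fun h => hx1 (congrArg Subtype.val h))
  refine ⟨g, g.2, k, ?_⟩
  have := congrArg Subtype.val hk
  simpa using this

end Cfsg.Agent.Helper9.XS
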