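import Mathlib
import Cfsg.Agent.Helper9.XSFiveB

set_option autoImplicit false

/-!
Fixed-point-freeness of elements of order 5 of `GL₄(p)` when `p` has order 4 modulo 5, by counting
fixed vectors.
-/

namespace Cfsg.Agent.Helper9.XS

open Matrix Module

variable {n : Type*} [Fintype n] [DecidableEq n] {F : Type*} [Field F]

/-- The fixed space of a matrix. -/
def fixW (M : Matrix n n F) : Submodule F (n → F) := LinearMap.ker (Matrix.toLin' (M - 1))

theorem mem_fixW {M : Matrix n n F} {v : n → F} : v ∈ fixW M ↔ M *ᵥ v = v := by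
  unfold fixW
  rw [LinearMap.mem_ker, Matrix.toLin'_apply, Matrix.sub_mulVec, Matrix.one_mulVec, sub_eq_zero]

/-- If `M ^ 5 = 1` then `S5 M` maps into the fixed space. -/
theorem S5_mulVec_mem_fixW {M : Matrix n n F} (hM : M ^ 5 = 1) (v : n → F) :
    S5 M *ᵥ v ∈ fixW M := by
  rw [mem_fixW, Matrix.mulVec_mulVec]
  congr 1
  unfold S5
  have : M * (1 + M + M ^ 2 + M ^ 3 + M ^ 4) = M + M ^ 2 + M ^ 3 + M ^ 4 + M ^ 5 := by
    rw [mul_add, mul_add, mul_add, mul_add, mul_one, ← pow_succ', ← pow_succ', ← pow_succ',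
      ← pow_two]
  rw [this, hM]
  abel

theorem S5_eq_zero_of_fixW_eq_bot {M : Matrix n n F} (hM : M ^ 5 = 1) (hW : fixW M = ⊥) :
    S5 M = 0 := by
  apply Matrix.toLin'.injective
  apply LinearMap.ext
  intro v
  rw [Matrix.toLin'_apply, map_zero, LinearMap.zero_apply]
  have := S5_mulVec_mem_fixW hM v
  rw [hW, Submodule.mem_bot] at this
  exact this

theorem eq_one_of_fixW_eq_top {M : Matrix n n F} (hW : fixW M = ⊤) : M = 1 := by
  apply Matrix.toLin'.injective
  apply LinearMap.ext
  intro v
  rw [Matrix.toLin'_apply, Matrix.toLin'_one, LinearMap.id_apply]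
  exact mem_fixW.mp (hW ▸ Submodule.mem_top)

/-- Counting: the number of fixed vectors of `M` with `M ^ 5 = 1` is congruent to the number of
all vectors modulo 5. -/
theorem card_fixW_modEq [Fintype F] {M : Matrix n n F} (hM : M ^ 5 = 1) :
    Fintype.card F ^ Fintype.card n ≡ Fintype.card F ^ finrank F (fixW M) [MOD 5] := by
  classical
  haveI : Fact (Nat.Prime 5) := ⟨by norm_num⟩
  let f : Function.End (n → F) := fun v => M *ᵥ v
  have hpow : ∀ k : ℕ, ∀ v, (f ^ k) v = (M ^ k) *ᵥ v := by
    intro k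
    induction k with
    | zero => intro v; rw [pow_zero, pow_zero, Matrix.one_mulVec]; rfl
    | succ k ih =>
      intro v
      rw [pow_succ', pow_succ']
      show f ((f ^ k) v) = _
      rw [ih]
      show M *ᵥ (M ^ k *ᵥ v) = _
      rw [Matrix.mulVec_mulVec]
  have hf : f ^ 5 ^ 1 = 1 := by
    rw [pow_one]
    funext v
    rw [hpow, hM, Matrix.one_mulVec]
    rfl
  have h := Equiv.Perm.card_fixedPoints_modEq (p := 5) (n := 1) hf
  have hfix : Fintype.card (Function.fixedPoints f) = Fintype.card (fixW M) := by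
    apply Fintype.card_congr
    refine
      { toFun := fun v => ⟨v.1, mem_fixW.mpr v.2⟩
        invFun := fun v => ⟨v.1, mem_fixW.mp v.2⟩
        left_inv := fun v => rfl
        right_inv := fun v => rfl }
  rw [hfix, Module.card_eq_pow_finrank (K := F) (V := fixW M)] at h
  have hV : Fintype.card (n → F) = Fintype.card F ^ Fintype.card n := by
    rw [Fintype.card_fun]
  rw [hV] at h
  exact h

/-- **Fixed-point-freeness** in `GL₄(p)`, `p` of order 4 modulo 5. -/
theorem fpf_of_card_prime [Fintype F] {p : ℕ} (hF : Fintype.card F = p)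
    (hn : Fintype.card n = 4) (h5 : orderOf (p : ZMod 5) = 4) (m : GL n F) (hm5 : m ^ 5 = 1)
    (hm1 : m ≠ 1) : S5 (m : Matrix n n F) = 0 := by
  have hM : (m : Matrix n n F) ^ 5 = 1 := by
    rw [← Units.val_pow_eq_pow_val, hm5, Units.val_one]
  have hcong := card_fixW_modEq hM
  rw [hF, hn] at hcong
  set d := finrank F (fixW (m : Matrix n n F)) with hd
  have hd4 : d ≤ 4 := by
    have := Submodule.finrank_le (fixW (m : Matrix n n F))
    rw [Module.finrank_pi, hn] at this
    exact this
  have hz : ((p : ZMod 5)) ^ 4 = (p : ZMod 5) ^ d := by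
    have := (ZMod.natCast_eq_natCast_iff _ _ 5).mpr hcong
    push_cast at this
    exact this
  have hp4 : (p : ZMod 5) ^ 4 = 1 := by rw [← h5]; exact pow_orderOf_eq_one _
  rw [hp4] at hz
  have hdvd : 4 ∣ d := by
    rw [← h5]
    exact orderOf_dvd_of_pow_eq_one hz.symm
  have hcases : d = 0 ∨ d = 4 := by
    obtain ⟨k, hk⟩ := hdvd
    omega
  rcases hcases with h0 | h4
  · apply S5_eq_zero_of_fixW_eq_bot hM
    exact Submodule.finrank_eq_zero.mp (hd ▸ h0)
  · exfalso
    apply hm1
    apply Units.ext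
    rw [Units.val_one]
    apply eq_one_of_fixW_eq_top
    apply Submodule.eq_top_of_finrank_eq
    rw [← hd, h4, Module.finrank_pi, hn]

end Cfsg.Agent.Helper9.XS
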