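import Mathlib
import Cfsg.Agent.Helper9.XSFiveC

set_option autoImplicit false
open scoped MatrixGroups

/-!
Piece B of helper5's S6002 design, in a form usable for S6000 / S6001 / S6002: if `p` has order 4
modulo 5, every element of order 5 of a subgroup `S` of `GL₄(p)` is `S`-conjugate to a power of
any fixed element of order 5 of `S`.
-/

namespace Cfsg.Agent.Helper9.XS

variable {F : Type*} [Field F] [Fintype F]

theorem five_ne_zero_of_order {p : ℕ} [Fact p.Prime] [CharP F p]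
    (h5 : orderOf (p : ZMod 5) = 4) : (5 : F) ≠ 0 := by
  intro h
  have h' : ((5 : ℕ) : F) = 0 := by exact_mod_cast h
  rw [CharP.cast_eq_zero_iff F p] at h'
  have hp : p.Prime := Fact.out
  have : p = 5 := (Nat.prime_dvd_prime_iff_eq hp (by norm_num)).mp h'
  rw [this] at h5
  have h0 : ((5 : ℕ) : ZMod 5) = 0 := ZMod.natCast_self 5
  rw [h0] at h5
  have h1 : (0 : ZMod 5) ^ 4 = 1 := by rw [← h5]; exact pow_orderOf_eq_one _
  have h2 : (0 : ZMod 5) ^ 4 = 0 := zero_pow (by norm_num)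
  rw [h2] at h1
  revert h1
  decide

/-- General index type with four elements. -/
theorem conj_pow_of_order_five_gen {n : Type*} [Fintype n] [DecidableEq n]
    (hn : Fintype.card n = 4) {p : ℕ} [Fact p.Prime] [CharP F p]
    (hF : Fintype.card F = p) (h5 : orderOf (p : ZMod 5) = 4) (S : Subgroup (GL n F))
    {x y : GL n F} (hx : x ∈ S) (hy : y ∈ S) (hy5 : orderOf y = 5) (hx5 : x ^ 5 = 1)
    (hx1 : x ≠ 1) : ∃ g ∈ S, ∃ k : ℕ, g⁻¹ * x * g = y ^ k := by
  haveI : Finite (GL n F) := Finite.of_injective (fun g : GL n F => (g : Matrix n n F))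
    Units.val_injective
  exact conj_pow_of_fpf (five_ne_zero_of_order h5) S
    (fun m _ hm5 hm1 => fpf_of_card_prime hF hn h5 m hm5 hm1) hx hy hy5 hx5 hx1

/-- helper5's piece B, exact statement. -/
theorem conj_pow_of_order_five {p : ℕ} [Fact p.Prime] [CharP F p] (hF : Fintype.card F = p)
    (h5 : orderOf (p : ZMod 5) = 4) (S : Subgroup (GL (Fin 2 ⊕ Fin 2) F))
    {x y : GL (Fin 2 ⊕ Fin 2) F} (hx : x ∈ S) (hy : y ∈ S)
    (hy5 : orderOf y = 5) (hx5 : x ^ 5 = 1) (hx1 : x ≠ 1) :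
    ∃ g ∈ S, ∃ k : ℕ, g⁻¹ * x * g = y ^ k :=
  conj_pow_of_order_five_gen (by simp) hF h5 S hx hy hy5 hx5 hx1

/-- The same for `Fin 4` (S6000). -/
theorem conj_pow_of_order_five_fin4 {p : ℕ} [Fact p.Prime] [CharP F p] (hF : Fintype.card F = p)
    (h5 : orderOf (p : ZMod 5) = 4) (S : Subgroup (GL (Fin 4) F))
    {x y : GL (Fin 4) F} (hx : x ∈ S) (hy : y ∈ S)
    (hy5 : orderOf y = 5) (hx5 : x ^ 5 = 1) (hx1 : x ≠ 1) :
    ∃ g ∈ S, ∃ k : ℕ, g⁻¹ * x * g = y ^ k :=
  conj_pow_of_order_five_gen (by simp) hF h5 S hx hy hy5 hx5 hx1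

end Cfsg.Agent.Helper9.XS
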