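import Mathlib
import Cfsg.Prelude.Def_GeometricClasses
import Cfsg.Agent.Helper3.AschCUMain
import Cfsg.Agent.Helper3.AschCUV2c
import Cfsg.Agent.Helper3.AschCUV8a
import Cfsg.Agent.Helper5.AschCUV2b
import Cfsg.Agent.Lead.AschCUV8b
import Cfsg.Agent.Helper4.AschFC7K
import Cfsg.Agent.Helper5.AschCUC6
import Cfsg.Agent.Helper7.AschNotSUB
import Cfsg.Agent.Helper9.AschC6Base

/-!
# ASCH-PP-U (helper9): Aschbacher's theorem for maximal subgroups of `SU_n(q)`, `n ≥ 4` ARBITRARY, generic form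

`asch_gen_max_unitary` is helper3's `asch_comp_unitary` without the two arithmetic hypotheses on `n`: the perfect leaf
uses helper4's `perfect_case_unitary` (extra alternative: a tensor power of a unitary form), the leaf `⁅N, N⁆ ≤ Z` uses
helper5's `symplectic_type_case_unitary` (class 6 with `R = N`, or class 5) and helper7's
`not_le_normalizer_of_solvable_SU`.
-/

set_option autoImplicit false
set_option linter.unusedSectionVars false
set_option linter.unusedVariables false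
set_option linter.unusedTactic false
set_option linter.unreachableTactic false

namespace Cfsg.Agent.Helper9.AschPPU

open Cfsg Cfsg.Geo Cfsg.Agent.Lead.Asch Cfsg.Agent.Helper3.AschCU Cfsg.Agent.Helper9.AschC6
open scoped MatrixGroups Matrix Kronecker

variable {n : ℕ} {F : Type*} [Field F] [Fintype F]

/-- all pieces of helper3's `PiecesCU` are on main -/
theorem piecesCU (hn : 0 < n) (q : ℕ) (hF : Fintype.card F = q ^ 2) : PiecesCU n F q :=
  ⟨fun hNI hnz hhom => Cfsg.Agent.Helper5.AschCU.field_exit_unitary hn q hF hNI hnz hhom,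
    fun hd he eqv P _ hNI ρ hρ habs =>
      Cfsg.Agent.Helper3.AschCU.tensor_form_unitary q hF hd he eqv P hNI ρ hρ habs,
    fun hq _ D hD => by
      subst hq
      exact Cfsg.Agent.Helper3.AschCU.refine_two_decomp hF D hD,
    fun hq n₂ e P f₁ f₂ h₁ h₂ hT => by
      subst hq
      have hn₂ : 0 < n₂ := by
        have hc := Fintype.card_congr e
        simp only [Fintype.card_fin, Fintype.card_prod] at hc
        rcases Nat.eq_zero_or_pos n₂ with h0 | h0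
        · subst h0; omega
        · exact h0
      exact Cfsg.Agent.Lead.AschCU.tensor_two_small hF n₂ hn₂ e P f₁ f₂ h₁ h₂ hT⟩

/-- Aschbacher's theorem for maximal subgroups of `SU_n(q)`, `n ≥ 4`, generic form. -/
theorem asch_gen_max_unitary (hn4 : 4 ≤ n) (q : ℕ) (hF : Fintype.card F = q ^ 2)
    (H : Subgroup (GL (Fin n) F)) (hH : IsMaximalIn (SUg n F q) H) :
    (∃ W : Submodule F (Fin n → F), W ≠ ⊥ ∧ IsTotallySingularFor (hermForm n F q) W ∧
      H = subspaceStabilizer W ⊓ SUg n F q) ∨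
    (∃ W : Submodule F (Fin n → F), W ≠ ⊥ ∧ IsNondegenerateOn (hermForm n F q) W ∧
      2 * Module.finrank F W < n ∧ H = subspaceStabilizer W ⊓ SUg n F q) ∨
    (∃ (t m : ℕ) (D : Fin t → Submodule F (Fin n → F)), IsNondegenerateMDecomposition (hermForm n F q) m D ∧
      t * m = n ∧ ¬ (m = 2 ∧ q = 2) ∧ H = decompositionStabilizer D ⊓ SUg n F q) ∨
    (∃ (m : ℕ) (D : Fin 2 → Submodule F (Fin n → F)), IsMDecomposition m D ∧ 2 * m = n ∧
      (∀ i, IsTotallySingularFor (hermForm n F q) (D i)) ∧ H = decompositionStabilizer D ⊓ SUg n F q) ∨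
    (∃ (r : ℕ) (K : Subalgebra F (Matrix (Fin n) (Fin n) F)), r.Prime ∧ Odd r ∧ r ∣ n ∧ IsFieldSubalgebra r K ∧
      IsAdjointClosedFor (hermForm n F q) K ∧ H = subalgebraNormalizer K ⊓ SUg n F q) ∨
    (∃ (n₁ n₂ : ℕ) (e : Fin n ≃ Fin n₁ × Fin n₂) (P : GL (Fin n) F)
      (f₁ : (Fin n₁ → F) → (Fin n₁ → F) → F) (f₂ : (Fin n₂ → F) → (Fin n₂ → F) → F), 2 ≤ n₁ ∧ 2 ≤ n₂ ∧
      ¬ ((n₁ = 2 ∨ n₂ = 2) ∧ q = 2) ∧ IsUnitaryFormPow q f₁ ∧ IsUnitaryFormPow q f₂ ∧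
      IsTensorFormStructure (fun x : F => x ^ q) (hermForm n F q) f₁ f₂ e P ∧
      H = tensorProductSubgroup n₁ n₂ e P ⊓ SUg n F q) ∨
    (∃ (F₀ : Subfield F) (r : ℕ) (P : GL (Fin n) F), r.Prime ∧ Odd r ∧ Fintype.card F = Nat.card F₀ ^ r ∧
      IsFormRationalStructure (hermForm n F q) F₀ 1 P ∧ H = subfieldSubgroup F₀ P ⊓ SUg n F q) ∨
    (∃ (F₀ : Subfield F) (P : GL (Fin n) F) (ζ : F), Fintype.card F = Nat.card F₀ ^ 2 ∧ ζ ≠ 0 ∧
      ζ + ζ ^ q = 0 ∧ IsFormRationalStructure (hermForm n F q) F₀ ζ P ∧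
      (∀ u : Fin n → F, (∀ i, u i ∈ F₀) → hermForm n F q ((P : Matrix (Fin n) (Fin n) F) *ᵥ u)
        ((P : Matrix (Fin n) (Fin n) F) *ᵥ u) = 0) ∧
      H = subfieldSubgroup F₀ P ⊓ SUg n F q) ∨
    (Odd q ∧ ∃ (F₀ : Subfield F) (P : GL (Fin n) F), Fintype.card F = Nat.card F₀ ^ 2 ∧
      IsFormRationalStructure (hermForm n F q) F₀ 1 P ∧ H = subfieldSubgroup F₀ P ⊓ SUg n F q) ∨
    (∃ (r p e k : ℕ) (R : Subgroup (GL (Fin n) F)), IsSymplecticTypeGroup r R ∧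
      ActsAbsolutelyIrreducibly (matrixSet R) ∧ R ≤ similarityGroup (hermForm n F q) ∧ r ≠ p ∧
      IsMinimalFieldFor (Nat.card (Subgroup.center R)) p e F ∧
      ((Odd r ∧ Nat.card (Subgroup.center R) = r ∧ 1 ≤ k ∧ Nat.card R = r ^ (1 + 2 * k)) ∨
       (r = 2 ∧ e = 2 ∧ Nat.card (Subgroup.center R) = 4 ∧ Nat.card R = 2 ^ (2 + 2 * k))) ∧
      n = r ^ k ∧ H = subgroupNormalizer R ⊓ SUg n F q) ∨
    (∃ (d k : ℕ) (e : Fin n ≃ (Fin k → Fin d)) (Pm : GL (Fin n) F) (f₁ : (Fin d → F) → (Fin d → F) → F)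
        (P₁ : Subgroup (GL (Fin d) F)),
      2 ≤ d ∧ 2 ≤ k ∧ IsUnitaryFormPow q f₁ ∧
      IsTensorPowerFormStructure (fun x : F => x ^ q) (hermForm n F q) f₁ e Pm ∧
      ⁅P₁, P₁⁆ = P₁ ∧ ActsAbsolutelyIrreducibly (matrixSet P₁) ∧ FixesForm (matrixSet P₁) f₁ ∧
      H ≤ tensorWreathSubgroup d k e Pm) ∨
    InUnitaryResidualClass H := by
  have hp : PiecesCU n F q := piecesCU (by omega) q hF
  have hHG : H ≤ SUg n F q := hH.1.le
  have hHI : H ≤ GU n F q := hHG.trans inf_le_left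
  have hnotsub : ∀ (F₁ : Subfield F) (r : ℕ), r.Prime → Fintype.card F = Nat.card F₁ ^ r →
      ∀ Pm : GL (Fin n) F, ¬ SUg n F q ≤ subfieldSubgroup F₁ Pm := fun F₁ r hr hc Pm =>
    Cfsg.Agent.Helper7.AschU.not_le_subfieldSubgroup_SU q hF (by omega) F₁ (subfield_ne_top_of_card F₁ r hr hc) Pm
  -- exits
  have exitD : (∃ (t m : ℕ) (D : Fin t → Submodule F (Fin n → F)),
      IsNondegenerateMDecomposition (hermForm n F q) m D ∧ t * m = n ∧ H ≤ decompositionStabilizer D) →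
      (∃ (t m : ℕ) (D : Fin t → Submodule F (Fin n → F)), IsNondegenerateMDecomposition (hermForm n F q) m D ∧
      t * m = n ∧ ¬ (m = 2 ∧ q = 2) ∧ H = decompositionStabilizer D ⊓ SUg n F q) := by
    rintro ⟨t, m, D, hD, htm, hle⟩
    by_cases h2 : m = 2 ∧ q = 2
    · obtain ⟨rfl, hq2⟩ := h2
      obtain ⟨D', hD', hle'⟩ := hp.refineTwo hq2 D hD
      refine ⟨t * 2, 1, D', hD', by omega, by omega, eq_inf_of_le hH (fun h hh => hle' ⟨hle hh, hHI hh⟩)
        (Cfsg.Agent.Helper7.AschCU.not_le_decompositionStabilizer_SU_nondeg q hF hn4 1 D' hD')⟩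
    · exact ⟨t, m, D, hD, htm, h2, eq_inf_of_le hH hle (Cfsg.Agent.Helper7.AschCU.not_le_decompositionStabilizer_SU_nondeg q hF hn4 m D hD)⟩
  have exitSub : ((∃ (F₁ : Subfield F) (r : ℕ) (Pm : GL (Fin n) F), r.Prime ∧ Odd r ∧
      Fintype.card F = Nat.card F₁ ^ r ∧ IsFormRationalStructure (hermForm n F q) F₁ 1 Pm ∧
      H ≤ subfieldSubgroup F₁ Pm) ∨
    (∃ (F₁ : Subfield F) (Pm : GL (Fin n) F) (ζ : F), Fintype.card F = Nat.card F₁ ^ 2 ∧ ζ ≠ 0 ∧
      ζ + ζ ^ q = 0 ∧ IsFormRationalStructure (hermForm n F q) F₁ ζ Pm ∧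
      (∀ u : Fin n → F, (∀ i, u i ∈ F₁) → hermForm n F q ((Pm : Matrix (Fin n) (Fin n) F) *ᵥ u)
        ((Pm : Matrix (Fin n) (Fin n) F) *ᵥ u) = 0) ∧
      H ≤ subfieldSubgroup F₁ Pm) ∨
    (Odd q ∧ ∃ (F₁ : Subfield F) (Pm : GL (Fin n) F), Fintype.card F = Nat.card F₁ ^ 2 ∧
      IsFormRationalStructure (hermForm n F q) F₁ 1 Pm ∧ H ≤ subfieldSubgroup F₁ Pm)) →
    ((∃ (F₀ : Subfield F) (r : ℕ) (P : GL (Fin n) F), r.Prime ∧ Odd r ∧ Fintype.card F = Nat.card F₀ ^ r ∧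
      IsFormRationalStructure (hermForm n F q) F₀ 1 P ∧ H = subfieldSubgroup F₀ P ⊓ SUg n F q) ∨
    (∃ (F₀ : Subfield F) (P : GL (Fin n) F) (ζ : F), Fintype.card F = Nat.card F₀ ^ 2 ∧ ζ ≠ 0 ∧
      ζ + ζ ^ q = 0 ∧ IsFormRationalStructure (hermForm n F q) F₀ ζ P ∧
      (∀ u : Fin n → F, (∀ i, u i ∈ F₀) → hermForm n F q ((P : Matrix (Fin n) (Fin n) F) *ᵥ u)
        ((P : Matrix (Fin n) (Fin n) F) *ᵥ u) = 0) ∧
      H = subfieldSubgroup F₀ P ⊓ SUg n F q) ∨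
    (Odd q ∧ ∃ (F₀ : Subfield F) (P : GL (Fin n) F), Fintype.card F = Nat.card F₀ ^ 2 ∧
      IsFormRationalStructure (hermForm n F q) F₀ 1 P ∧ H = subfieldSubgroup F₀ P ⊓ SUg n F q)) := by
    rintro (⟨F₁, r, Pm, hr, hro, hc, hfr, hle⟩ | ⟨F₁, Pm, ζ, hc, hζ0, hζ, hfr, halt, hle⟩ | ⟨hq, F₁, Pm, hc, hfr, hle⟩)
    · exact Or.inl ⟨F₁, r, Pm, hr, hro, hc, hfr, eq_inf_of_le hH hle (hnotsub F₁ r hr hc Pm)⟩
    · exact Or.inr (Or.inl ⟨F₁, Pm, ζ, hc, hζ0, hζ, hfr, halt,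
        eq_inf_of_le hH hle (hnotsub F₁ 2 Nat.prime_two hc Pm)⟩)
    · exact Or.inr (Or.inr ⟨hq, F₁, Pm, hc, hfr, eq_inf_of_le hH hle (hnotsub F₁ 2 Nat.prime_two hc Pm)⟩)
  -- Step 1: reducible
  by_cases hirr : ActsIrreducibly (matrixSet H)
  swap
  · rcases unitary_reducible_gen q hF hHI hirr with ⟨W, h0, h1, hts, hle⟩ | ⟨W, h0, h1, hnd, hdim, hle⟩ |
      ⟨m, D, hD, hm, hle⟩
    · exact Or.inl ⟨W, h0, hts, eq_inf_of_le hH hle
        (Cfsg.Agent.Helper7.AschU.not_le_subspaceStabilizer_SU q hF (by omega) W h0 h1)⟩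
    · exact Or.inr (Or.inl ⟨W, h0, hnd, hdim, eq_inf_of_le hH hle
        (Cfsg.Agent.Helper7.AschU.not_le_subspaceStabilizer_SU q hF (by omega) W h0 h1)⟩)
    · exact Or.inr (Or.inr (Or.inl (exitD ⟨2, m, D, hD, hm, hle⟩)))
  -- Step 2: imprimitive
  by_cases hC2 : ∃ (t m : ℕ) (D : Fin t → Submodule F (Fin n → F)),
      IsNondegenerateMDecomposition (hermForm n F q) m D ∧ t * m = n ∧ H ≤ decompositionStabilizer D
  · exact Or.inr (Or.inr (Or.inl (exitD hC2)))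
  by_cases hC2' : ∃ (m : ℕ) (D : Fin 2 → Submodule F (Fin n → F)), IsMDecomposition m D ∧ 2 * m = n ∧
      (∀ i, IsTotallySingularFor (hermForm n F q) (D i)) ∧ H ≤ decompositionStabilizer D
  · obtain ⟨m, D, hD, hm, hts, hle⟩ := hC2'
    exact Or.inr (Or.inr (Or.inr (Or.inl ⟨m, D, hD, hm, hts, eq_inf_of_le hH hle
      (Cfsg.Agent.Helper7.AschCU.not_le_decompositionStabilizer_SU_sing q hF hn4 m D hD hts)⟩)))
  -- Step 3: extension field
  by_cases hC3 : ∃ (r : ℕ) (K : Subalgebra F (Matrix (Fin n) (Fin n) F)), r.Prime ∧ Odd r ∧ r ∣ n ∧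
      IsFieldSubalgebra r K ∧ IsAdjointClosedFor (hermForm n F q) K ∧ H ≤ subalgebraNormalizer K
  · obtain ⟨r, K, hr, hro, hrn, hK, hadj, hle⟩ := hC3
    exact Or.inr (Or.inr (Or.inr (Or.inr (Or.inl ⟨r, K, hr, hro, hrn, hK, hadj, eq_inf_of_le hH hle
      (Cfsg.Agent.Helper7.AschCU.not_le_subalgebraNormalizer_SU_gen q hF (by omega) r hr.two_le K hK)⟩))))
  -- Step 4: tensor
  by_cases hC4 : ∃ (n₁ n₂ : ℕ) (e : Fin n ≃ Fin n₁ × Fin n₂) (P : GL (Fin n) F)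
      (f₁ : (Fin n₁ → F) → (Fin n₁ → F) → F) (f₂ : (Fin n₂ → F) → (Fin n₂ → F) → F), 2 ≤ n₁ ∧ 2 ≤ n₂ ∧
      IsUnitaryFormPow q f₁ ∧ IsUnitaryFormPow q f₂ ∧
      IsTensorFormStructure (fun x : F => x ^ q) (hermForm n F q) f₁ f₂ e P ∧
      H ≤ tensorProductSubgroup n₁ n₂ e P
  · obtain ⟨n₁, n₂, e, P, f₁, f₂, h1, h2, hf₁, hf₂, hT, hle⟩ := hC4
    have hcard : n = n₁ * n₂ := by
      have := Fintype.card_congr e
      simpa using this
    by_cases hq : (n₁ = 2 ∨ n₂ = 2) ∧ q = 2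
    · exfalso
      obtain ⟨h12, hq2⟩ := hq
      rcases h12 with rfl | rfl
      · obtain ⟨D, hD, hDle⟩ := hp.tensorTwo hq2 n₂ e P f₁ f₂ hf₁ hf₂ hT
        exact hC2 ⟨2, n₂, D, hD, hcard.symm, fun h hh => hDle ⟨hle hh, hHI hh⟩⟩
      · rw [Cfsg.Agent.Helper9.AschCompK.tensorProductSubgroup_swap] at hle
        obtain ⟨D, hD, hDle⟩ := hp.tensorTwo hq2 n₁ _ P f₂ f₁ hf₂ hf₁ (tensorForm_swap _ _ f₁ f₂ e P hT)
        exact hC2 ⟨2, n₁, D, hD, by rw [hcard, mul_comm], fun h hh => hDle ⟨hle hh, hHI hh⟩⟩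
    · exact Or.inr (Or.inr (Or.inr (Or.inr (Or.inr (Or.inl ⟨n₁, n₂, e, P, f₁, f₂, h1, h2, hq, hf₁, hf₂, hT,
        eq_inf_of_le hH hle (Cfsg.Agent.Helper7.AschCU.not_le_tensorProductSubgroup_SU q hF n₁ n₂ h1 h2 e P)⟩)))))
  -- Step 5: all normal subgroups are scalar or absolutely irreducible
  have hall : ∀ M : Subgroup (GL (Fin n) F), M ≤ H → Nzes H M →
      M ≤ scalars (Fin n) F ∨ ActsAbsolutelyIrreducibly (matrixSet M) := by
    intro M hMH hMnz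
    rcases clifford_comp_unitary (by omega) q hF hp hHI hirr hMH hMnz with h | h | h | h | h | h
    · exact absurd h hC2
    · exact absurd h hC2'
    · exact absurd h hC3
    · exact absurd h hC4
    · exact Or.inl h
    · exact Or.inr h
  have hHns : ¬ H ≤ scalars (Fin n) F := not_le_scalars_of_irred (by omega) hirr
  obtain ⟨N, hNH, hNnz, hNns, hmin⟩ := exists_minimal hHns
  have hNabs : ActsAbsolutelyIrreducibly (matrixSet N) := (hall N hNH hNnz).resolve_left hNns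
  have hNI : N ≤ GU n F q := hNH.trans hHI
  by_cases hsub : ∃ F₀ : Subfield F, F₀ ≠ ⊤ ∧ RealisableOver F₀ (matrixSet N)
  · obtain ⟨F₀, h0, hr⟩ := hsub
    rcases exitSub (Cfsg.Agent.Helper3.AschU.subfield_unitary_gen (by omega) q hF hNI hNnz hNabs F₀ h0 hr) with
      h | h | h
    · exact Or.inr (Or.inr (Or.inr (Or.inr (Or.inr (Or.inr (Or.inl h))))))
    · exact Or.inr (Or.inr (Or.inr (Or.inr (Or.inr (Or.inr (Or.inr (Or.inl h)))))))
    · exact Or.inr (Or.inr (Or.inr (Or.inr (Or.inr (Or.inr (Or.inr (Or.inr (Or.inl h))))))))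
  by_cases hperf : ⁅N, N⁆ = N
  · -- perfect case
    rcases Cfsg.Agent.Helper4.AschTI.perfect_case_unitary (by omega) hF hNH hNnz hNns hall hmin hperf hNI with
      hti | ⟨hsimp, hnab, hcent⟩
    · exact Or.inr (Or.inr (Or.inr (Or.inr (Or.inr (Or.inr (Or.inr (Or.inr (Or.inr (Or.inr (Or.inl hti))))))))))
    refine Or.inr (Or.inr (Or.inr (Or.inr (Or.inr (Or.inr (Or.inr (Or.inr (Or.inr (Or.inr (Or.inr
      ⟨N, ?_, ?_, ?_⟩))))))))))
    · exact
        { le := hNH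
          normal := hNnz
          perfect := hperf
          simple := hsimp
          nonabelian := hnab
          centralizer_scalar := hcent
          absIrred := hNabs
          no_subfield := fun F₀ h0 hr => hsub ⟨F₀, h0, hr⟩ }
    · rintro ⟨Q, hQ, hfix⟩
      exact hsub (Cfsg.Agent.Helper5.AschU.realisable_of_fixes_quad q hF (by omega) hNI hNabs Q hQ hfix)
    · rintro ⟨f, hf, hfix⟩
      exact hsub (Cfsg.Agent.Lead.AschCU.realisable_of_fixes_symp q hF (by omega) hNI hNabs f hf hfix)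
  · -- symplectic-type case
    have hcomm : ⁅N, N⁆ ≤ scalars (Fin n) F := by
      by_contra hc
      exact hperf (hmin _ (Subgroup.commutator_le_self N) (nzes_commutator hNnz) hc)
    rcases Cfsg.Agent.Helper5.AschCU.symplectic_type_case_unitary (by omega) q hF
        (H := H) (N := N) ⟨hNH, hNnz, hNns, hNabs, hmin, hcomm⟩ hNI with
      ⟨r, p, e, k, hsym, habs, hsim, hrp, hmf, hcards, hnrk, hle⟩ | hsubf
    · refine Or.inr (Or.inr (Or.inr (Or.inr (Or.inr (Or.inr (Or.inr (Or.inr (Or.inr (Or.inl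
        ⟨r, p, e, k, N, hsym, habs, hsim, hrp, hmf, hcards, hnrk, eq_inf_of_le hH hle ?_⟩)))))))))
      haveI : Fact r.Prime := ⟨hsym.prime⟩
      haveI : Finite (GL (Fin n) F) := inferInstance
      haveI : Finite N := inferInstance
      have hnil : Group.IsNilpotent N := hsym.pGroup.isNilpotent
      have hsol : Group.IsSolvable N := inferInstance
      exact Cfsg.Agent.Helper7.AschU.not_le_normalizer_of_solvable_SU q hF (by omega) (by omega) N
        (hNH.trans hHG) hsol hNns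
    · rcases exitSub hsubf with h | h | h
      · exact Or.inr (Or.inr (Or.inr (Or.inr (Or.inr (Or.inr (Or.inl h))))))
      · exact Or.inr (Or.inr (Or.inr (Or.inr (Or.inr (Or.inr (Or.inr (Or.inl h)))))))
      · exact Or.inr (Or.inr (Or.inr (Or.inr (Or.inr (Or.inr (Or.inr (Or.inr (Or.inl h))))))))

end Cfsg.Agent.Helper9.AschPPU
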