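import Mathlib

set_option autoImplicit false

/-!
Counting the elements of a finite group by an invariant of conjugacy: the elements that are
conjugate to a generator of a given cyclic subgroup are at least the order of the group times the
number of generators divided by a bound for the normalizer; and when such lower bounds add up to
the order of the group, the invariant takes no further values.
-/

namespace Cfsg.Agent.Helper9.ClassCount

open Classical

variable {G : Type*} [Group G] [Finite G]

/-- the elements with the invariant of `y` are many when few elements normalize the powers of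
`y`. -/
theorem card_mul_totient_le {γ : Type*} (c : G → γ) (y : G) (ν : ℕ) (ho : 1 < orderOf y)
    (hconj : ∀ x g : G, c (x * g * x⁻¹) = c g)
    (hpow : ∀ k : ℕ, Nat.Coprime k (orderOf y) → c (y ^ k) = c y)
    (hν : {h : G | ∃ j : ℕ, j < orderOf y ∧ h * y = y ^ j * h}.ncard ≤ ν) :
    Nat.card G * Nat.totient (orderOf y) ≤ ν * {g : G | c g = c y}.ncard := by
  have : Fintype G := Fintype.ofFinite G
  set o := orderOf y with ho'
  let U : Finset ℕ := (Finset.range o).filter (fun k => o.Coprime k)
  let s : Finset (G × ℕ) := Finset.univ ×ˢ U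
  let f : G × ℕ → G := fun p => p.1 * y ^ p.2 * p.1⁻¹
  let t : Finset G := Finset.univ.filter (fun g => c g = c y)
  let M : Set G := {h : G | ∃ j : ℕ, j < o ∧ h * y = y ^ j * h}
  have hs : s.card = Nat.card G * Nat.totient o := by
    rw [Finset.card_product, Finset.card_univ, Nat.card_eq_fintype_card]
    rfl
  have ht : {g : G | c g = c y}.ncard = t.card := by
    rw [← Set.ncard_coe_finset]
    congr 1
    ext g
    simp [t]
  rw [← hs, ht]
  apply Finset.card_le_mul_card_image_of_maps_to (f := f)
  · intro p hp
    rw [Finset.mem_filter]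
    refine ⟨Finset.mem_univ _, ?_⟩
    have hp2 : p.2 ∈ U := (Finset.mem_product.1 hp).2
    rw [Finset.mem_filter] at hp2
    change c (p.1 * y ^ p.2 * p.1⁻¹) = c y
    rw [hconj, hpow p.2 hp2.2.symm]
  · intro b _
    by_cases hne : (s.filter (fun p => f p = b)).Nonempty
    · obtain ⟨p0, hp0⟩ := hne
      rw [Finset.mem_filter] at hp0
      obtain ⟨hp0s, hp0b⟩ := hp0
      refine le_trans ?_ hν
      rw [← Set.ncard_coe_finset]
      apply Set.ncard_le_ncard_of_injOn (fun p : G × ℕ => p0.1⁻¹ * p.1) _ _ (Set.toFinite _)
      · intro p hp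
        rw [Finset.mem_coe, Finset.mem_filter] at hp
        obtain ⟨hps, hpb⟩ := hp
        have hk : p.2 ∈ U := (Finset.mem_product.1 hps).2
        have hk0 : p0.2 ∈ U := (Finset.mem_product.1 hp0s).2
        rw [Finset.mem_filter] at hk hk0
        -- the inverse of the exponent
        obtain ⟨k', -, hk'⟩ := Nat.exists_mul_mod_eq_one_of_coprime hk.2.symm ho
        have e1 : (y ^ p.2) ^ k' = y := by
          rw [← pow_mul, ← pow_mod_orderOf, ← ho', hk', pow_one]
        set h := p0.1⁻¹ * p.1 with hh
        have e2 : h * y ^ p.2 * h⁻¹ = y ^ p0.2 := by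
          have : p.1 * y ^ p.2 * p.1⁻¹ = p0.1 * y ^ p0.2 * p0.1⁻¹ := hpb.trans hp0b.symm
          calc h * y ^ p.2 * h⁻¹ = p0.1⁻¹ * (p.1 * y ^ p.2 * p.1⁻¹) * p0.1 := by
                rw [hh]; group
            _ = p0.1⁻¹ * (p0.1 * y ^ p0.2 * p0.1⁻¹) * p0.1 := by rw [this]
            _ = y ^ p0.2 := by group
        have e3 : h * y * h⁻¹ = y ^ ((p0.2 * k') % o) := by
          rw [ho', pow_mod_orderOf, pow_mul, ← e2, conj_pow, e1]
        refine ⟨(p0.2 * k') % o, Nat.mod_lt _ (lt_trans Nat.zero_lt_one ho), ?_⟩
        rw [← e3]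
        group
      · intro p hp q hq hpq
        rw [Finset.mem_coe, Finset.mem_filter] at hp hq
        have h1 : p.1 = q.1 := mul_left_cancel hpq
        have hk : p.2 ∈ U := (Finset.mem_product.1 hp.1).2
        have hk' : q.2 ∈ U := (Finset.mem_product.1 hq.1).2
        rw [Finset.mem_filter, Finset.mem_range] at hk hk'
        have h2 : p.1 * y ^ p.2 * p.1⁻¹ = q.1 * y ^ q.2 * q.1⁻¹ := hp.2.trans hq.2.symm
        rw [h1] at h2
        have h3 : y ^ p.2 = y ^ q.2 := by
          have := mul_right_cancel h2
          exact mul_left_cancel this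
        have h4 : p.2 = q.2 := pow_injOn_Iio_orderOf hk.1 hk'.1 h3
        exact Prod.ext h1 h4
    · rw [Finset.not_nonempty_iff_eq_empty] at hne
      rw [hne, Finset.card_empty]
      exact Nat.zero_le _

omit [Group G] in
/-- when the lower bounds for the numbers of the elements with given values of the invariant add up
to the order of the group, every element has one of the values. -/
theorem mem_of_sum_eq {γ : Type*} (c : G → γ) (V : Finset γ) (m : γ → ℕ)
    (hm : ∀ b ∈ V, m b ≤ {g : G | c g = b}.ncard) (hsum : ∑ b ∈ V, m b = Nat.card G) (g : G) :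
    c g ∈ V := by
  have : Fintype G := Fintype.ofFinite G
  let s : Finset G := Finset.univ.filter (fun g => c g ∈ V)
  have h1 : s.card = ∑ b ∈ V, (s.filter (fun g => c g = b)).card :=
    Finset.card_eq_sum_card_fiberwise (fun g hg => (Finset.mem_filter.1 hg).2)
  have h2 : ∀ b ∈ V, m b ≤ (s.filter (fun g => c g = b)).card := by
    intro b hb
    refine le_trans (hm b hb) ?_
    rw [← Set.ncard_coe_finset]
    apply Set.ncard_le_ncard _ (Set.toFinite _)
    intro g hg
    rw [Finset.mem_coe, Finset.mem_filter, Finset.mem_filter]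
    have hg' : c g = b := hg
    exact ⟨⟨Finset.mem_univ _, by rw [hg']; exact hb⟩, hg'⟩
  have h3 : Nat.card G ≤ s.card := by
    rw [← hsum, h1]
    exact Finset.sum_le_sum h2
  have h4 : s = Finset.univ := by
    apply Finset.eq_univ_of_card
    apply le_antisymm (Finset.card_le_univ _)
    rw [← Nat.card_eq_fintype_card]
    exact h3
  have h5 : g ∈ s := by
    rw [h4]
    exact Finset.mem_univ _
  exact (Finset.mem_filter.1 h5).2

end Cfsg.Agent.Helper9.ClassCount
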