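import Mathlib
import Cfsg.Agent.Helper7.FHDefs

/-!
# S1142 piece G7 (Lemma U): `relM B s * relM B n = relM B (s * n)` for reduced products
-/

set_option autoImplicit false
set_option linter.unusedVariables false
set_option linter.unusedSectionVars false

namespace Cfsg.Agent.Helper7.FH

open Matrix Finset

section h9G7

variable {G : Type*} [Group G] (B : Subgroup G)

theorem h9_dc_mul_right {g x b : G} (hx : x ∈ dc B g) (hb : b ∈ B) : x * b ∈ dc B g := by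
  obtain ⟨b₁, hb₁, b₂, hb₂, rfl⟩ := mem_dc.1 hx
  exact mem_dc.2 ⟨b₁, hb₁, b₂ * b, B.mul_mem hb₂ hb, by group⟩

theorem h9_dc_mul_left {g x b : G} (hx : x ∈ dc B g) (hb : b ∈ B) : b * x ∈ dc B g := by
  obtain ⟨b₁, hb₁, b₂, hb₂, rfl⟩ := mem_dc.1 hx
  exact mem_dc.2 ⟨b * b₁, B.mul_mem hb hb₁, b₂, hb₂, by group⟩

theorem h9_dc_mul_right_iff {g x b : G} (hb : b ∈ B) : x * b ∈ dc B g ↔ x ∈ dc B g := by
  constructor
  · intro h
    have := h9_dc_mul_right B h (B.inv_mem hb)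
    simpa using this
  · intro h
    exact h9_dc_mul_right B h hb

theorem h9_dc_mul_left_iff {g x b : G} (hb : b ∈ B) : b * x ∈ dc B g ↔ x ∈ dc B g := by
  constructor
  · intro h
    have := h9_dc_mul_left B h (B.inv_mem hb)
    simpa using this
  · intro h
    exact h9_dc_mul_left B h hb

theorem h9_self_mem_dc (g : G) : g ∈ dc B g :=
  mem_dc.2 ⟨1, B.one_mem, 1, B.one_mem, by group⟩

/-- the relation `x⁻¹ y ∈ B g B` does not depend on the representatives -/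
theorem h9_rel_mk (g g₁ g₂ : G) :
    (Quotient.out (QuotientGroup.mk g₁ : G ⧸ B))⁻¹ * Quotient.out (QuotientGroup.mk g₂ : G ⧸ B) ∈ dc B g
      ↔ g₁⁻¹ * g₂ ∈ dc B g := by
  obtain ⟨b₁, hb₁⟩ := QuotientGroup.mk_out_eq_mul B g₁
  obtain ⟨b₂, hb₂⟩ := QuotientGroup.mk_out_eq_mul B g₂
  rw [hb₁, hb₂]
  have e : (g₁ * (b₁ : G))⁻¹ * (g₂ * (b₂ : G)) = (b₁ : G)⁻¹ * ((g₁⁻¹ * g₂) * (b₂ : G)) := by group
  rw [e, h9_dc_mul_left_iff B (B.inv_mem b₁.2), h9_dc_mul_right_iff B b₂.2]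

open Classical in
theorem h9_relM_mk (g g₁ g₂ : G) :
    relM B g (QuotientGroup.mk g₁) (QuotientGroup.mk g₂) = if g₁⁻¹ * g₂ ∈ dc B g then 1 else 0 := by
  rw [relM_apply]
  simp only [h9_rel_mk]

/-- closure: `BsB · BnB ⊆ BsnB` -/
theorem h9_U_closed (s n : G) (hmul : ∀ b ∈ B, s * b * n ∈ dc B (s * n)) {u v : G}
    (hu : u ∈ dc B s) (hv : v ∈ dc B n) : u * v ∈ dc B (s * n) := by
  obtain ⟨b₁, hb₁, b₂, hb₂, rfl⟩ := mem_dc.1 hu
  obtain ⟨b₃, hb₃, b₄, hb₄, rfl⟩ := mem_dc.1 hv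
  have h := hmul (b₂ * b₃) (B.mul_mem hb₂ hb₃)
  have e : b₁ * s * b₂ * (b₃ * n * b₄) = b₁ * ((s * (b₂ * b₃) * n) * b₄) := by group
  rw [e, h9_dc_mul_left_iff B hb₁, h9_dc_mul_right_iff B hb₄]
  exact h

/-- uniqueness of the middle coset -/
theorem h9_U_unique (s n : G) (hs : ∀ b ∈ B, s⁻¹ * b * s ∈ (B : Set G) ∪ dc B s)
    (hred : ∀ b ∈ B, s * b * n ∉ dc B n) {x z z' y : G}
    (h1 : x⁻¹ * z ∈ dc B s) (h1' : x⁻¹ * z' ∈ dc B s)
    (h2 : z⁻¹ * y ∈ dc B n) (h2' : z'⁻¹ * y ∈ dc B n) : z⁻¹ * z' ∈ B := by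
  obtain ⟨b₁, hb₁, b₂, hb₂, e₁⟩ := mem_dc.1 h1
  obtain ⟨b₁', hb₁', b₂', hb₂', e₁'⟩ := mem_dc.1 h1'
  -- z⁻¹ z' = b₂⁻¹ (s⁻¹ (b₁⁻¹ b₁') s) b₂'
  have ez : z⁻¹ * z' = b₂⁻¹ * (s⁻¹ * (b₁⁻¹ * b₁') * s) * b₂' := by
    have : z⁻¹ * z' = (x⁻¹ * z)⁻¹ * (x⁻¹ * z') := by group
    rw [this, e₁, e₁']
    group
  rcases hs (b₁⁻¹ * b₁') (B.mul_mem (B.inv_mem hb₁) hb₁') with hB | hS
  · rw [ez]
    exact B.mul_mem (B.mul_mem (B.inv_mem hb₂) hB) hb₂'
  · exfalso
    obtain ⟨c₁, hc₁, c₂, hc₂, ec⟩ := mem_dc.1 hS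
    obtain ⟨b₃', hb₃', b₄', hb₄', e₂'⟩ := mem_dc.1 h2'
    -- z⁻¹ y = (z⁻¹ z') (z'⁻¹ y)
    have e3 : z⁻¹ * y = (b₂⁻¹ * c₁) * ((s * (c₂ * b₂' * b₃') * n) * b₄') := by
      have : z⁻¹ * y = (z⁻¹ * z') * (z'⁻¹ * y) := by group
      rw [this, ez, ec, e₂']
      group
    rw [e3, h9_dc_mul_left_iff B (B.mul_mem (B.inv_mem hb₂) hc₁), h9_dc_mul_right_iff B hb₄'] at h2
    exact hred _ (B.mul_mem (B.mul_mem hc₂ hb₂') hb₃') h2

/-- existence of the middle coset -/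
theorem h9_U_exists (s n : G) {x y : G} (h : x⁻¹ * y ∈ dc B (s * n)) :
    ∃ z : G, x⁻¹ * z ∈ dc B s ∧ z⁻¹ * y ∈ dc B n := by
  obtain ⟨b, hb, b', hb', e⟩ := mem_dc.1 h
  refine ⟨x * b * s, ?_, ?_⟩
  · have : x⁻¹ * (x * b * s) = b * s := by group
    rw [this, h9_dc_mul_left_iff B hb]
    exact h9_self_mem_dc B s
  · have : (x * b * s)⁻¹ * y = s⁻¹ * b⁻¹ * (x⁻¹ * y) := by group
    rw [this, e]
    have : s⁻¹ * b⁻¹ * (b * (s * n) * b') = n * b' := by group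
    rw [this, h9_dc_mul_right_iff B hb']
    exact h9_self_mem_dc B n

end h9G7

section h9G7fin

variable {G : Type*} [Group G] [Finite G] (B : Subgroup G) [Fintype (G ⧸ B)] [DecidableEq (G ⧸ B)]

open Classical in
/-- each row of `relM B g` has exactly `qd B g` ones -/
theorem h9_row_sum (g : G) (x : G ⧸ B) : ∑ y, relM B g x y = (qd B g : ℝ) := by
  classical
  induction x using QuotientGroup.induction_on with
  | H gx =>
  -- bijection y ↦ gx⁻¹ • y
  have key : ∀ y : G ⧸ B, relM B g (QuotientGroup.mk gx) y =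
      if Quotient.out (gx⁻¹ • y) ∈ dc B g then (1 : ℝ) else 0 := by
    intro y
    induction y using QuotientGroup.induction_on with
    | H gy =>
    rw [h9_relM_mk]
    have e : gx⁻¹ • (QuotientGroup.mk gy : G ⧸ B) = QuotientGroup.mk (gx⁻¹ * gy) := rfl
    rw [e]
    obtain ⟨b, hb⟩ := QuotientGroup.mk_out_eq_mul B (gx⁻¹ * gy)
    rw [hb, h9_dc_mul_right_iff B b.2]
  simp_rw [key]
  rw [qd, Nat.card_eq_fintype_card, Fintype.card_subtype]
  rw [Finset.sum_boole]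
  congr 1
  norm_cast
  -- the two filter sets are in bijection via y ↦ gx⁻¹ • y
  apply Finset.card_bij (fun y _ => gx⁻¹ • y)
  · intro y hy
    simpa using hy
  · intro y₁ _ y₂ _ h
    exact (MulAction.injective gx⁻¹) h
  · intro y hy
    refine ⟨gx • y, ?_, ?_⟩
    · simpa using hy
    · simp

/-- G7 (Lemma U) -/
theorem relM_mul (s n : G) (hs : ∀ b ∈ B, s⁻¹ * b * s ∈ (B : Set G) ∪ dc B s)
    (hmul : ∀ b ∈ B, s * b * n ∈ dc B (s * n))
    (hred : ∀ b ∈ B, s * b * n ∉ dc B n) :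
    relM B s * relM B n = relM B (s * n) ∧ qd B (s * n) = qd B s * qd B n := by
  classical
  have hprod : relM B s * relM B n = relM B (s * n) := by
    ext x y
    induction x using QuotientGroup.induction_on with
    | H gx =>
    induction y using QuotientGroup.induction_on with
    | H gy =>
    rw [Matrix.mul_apply, h9_relM_mk]
    by_cases h : gx⁻¹ * gy ∈ dc B (s * n)
    · rw [if_pos h]
      obtain ⟨gz, hz1, hz2⟩ := h9_U_exists B s n h
      rw [Finset.sum_eq_single (QuotientGroup.mk gz : G ⧸ B)]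
      · rw [h9_relM_mk, h9_relM_mk, if_pos hz1, if_pos hz2]; norm_num
      · intro z _ hne
        induction z using QuotientGroup.induction_on with
        | H gz' =>
        rw [h9_relM_mk, h9_relM_mk]
        by_cases h1 : gx⁻¹ * gz' ∈ dc B s
        · by_cases h2 : gz'⁻¹ * gy ∈ dc B n
          · exfalso
            apply hne
            have := h9_U_unique B s n hs hred hz1 h1 hz2 h2
            exact (QuotientGroup.eq.2 this).symm
          · rw [if_neg h2]; simp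
        · rw [if_neg h1]; simp
      · intro hh; exact absurd (Finset.mem_univ _) hh
    · rw [if_neg h]
      apply Finset.sum_eq_zero
      intro z _
      induction z using QuotientGroup.induction_on with
      | H gz =>
      rw [h9_relM_mk, h9_relM_mk]
      by_cases h1 : gx⁻¹ * gz ∈ dc B s
      · by_cases h2 : gz⁻¹ * gy ∈ dc B n
        · exfalso
          apply h
          have := h9_U_closed B s n hmul h1 h2
          have e : gx⁻¹ * gz * (gz⁻¹ * gy) = gx⁻¹ * gy := by group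
          rwa [e] at this
        · rw [if_neg h2]; simp
      · rw [if_neg h1]; simp
  refine ⟨hprod, ?_⟩
  -- row sums
  have x₀ : G ⧸ B := QuotientGroup.mk 1
  have h1 : ∑ y, (relM B s * relM B n) x₀ y = (qd B s : ℝ) * (qd B n : ℝ) := by
    simp_rw [Matrix.mul_apply]
    rw [Finset.sum_comm]
    simp_rw [← Finset.mul_sum, h9_row_sum, ← Finset.sum_mul, h9_row_sum]
  rw [hprod, h9_row_sum] at h1
  exact_mod_cast h1

end h9G7fin

end Cfsg.Agent.Helper7.FH
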