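import Mathlib
import Cfsg.Prelude.Def_GeometricClasses
import Cfsg.Agent.Lead.AschBase
import Cfsg.Agent.Helper3.AschUSubA
import Cfsg.Agent.Helper5.AschForm8
import Cfsg.Agent.Helper9.AschC6Base

/-!
# ASCH-PP pieces G4a, G4b (helper9): invariant forms from an intertwiner with the (twisted) contragredient

`gform σ G u v = u ⬝ᵥ G *ᵥ σ(v)`; if `x J = J σ(x⁻ᵀ)` for all `x ∈ N` then `G₀ = (J⁻¹)ᵀ` satisfies `xᵀ G₀ σ(x) = G₀`,
and so does `σ(G₀)ᵀ`; by helper5's `gram_unique` they are proportional, and a rescaling is hermitian / `G₀` is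
symmetric or skew.
-/

set_option autoImplicit false
set_option linter.unusedVariables false

namespace Cfsg.Agent.Helper9.AschC6

open Cfsg Cfsg.Geo Cfsg.Agent.Lead.Asch Cfsg.Agent.Helper5.AschF
open scoped MatrixGroups Matrix

variable {n : ℕ} {F : Type*} [Field F]

/-- the `σ`-sesquilinear form with Gram matrix `G` -/
def gform (σ : F →+* F) (G : Matrix (Fin n) (Fin n) F) (u v : Fin n → F) : F :=
  u ⬝ᵥ (G *ᵥ (fun i => σ (v i)))

theorem gform_add_left (σ : F →+* F) (G : Matrix (Fin n) (Fin n) F) (x y v : Fin n → F) :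
    gform σ G (x + y) v = gform σ G x v + gform σ G y v := by
  simp [gform, add_dotProduct]

theorem gform_smul_left (σ : F →+* F) (G : Matrix (Fin n) (Fin n) F) (c : F) (x v : Fin n → F) :
    gform σ G (c • x) v = c * gform σ G x v := by
  simp [gform, smul_dotProduct]

theorem gform_add_right (σ : F →+* F) (G : Matrix (Fin n) (Fin n) F) (v x y : Fin n → F) :
    gform σ G v (x + y) = gform σ G v x + gform σ G v y := by
  have e : (fun i => σ ((x + y) i)) = (fun i => σ (x i)) + (fun i => σ (y i)) := by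
    funext i; simp
  unfold gform
  rw [e, Matrix.mulVec_add, dotProduct_add]

theorem gform_smul_right (σ : F →+* F) (G : Matrix (Fin n) (Fin n) F) (c : F) (v x : Fin n → F) :
    gform σ G v (c • x) = σ c * gform σ G v x := by
  have e : (fun i => σ ((c • x) i)) = σ c • (fun i => σ (x i)) := by
    funext i; simp
  unfold gform
  rw [e, Matrix.mulVec_smul, dotProduct_smul, smul_eq_mul]

theorem map_mulVec (σ : F →+* F) (X : Matrix (Fin n) (Fin n) F) (v : Fin n → F) :
    (fun i => σ ((X *ᵥ v) i)) = X.map σ *ᵥ (fun i => σ (v i)) := by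
  funext i
  simp only [Matrix.mulVec, dotProduct, map_sum, map_mul, Matrix.map_apply]

theorem mulVec_dotProduct' (X : Matrix (Fin n) (Fin n) F) (u w : Fin n → F) :
    (X *ᵥ u) ⬝ᵥ w = u ⬝ᵥ (Xᵀ *ᵥ w) := by
  rw [dotProduct_comm, Matrix.dotProduct_mulVec, Matrix.mulVec_transpose, dotProduct_comm]

theorem gform_mulVec (σ : F →+* F) (G X : Matrix (Fin n) (Fin n) F) (u v : Fin n → F) :
    gform σ G (X *ᵥ u) (X *ᵥ v) = gform σ (Xᵀ * G * X.map σ) u v := by
  unfold gform
  rw [map_mulVec, mulVec_dotProduct', Matrix.mulVec_mulVec, Matrix.mulVec_mulVec, Matrix.mul_assoc]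

theorem gform_swap (σ : F →+* F) (G : Matrix (Fin n) (Fin n) F) (u v : Fin n → F) :
    gform σ G u v = (fun i => σ (v i)) ⬝ᵥ (Gᵀ *ᵥ u) := by
  unfold gform
  rw [Matrix.mulVec_transpose, Matrix.dotProduct_mulVec, dotProduct_comm]

theorem gform_nondeg (σ : F →+* F) {G : Matrix (Fin n) (Fin n) F} (hG : IsUnit G.det) :
    IsNondegenerateForm (gform σ G) := by
  classical
  intro v hv
  constructor
  · -- `∃ x, gform x v ≠ 0`
    have hσv : (fun i => σ (v i)) ≠ 0 := by
      intro h0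
      apply hv
      funext i
      have := congrFun h0 i
      simpa using this
    have h1 : G *ᵥ (fun i => σ (v i)) ≠ 0 := by
      intro h0
      apply hσv
      have := Matrix.mulVec_injective_iff_isUnit.2 ((Matrix.isUnit_iff_isUnit_det G).2 hG)
      exact this (by rw [h0, Matrix.mulVec_zero])
    obtain ⟨i, hi⟩ : ∃ i, (G *ᵥ (fun i => σ (v i))) i ≠ 0 := by
      by_contra hcon
      push Not at hcon
      exact h1 (funext hcon)
    refine ⟨Pi.single i 1, ?_⟩
    unfold gform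
    rw [single_dotProduct, one_mul]
    exact hi
  · -- `∃ x, gform v x ≠ 0`
    have hGt : IsUnit Gᵀ.det := by rw [Matrix.det_transpose]; exact hG
    have h1 : Gᵀ *ᵥ v ≠ 0 := by
      intro h0
      apply hv
      have := Matrix.mulVec_injective_iff_isUnit.2 ((Matrix.isUnit_iff_isUnit_det Gᵀ).2 hGt)
      exact this (by rw [h0, Matrix.mulVec_zero])
    obtain ⟨i, hi⟩ : ∃ i, (Gᵀ *ᵥ v) i ≠ 0 := by
      by_contra hcon
      push Not at hcon
      exact h1 (funext hcon)
    refine ⟨Pi.single i 1, ?_⟩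
    rw [gform_swap]
    have e : (fun j => σ ((Pi.single i (1 : F) : Fin n → F) j)) = Pi.single i 1 := by
      funext j
      by_cases hj : j = i
      · subst hj; simp
      · simp [Pi.single_eq_of_ne hj]
    rw [e, single_dotProduct, one_mul]
    exact hi

/-- the invariant Gram matrix obtained from a twisted intertwiner -/
theorem gramInv_of_twist (σ : F →+* F) {N : Subgroup (GL (Fin n) F)} (J : GL (Fin n) F)
    (hJ : ∀ x ∈ N, (x : GL (Fin n) F) * J = J * Matrix.GeneralLinearGroup.map σ (tinv x)) :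
    ∀ r ∈ matrixSet N, GramInv σ r ((((J⁻¹ : GL (Fin n) F) : Matrix (Fin n) (Fin n) F))ᵀ) := by
  intro r hr
  obtain ⟨x, hx, rfl⟩ := mem_matrixSet_iff.1 hr
  -- use the relation for `x⁻¹`
  have h1 := hJ x⁻¹ (N.inv_mem hx)
  have h2 : ((x⁻¹ : GL (Fin n) F) : Matrix (Fin n) (Fin n) F) * (J : Matrix (Fin n) (Fin n) F) =
      (J : Matrix (Fin n) (Fin n) F) * ((x : Matrix (Fin n) (Fin n) F)ᵀ).map σ := by
    have := congrArg (fun g : GL (Fin n) F => (g : Matrix (Fin n) (Fin n) F)) h1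
    simp only [Units.val_mul] at this
    rw [this]
    congr 1
  -- `σ(x)ᵀ = J⁻¹ x⁻¹ J`
  have hJi : ((J⁻¹ : GL (Fin n) F) : Matrix (Fin n) (Fin n) F) * (J : Matrix (Fin n) (Fin n) F) = 1 := by
    rw [← Units.val_mul, inv_mul_cancel, Units.val_one]
  have hJi' : (J : Matrix (Fin n) (Fin n) F) * ((J⁻¹ : GL (Fin n) F) : Matrix (Fin n) (Fin n) F) = 1 := by
    rw [← Units.val_mul, mul_inv_cancel, Units.val_one]
  have hxi : ((x⁻¹ : GL (Fin n) F) : Matrix (Fin n) (Fin n) F) * (x : Matrix (Fin n) (Fin n) F) = 1 := by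
    rw [← Units.val_mul, inv_mul_cancel, Units.val_one]
  have h3 : ((x : Matrix (Fin n) (Fin n) F)ᵀ).map σ =
      ((J⁻¹ : GL (Fin n) F) : Matrix (Fin n) (Fin n) F) *
        ((x⁻¹ : GL (Fin n) F) : Matrix (Fin n) (Fin n) F) * (J : Matrix (Fin n) (Fin n) F) := by
    rw [Matrix.mul_assoc, h2, ← Matrix.mul_assoc, hJi, Matrix.one_mul]
  -- `σ(x)ᵀ J⁻¹ x = J⁻¹`, then transpose
  have h4 : ((x : Matrix (Fin n) (Fin n) F)ᵀ).map σ * ((J⁻¹ : GL (Fin n) F) : Matrix (Fin n) (Fin n) F) *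
      (x : Matrix (Fin n) (Fin n) F) = ((J⁻¹ : GL (Fin n) F) : Matrix (Fin n) (Fin n) F) := by
    rw [h3]
    calc ((J⁻¹ : GL (Fin n) F) : Matrix (Fin n) (Fin n) F) *
          ((x⁻¹ : GL (Fin n) F) : Matrix (Fin n) (Fin n) F) * (J : Matrix (Fin n) (Fin n) F) *
          ((J⁻¹ : GL (Fin n) F) : Matrix (Fin n) (Fin n) F) * (x : Matrix (Fin n) (Fin n) F)
        = ((J⁻¹ : GL (Fin n) F) : Matrix (Fin n) (Fin n) F) *
          ((x⁻¹ : GL (Fin n) F) : Matrix (Fin n) (Fin n) F) * ((J : Matrix (Fin n) (Fin n) F) *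
          ((J⁻¹ : GL (Fin n) F) : Matrix (Fin n) (Fin n) F)) * (x : Matrix (Fin n) (Fin n) F) := by
          simp only [Matrix.mul_assoc]
      _ = ((J⁻¹ : GL (Fin n) F) : Matrix (Fin n) (Fin n) F) := by
          rw [hJi', Matrix.mul_one, Matrix.mul_assoc, hxi, Matrix.mul_one]
  unfold GramInv
  have h5 := congrArg Matrix.transpose h4
  rw [Matrix.transpose_mul, Matrix.transpose_mul, Matrix.transpose_map, Matrix.transpose_transpose,
    ← Matrix.mul_assoc] at h5
  exact h5

end Cfsg.Agent.Helper9.AschC6
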