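import Mathlib
import Cfsg.Prelude.Def_GeometricClasses
import Cfsg.Agent.Lead.AschBase
import Cfsg.Agent.Helper3.AschUSubA
import Cfsg.Agent.Helper5.AschForm8
import Cfsg.Agent.Helper9.AschC6Base
import Cfsg.Agent.Helper9.AschC6Forms

/-!
# ASCH-PP pieces G4a `unitary_of_twist`, G4b `bilinear_of_twist` (helper9)
-/

set_option autoImplicit false
set_option linter.unusedVariables false

namespace Cfsg.Agent.Helper9.AschC6

open Cfsg Cfsg.Geo Cfsg.Agent.Lead.Asch Cfsg.Agent.Helper5.AschF
open scoped MatrixGroups Matrix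

variable {n : ℕ} {F : Type*} [Field F]

theorem isUnit_det_matrixSet {N : Subgroup (GL (Fin n) F)} : ∀ r ∈ matrixSet N, IsUnit r.det := by
  intro r hr
  obtain ⟨x, -, rfl⟩ := mem_matrixSet_iff.1 hr
  exact (Matrix.isUnit_iff_isUnit_det _).1 x.isUnit

theorem exists_entry_ne_zero {G : Matrix (Fin n) (Fin n) F} (hG : G ≠ 0) : ∃ i j, G i j ≠ 0 := by
  by_contra hcon
  push Not at hcon
  exact hG (by ext i j; exact hcon i j)

/-- **G4b** -/
theorem bilinear_of_twist [Fintype F] (hodd : Odd (Fintype.card F))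
    {N : Subgroup (GL (Fin n) F)} (hN : ActsAbsolutelyIrreducibly (matrixSet N)) (J : GL (Fin n) F)
    (hJ : ∀ x ∈ N, (x : GL (Fin n) F) * J = J * tinv x) :
    (∃ f : (Fin n → F) → (Fin n → F) → F, IsSymplecticForm f ∧ FixesForm (matrixSet N) f) ∨
    (∃ Q : (Fin n → F) → F, IsNondegenerateQuadraticForm Q ∧ FixesQuadForm (matrixSet N) Q) := by
  classical
  rcases Nat.eq_zero_or_pos n with hn0 | hn0
  · subst hn0
    left
    refine ⟨fun _ _ => 0, ⟨⟨by simp, by simp, by simp, by simp⟩, by simp, by simp, ?_⟩, ?_⟩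
    · intro v hv
      exact absurd (Subsingleton.elim v 0) hv
    · intro s hs u v
      rfl
  haveI : NeZero n := ⟨hn0.ne'⟩
  haveI : Nonempty (Fin n) := ⟨0⟩
  have h2 : (2 : F) ≠ 0 := by
    intro h20
    have hchar : ringChar F = 2 :=
      CharP.ringChar_of_prime_eq_zero Nat.prime_two (by exact_mod_cast h20)
    have := FiniteField.even_card_of_char_two hchar
    rw [Nat.odd_iff] at hodd
    omega
  set σ : F →+* F := RingHom.id F with hσ
  have hmapid : ∀ M : Matrix (Fin n) (Fin n) F, M.map σ = M := by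
    intro M; ext i j; rfl
  have hJ' : ∀ x ∈ N, (x : GL (Fin n) F) * J = J * Matrix.GeneralLinearGroup.map σ (tinv x) := by
    intro x hx
    rw [hJ x hx]
    congr 1
  set G : Matrix (Fin n) (Fin n) F := (((J⁻¹ : GL (Fin n) F) : Matrix (Fin n) (Fin n) F))ᵀ with hG
  have hinv : ∀ r ∈ matrixSet N, GramInv σ r G := gramInv_of_twist σ J hJ'
  have hGu : IsUnit G.det := by
    rw [hG, Matrix.det_transpose]
    exact (Matrix.isUnit_iff_isUnit_det _).1 (J⁻¹).isUnit
  have hG0 : G ≠ 0 := by
    intro h0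
    rw [h0, Matrix.det_zero] at hGu
    exact not_isUnit_zero hGu
  have hinv' : ∀ r ∈ matrixSet N, GramInv σ r Gᵀ := by
    intro r hr
    have h := hinv r hr
    unfold GramInv at h ⊢
    rw [hmapid] at h ⊢
    have := congrArg Matrix.transpose h
    rw [Matrix.transpose_mul, Matrix.transpose_mul, Matrix.transpose_transpose, ← Matrix.mul_assoc] at this
    exact this
  obtain ⟨c, hc⟩ := gram_unique σ hN isUnit_det_matrixSet hinv hinv' hG0
  -- `c * c = 1`
  have hcc : c * c = 1 := by
    have h1 : G = (c * c) • G := by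
      have : G = (c • G)ᵀ := by rw [← hc, Matrix.transpose_transpose]
      rw [Matrix.transpose_smul, hc, smul_smul] at this
      exact this
    obtain ⟨i, j, hij⟩ := exists_entry_ne_zero hG0
    have h3 := congrFun (congrFun h1 i) j
    rw [Matrix.smul_apply, smul_eq_mul] at h3
    have h4 : (1 : F) * G i j = c * c * G i j := by rw [one_mul]; exact h3
    exact (mul_right_cancel₀ hij h4).symm
  -- the form
  set f : (Fin n → F) → (Fin n → F) → F := gform σ G with hf
  have hfix : FixesForm (matrixSet N) f := by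
    intro s hs u v
    rw [hf, gform_mulVec, hinv s hs]
  have hbil : IsBilinearForm f :=
    ⟨gform_add_left σ G, gform_smul_left σ G, gform_add_right σ G, fun c v x => gform_smul_right σ G c v x⟩
  have hnd : IsNondegenerateForm f := gform_nondeg σ hGu
  have hswap : ∀ v w, f v w = c * f w v := by
    intro v w
    rw [hf, gform_swap, hc, Matrix.smul_mulVec, dotProduct_smul, smul_eq_mul]
    rfl
  rcases mul_self_eq_one_iff.1 hcc with h1 | h1
  · -- symmetric: quadratic form
    right
    have hsym : ∀ v w, f v w = f w v := by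
      intro v w; rw [hswap v w, h1, one_mul]
    set Q : (Fin n → F) → F := fun v => 2⁻¹ * f v v with hQ
    have hpolar : QuadraticMap.polar Q = f := by
      funext u v
      simp only [QuadraticMap.polar, hQ]
      rw [hbil.add_left, hbil.add_right, hbil.add_right, hsym v u]
      field_simp
      ring
    refine ⟨Q, ⟨?_, ?_, ?_⟩, ?_⟩
    · intro a v
      simp only [hQ]
      rw [hbil.smul_left, hbil.smul_right]
      ring
    · rw [hpolar]; exact hbil
    · rw [hpolar]; exact hnd
    · intro s hs v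
      simp only [hQ]
      rw [hfix s hs]
  · -- skew: symplectic form
    left
    have hskew : ∀ v w, f v w = - f w v := by
      intro v w; rw [hswap v w, h1, neg_one_mul]
    refine ⟨f, ⟨hbil, hskew, ?_, hnd⟩, hfix⟩
    intro v
    have h3 := hskew v v
    have h4 : (2 : F) * f v v = 0 := by linear_combination h3
    rcases mul_eq_zero.1 h4 with h5 | h5
    · exact absurd h5 h2
    · exact h5

/-- **G4a** -/
theorem unitary_of_twist [Fintype F] {q₀ : ℕ} (hF : Fintype.card F = q₀ ^ 2)
    {N : Subgroup (GL (Fin n) F)} (hN : ActsAbsolutelyIrreducibly (matrixSet N)) (J : GL (Fin n) F)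
    (hJ : ∀ x ∈ N, (x : GL (Fin n) F) * J =
      J * Matrix.GeneralLinearGroup.map (Cfsg.Agent.Helper3.AschU.sigq hF : F ≃+* F).toRingHom (tinv x)) :
    ∃ f : (Fin n → F) → (Fin n → F) → F, IsUnitaryForm (Cfsg.Agent.Helper3.AschU.sigq hF) f ∧
      FixesForm (matrixSet N) f := by
  classical
  set σe : F ≃+* F := Cfsg.Agent.Helper3.AschU.sigq hF with hσe
  set σ : F →+* F := σe.toRingHom with hσ
  have hσσ : ∀ a : F, σ (σ a) = a := fun a => Cfsg.Agent.Helper7.Herm.pow_q_pow_q hF a
  have hne : σe ≠ RingEquiv.refl F := by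
    intro h
    obtain ⟨x, hx⟩ := Cfsg.Agent.Helper3.AschU.exists_pow_q_ne hF
    apply hx
    have := congrArg (fun e : F ≃+* F => e x) h
    exact this
  rcases Nat.eq_zero_or_pos n with hn0 | hn0
  · subst hn0
    refine ⟨fun _ _ => 0, ⟨hne, hσσ, by simp, by simp, by simp, ?_⟩, ?_⟩
    · intro v hv
      exact absurd (Subsingleton.elim v 0) hv
    · intro s hs u v
      rfl
  haveI : NeZero n := ⟨hn0.ne'⟩
  haveI : Nonempty (Fin n) := ⟨0⟩
  have hmapmap : ∀ M : Matrix (Fin n) (Fin n) F, (M.map σ).map σ = M := by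
    intro M; ext i j
    simp only [Matrix.map_apply]
    exact hσσ _
  set G₀ : Matrix (Fin n) (Fin n) F := (((J⁻¹ : GL (Fin n) F) : Matrix (Fin n) (Fin n) F))ᵀ with hG₀
  have hinv : ∀ r ∈ matrixSet N, GramInv σ r G₀ := gramInv_of_twist σ J hJ
  have hGu : IsUnit G₀.det := by
    rw [hG₀, Matrix.det_transpose]
    exact (Matrix.isUnit_iff_isUnit_det _).1 (J⁻¹).isUnit
  have hG0 : G₀ ≠ 0 := by
    intro h0
    rw [h0, Matrix.det_zero] at hGu
    exact not_isUnit_zero hGu
  set G₁ : Matrix (Fin n) (Fin n) F := (G₀.map σ)ᵀ with hG₁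
  have hinv' : ∀ r ∈ matrixSet N, GramInv σ r G₁ := by
    intro r hr
    have h := hinv r hr
    unfold GramInv at h ⊢
    have h' := congrArg (fun M : Matrix (Fin n) (Fin n) F => (M.map σ)ᵀ) h
    simp only [Matrix.map_mul, Matrix.transpose_mul, hmapmap] at h'
    have e1 : (rᵀ.map σ)ᵀ = r.map σ := by rw [Matrix.transpose_map, Matrix.transpose_transpose]
    rw [e1, ← Matrix.mul_assoc] at h'
    exact h'
  obtain ⟨c, hc⟩ := gram_unique σ hN isUnit_det_matrixSet hinv hinv' hG0
  -- `σ c * c = 1`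
  have hG01 : G₀ = (G₁.map σ)ᵀ := by
    rw [hG₁, Matrix.transpose_map, Matrix.transpose_transpose, hmapmap]
  have hcc : σ c * c = 1 := by
    have h1 : G₀ = (σ c * c) • G₀ := by
      have h2 : (G₁.map σ)ᵀ = σ c • G₁ := by
        ext i j
        have h5 : G₁ j i = c * G₀ j i := by rw [hc]; rfl
        have h6 : G₁ i j = σ (G₀ j i) := rfl
        show σ (G₁ j i) = σ c * G₁ i j
        rw [h5, map_mul, h6]
      rw [← hG01, hc, smul_smul] at h2
      exact h2
    obtain ⟨i, j, hij⟩ := exists_entry_ne_zero hG0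
    have h3 := congrFun (congrFun h1 i) j
    rw [Matrix.smul_apply, smul_eq_mul] at h3
    have h4 : (1 : F) * G₀ i j = σ c * c * G₀ i j := by rw [one_mul]; exact h3
    exact (mul_right_cancel₀ hij h4).symm
  -- the rescaling
  obtain ⟨d, hd0, hd⟩ : ∃ d : F, d ≠ 0 ∧ σ d * c = d := by
    by_cases h1 : (1 : F) + c = 0
    · obtain ⟨w, hw⟩ := Cfsg.Agent.Helper3.AschU.exists_pow_q_ne hF
      have hc1 : c = -1 := by linear_combination h1
      refine ⟨w - σ w, ?_, ?_⟩
      · intro h0
        apply hw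
        have : σ w = w := by linear_combination -h0
        exact this
      · rw [map_sub, hσσ, hc1]
        ring
    · refine ⟨1 + c, h1, ?_⟩
      rw [map_add, map_one]
      linear_combination hcc
  set G : Matrix (Fin n) (Fin n) F := d • G₀ with hG
  have hherm : ∀ i j, σ (G i j) = G j i := by
    intro i j
    have h1 : G₁ j i = c * G₀ j i := by rw [hc]; rfl
    have h2 : G₁ j i = σ (G₀ i j) := by rw [hG₁]; rfl
    calc σ (G i j) = σ d * σ (G₀ i j) := by
          rw [hG, Matrix.smul_apply, smul_eq_mul, map_mul]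
      _ = σ d * (c * G₀ j i) := by rw [← h2, h1]
      _ = d * G₀ j i := by rw [← mul_assoc, hd]
      _ = G j i := by rw [hG, Matrix.smul_apply, smul_eq_mul]
  have hGinv : ∀ r ∈ matrixSet N, GramInv σ r G := by
    intro r hr
    have h := hinv r hr
    unfold GramInv at h ⊢
    rw [hG, Matrix.mul_smul, Matrix.smul_mul, h]
  have hGdet : IsUnit G.det := by
    rw [hG, Matrix.det_smul]
    exact (IsUnit.pow _ (isUnit_iff_ne_zero.2 hd0)).mul hGu
  set f : (Fin n → F) → (Fin n → F) → F := gform σ G with hf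
  refine ⟨f, ⟨hne, hσσ, gform_add_left σ G, gform_smul_left σ G, ?_, gform_nondeg σ hGdet⟩, ?_⟩
  · -- hermitian
    intro v w
    show f v w = σ (f w v)
    simp only [hf, gform, dotProduct, Matrix.mulVec, map_sum, map_mul, hσσ, Finset.mul_sum]
    rw [Finset.sum_comm]
    refine Finset.sum_congr rfl (fun i _ => Finset.sum_congr rfl (fun j _ => ?_))
    rw [hherm i j]
    ring
  · intro s hs u v
    rw [hf, gform_mulVec, hGinv s hs]

end Cfsg.Agent.Helper9.AschC6
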