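import Mathlib
import Cfsg.Prelude.Def_GeometricClasses
import Cfsg.Agent.Lead.AschBase
import Cfsg.Agent.Helper6.AschCompSym
import Cfsg.Agent.Helper6.AschSub
import Cfsg.Agent.Helper3.AschForms
import Cfsg.Agent.Helper3.AschUSubA
import Cfsg.Agent.Helper9.AschCompForms
import Cfsg.Agent.Helper9.AschC6Base

/-!
# ASCH-PP (helper9): the symplectic-type case `⁅N,N⁆ ≤ Z` of Aschbacher's theorem for `SL_n(F)` in ARBITRARY dimension

`symplectic_type_case_gen`: the assembly, with the pieces G1-G5 as the fields of the hypothesis structure `C6Pieces`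
(so that it lands before they do).  Exits: class 6 (`IsLinearSymplecticTypeData`), subfield, unitary, symplectic,
quadratic.
-/

set_option autoImplicit false

namespace Cfsg.Agent.Helper9.AschC6

open Cfsg Cfsg.Geo Cfsg.Agent.Lead.Asch Cfsg.Agent.Helper6.AschComp
open scoped MatrixGroups Matrix

variable {n : ℕ} {F : Type*} [Field F]

/-- the pieces G1-G5 -/
structure C6Pieces (n : ℕ) (F : Type*) [Field F] [Fintype F] : Prop where
  /-- G1: the structure of `N` -/
  structure_ : ∀ {H N : Subgroup (GL (Fin n) F)}, C6Hyp n F H N → ∃ r a z : ℕ, C6Str n F N r a z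
  /-- G2: Stone-von Neumann -/
  intertwiner : ∀ {N : Subgroup (GL (Fin n) F)}, SymC n F N → ∀ ρ : N →* GL (Fin n) F,
    (∀ x : N, (x : GL (Fin n) F) ∈ scalars (Fin n) F → ρ x = x) →
    ∃ J : GL (Fin n) F, ∀ x : N, (x : GL (Fin n) F) * J = J * ρ x
  /-- G3: Galois descent -/
  realisable : ∀ {q₁ m : ℕ}, Fintype.card F = q₁ ^ m → ∀ τ : F →+* F, (∀ x, τ x = x ^ q₁) →
    ∀ {N : Subgroup (GL (Fin n) F)}, ActsAbsolutelyIrreducibly (matrixSet N) → ∀ J : GL (Fin n) F,
    (∀ x ∈ N, (x : GL (Fin n) F) * J = J * Matrix.GeneralLinearGroup.map τ x) →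
    ∀ F₁ : Subfield F, (∀ x, x ∈ F₁ ↔ x ^ q₁ = x) → RealisableOver F₁ (matrixSet N)
  /-- G4a: unitary forms -/
  unitary : ∀ {q₀ : ℕ} (hF : Fintype.card F = q₀ ^ 2) {N : Subgroup (GL (Fin n) F)},
    ActsAbsolutelyIrreducibly (matrixSet N) → ∀ J : GL (Fin n) F,
    (∀ x ∈ N, (x : GL (Fin n) F) * J =
      J * Matrix.GeneralLinearGroup.map (Cfsg.Agent.Helper3.AschU.sigq hF : F ≃+* F).toRingHom (tinv x)) →
    ∃ f : (Fin n → F) → (Fin n → F) → F, IsUnitaryForm (Cfsg.Agent.Helper3.AschU.sigq hF) f ∧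
      FixesForm (matrixSet N) f
  /-- G4b: bilinear forms -/
  bilinear : Odd (Fintype.card F) → ∀ {N : Subgroup (GL (Fin n) F)},
    ActsAbsolutelyIrreducibly (matrixSet N) → ∀ J : GL (Fin n) F,
    (∀ x ∈ N, (x : GL (Fin n) F) * J = J * tinv x) →
    (∃ f : (Fin n → F) → (Fin n → F) → F, IsSymplecticForm f ∧ FixesForm (matrixSet N) f) ∨
    (∃ Q : (Fin n → F) → F, IsNondegenerateQuadraticForm Q ∧ FixesQuadForm (matrixSet N) Q)
  /-- G5a -/
  fieldCases : ∀ z : ℕ, z ∣ Fintype.card F - 1 →
    (∃ (τ : F →+* F) (q₁ m : ℕ), 2 ≤ m ∧ Fintype.card F = q₁ ^ m ∧ z ∣ q₁ - 1 ∧ ∀ x, τ x = x ^ q₁) ∨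
    (∃ p e : ℕ, IsMinimalFieldFor z p e F)
  /-- G5b -/
  involution : ∀ {z p e : ℕ}, IsMinimalFieldFor z p e F → Even e → (z.Prime ∨ z = 4) →
    ∃ q₀ : ℕ, Fintype.card F = q₀ ^ 2 ∧ z ∣ q₀ + 1

theorem symplectic_type_case_gen [Fintype F] (hpc : C6Pieces n F) (hn : 3 ≤ n) {H N : Subgroup (GL (Fin n) F)}
    (h : C6Hyp n F H N) :
    (∃ r a : ℕ, r.Prime ∧ n = r ^ a ∧ IsLinearSymplecticTypeData r N) ∨
    (∃ (F₁ : Subfield F) (r' : ℕ) (Pm : GL (Fin n) F), r'.Prime ∧ Fintype.card F = Nat.card F₁ ^ r' ∧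
      H ≤ subfieldSubgroup F₁ Pm) ∨
    (∃ (σ : F ≃+* F) (f : (Fin n → F) → (Fin n → F) → F), IsUnitaryForm σ f ∧ H ≤ similarityGroup f) ∨
    (∃ f : (Fin n → F) → (Fin n → F) → F, IsSymplecticForm f ∧ H ≤ similarityGroup f) ∨
    (Odd (Fintype.card F) ∧ ∃ Q : (Fin n → F) → F, IsNondegenerateQuadraticForm Q ∧
      H ≤ quadSimilarityGroup Q) := by
  classical
  have hn0 : 0 < n := by omega
  haveI : NeZero n := ⟨by omega⟩
  obtain ⟨r, a, z, hs⟩ := hpc.structure_ h
  have hsym : SymC n F N := ⟨hn0, h.abs, h.comm⟩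
  -- scalars of `N`
  have hscal : ∀ x : N, (x : GL (Fin n) F) ∈ scalars (Fin n) F → ∃ c : Fˣ, (x : GL (Fin n) F) = sc n F c ∧ c ^ z = 1 := by
    intro x hx
    rw [scalars_eq_range] at hx
    obtain ⟨c, hc⟩ := hx
    refine ⟨c, hc.symm, hs.scalar_pow c ?_⟩
    rw [hc]
    exact x.2
  rcases hpc.fieldCases z hs.z_dvd with ⟨τ, q₁, m, hm, hq, hzq, hτ⟩ | ⟨p, e, hmin⟩
  · -- not the minimal field: subfield exit
    right; left
    have hq1 : 2 ≤ q₁ := by
      by_contra hcon
      have h1 : q₁ = 0 ∨ q₁ = 1 := by omega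
      have h2 := Fintype.one_lt_card (α := F)
      rcases h1 with h1 | h1
      · rw [h1, zero_pow (by omega)] at hq; omega
      · rw [h1, one_pow] at hq; omega
    set ρ : N →* GL (Fin n) F := (Matrix.GeneralLinearGroup.map τ).comp N.subtype with hρdef
    have hρ : ∀ x : N, (x : GL (Fin n) F) ∈ scalars (Fin n) F → ρ x = x := by
      intro x hx
      obtain ⟨c, hxc, hcz⟩ := hscal x hx
      apply Units.ext
      show ((x : GL (Fin n) F) : Matrix (Fin n) (Fin n) F).map τ = _
      rw [hxc, sc_val]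
      ext i j
      rw [Matrix.map_apply, Matrix.smul_apply, Matrix.one_apply, smul_eq_mul, map_mul, hτ,
        scalar_fixed_of_pow hzq (by omega) hcz]
      split_ifs <;> simp
    obtain ⟨J, hJ⟩ := hpc.intertwiner hsym ρ hρ
    set F₁ : Subfield F := RingHom.eqLocusField τ (RingHom.id F) with hF₁def
    have hF₁ : ∀ x, x ∈ F₁ ↔ x ^ q₁ = x := by
      intro x
      show τ x = x ↔ _
      rw [hτ]
    have hreal : RealisableOver F₁ (matrixSet N) :=
      hpc.realisable hq τ hτ h.abs J (fun x hx => hJ ⟨x, hx⟩) F₁ hF₁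
    have h0 : F₁ ≠ ⊤ := by
      intro htop
      have hall : ∀ x : F, x ^ q₁ = x := fun x => (hF₁ x).1 (by rw [htop]; trivial)
      have hdeg : (Polynomial.X ^ q₁ - Polynomial.X : Polynomial F).natDegree = q₁ :=
        FiniteField.X_pow_card_sub_X_natDegree_eq F (by omega)
      have hne : (Polynomial.X ^ q₁ - Polynomial.X : Polynomial F) ≠ 0 := by
        intro h'
        rw [h', Polynomial.natDegree_zero] at hdeg
        omega
      have hsub : (Finset.univ : Finset F) ⊆ (Polynomial.X ^ q₁ - Polynomial.X : Polynomial F).roots.toFinset := by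
        intro x _
        rw [Multiset.mem_toFinset, Polynomial.mem_roots hne]
        simp [hall x]
      have h1 := Finset.card_le_card hsub
      have h2 : (Polynomial.X ^ q₁ - Polynomial.X : Polynomial F).roots.toFinset.card ≤ q₁ := by
        calc _ ≤ Multiset.card (Polynomial.X ^ q₁ - Polynomial.X : Polynomial F).roots := Multiset.toFinset_card_le _
          _ ≤ (Polynomial.X ^ q₁ - Polynomial.X : Polynomial F).natDegree := Polynomial.card_roots' _
          _ = q₁ := hdeg
      rw [Finset.card_univ, hq] at h1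
      have h3 : q₁ ^ 2 ≤ q₁ ^ m := Nat.pow_le_pow_right (by omega) hm
      nlinarith
    exact Cfsg.Agent.Helper6.Asch.subfield_case (by omega) h.nzes h.abs F₁ h0 hreal
  · -- the minimal field
    obtain ⟨hp, hchar, hcard, hzdvd, hmind⟩ := hmin
    have hmin' : IsMinimalFieldFor z p e F := ⟨hp, hchar, hcard, hzdvd, hmind⟩
    have hepos : 0 < e := by
      rcases Nat.eq_zero_or_pos e with h0 | h0
      · rw [h0, pow_zero] at hcard
        have := Fintype.one_lt_card (α := F)
        omega
      · exact h0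
    -- the case `z = 2`: bilinear forms
    by_cases hz2 : z = 2
    · have hodd : Odd (Fintype.card F) := by
        rw [hz2] at hzdvd
        rw [hcard]
        have h1 : 1 ≤ p ^ e := Nat.one_le_pow _ _ hp.pos
        rw [Nat.odd_iff]
        omega
      set ρ : N →* GL (Fin n) F := (tinv (n := n) (F := F)).comp N.subtype with hρdef
      have hρ : ∀ x : N, (x : GL (Fin n) F) ∈ scalars (Fin n) F → ρ x = x := by
        intro x hx
        obtain ⟨c, hxc, hcz⟩ := hscal x hx
        rw [hz2] at hcz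
        have hcinv : c⁻¹ = c := by
          rw [inv_eq_iff_eq_inv, eq_inv_iff_mul_eq_one, ← sq, hcz]
        apply Units.ext
        show ((tinv (x : GL (Fin n) F) : GL (Fin n) F) : Matrix (Fin n) (Fin n) F) = _
        rw [tinv_val, hxc, ← map_inv, hcinv, sc_val, Matrix.transpose_smul, Matrix.transpose_one]
      obtain ⟨J, hJ⟩ := hpc.intertwiner hsym ρ hρ
      rcases hpc.bilinear hodd h.abs J (fun x hx => hJ ⟨x, hx⟩) with ⟨f, hf, hfix⟩ | ⟨Q, hQ, hfix⟩
      · right; right; right; left
        exact ⟨f, hf, Cfsg.Agent.Helper9.AschCompK.le_similarityGroup_symplectic h.nzes h.abs f hf hfix⟩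
      · right; right; right; right
        exact ⟨hodd, Q, hQ, Cfsg.Agent.Helper3.Asch.le_quadSimilarityGroup h.nzes h.abs hodd Q hQ hfix⟩
    have hz' : z.Prime ∨ z = 4 := by
      rcases hs.z_cases with ⟨-, hzr⟩ | ⟨-, hz⟩ | ⟨-, hz⟩
      · left; rw [hzr]; exact hs.prime
      · exact absurd hz hz2
      · right; exact hz
    rcases Nat.even_or_odd e with he | he
    · -- unitary exit
      right; right; left
      obtain ⟨q₀, hF, hzq⟩ := hpc.involution hmin' he hz'
      set σ : F ≃+* F := Cfsg.Agent.Helper3.AschU.sigq hF with hσ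
      set ρ : N →* GL (Fin n) F :=
        ((Matrix.GeneralLinearGroup.map σ.toRingHom).comp (tinv (n := n) (F := F))).comp N.subtype with hρdef
      have hρ : ∀ x : N, (x : GL (Fin n) F) ∈ scalars (Fin n) F → ρ x = x := by
        intro x hx
        obtain ⟨c, hxc, hcz⟩ := hscal x hx
        have hcq : (c : F) ^ (q₀ + 1) = 1 := by
          obtain ⟨k, hk⟩ := hzq
          rw [hk, pow_mul, ← Units.val_pow_eq_pow_val, hcz, Units.val_one, one_pow]
        have hcq' : ((c⁻¹ : Fˣ) : F) ^ q₀ = c := by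
          have h1 : (c : F) ^ q₀ * c = 1 := by rw [← pow_succ]; exact hcq
          rw [Units.val_inv_eq_inv_val, inv_pow]
          have hc0 : (c : F) ≠ 0 := c.ne_zero
          field_simp
          rw [← h1]
        apply Units.ext
        show (((tinv (x : GL (Fin n) F) : GL (Fin n) F) : Matrix (Fin n) (Fin n) F)).map σ.toRingHom = _
        rw [tinv_val, hxc, ← map_inv, sc_val, sc_val, Matrix.transpose_smul, Matrix.transpose_one]
        ext i j
        rw [Matrix.map_apply, Matrix.smul_apply, Matrix.smul_apply, Matrix.one_apply, smul_eq_mul, smul_eq_mul,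
          map_mul]
        have : σ.toRingHom ((c⁻¹ : Fˣ) : F) = c := hcq'
        rw [this]
        split_ifs <;> simp
      obtain ⟨J, hJ⟩ := hpc.intertwiner hsym ρ hρ
      obtain ⟨f, hf, hfix⟩ := hpc.unitary hF h.abs J (fun x hx => hJ ⟨x, hx⟩)
      exact ⟨σ, f, hf, Cfsg.Agent.Helper3.Asch.le_similarityGroup_unitary h.nzes h.abs σ f hf hfix⟩
    · -- class 6
      left
      refine ⟨r, a, hs.prime, hs.dim, ⟨hs.prime, hs.pgroup, hs.cyc, hs.exponent⟩, h.abs, p, e, ?_, ?_, ?_⟩
      · -- r ≠ p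
        rintro rfl
        have hrz : r ∣ z := by
          rcases hs.z_cases with ⟨-, hz⟩ | ⟨hr2, hz⟩ | ⟨hr2, hz⟩
          · rw [hz]
          · rw [hz, hr2]
          · rw [hz, hr2]; norm_num
        have h1 : r ∣ r ^ e - 1 := hrz.trans hzdvd
        have h2 : r ∣ r ^ e := dvd_pow_self r (by omega)
        have h3 : 1 ≤ r ^ e := Nat.one_le_pow _ _ hs.prime.pos
        have h4 : r ∣ 1 := by
          have := (Nat.dvd_sub h2 h1)
          rwa [Nat.sub_sub_self h3] at this
        exact hs.prime.one_lt.ne' (Nat.dvd_one.1 h4)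
      · rw [hs.card_center]; exact hmin'
      · rcases hs.z_cases with ⟨hr2, hz⟩ | ⟨hr2, hz⟩ | ⟨hr2, hz⟩
        · left
          refine ⟨hs.prime.odd_of_ne_two hr2, he, by rw [hs.card_center, hz], a, hs.pos, ?_⟩
          rw [hs.card, hz, pow_add, pow_one]
        · exact absurd hz hz2
        · right; left
          have he1 : e = 1 := by
            by_contra hne
            have h1 : 1 < e := by omega
            -- e odd, > 1 ⇒ 4 ∣ p^2 - 1 would contradict minimality at d = 2 when p odd; use d = 1 or 2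
            have hpodd : ¬ 2 ∣ p := by
              intro h2
              have hp2 : p = 2 := (Nat.prime_dvd_prime_iff_eq Nat.prime_two hp).1 h2 |>.symm
              rw [hz, hp2] at hzdvd
              have h3 : 2 ∣ 2 ^ e - 1 := (by norm_num : 2 ∣ 4).trans hzdvd
              have h4 : 2 ∣ 2 ^ e := dvd_pow_self 2 (by omega)
              have h5 : 1 ≤ 2 ^ e := Nat.one_le_pow _ _ (by norm_num)
              have h6 : 2 ∣ 1 := by
                have := Nat.dvd_sub h4 h3
                rwa [Nat.sub_sub_self h5] at this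
              omega
            have h2 : 4 ∣ p ^ 2 - 1 := by
              have hmod : p % 4 = 1 ∨ p % 4 = 3 := by omega
              have h3 : p ^ 2 % 4 = 1 := by
                rcases hmod with h | h <;> simp [pow_two, Nat.mul_mod, h]
              omega
            have he3 : 3 ≤ e := by
              obtain ⟨k, hk⟩ := he
              omega
            exact hmind 2 (by norm_num) (by omega) (by rw [hz]; exact h2)
          refine ⟨hr2, he1, by rw [hs.card_center, hz], ?_, a, ?_⟩
          · rw [Fintype.card_fin, hs.dim, hr2]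
            have : 2 ≤ a := by
              by_contra hcon
              have ha1 : a = 1 := by have := hs.pos; omega
              rw [hs.dim, hr2, ha1] at hn
              omega
            calc 4 = 2 ^ 2 := by norm_num
              _ ≤ 2 ^ a := Nat.pow_le_pow_right (by norm_num) this
          · rw [hs.card, hz, hr2, pow_add]; norm_num

end Cfsg.Agent.Helper9.AschC6
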