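import Mathlib
import Cfsg.Prelude.Def_GeometricClasses
import Cfsg.Agent.Lead.AschBase
import Cfsg.Agent.Helper3.AschForms
import Cfsg.Agent.Helper4.AschTIH
import Cfsg.Agent.Helper6.AschGenMax
import Cfsg.Agent.Helper6.AschGenT3
import Cfsg.Agent.Helper7.AschPPT5
import Cfsg.Agent.Helper9.AschC6Main
import Cfsg.Agent.Helper9.AschC6StrB
import Cfsg.Agent.Helper9.AschC6Intertwine
import Cfsg.Agent.Helper9.AschC6FormsB
import Cfsg.Agent.Helper9.AschC6Field

/-!
# ASCH-PP finals (helper9), part A: the slots of helper6's `asch_gen_max`, arithmetic of the class-6 clause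

`G3Stmt n F` is the statement of piece G3 (`realisable_of_twist`, helper5); everything here is proved modulo it.
-/

set_option autoImplicit false
set_option linter.unusedVariables false

namespace Cfsg.Agent.Helper9.AschPP

open Cfsg Cfsg.Geo Cfsg.Agent.Lead.Asch Cfsg.Agent.Helper6.AschComp Cfsg.Agent.Helper9.AschC6
open Cfsg.Agent.Helper6.AschGen
open scoped MatrixGroups Matrix

variable {n : ℕ} {F : Type*} [Field F]

/-- the statement of piece G3 -/
def G3Stmt (n : ℕ) (F : Type*) [Field F] [Fintype F] : Prop :=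
  ∀ {q₁ m : ℕ}, Fintype.card F = q₁ ^ m → ∀ τ : F →+* F, (∀ x, τ x = x ^ q₁) →
    ∀ {N : Subgroup (GL (Fin n) F)}, ActsAbsolutelyIrreducibly (matrixSet N) → ∀ J : GL (Fin n) F,
    (∀ x ∈ N, (x : GL (Fin n) F) * J = J * Matrix.GeneralLinearGroup.map τ x) →
    ∀ F₁ : Subfield F, (∀ x, x ∈ F₁ ↔ x ^ q₁ = x) → RealisableOver F₁ (matrixSet N)

theorem c6Pieces [Fintype F] (hn : 2 ≤ n) (hG3 : G3Stmt n F) : C6Pieces n F where
  structure_ := fun h => c6_structure hn h
  intertwiner := fun h ρ hρ => exists_intertwiner h ρ hρ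
  realisable := fun hq τ hτ _ hN J hJ F₁ hF₁ => hG3 hq τ hτ hN J hJ F₁ hF₁
  unitary := fun hF _ hN J hJ => unitary_of_twist hF hN J hJ
  bilinear := fun hodd _ hN J hJ => bilinear_of_twist hodd hN J hJ
  fieldCases := fun z hz => field_cases z hz
  involution := fun hmin he hz => exists_involution hmin he hz

theorem sympCase [Fintype F] (hn : 3 ≤ n) (hG3 : G3Stmt n F) : SympCaseGen n F :=
  fun h => symplectic_type_case_gen (c6Pieces (by omega) hG3) hn h

theorem perfCase [Fintype F] (hn : 2 ≤ n) : PerfectCaseGen n F :=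
  fun hNH hnz hns hall hmin hperf => Cfsg.Agent.Helper4.AschTI.perfect_case_gen hn hNH hnz hns hall hmin hperf

/-! ## arithmetic of the class-6 clause -/

theorem c6_field_three [Fintype F] {R : Subgroup (GL (Fin n) F)} (hR : IsLinearSymplecticTypeData 3 R) :
    ∃ p : ℕ, p.Prime ∧ Fintype.card F = p ∧ p % 3 = 1 := by
  obtain ⟨p, e, hrp, hmin, hcases⟩ := hR.field
  rcases hcases with ⟨-, he, hz, -⟩ | ⟨h32, -⟩ | ⟨h32, -⟩
  · rw [hz] at hmin
    obtain ⟨hp, hchar, hcard, hdvd, hmind⟩ := hmin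
    have hp3 : p % 3 ≠ 0 := by
      intro h0
      have h3 : 3 ∣ p := Nat.dvd_of_mod_eq_zero h0
      exact hrp ((Nat.prime_dvd_prime_iff_eq Nat.prime_three hp).1 h3)
    have he1 : e = 1 := by
      by_contra hne
      obtain ⟨k, hk⟩ := he
      have he3 : 3 ≤ e := by omega
      apply hmind 2 (by norm_num) (by omega)
      have h1 : p ^ 2 % 3 = 1 := by
        have : p % 3 = 1 ∨ p % 3 = 2 := by omega
        rcases this with h | h <;> simp [pow_two, Nat.mul_mod, h]
      omega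
    rw [he1, pow_one] at hcard hdvd
    refine ⟨p, hp, hcard, ?_⟩
    have := hp.two_le
    omega
  · omega
  · omega

theorem c6_field_two [Fintype F] (hn : n ≠ 2) {R : Subgroup (GL (Fin n) F)}
    (hR : IsLinearSymplecticTypeData 2 R) : ∃ p : ℕ, p.Prime ∧ Fintype.card F = p ∧ p % 4 = 1 := by
  obtain ⟨p, e, hrp, hmin, hcases⟩ := hR.field
  rcases hcases with ⟨h2, -⟩ | ⟨-, he, hz, -⟩ | ⟨-, -, hcard, -⟩
  · exact absurd h2 (by decide)
  · rw [hz, he] at hmin
    obtain ⟨hp, hchar, hcard, hdvd, hmind⟩ := hmin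
    rw [pow_one] at hcard hdvd
    refine ⟨p, hp, hcard, ?_⟩
    have := hp.two_le
    omega
  · rw [Fintype.card_fin] at hcard
    exact absurd hcard hn

/-! ## small arithmetic -/

theorem pow_eq_nine {d k : ℕ} (hd : 2 ≤ d) (hk : 2 ≤ k) (h : d ^ k = 9) : d = 3 ∧ k = 2 := by
  have hk4 : k < 4 := by
    by_contra hcon
    have h1 : 2 ^ 4 ≤ 2 ^ k := Nat.pow_le_pow_right (by norm_num) (by omega)
    have h2 : 2 ^ k ≤ d ^ k := Nat.pow_le_pow_left hd k
    omega
  have hd4 : d < 4 := by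
    by_contra hcon
    have h1 : 4 ^ 2 ≤ d ^ 2 := Nat.pow_le_pow_left (by omega) 2
    have h2 : d ^ 2 ≤ d ^ k := Nat.pow_le_pow_right (by omega) hk
    omega
  interval_cases k <;> interval_cases d <;> simp_all

theorem pow_eq_eight {d k : ℕ} (hd : 2 ≤ d) (hk : 2 ≤ k) (h : d ^ k = 8) : d = 2 ∧ k = 3 := by
  have hk4 : k < 4 := by
    by_contra hcon
    have h1 : 2 ^ 4 ≤ 2 ^ k := Nat.pow_le_pow_right (by norm_num) (by omega)
    have h2 : 2 ^ k ≤ d ^ k := Nat.pow_le_pow_left hd k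
    omega
  have hd4 : d < 3 := by
    by_contra hcon
    have h1 : 3 ^ 2 ≤ d ^ 2 := Nat.pow_le_pow_left (by omega) 2
    have h2 : d ^ 2 ≤ d ^ k := Nat.pow_le_pow_right (by omega) hk
    omega
  interval_cases k <;> interval_cases d <;> simp_all

theorem pow_eq_four {d k : ℕ} (hd : 2 ≤ d) (hk : 2 ≤ k) (h : d ^ k = 4) : d = 2 ∧ k = 2 := by
  have hk4 : k < 3 := by
    by_contra hcon
    have h1 : 2 ^ 3 ≤ 2 ^ k := Nat.pow_le_pow_right (by norm_num) (by omega)
    have h2 : 2 ^ k ≤ d ^ k := Nat.pow_le_pow_left hd k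
    omega
  have hd4 : d < 3 := by
    by_contra hcon
    have h1 : 3 ^ 2 ≤ d ^ 2 := Nat.pow_le_pow_left (by omega) 2
    have h2 : d ^ 2 ≤ d ^ k := Nat.pow_le_pow_right (by omega) hk
    omega
  interval_cases k <;> interval_cases d <;> simp_all

theorem card_of_equiv_pi {d k : ℕ} (e : Fin n ≃ (Fin k → Fin d)) : d ^ k = n := by
  have := Fintype.card_congr e
  simpa using this.symm

theorem card_of_equiv_prod {n₁ n₂ : ℕ} (e : Fin n ≃ Fin n₁ × Fin n₂) : n₁ * n₂ = n := by
  have := Fintype.card_congr e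
  simpa using this.symm

end Cfsg.Agent.Helper9.AschPP
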