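import Mathlib

/-!
# ASCH-PP piece T7, part A (helper9): the abstract group `4 ∘ 2^{1+4}` of order 64

`HW` is the set of triples `(a, t, u)` with `a ∈ ℤ/4`, `t, u ∈ (ℤ/2)²` and the multiplication
`(a, t, u) (a', t', u') = (a + a' + 2 (u · t'), t + t', u + u')`.  We prove, mostly by computation, that it has order
`64`, exponent `4`, a centre of order `4`, and that every characteristic abelian subgroup is cyclic (three explicit
automorphisms move every non-central element to an element that does not commute with it).
-/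

set_option autoImplicit false
set_option linter.unusedVariables false

namespace Cfsg.Agent.Helper9.AschPP

/-- the index group `(ℤ/2)²` -/
abbrev V2 : Type := ZMod 2 × ZMod 2

/-- the standard pairing on `(ℤ/2)²` -/
def dotV (u y : V2) : ZMod 2 := u.1 * y.1 + u.2 * y.2

/-- the doubling map `ℤ/2 → ℤ/4` -/
def dbl (x : ZMod 2) : ZMod 4 := if x = 0 then 0 else 2

/-- the lifting map `ℤ/2 → ℤ/4` -/
def lft (x : ZMod 2) : ZMod 4 := if x = 0 then 0 else 1

theorem dbl_add (p q : ZMod 2) : dbl (p + q) = dbl p + dbl q := by revert p q; decide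

theorem dotV_add_left (u u' t : V2) : dotV (u + u') t = dotV u t + dotV u' t := by
  simp only [dotV, Prod.fst_add, Prod.snd_add]; ring

theorem dotV_add_right (u t t' : V2) : dotV u (t + t') = dotV u t + dotV u t' := by
  simp only [dotV, Prod.fst_add, Prod.snd_add]; ring

/-- the group `4 ∘ 2^{1+4}` as a set of triples -/
@[ext] structure HW where
  a : ZMod 4
  t : V2
  u : V2
deriving DecidableEq

namespace HW

/-- triples as a product -/
def equivProd : HW ≃ ZMod 4 × V2 × V2 where
  toFun x := (x.a, x.t, x.u)
  invFun p := ⟨p.1, p.2.1, p.2.2⟩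
  left_inv x := rfl
  right_inv p := rfl

instance : Fintype HW := Fintype.ofEquiv _ equivProd.symm

instance : Mul HW := ⟨fun x y => ⟨x.a + y.a + dbl (dotV x.u y.t), x.t + y.t, x.u + y.u⟩⟩
instance : One HW := ⟨⟨0, 0, 0⟩⟩
instance : Inv HW := ⟨fun x => ⟨-x.a + dbl (dotV x.u x.t), x.t, x.u⟩⟩

theorem mul_def (x y : HW) : x * y = ⟨x.a + y.a + dbl (dotV x.u y.t), x.t + y.t, x.u + y.u⟩ := rfl
theorem one_def : (1 : HW) = ⟨0, 0, 0⟩ := rfl
theorem inv_def (x : HW) : x⁻¹ = ⟨-x.a + dbl (dotV x.u x.t), x.t, x.u⟩ := rfl

instance : Group HW :=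
  Group.ofLeftAxioms
    (by
      intro x y z
      simp only [mul_def]
      ext
      · simp only [dotV_add_left, dotV_add_right, dbl_add]; ring
      · simp only [add_assoc]
      · simp only [add_assoc]
      · simp only [add_assoc]
      · simp only [add_assoc])
    (by decide)
    (by decide)

theorem card_eq : Nat.card HW = 64 := by
  rw [Nat.card_eq_fintype_card]
  decide

theorem pow_four (x : HW) : x ^ 4 = 1 := by
  revert x; decide

/-- the central element of order four -/
def zeta : HW := ⟨1, 0, 0⟩

theorem zeta_sq_ne : zeta ^ 2 ≠ 1 := by decide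

theorem exponent_eq : Monoid.exponent HW = 4 := by
  have h4 : Monoid.exponent HW ∣ 4 := Monoid.exponent_dvd_of_forall_pow_eq_one pow_four
  have h2 : ¬ Monoid.exponent HW ∣ 2 := by
    intro h
    obtain ⟨k, hk⟩ := h
    apply zeta_sq_ne
    rw [hk, pow_mul, Monoid.pow_exponent_eq_one, one_pow]
  have hle : Monoid.exponent HW ≤ 4 := Nat.le_of_dvd (by norm_num) h4
  interval_cases h : Monoid.exponent HW
  · exact absurd h4 (by norm_num)
  · exact absurd (one_dvd 2) h2
  · exact absurd (dvd_refl 2) h2
  · exact absurd h4 (by norm_num)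
  · rfl

theorem mem_center_iff (x : HW) : x ∈ Subgroup.center HW ↔ x.t = 0 ∧ x.u = 0 := by
  rw [Subgroup.mem_center_iff]
  revert x
  decide +kernel

/-- the centre is `ℤ/4` -/
def centerEquiv : ZMod 4 ≃ Subgroup.center HW where
  toFun a := ⟨⟨a, 0, 0⟩, (mem_center_iff _).2 ⟨rfl, rfl⟩⟩
  invFun x := x.1.a
  left_inv a := rfl
  right_inv x := by
    obtain ⟨h1, h2⟩ := (mem_center_iff x.1).1 x.2
    apply Subtype.ext
    ext1
    · rfl
    · exact h1.symm
    · exact h2.symm

theorem card_center : Nat.card (Subgroup.center HW) = 4 := by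
  rw [← Nat.card_congr centerEquiv, Nat.card_eq_fintype_card, ZMod.card]

theorem center_mul_hom (a b : ZMod 4) : (⟨a + b, 0, 0⟩ : HW) = ⟨a, 0, 0⟩ * ⟨b, 0, 0⟩ := by
  rw [mul_def]
  ext <;> simp [dotV, dbl]

/-- the phase automorphism attached to `w` -/
def phaseFun (w : V2) (x : HW) : HW :=
  ⟨x.a + lft (dotV w x.t), x.t, x.u + (dotV w x.t * w.1, dotV w x.t * w.2)⟩

/-- the Fourier automorphism (for the bilinear form `x₁y₁ + x₁y₂ + x₂y₂`) -/
def fourierFun (x : HW) : HW :=
  ⟨x.a + dbl (x.u.1 * x.t.1 + x.u.1 * x.t.2 + (x.u.1 + x.u.2) * x.t.2), (x.u.1, x.u.1 + x.u.2),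
    (x.t.1 + x.t.2, x.t.2)⟩

theorem phaseFun_mul (w : V2) (x y : HW) : phaseFun w (x * y) = phaseFun w x * phaseFun w y := by
  revert w x y; decide +kernel

theorem phaseFun_inj (w : V2) : Function.Injective (phaseFun w) := by
  intro x y
  revert w x y; decide +kernel

theorem fourierFun_mul (x y : HW) : fourierFun (x * y) = fourierFun x * fourierFun y := by
  revert x y; decide +kernel

theorem fourierFun_inj : Function.Injective fourierFun := by
  intro x y
  revert x y; decide +kernel

/-- the phase automorphism -/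
noncomputable def phaseAut (w : V2) : HW ≃* HW :=
  MulEquiv.ofBijective (MonoidHom.mk' (phaseFun w) (phaseFun_mul w))
    ((Finite.injective_iff_bijective).1 (phaseFun_inj w))

/-- the Fourier automorphism -/
noncomputable def fourierAut : HW ≃* HW :=
  MulEquiv.ofBijective (MonoidHom.mk' fourierFun fourierFun_mul)
    ((Finite.injective_iff_bijective).1 fourierFun_inj)

theorem phaseAut_apply (w : V2) (x : HW) : phaseAut w x = phaseFun w x := rfl
theorem fourierAut_apply (x : HW) : fourierAut x = fourierFun x := rfl

/-- every non-central element is moved by one of three automorphisms to an element not commuting with it -/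
theorem exists_not_commute (x : HW) (hx : ¬ (x.t = 0 ∧ x.u = 0)) :
    x * phaseFun (1, 0) x ≠ phaseFun (1, 0) x * x ∨ x * phaseFun (0, 1) x ≠ phaseFun (0, 1) x * x ∨
      x * fourierFun x ≠ fourierFun x * x := by
  revert x; decide +kernel

/-- a characteristic abelian subgroup is central -/
theorem le_center_of_characteristic (A : Subgroup HW) (hA : A.Characteristic) (hc : IsMulCommutative A) :
    A ≤ Subgroup.center HW := by
  intro x hx
  rw [mem_center_iff]
  by_contra hne
  have hmem : ∀ ϕ : HW ≃* HW, ϕ x ∈ A := by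
    intro ϕ
    have h := Subgroup.characteristic_iff_comap_eq.1 hA ϕ
    have : x ∈ A.comap ϕ.toMonoidHom := by rw [h]; exact hx
    exact this
  have hcomm : ∀ y ∈ A, x * y = y * x := by
    intro y hy
    have := hc.is_comm.comm (⟨x, hx⟩ : A) ⟨y, hy⟩
    exact congrArg Subtype.val this
  rcases exists_not_commute x hne with h | h | h
  · exact h (hcomm _ (hmem (phaseAut (1, 0))))
  · exact h (hcomm _ (hmem (phaseAut (0, 1))))
  · exact h (hcomm _ (hmem fourierAut))

/-- every characteristic abelian subgroup is cyclic -/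
theorem cyclic_of_characteristic (A : Subgroup HW) (hA : A.Characteristic) (hc : IsMulCommutative A) :
    IsCyclic A := by
  have hle := le_center_of_characteristic A hA hc
  -- `A` embeds in the cyclic group `ℤ/4`
  let f : A →* Multiplicative (ZMod 4) :=
    { toFun := fun x => Multiplicative.ofAdd x.1.a
      map_one' := rfl
      map_mul' := by
        intro x y
        have hx := (mem_center_iff x.1).1 (hle x.2)
        have hy := (mem_center_iff y.1).1 (hle y.2)
        show Multiplicative.ofAdd ((x.1 * y.1).a) = Multiplicative.ofAdd x.1.a * Multiplicative.ofAdd y.1.a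
        rw [mul_def, ← ofAdd_add]
        congr 1
        show x.1.a + y.1.a + dbl (dotV x.1.u y.1.t) = x.1.a + y.1.a
        rw [hy.1]
        simp [dotV, dbl] }
  have hf : Function.Injective f := by
    intro x y hxy
    have hx := (mem_center_iff x.1).1 (hle x.2)
    have hy := (mem_center_iff y.1).1 (hle y.2)
    have h1 : x.1.a = y.1.a := Multiplicative.ofAdd.injective hxy
    apply Subtype.ext
    ext1
    · exact h1
    · rw [hx.1, hy.1]
    · rw [hx.2, hy.2]
  exact isCyclic_of_injective f hf

end HW

end Cfsg.Agent.Helper9.AschPP
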