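import Mathlib
import Cfsg.Agent.Helper9.AschPPT7A

/-!
# ASCH-PP piece T7, part B (helper9): the Weyl–Heisenberg matrices on `F^((ℤ/2)²)`

Monomial matrices `mon π d` (column `j` has the entry `d j` in row `π j`), the sign characters, the matrices
`wmat t u = mon (· + t) χ_u`, the representation `rhoMat` of `HW`, its injectivity, the fact that its image spans the
matrix algebra, has determinant one and is normalised by the monomial matrices of determinant one over the field
with five elements.
-/

set_option autoImplicit false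
set_option linter.unusedVariables false

namespace Cfsg.Agent.Helper9.AschPP

open scoped Matrix

variable {F : Type*} [Field F]

/-- the sign character of `ℤ/2` -/
def sgn (F : Type*) [Field F] (a : ZMod 2) : F := if a = 0 then 1 else -1

theorem sgn_zero : sgn F 0 = 1 := by simp [sgn]

theorem sgn_one : sgn F 1 = -1 := by
  have : (1 : ZMod 2) ≠ 0 := by decide
  simp [sgn, this]

theorem sgn_cases (a : ZMod 2) : a = 0 ∨ a = 1 := by revert a; decide

theorem sgn_add (a b : ZMod 2) : sgn F (a + b) = sgn F a * sgn F b := by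
  rcases sgn_cases a with rfl | rfl <;> rcases sgn_cases b with rfl | rfl
  · simp [sgn_zero]
  · simp [sgn_zero, sgn_one]
  · simp [sgn_zero, sgn_one]
  · have : (1 : ZMod 2) + 1 = 0 := by decide
    rw [this, sgn_zero, sgn_one]; ring

theorem sgn_mul_self (a : ZMod 2) : sgn F a * sgn F a = 1 := by
  rcases sgn_cases a with rfl | rfl
  · simp [sgn_zero]
  · rw [sgn_one]; ring

theorem sgn_ne_zero (a : ZMod 2) : sgn F a ≠ 0 := by
  intro h
  have := sgn_mul_self (F := F) a
  rw [h, mul_zero] at this
  exact zero_ne_one this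

theorem sgn_sq (a : ZMod 2) : sgn F a ^ 2 = 1 := by rw [pow_two, sgn_mul_self]

/-- sums over `(ℤ/2)²` -/
theorem sum_V2 {M : Type*} [AddCommMonoid M] (f : V2 → M) :
    ∑ y, f y = f (0, 0) + f (0, 1) + f (1, 0) + f (1, 1) := by
  rw [Fintype.sum_prod_type]
  have h2 : ∀ g : ZMod 2 → M, ∑ x, g x = g 0 + g 1 := fun g => Fin.sum_univ_two g
  rw [h2]
  rw [h2, h2]
  abel

/-- products over `(ℤ/2)²` -/
theorem prod_V2 {M : Type*} [CommMonoid M] (f : V2 → M) :
    ∏ y, f y = f (0, 0) * f (0, 1) * f (1, 0) * f (1, 1) := by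
  rw [Fintype.prod_prod_type]
  have h2 : ∀ g : ZMod 2 → M, ∏ x, g x = g 0 * g 1 := fun g => Fin.prod_univ_two g
  rw [h2]
  rw [h2, h2]
  simp only [mul_assoc]

theorem V2_cases (y : V2) : y = (0, 0) ∨ y = (0, 1) ∨ y = (1, 0) ∨ y = (1, 1) := by
  revert y; decide

theorem V2_add_self (y : V2) : y + y = 0 := by revert y; decide

theorem V2_neg (y : V2) : -y = y := by revert y; decide

theorem dotV_comm (u y : V2) : dotV u y = dotV y u := by
  simp only [dotV]; ring

theorem dotV_zero_left (y : V2) : dotV 0 y = 0 := by simp [dotV]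

theorem dotV_zero_right (y : V2) : dotV y 0 = 0 := by simp [dotV]

/-- character orthogonality -/
theorem sum_sgn_dotV (z : V2) : ∑ u : V2, sgn F (dotV u z) = if z = 0 then 4 else 0 := by
  rw [sum_V2]
  rcases V2_cases z with rfl | rfl | rfl | rfl
  · have : ((0 : ZMod 2), (0 : ZMod 2)) = (0 : V2) := rfl
    simp only [this, dotV_zero_right, sgn_zero, if_true]; norm_num
  · have h : ((0 : ZMod 2), (1 : ZMod 2)) ≠ (0 : V2) := by decide
    rw [if_neg h]
    simp [dotV, sgn_zero, sgn_one]
  · have h : ((1 : ZMod 2), (0 : ZMod 2)) ≠ (0 : V2) := by decide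
    rw [if_neg h]
    simp [dotV, sgn_zero, sgn_one]
  · have h : ((1 : ZMod 2), (1 : ZMod 2)) ≠ (0 : V2) := by decide
    rw [if_neg h]
    have h11 : (1 : ZMod 2) + 1 = 0 := by decide
    simp [dotV, sgn_zero, sgn_one, h11]

/-- the product of the values of a sign character is one -/
theorem prod_sgn_dotV (u : V2) : ∏ z : V2, sgn F (dotV u z) = 1 := by
  rw [prod_V2]
  have e1 : dotV u (0, 0) = 0 := by simp [dotV]
  have e2 : dotV u (0, 1) = u.2 := by simp [dotV]
  have e3 : dotV u (1, 0) = u.1 := by simp [dotV]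
  have e4 : dotV u (1, 1) = u.1 + u.2 := by simp [dotV]
  rw [e1, e2, e3, e4, sgn_add, sgn_zero]
  calc 1 * sgn F u.2 * sgn F u.1 * (sgn F u.1 * sgn F u.2)
      = (sgn F u.1 * sgn F u.1) * (sgn F u.2 * sgn F u.2) := by ring
    _ = 1 := by rw [sgn_mul_self, sgn_mul_self, one_mul]

section mon

variable {ι : Type*} [Fintype ι] [DecidableEq ι]

/-- the monomial matrix whose column `j` has the entry `d j` in row `π j` -/
def mon (π : ι → ι) (d : ι → F) : Matrix ι ι F := fun i j => if i = π j then d j else 0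

omit [Fintype ι] in
theorem mon_apply (π : ι → ι) (d : ι → F) (i j : ι) : mon π d i j = if i = π j then d j else 0 := rfl

theorem mon_mul (π π' : ι → ι) (d d' : ι → F) :
    mon π d * mon π' d' = mon (π ∘ π') (fun j => d (π' j) * d' j) := by
  ext i j
  rw [Matrix.mul_apply, Finset.sum_eq_single (π' j)]
  · simp only [mon_apply, if_true, Function.comp_apply]
    split_ifs <;> simp
  · intro k _ hk
    rw [mon_apply, mon_apply, if_neg hk, mul_zero]
  · intro h; exact absurd (Finset.mem_univ _) h

omit [Fintype ι] in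
theorem mon_id_one : mon (id : ι → ι) (fun _ => (1 : F)) = 1 := by
  ext i j
  rw [mon_apply, Matrix.one_apply]
  rfl

omit [Fintype ι] in
theorem mon_smul (c : F) (π : ι → ι) (d : ι → F) : c • mon π d = mon π (fun j => c * d j) := by
  ext i j
  rw [Matrix.smul_apply, mon_apply, mon_apply]
  split_ifs <;> simp

theorem mon_mulVec_single (π : ι → ι) (d : ι → F) (j : ι) :
    mon π d *ᵥ Pi.single j 1 = Pi.single (π j) (d j) := by
  funext i
  rw [Matrix.mulVec_single_one]
  show mon π d i j = _
  rw [mon_apply]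
  by_cases h : i = π j
  · rw [if_pos h, h, Pi.single_eq_same]
  · rw [if_neg h, Pi.single_eq_of_ne h]

theorem det_mon (π : Equiv.Perm ι) (d : ι → F) :
    (mon π d).det = (Equiv.Perm.sign π : ℤ) * ∏ i, d i := by
  have h : mon π d = (Matrix.diagonal d).submatrix π.symm id := by
    ext i j
    rw [mon_apply, Matrix.submatrix_apply, Matrix.diagonal_apply, id]
    by_cases h : i = π j
    · rw [if_pos h, if_pos (by rw [h, Equiv.symm_apply_apply]), h, Equiv.symm_apply_apply]
    · rw [if_neg h, if_neg]
      intro h'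
      exact h (by rw [← h', Equiv.apply_symm_apply])
  rw [h, Matrix.det_permute, Matrix.det_diagonal, Equiv.Perm.sign_symm]

end mon

/-! ### permutations of `(ℤ/2)²` -/

set_option maxRecDepth 100000 in
theorem perm_affine : ∀ σ : Equiv.Perm V2, ∀ y t, σ (y + t) = σ y + (σ t + σ 0) := by
  decide +kernel

theorem sign_addRight : ∀ t : V2, Equiv.Perm.sign (Equiv.addRight t) = 1 := by
  decide +kernel

theorem card_V2 : Fintype.card V2 = 4 := by decide

/-! ### the Weyl–Heisenberg matrices -/

/-- the Weyl–Heisenberg matrix `X^t Z^u` -/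
def wmat (F : Type*) [Field F] (t u : V2) : Matrix V2 V2 F :=
  mon (fun y => y + t) (fun y => sgn F (dotV u y))

theorem wmat_apply (t u x y : V2) : wmat F t u x y = if x = y + t then sgn F (dotV u y) else 0 := rfl

theorem wmat_mul (t u t' u' : V2) :
    wmat F t u * wmat F t' u' = sgn F (dotV u t') • wmat F (t + t') (u + u') := by
  rw [wmat, wmat, mon_mul, wmat, mon_smul]
  congr 1
  · funext y
    simp only [Function.comp_apply]
    abel
  · funext y
    rw [dotV_add_right, sgn_add, dotV_add_left, sgn_add]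
    ring

theorem wmat_zero : wmat F 0 0 = 1 := by
  rw [← mon_id_one]
  rw [wmat]
  congr 1
  · funext y; simp
  · funext y; rw [dotV_zero_left, sgn_zero]

theorem det_wmat (t u : V2) : (wmat F t u).det = 1 := by
  have h : wmat F t u = mon (Equiv.addRight t) (fun y => sgn F (dotV u y)) := rfl
  rw [h, det_mon, sign_addRight, prod_sgn_dotV]
  simp

section rho

variable (ζ : F)

/-- the representation of `HW` -/
def rhoMat (x : HW) : Matrix V2 V2 F := ζ ^ x.a.val • wmat F x.t x.u

variable {ζ}

theorem zeta_pow_four (hζ : ζ ^ 2 = -1) : ζ ^ 4 = 1 := by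
  have : ζ ^ 4 = (ζ ^ 2) ^ 2 := by ring
  rw [this, hζ]; ring

theorem zeta_ne_zero (hζ : ζ ^ 2 = -1) : ζ ≠ 0 := by
  intro h
  rw [h] at hζ
  have : (0 : F) = -1 := by rw [← hζ]; ring
  have h1 : (1 : F) = 0 := by linear_combination this
  exact one_ne_zero h1

theorem pw_add (hζ : ζ ^ 2 = -1) (a b : ZMod 4) : ζ ^ (a + b).val = ζ ^ a.val * ζ ^ b.val := by
  rw [ZMod.val_add, ← pow_add]
  conv_rhs => rw [← Nat.mod_add_div (a.val + b.val) 4]
  rw [pow_add, pow_mul, zeta_pow_four hζ, one_pow, mul_one]

theorem pw_dbl (hζ : ζ ^ 2 = -1) (p : ZMod 2) : ζ ^ (dbl p).val = sgn F p := by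
  rcases sgn_cases p with rfl | rfl
  · have : (dbl 0).val = 0 := by decide
    rw [this, sgn_zero, pow_zero]
  · have : (dbl 1).val = 2 := by decide
    rw [this, sgn_one, hζ]

theorem pw_eq_one (hζ : ζ ^ 2 = -1) (h2 : (2 : F) ≠ 0) (a : ZMod 4) (h : ζ ^ a.val = 1) : a = 0 := by
  have hne : (-1 : F) ≠ 1 := by
    intro h'
    apply h2
    linear_combination -h'
  have hcases : ∀ a : ZMod 4, a = 0 ∨ a = 1 ∨ a = 2 ∨ a = 3 := by decide
  rcases hcases a with rfl | rfl | rfl | rfl
  · rfl
  · exfalso
    have hv : (1 : ZMod 4).val = 1 := by decide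
    rw [hv, pow_one] at h
    rw [h] at hζ
    apply hne
    rw [← hζ]; ring
  · exfalso
    have hv : (2 : ZMod 4).val = 2 := by decide
    rw [hv, hζ] at h
    exact hne h
  · exfalso
    have hv : (3 : ZMod 4).val = 3 := by decide
    rw [hv] at h
    have h3 : ζ ^ 3 = -ζ := by
      have : ζ ^ 3 = ζ ^ 2 * ζ := by ring
      rw [this, hζ]; ring
    rw [h3] at h
    have hz : ζ = -1 := by linear_combination -h
    rw [hz] at hζ
    apply hne
    rw [← hζ]; ring

theorem pw_inj (hζ : ζ ^ 2 = -1) (h2 : (2 : F) ≠ 0) (a b : ZMod 4) (h : ζ ^ a.val = ζ ^ b.val) : a = b := by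
  have h1 : ζ ^ (a - b).val * ζ ^ b.val = ζ ^ a.val := by
    rw [← pw_add hζ, sub_add_cancel]
  rw [h] at h1
  have h3 : ζ ^ (a - b).val = 1 := by
    have hb : ζ ^ b.val ≠ 0 := pow_ne_zero _ (zeta_ne_zero hζ)
    field_simp at h1
    exact h1
  have := pw_eq_one hζ h2 _ h3
  exact sub_eq_zero.1 this

theorem rhoMat_mul (hζ : ζ ^ 2 = -1) (x y : HW) : rhoMat ζ (x * y) = rhoMat ζ x * rhoMat ζ y := by
  rw [rhoMat, rhoMat, rhoMat, HW.mul_def]
  simp only
  rw [Matrix.smul_mul, Matrix.mul_smul, wmat_mul, smul_smul, smul_smul, pw_add hζ, pw_add hζ, pw_dbl hζ]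

theorem rhoMat_one : rhoMat ζ (1 : HW) = 1 := by
  rw [rhoMat, HW.one_def]
  simp only
  rw [ZMod.val_zero, pow_zero, one_smul, wmat_zero]

/-- the representation as a monoid homomorphism -/
def rhoHom (ζ : F) (hζ : ζ ^ 2 = -1) : HW →* Matrix V2 V2 F where
  toFun := rhoMat ζ
  map_one' := rhoMat_one
  map_mul' := rhoMat_mul hζ

theorem rhoMat_eq_mon (x : HW) :
    rhoMat ζ x = mon (fun y => y + x.t) (fun y => ζ ^ x.a.val * sgn F (dotV x.u y)) := by
  rw [rhoMat, wmat, mon_smul]

theorem sgn_inj (h2 : (2 : F) ≠ 0) (a b : ZMod 2) (h : sgn F a = sgn F b) : a = b := by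
  have hne : (-1 : F) ≠ 1 := by
    intro h'
    apply h2
    linear_combination -h'
  rcases sgn_cases a with rfl | rfl <;> rcases sgn_cases b with rfl | rfl
  · rfl
  · rw [sgn_zero, sgn_one] at h; exact absurd h.symm hne
  · rw [sgn_zero, sgn_one] at h; exact absurd h hne
  · rfl

theorem rhoMat_injective (hζ : ζ ^ 2 = -1) (h2 : (2 : F) ≠ 0) : Function.Injective (rhoMat (F := F) ζ) := by
  intro x y hxy
  have hz := zeta_ne_zero hζ
  have hent : ∀ i j : V2, rhoMat ζ x i j = rhoMat ζ y i j := fun i j => by rw [hxy]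
  simp only [rhoMat, Matrix.smul_apply, wmat_apply, smul_eq_mul] at hent
  -- the translation parts
  have ht : x.t = y.t := by
    have h := hent x.t 0
    rw [if_pos (zero_add _).symm, dotV_zero_right, sgn_zero, mul_one] at h
    by_contra hne
    rw [if_neg (by rw [zero_add]; exact hne), mul_zero] at h
    exact pow_ne_zero _ hz h
  have ha : x.a = y.a := by
    have h := hent x.t 0
    rw [if_pos (zero_add _).symm, if_pos (by rw [zero_add]; exact ht), dotV_zero_right, sgn_zero, mul_one,
      dotV_zero_right, sgn_zero, mul_one] at h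
    exact pw_inj hζ h2 _ _ h
  have hu : ∀ z : V2, dotV x.u z = dotV y.u z := by
    intro z
    have h := hent (z + x.t) z
    rw [if_pos rfl, if_pos (by rw [ht]), ha] at h
    have h' := mul_left_cancel₀ (pow_ne_zero _ hz) h
    exact sgn_inj h2 _ _ h'
  have hu' : x.u = y.u := by
    have h1 := hu (1, 0)
    have h2' := hu (0, 1)
    simp only [dotV, mul_one, mul_zero, add_zero, zero_add] at h1 h2'
    exact Prod.ext h1 h2'
  exact HW.ext ha ht hu'

/-- the image of `HW` spans the matrix algebra -/
theorem span_range_rhoMat (h2 : (2 : F) ≠ 0) :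
    Submodule.span F (Set.range (rhoMat (F := F) ζ)) = ⊤ := by
  have h4 : (4 : F) ≠ 0 := by
    have : (4 : F) = 2 * 2 := by norm_num
    rw [this]; exact mul_ne_zero h2 h2
  have hw : ∀ t u : V2, wmat F t u ∈ Submodule.span F (Set.range (rhoMat (F := F) ζ)) := by
    intro t u
    apply Submodule.subset_span
    refine ⟨⟨0, t, u⟩, ?_⟩
    rw [rhoMat]
    simp only
    rw [ZMod.val_zero, pow_zero, one_smul]
  have hsingle : ∀ x y : V2, Matrix.single x y (1 : F) ∈ Submodule.span F (Set.range (rhoMat (F := F) ζ)) := by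
    intro x y
    have : Matrix.single x y (1 : F) = (4 : F)⁻¹ • ∑ u : V2, sgn F (dotV u y) • wmat F (x + y) u := by
      ext x' y'
      rw [Matrix.smul_apply, Matrix.sum_apply, Matrix.single_apply]
      have h1 : ∀ u : V2, (sgn F (dotV u y) • wmat F (x + y) u) x' y' =
          if x' = y' + (x + y) then sgn F (dotV u (y + y')) else 0 := by
        intro u
        rw [Matrix.smul_apply, wmat_apply, smul_eq_mul]
        split_ifs
        · rw [dotV_add_right, sgn_add]
        · rw [mul_zero]
      rw [Finset.sum_congr rfl (fun u _ => h1 u)]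
      by_cases hx : x' = y' + (x + y)
      · simp only [if_pos hx]
        rw [sum_sgn_dotV]
        by_cases hy : y = y'
        · subst hy
          have hx' : x = x' := by
            rw [hx]
            have : ∀ x y : V2, x = y + (x + y) := by decide
            exact this x y
          rw [if_pos ⟨hx', rfl⟩, if_pos (V2_add_self y), smul_eq_mul, inv_mul_cancel₀ h4]
        · have : ¬ (x = x' ∧ y = y') := fun h => hy h.2
          rw [if_neg this, if_neg, smul_zero]
          intro h0
          apply hy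
          have : ∀ y y' : V2, y + y' = 0 → y = y' := by decide
          exact this y y' h0
      · simp only [if_neg hx, Finset.sum_const_zero, smul_zero]
        rw [if_neg]
        rintro ⟨rfl, rfl⟩
        apply hx
        have : ∀ x y : V2, x = y + (x + y) := by decide
        exact this x y
    rw [this]
    apply Submodule.smul_mem
    apply Submodule.sum_mem
    intro u _
    exact Submodule.smul_mem _ _ (hw _ _)
  rw [eq_top_iff]
  intro M _
  rw [Matrix.matrix_eq_sum_single M]
  apply Submodule.sum_mem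
  intro i _
  apply Submodule.sum_mem
  intro j _
  have : Matrix.single i j (M i j) = M i j • Matrix.single i j (1 : F) := by
    rw [Matrix.smul_single, smul_eq_mul, mul_one]
  rw [this]
  exact Submodule.smul_mem _ _ (hsingle i j)

theorem det_rhoMat (hζ : ζ ^ 2 = -1) (x : HW) : (rhoMat ζ x).det = 1 := by
  rw [rhoMat, Matrix.det_smul, card_V2, det_wmat, mul_one, ← pow_mul, mul_comm, pow_mul, zeta_pow_four hζ, one_pow]

end rho

end Cfsg.Agent.Helper9.AschPP
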