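import Mathlib
import Cfsg.Prelude.Def_GeometricClasses
import Cfsg.Prelude.Def_LieClassical
import Cfsg.Agent.Helper7.Hermitian
import Cfsg.Agent.Helper7.AschC2
import Cfsg.Agent.Helper5.AschU5a

/-!
# ASCH-PP-U piece U41, part B (helper9): an orthonormal basis adapted to an orthogonal decomposition into
non-degenerate lines (standard Hermitian form)
-/

set_option autoImplicit false
set_option linter.unusedVariables false

namespace Cfsg.Agent.Helper9.AschPPU

open Cfsg Cfsg.Geo Cfsg.Agent.Helper7.Herm
open scoped Matrix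

variable {F : Type*} [Field F] [Fintype F] {n q : ℕ}

theorem hermForm_zero_right' (hF : Fintype.card F = q ^ 2) (u : Fin n → F) : hermForm n F q u 0 = 0 := by
  have hq := one_le_q hF
  unfold hermForm
  apply Finset.sum_eq_zero
  intro i _
  rw [Pi.zero_apply, zero_pow (by omega), mul_zero]

theorem hermForm_sum_right' (hF : Fintype.card F = q ^ 2) {κ : Type*} (s : Finset κ) (u : Fin n → F)
    (v : κ → Fin n → F) : hermForm n F q u (∑ k ∈ s, v k) = ∑ k ∈ s, hermForm n F q u (v k) := by
  classical
  induction s using Finset.induction_on with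
  | empty => rw [Finset.sum_empty, Finset.sum_empty, hermForm_zero_right' hF]
  | insert a s ha ih => rw [Finset.sum_insert ha, Finset.sum_insert ha, hermForm_add_right hF, ih]

theorem hermForm_zero_left'' (v : Fin n → F) : hermForm n F q 0 v = 0 := by
  unfold hermForm
  apply Finset.sum_eq_zero
  intro i _
  rw [Pi.zero_apply, zero_mul]

theorem hermForm_sum_left'' {κ : Type*} (s : Finset κ) (u : κ → Fin n → F) (v : Fin n → F) :
    hermForm n F q (∑ k ∈ s, u k) v = ∑ k ∈ s, hermForm n F q (u k) v := by
  classical
  induction s using Finset.induction_on with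
  | empty => rw [Finset.sum_empty, Finset.sum_empty, hermForm_zero_left'']
  | insert a s ha ih => rw [Finset.sum_insert ha, Finset.sum_insert ha, hermForm_add_left, ih]

/-- the standard Hermitian form in the coordinates of an orthonormal basis -/
theorem hermForm_of_orthonormal (hF : Fintype.card F = q ^ 2) (b : Module.Basis (Fin n) F (Fin n → F))
    (hON : ∀ i j, hermForm n F q (b i) (b j) = if i = j then 1 else 0) (x y : Fin n → F) :
    hermForm n F q x y = ∑ i, b.equivFun x i * b.equivFun y i ^ q := by
  conv_lhs => rw [← b.sum_equivFun x, ← b.sum_equivFun y]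
  rw [hermForm_sum_left'']
  apply Finset.sum_congr rfl
  intro i _
  rw [hermForm_smul_left, hermForm_sum_right' hF, Finset.sum_eq_single i]
  · rw [hermForm_smul_right, hON, if_pos rfl, mul_one]
  · intro j _ hj
    rw [hermForm_smul_right, hON, if_neg (fun h => hj h.symm), mul_zero]
  · intro h; exact absurd (Finset.mem_univ _) h

/-- an orthonormal basis adapted to an orthogonal decomposition into non-degenerate lines -/
theorem exists_orthonormal_line_basis (hF : Fintype.card F = q ^ 2) (D : Fin n → Submodule F (Fin n → F))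
    (hD : IsNondegenerateMDecomposition (hermForm n F q) 1 D) :
    ∃ b : Module.Basis (Fin n) F (Fin n → F), (∀ i, b i ∈ D i) ∧
      (∀ i v, v ∈ D i → ∀ j, j ≠ i → b.equivFun v j = 0) ∧
      (∀ i j, hermForm n F q (b i) (b j) = if i = j then 1 else 0) := by
  classical
  obtain ⟨b₀, hb1, hb2⟩ := Cfsg.Agent.Helper7.Asch.exists_line_basis D hD.decomp
  -- the norms of the basis vectors
  have hν : ∀ i, hermForm n F q (b₀ i) (b₀ i) ≠ 0 := by
    intro i
    obtain ⟨⟨x, hx, hne⟩, -⟩ := hD.nondegenerate i (b₀ i) (hb1 i) (b₀.ne_zero i)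
    have hxi : x = b₀.equivFun x i • b₀ i := by
      conv_lhs => rw [← b₀.sum_equivFun x]
      rw [Finset.sum_eq_single i]
      · intro j _ hj
        rw [hb2 i x hx j hj, zero_smul]
      · intro h; exact absurd (Finset.mem_univ _) h
    intro h0
    apply hne
    rw [hxi, hermForm_smul_left, h0, mul_zero]
  have hνq : ∀ i, (hermForm n F q (b₀ i) (b₀ i))⁻¹ ^ q = (hermForm n F q (b₀ i) (b₀ i))⁻¹ := by
    intro i
    rw [inv_pow, ← hermForm_swap hF]
  choose lam hlam using fun i => Cfsg.Agent.Helper5.AschU.exists_norm_eq hF _ (hνq i) (inv_ne_zero (hν i))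
  have hlam0 : ∀ i, lam i ≠ 0 := by
    intro i h0
    have := hlam i
    rw [h0, zero_pow (by omega)] at this
    exact inv_ne_zero (hν i) this.symm
  let w : Fin n → Fˣ := fun i => Units.mk0 (lam i) (hlam0 i)
  refine ⟨b₀.unitsSMul w, ?_, ?_, ?_⟩
  · intro i
    rw [Module.Basis.unitsSMul_apply]
    exact (D i).smul_mem _ (hb1 i)
  · intro i v hv j hj
    rw [Module.Basis.equivFun_apply, Module.Basis.repr_unitsSMul]
    have := hb2 i v hv j hj
    rw [Module.Basis.equivFun_apply] at this
    rw [this, smul_zero]
  · intro i j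
    rw [Module.Basis.unitsSMul_apply, Module.Basis.unitsSMul_apply]
    show hermForm n F q (lam i • b₀ i) (lam j • b₀ j) = _
    rw [hermForm_smul_left, hermForm_smul_right]
    by_cases hij : i = j
    · subst hij
      rw [if_pos rfl]
      have h1 := hlam i
      rw [pow_succ] at h1
      calc lam i * (lam i ^ q * hermForm n F q (b₀ i) (b₀ i))
          = (lam i ^ q * lam i) * hermForm n F q (b₀ i) (b₀ i) := by ring
        _ = 1 := by rw [h1, inv_mul_cancel₀ (hν i)]
    · rw [if_neg hij, hD.orthogonal i j hij (b₀ i) (hb1 i) (b₀ j) (hb1 j), mul_zero, mul_zero]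

end Cfsg.Agent.Helper9.AschPPU
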