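import Mathlib
import Cfsg.Agent.Helper5.G24F4

/-!
# `SU_6(2)`: the frame stabiliser is not maximal, part A (helper9)

The set `Oset` of `126` isotropic points of the unitary space `F_4^6` (in the coordinates of an orthonormal frame): the
vectors of weight two and the vectors of weight six whose coordinates have product one.  It is invariant under the
monomial matrices of determinant one and (the computational lemma of this file, checked over an explicit model of the
field with four elements) under the unitary transvection `x ↦ x + (Σ x_i) • (1, …, 1)`.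
-/

set_option autoImplicit false
set_option linter.unusedVariables false

namespace Cfsg.Agent.Helper9.SU6

open Cfsg.Agent.Helper5.G24

/-- the invariant set of `126` isotropic points (in the coordinates of an orthonormal frame): the vectors of weight
two and the vectors of weight six whose coordinates have product one -/
def Oset {K : Type*} [Field K] (v : Fin 6 → K) : Prop :=
  (∃ i j, i ≠ j ∧ v i ≠ 0 ∧ v j ≠ 0 ∧ ∀ k, k ≠ i → k ≠ j → v k = 0) ∨ ((∀ i, v i ≠ 0) ∧ ∏ i, v i = 1)

instance instDecidableOset {K : Type*} [Field K] [DecidableEq K] (v : Fin 6 → K) : Decidable (Oset v) := by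
  unfold Oset; infer_instance

set_option maxRecDepth 100000 in
/-- the computational lemma over the explicit field with four elements -/
theorem lemB_F4 : ∀ a b c d e f : F4, Oset ![a, b, c, d, e, f] →
    Oset (fun i => ![a, b, c, d, e, f] i + (a + b + c + d + e + f)) := by
  decide +kernel

/-- `Oset` is compatible with field isomorphisms -/
theorem Oset_map {K L : Type*} [Field K] [Field L] (ψ : K ≃+* L) (v : Fin 6 → K) :
    Oset (fun i => ψ (v i)) ↔ Oset v := by
  have h0 : ∀ x : K, ψ x ≠ 0 ↔ x ≠ 0 := fun x => by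
    rw [Ne, Ne, map_eq_zero_iff ψ ψ.injective]
  have h0' : ∀ x : K, ψ x = 0 ↔ x = 0 := fun x => map_eq_zero_iff ψ ψ.injective
  have h1 : (∏ i, ψ (v i) = 1) ↔ ∏ i, v i = 1 := by
    rw [← map_prod]
    exact map_eq_one_iff ψ ψ.injective
  unfold Oset
  simp only [h0, h0', h1]

/-- the transvection at the all-ones vector preserves `Oset` (field with four elements) -/
theorem lemB {F : Type*} [Field F] [Fintype F] (hF : Fintype.card F = 2 ^ 2) (v : Fin 6 → F) (hv : Oset v) :
    Oset (fun i => v i + ∑ j, v j) := by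
  have ψ : F ≃+* F4 := FiniteField.ringEquivOfCardEq (by rw [hF, F4.card_eq]; norm_num)
  rw [← Oset_map ψ] at hv ⊢
  have hvec : (fun i => ψ (v i)) = ![ψ (v 0), ψ (v 1), ψ (v 2), ψ (v 3), ψ (v 4), ψ (v 5)] := by
    funext i
    fin_cases i <;> rfl
  have h := lemB_F4 (ψ (v 0)) (ψ (v 1)) (ψ (v 2)) (ψ (v 3)) (ψ (v 4)) (ψ (v 5)) (by rw [← hvec]; exact hv)
  have hsum : ψ (∑ j, v j) = ψ (v 0) + ψ (v 1) + ψ (v 2) + ψ (v 3) + ψ (v 4) + ψ (v 5) := by
    rw [Fin.sum_univ_six]
    simp only [map_add]
  have e : (fun i => ψ (v i + ∑ j, v j)) = fun i => ![ψ (v 0), ψ (v 1), ψ (v 2), ψ (v 3), ψ (v 4), ψ (v 5)] i +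
      (ψ (v 0) + ψ (v 1) + ψ (v 2) + ψ (v 3) + ψ (v 4) + ψ (v 5)) := by
    funext i
    rw [map_add, hsum, ← hvec]
  rw [e]
  exact h

/-- in characteristic two the transvection at the all-ones vector is an involution, so it preserves `Oset` in both
directions -/
theorem lemB_iff {F : Type*} [Field F] [Fintype F] (hF : Fintype.card F = 2 ^ 2) (v : Fin 6 → F) :
    Oset v ↔ Oset (fun i => v i + ∑ j, v j) := by
  refine ⟨lemB hF v, fun h => ?_⟩
  have h2 : (2 : F) = 0 := by
    haveI : CharP F 2 := by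
      obtain ⟨p, hp⟩ := CharP.exists F
      obtain ⟨n, hpp, hn⟩ := FiniteField.card F p
      have : p = 2 := by
        have h1 : p ∣ 2 ^ 2 := by
          rw [← hF, hn]
          exact dvd_pow_self p n.ne_zero
        exact (Nat.prime_dvd_prime_iff_eq hpp Nat.prime_two).1 (hpp.dvd_of_dvd_pow h1)
      rw [← this]; exact hp
    exact CharP.cast_eq_zero F 2
  have h' := lemB hF _ h
  have e : (fun i => (fun i => v i + ∑ j, v j) i + ∑ j, (fun i => v i + ∑ j, v j) j) = v := by
    funext i
    simp only [Finset.sum_add_distrib, Finset.sum_const, Finset.card_univ, Fintype.card_fin, nsmul_eq_mul]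
    push_cast
    linear_combination (4 * ∑ j, v j) * h2
  rw [e] at h'
  exact h'

/-- `Oset` is invariant under monomial transformations of determinant one -/
theorem Oset_mon {K : Type*} [Field K] (σ : Equiv.Perm (Fin 6)) (c v v' : Fin 6 → K) (hc : ∀ i, c i ≠ 0)
    (hprod : ∏ i, c i = 1) (h : ∀ i, v' (σ i) = c i * v i) (hv : Oset v) : Oset v' := by
  rcases hv with ⟨i, j, hij, hi, hj, hk⟩ | ⟨hne, hp⟩
  · left
    refine ⟨σ i, σ j, fun hh => hij (σ.injective hh), ?_, ?_, ?_⟩
    · rw [h]; exact mul_ne_zero (hc i) hi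
    · rw [h]; exact mul_ne_zero (hc j) hj
    · intro k hki hkj
      have hk' : k = σ (σ.symm k) := (σ.apply_symm_apply k).symm
      rw [hk', h, hk (σ.symm k), mul_zero]
      · intro hh; apply hki; rw [hk', hh]
      · intro hh; apply hkj; rw [hk', hh]
  · right
    refine ⟨fun i => ?_, ?_⟩
    · have hi' : i = σ (σ.symm i) := (σ.apply_symm_apply i).symm
      rw [hi', h]
      exact mul_ne_zero (hc _) (hne _)
    · rw [← Equiv.prod_comp σ]
      simp only [h]
      rw [Finset.prod_mul_distrib, hprod, hp, one_mul]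

/-- a vector of weight two lies in `Oset` -/
theorem Oset_pair {K : Type*} [Field K] {i j : Fin 6} (hij : i ≠ j) (v : Fin 6 → K) (hi : v i ≠ 0) (hj : v j ≠ 0)
    (hk : ∀ k, k ≠ i → k ≠ j → v k = 0) : Oset v :=
  Or.inl ⟨i, j, hij, hi, hj, hk⟩

/-- a vector with at least three non-zero and at least one zero coordinate does not lie in `Oset` -/
theorem not_Oset {K : Type*} [Field K] (v : Fin 6 → K) {i₁ i₂ i₃ i₀ : Fin 6} (h12 : i₁ ≠ i₂) (h13 : i₁ ≠ i₃)
    (h23 : i₂ ≠ i₃) (h1 : v i₁ ≠ 0) (h2 : v i₂ ≠ 0) (h3 : v i₃ ≠ 0) (h0 : v i₀ = 0) : ¬ Oset v := by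
  rintro (⟨i, j, hij, hi, hj, hk⟩ | ⟨hne, -⟩)
  · have k1 : i₁ = i ∨ i₁ = j := by
      by_contra hcon
      push Not at hcon
      exact h1 (hk i₁ hcon.1 hcon.2)
    have k2 : i₂ = i ∨ i₂ = j := by
      by_contra hcon
      push Not at hcon
      exact h2 (hk i₂ hcon.1 hcon.2)
    have k3 : i₃ = i ∨ i₃ = j := by
      by_contra hcon
      push Not at hcon
      exact h3 (hk i₃ hcon.1 hcon.2)
    rcases k1 with k1 | k1 <;> rcases k2 with k2 | k2 <;> rcases k3 with k3 | k3
    · exact h12 (k1.trans k2.symm)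
    · exact h12 (k1.trans k2.symm)
    · exact h13 (k1.trans k3.symm)
    · exact h23 (k2.trans k3.symm)
    · exact h23 (k2.trans k3.symm)
    · exact h13 (k1.trans k3.symm)
    · exact h12 (k1.trans k2.symm)
    · exact h12 (k1.trans k2.symm)
  · exact hne i₀ h0

end Cfsg.Agent.Helper9.SU6
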