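import Mathlib
import Cfsg.Prelude.Def_GeometricClasses
import Cfsg.Prelude.Def_LieClassical
import Cfsg.Agent.Helper9.SU6FrameA
import Cfsg.Agent.Helper9.AschPPU41B
import Cfsg.Agent.Helper9.AschPPT7B
import Cfsg.Agent.Helper7.AschNotSUC
import Cfsg.Agent.Helper3.AschCUV8a

/-!
# `SU_6(2)`: the frame stabiliser is not maximal, part B (helper9)

In `SU_6(2)` the stabiliser `3^5 : S_6` of an orthonormal frame is contained in the stabiliser (`U_4(3) : 2`) of the
set `Oset` of `126` isotropic points, which also contains the transvection at the sum of the frame vectors but is not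
the whole of `SU_6(2)`.  Hence neither the stabiliser of a decomposition into six non-degenerate lines nor (by the
canonical refinement over the field with four elements) the stabiliser of a decomposition into three non-degenerate
planes is maximal.
-/

set_option autoImplicit false
set_option linter.unusedVariables false
set_option linter.unusedSectionVars false

namespace Cfsg.Agent.Helper9.SU6

open Cfsg Cfsg.Geo Cfsg.Agent.Helper7.Herm Cfsg.Agent.Helper9.AschPP
open Cfsg.Agent.Helper8.GUOrder Cfsg.Agent.Helper8.SURoot Cfsg.Agent.Helper8.AutSU Cfsg.Agent.Helper7.SUSimp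
open scoped MatrixGroups Matrix

variable {F : Type*} [Field F] [Fintype F]

theorem two_eq_zero (hF : Fintype.card F = 2 ^ 2) : (2 : F) = 0 := by
  have h := add_pow_q hF (1 : F) 1
  linear_combination h

/-- the subgroup of the general linear group preserving `Oset` in the coordinates of the basis `b` -/
def Mgrp (b : Module.Basis (Fin 6) F (Fin 6 → F)) : Subgroup (GL (Fin 6) F) where
  carrier := {g | ∀ x, Oset (b.equivFun x) ↔ Oset (b.equivFun ((g : Matrix (Fin 6) (Fin 6) F) *ᵥ x))}
  one_mem' := by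
    intro x
    rw [Units.val_one, Matrix.one_mulVec]
  mul_mem' := by
    intro a c ha hc x
    rw [Units.val_mul, ← Matrix.mulVec_mulVec]
    exact (hc x).trans (ha _)
  inv_mem' := by
    intro a ha x
    have h := ha (((a⁻¹ : GL (Fin 6) F) : Matrix (Fin 6) (Fin 6) F) *ᵥ x)
    rw [Matrix.mulVec_mulVec, ← Units.val_mul, mul_inv_cancel, Units.val_one, Matrix.one_mulVec] at h
    exact h.symm

theorem mem_Mgrp (b : Module.Basis (Fin 6) F (Fin 6 → F)) (g : GL (Fin 6) F) :
    g ∈ Mgrp b ↔ ∀ x, Oset (b.equivFun x) ↔ Oset (b.equivFun ((g : Matrix (Fin 6) (Fin 6) F) *ᵥ x)) := Iff.rfl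

/-- the unitary transvection at an isotropic vector -/
theorem exists_transvection (hF : Fintype.card F = 2 ^ 2) (r : Fin 6 → F) (hr : hermForm 6 F 2 r r = 0) :
    ∃ g : GL (Fin 6) F, g ∈ GU 6 F 2 ⊓ specialLinear (Fin 6) F ∧
      ∀ x, (g : Matrix (Fin 6) (Fin 6) F) *ᵥ x = x + hermForm 6 F 2 x r • r := by
  haveI : Fact (Fintype.card F = 2 ^ 2) := ⟨hF⟩
  have h1 : (1 : F) ^ 2 + 1 = 0 := by
    rw [one_pow]
    linear_combination two_eq_zero hF
  refine ⟨Cfsg.Agent.S5653.toGL 6 F 2 (TU 2 r 1), Cfsg.Agent.S5653.toGL_mem _, fun x => ?_⟩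
  change mt (TU 2 r 1) *ᵥ x = _
  rw [TU_mulVec hr h1, one_mul]

/-- the unitary transvection at an isotropic vector, in the coordinates of an orthonormal basis -/
theorem exists_transvection_coord (hF : Fintype.card F = 2 ^ 2) (b : Module.Basis (Fin 6) F (Fin 6 → F))
    (hON : ∀ i j, hermForm 6 F 2 (b i) (b j) = if i = j then 1 else 0) (ρ : Fin 6 → F)
    (hρ : ∑ i, ρ i * ρ i ^ 2 = 0) :
    ∃ g : GL (Fin 6) F, g ∈ GU 6 F 2 ⊓ specialLinear (Fin 6) F ∧
      ∀ x, b.equivFun ((g : Matrix (Fin 6) (Fin 6) F) *ᵥ x) =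
        b.equivFun x + (∑ i, b.equivFun x i * ρ i ^ 2) • ρ := by
  have hr : hermForm 6 F 2 (b.equivFun.symm ρ) (b.equivFun.symm ρ) = 0 := by
    rw [Cfsg.Agent.Helper9.AschPPU.hermForm_of_orthonormal hF b hON, LinearEquiv.apply_symm_apply]
    exact hρ
  obtain ⟨g, hgG, hg⟩ := exists_transvection hF _ hr
  refine ⟨g, hgG, fun x => ?_⟩
  rw [hg, map_add, map_smul, LinearEquiv.apply_symm_apply,
    Cfsg.Agent.Helper9.AschPPU.hermForm_of_orthonormal hF b hON, LinearEquiv.apply_symm_apply]

/-- the coefficients of a monomial transformation of determinant one have product one (characteristic two) -/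
theorem prod_eq_one_of_mon (h2 : (2 : F) = 0) (b : Module.Basis (Fin 6) F (Fin 6 → F))
    (g : Matrix (Fin 6) (Fin 6) F) (hdet : g.det = 1) (σ : Equiv.Perm (Fin 6)) (c : Fin 6 → F)
    (hmon : ∀ x i, b.equivFun (g *ᵥ x) (σ i) = c i * b.equivFun x i) : ∏ i, c i = 1 := by
  classical
  have hM : LinearMap.toMatrix b b (Matrix.toLin' g) = mon σ c := by
    ext i j
    obtain ⟨i', rfl⟩ := σ.surjective i
    rw [LinearMap.toMatrix_apply, Matrix.toLin'_apply, mon_apply]
    have h := hmon (b j) i'
    rw [Module.Basis.equivFun_apply] at h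
    rw [h, Module.Basis.equivFun_self]
    by_cases hji : j = i'
    · subst hji
      rw [if_pos rfl, if_pos rfl, mul_one]
    · rw [if_neg hji, if_neg (fun hh => hji (σ.injective hh).symm), mul_zero]
  have hd : (mon σ c).det = 1 := by
    rw [← hM, LinearMap.det_toMatrix, LinearMap.det_toLin', hdet]
  rw [det_mon] at hd
  rcases Int.units_eq_one_or (Equiv.Perm.sign σ) with hs | hs
  · rw [hs] at hd
    simpa using hd
  · rw [hs] at hd
    have h1 : (-1 : F) = 1 := by linear_combination -h2
    simpa [h1] using hd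

/-- **the stabiliser of a decomposition of the unitary space `F_4^6` into six non-degenerate lines is not maximal in
`SU_6(2)`** -/
theorem frame_not_maximal (hF : Fintype.card F = 2 ^ 2) (D : Fin 6 → Submodule F (Fin 6 → F))
    (hD : IsNondegenerateMDecomposition (hermForm 6 F 2) 1 D) :
    ¬ IsMaximalIn (GU 6 F 2 ⊓ specialLinear (Fin 6) F)
      (decompositionStabilizer D ⊓ (GU 6 F 2 ⊓ specialLinear (Fin 6) F)) := by
  classical
  rintro ⟨-, hmax⟩
  obtain ⟨b, hb1, hb2, hON⟩ := Cfsg.Agent.Helper9.AschPPU.exists_orthonormal_line_basis hF D hD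
  have h2 : (2 : F) = 0 := two_eq_zero hF
  have key : ∀ g ∈ decompositionStabilizer D ⊓ (GU 6 F 2 ⊓ specialLinear (Fin 6) F), ∀ x,
      Oset (b.equivFun x) → Oset (b.equivFun ((g : Matrix (Fin 6) (Fin 6) F) *ᵥ x)) := by
    rintro g ⟨hgD, hgU, hg1⟩ x hx
    obtain ⟨σ, c, hc, hmon⟩ := Cfsg.Agent.Helper7.Asch.exists_monomial b hb1 hb2 hgD
    have hdet : (g : Matrix (Fin 6) (Fin 6) F).det = 1 := by
      have h1 : Matrix.GeneralLinearGroup.det g = 1 := MonoidHom.mem_ker.1 hg1
      have := congrArg Units.val h1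
      simpa using this
    exact Oset_mon σ c _ _ hc (prod_eq_one_of_mon h2 b _ hdet σ c hmon) (hmon x) hx
  have hHM : decompositionStabilizer D ⊓ (GU 6 F 2 ⊓ specialLinear (Fin 6) F) ≤
      Mgrp b ⊓ (GU 6 F 2 ⊓ specialLinear (Fin 6) F) := by
    intro g hg
    refine ⟨(mem_Mgrp b g).2 ?_, hg.2⟩
    intro x
    refine ⟨key g hg x, fun h => ?_⟩
    have h' := key g⁻¹ (Subgroup.inv_mem _ hg) _ h
    rwa [Matrix.mulVec_mulVec, ← Units.val_mul, inv_mul_cancel, Units.val_one, Matrix.one_mulVec] at h'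
  rcases hmax _ hHM inf_le_right with h | h
  · -- the transvection at the sum of the frame vectors preserves `Oset` but is not monomial
    obtain ⟨t, htG, ht⟩ := exists_transvection_coord hF b hON (fun _ => 1) (by
      simp only [one_pow, mul_one, Finset.sum_const, Finset.card_univ, Fintype.card_fin, nsmul_eq_mul]
      push_cast
      linear_combination 3 * h2)
    have ht' : ∀ x, b.equivFun ((t : Matrix (Fin 6) (Fin 6) F) *ᵥ x) =
        fun i => b.equivFun x i + ∑ j, b.equivFun x j := by
      intro x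
      rw [ht]
      funext i
      simp only [one_pow, mul_one, Pi.add_apply, Pi.smul_apply, smul_eq_mul]
    have htM : t ∈ Mgrp b ⊓ (GU 6 F 2 ⊓ specialLinear (Fin 6) F) := by
      refine ⟨(mem_Mgrp b t).2 ?_, htG⟩
      intro x
      rw [ht']
      exact lemB_iff hF _
    rw [h] at htM
    obtain ⟨σ, c, hc, hmon⟩ := Cfsg.Agent.Helper7.Asch.exists_monomial b hb1 hb2 htM.1
    have hval : ∀ k : Fin 6, k ≠ 0 → σ k ≠ 0 → False := by
      intro k hk hσk
      have h1 := hmon (b 0) k
      rw [ht'] at h1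
      beta_reduce at h1
      rw [Module.Basis.equivFun_self, if_neg (fun hh => hσk hh.symm), zero_add,
        Module.Basis.equivFun_self, if_neg (fun hh => hk hh.symm), mul_zero, Finset.sum_eq_single 0] at h1
      · rw [Module.Basis.equivFun_self, if_pos rfl] at h1
        exact one_ne_zero h1
      · intro j _ hj
        rw [Module.Basis.equivFun_self, if_neg (fun hh => hj hh.symm)]
      · intro hh; exact absurd (Finset.mem_univ _) hh
    by_cases hσ : σ 1 = 0
    · refine hval 2 (by decide) ?_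
      intro h2'
      have := σ.injective (hσ.trans h2'.symm)
      exact absurd this (by decide)
    · exact hval 1 (by decide) hσ
  · -- a transvection of `SU_6(2)` not preserving `Oset`
    obtain ⟨g₀, hgG, hg⟩ := exists_transvection_coord hF b hON ![1, 1, 1, 1, 0, 0] (by
      rw [Fin.sum_univ_six]
      simp
      linear_combination 2 * h2)
    have hgM : g₀ ∈ Mgrp b := by
      have : g₀ ∈ Mgrp b ⊓ (GU 6 F 2 ⊓ specialLinear (Fin 6) F) := by
        rw [h]; exact hgG
      exact this.1
    rw [mem_Mgrp] at hgM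
    have h1 := (hgM (b.equivFun.symm ![1, 0, 0, 0, 1, 0])).1 (by
      rw [LinearEquiv.apply_symm_apply]
      exact Oset_pair (i := 0) (j := 4) (by decide) _ (by simp) (by simp) (by
        intro k hk0 hk4
        fin_cases k <;> simp at hk0 hk4 ⊢))
    rw [hg, LinearEquiv.apply_symm_apply] at h1
    have hs : (∑ i, (![1, 0, 0, 0, 1, 0] : Fin 6 → F) i * (![1, 1, 1, 1, 0, 0] : Fin 6 → F) i ^ 2) = 1 := by
      rw [Fin.sum_univ_six]
      simp
    rw [hs, one_smul] at h1
    refine not_Oset _ (i₁ := 1) (i₂ := 2) (i₃ := 3) (i₀ := 0) (by decide) (by decide) (by decide) ?_ ?_ ?_ ?_ h1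
    · simp
    · simp
    · simp
    · simp
      linear_combination h2

/-- **the stabiliser of a decomposition of the unitary space `F_4^6` into three non-degenerate planes is not maximal
in `SU_6(2)`** -/
theorem planes_not_maximal (hF : Fintype.card F = 2 ^ 2) (D : Fin 3 → Submodule F (Fin 6 → F))
    (hD : IsNondegenerateMDecomposition (hermForm 6 F 2) 2 D) :
    ¬ IsMaximalIn (GU 6 F 2 ⊓ specialLinear (Fin 6) F)
      (decompositionStabilizer D ⊓ (GU 6 F 2 ⊓ specialLinear (Fin 6) F)) := by
  obtain ⟨D', hD', hle⟩ := Cfsg.Agent.Helper3.AschCU.refine_two_decomp hF D hD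
  rintro ⟨hlt, hmax⟩
  have hHM : decompositionStabilizer D ⊓ (GU 6 F 2 ⊓ specialLinear (Fin 6) F) ≤
      decompositionStabilizer D' ⊓ (GU 6 F 2 ⊓ specialLinear (Fin 6) F) :=
    fun g hg => ⟨hle ⟨hg.1, hg.2.1⟩, hg.2⟩
  rcases hmax _ hHM inf_le_right with h | h
  · apply frame_not_maximal hF D' hD'
    rw [h]
    exact ⟨hlt, hmax⟩
  · refine Cfsg.Agent.Helper7.AschU.not_le_decompositionStabilizer_SU 2 hF (by norm_num) D' hD' ?_
    rw [← h]
    exact inf_le_left

end Cfsg.Agent.Helper9.SU6
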