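import Cfsg.Agent.Helper3.TensOmBA

set_option autoImplicit false
set_option linter.unusedSectionVars false
set_option linter.unusedVariables false

/-! S5704, Leaf D (helper9), part 4: recognition of a symplectic transvection modulo `w₀`
(pure linear algebra). -/

namespace Cfsg.Agent.Helper9.TensSD

open Module Cfsg.Agent.Helper3.TensOm

/-- an endomorphism `B₀` preserving the alternating form `f₂` on the perpendicular space of `w₀`
and such that `B₀ - 1` has rank at most one there modulo `w₀` is a symplectic transvection there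
modulo `w₀`. -/
theorem exists_transvection_mod {F W : Type*} [Field F] [AddCommGroup W] [Module F W]
    (f₂ : LinearMap.BilinForm F W) (halt₂ : ∀ w, f₂ w w = 0)
    (hnd₂ : ∀ w, (∀ y, f₂ w y = 0) → w = 0)
    {w₀ : W} (hw₀ : w₀ ≠ 0) (B₀ : W →ₗ[F] W)
    (hiso : ∀ w w', f₂ w w₀ = 0 → f₂ w' w₀ = 0 → f₂ (B₀ w) (B₀ w') = f₂ w w')
    (hperp : ∀ w, f₂ w w₀ = 0 → f₂ (B₀ w) w₀ = 0)
    (hdep : ∀ w₁ w₂, f₂ w₁ w₀ = 0 → f₂ w₂ w₀ = 0 →
      ∃ a b c : F, (a, b, c) ≠ (0, 0, 0) ∧ a • (B₀ w₁ - w₁) + b • (B₀ w₂ - w₂) + c • w₀ = 0) :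
    ∃ (w₃ : W) (c : F), f₂ w₃ w₀ = 0 ∧
      ∀ w, f₂ w w₀ = 0 → ∃ e : F, B₀ w = w + (c * f₂ w w₃) • w₃ + e • w₀ := by
  by_cases hcase : ∀ w, f₂ w w₀ = 0 → ∃ e : F, B₀ w - w = e • w₀
  · refine ⟨0, 0, by simp, fun w hw => ?_⟩
    obtain ⟨e, he⟩ := hcase w hw
    refine ⟨e, ?_⟩
    rw [← he]; simp
  · push Not at hcase
    obtain ⟨w₁, hw₁, hne⟩ := hcase
    set w₃ := B₀ w₁ - w₁ with hw₃def
    have hw₃ : f₂ w₃ w₀ = 0 := by
      rw [hw₃def, map_sub, LinearMap.sub_apply, hperp w₁ hw₁, hw₁, sub_zero]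
    have hw₃' : f₂ w₀ w₃ = 0 := alt_perp_symm f₂ halt₂ hw₃
    -- every `B₀ w - w` is a combination of `w₃` and `w₀`
    have hcomb : ∀ w, f₂ w w₀ = 0 → ∃ lam mu : F, B₀ w - w = lam • w₃ + mu • w₀ := by
      intro w hw
      obtain ⟨a, b, c, habc, hrel⟩ := hdep w₁ w hw₁ hw
      have hb : b ≠ 0 := by
        rintro rfl
        rw [zero_smul, add_zero] at hrel
        by_cases ha : a = 0
        · subst ha
          rw [zero_smul, zero_add] at hrel
          rcases smul_eq_zero.mp hrel with h1 | h1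
          · apply habc; rw [h1]
          · exact hw₀ h1
        · apply hne (-(a⁻¹ * c))
          have h1 : a • w₃ = -(c • w₀) := eq_neg_of_add_eq_zero_left hrel
          have h2 := congrArg (fun x => a⁻¹ • x) h1
          simp only [smul_smul, inv_mul_cancel₀ ha, one_smul, smul_neg] at h2
          rw [h2, neg_smul]
      refine ⟨-(b⁻¹ * a), -(b⁻¹ * c), ?_⟩
      have h1 : b • (B₀ w - w) = -(a • w₃) - c • w₀ := by
        have : a • w₃ + b • (B₀ w - w) + c • w₀ = 0 := hrel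
        have h3 : b • (B₀ w - w) = (a • w₃ + b • (B₀ w - w) + c • w₀) - a • w₃ - c • w₀ := by abel
        rw [h3, this]; abel
      have h2 := congrArg (fun x => b⁻¹ • x) h1
      simp only [smul_smul, inv_mul_cancel₀ hb, one_smul, smul_sub, smul_neg] at h2
      rw [h2, neg_smul, neg_smul]; abel
    set κ := f₂ w₁ w₃ with hκ
    -- the relation from the isometry property
    have hrel : ∀ w, f₂ w w₀ = 0 → ∀ lam mu : F, B₀ w - w = lam • w₃ + mu • w₀ →
        f₂ w w₃ = lam * κ := by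
      intro w hw lam mu hD
      have h1 := hiso w w₁ hw hw₁
      have e1 : B₀ w = w + (lam • w₃ + mu • w₀) := by rw [← hD]; abel
      have e2 : B₀ w₁ = w₁ + w₃ := by rw [hw₃def]; abel
      have hw' : f₂ w₀ w₁ = 0 := alt_perp_symm f₂ halt₂ hw₁
      have hsk : f₂ w₃ w₁ = -κ := by rw [hκ, alt_skew f₂ halt₂]
      rw [e1, e2] at h1
      simp only [map_add, map_smul, LinearMap.add_apply, LinearMap.smul_apply, smul_eq_mul,
        halt₂ w₃, hw₃', hw₃, hw', hw, hsk, halt₂ w₀] at h1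
      linear_combination h1
    have hκ0 : κ ≠ 0 := by
      intro h0
      obtain ⟨v, hv1, hv2⟩ := exists_perp_not_perp f₂ hnd₂ hw₀ (x' := w₃) hne
      have hv : f₂ v w₀ = 0 := alt_perp_symm f₂ halt₂ hv1
      obtain ⟨lam, mu, hD⟩ := hcomb v hv
      have := hrel v hv lam mu hD
      rw [h0, mul_zero] at this
      exact hv2 (alt_perp_symm f₂ halt₂ this)
    refine ⟨w₃, κ⁻¹, hw₃, fun w hw => ?_⟩
    obtain ⟨lam, mu, hD⟩ := hcomb w hw
    have h1 := hrel w hw lam mu hD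
    refine ⟨mu, ?_⟩
    have h2 : κ⁻¹ * f₂ w w₃ = lam := by
      rw [h1, mul_comm lam, ← mul_assoc, inv_mul_cancel₀ hκ0, one_mul]
    rw [h2, add_assoc, ← hD]; abel

end Cfsg.Agent.Helper9.TensSD
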