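import Cfsg.Agent.Helper9.TensSD3
import Cfsg.Agent.Helper9.TensSD4
import Cfsg.Agent.Helper1.TensSDRank
import Cfsg.Agent.Helper8.TensSB

set_option autoImplicit false
set_option linter.unusedSectionVars false
set_option linter.unusedVariables false

/-! S5704, Leaf D (helper9), part 5: recognition of symplectic root elements among the tensors
(L3-S) and the hypothesis `RootHypS` of the max-intersection argument from (Q-S). -/

namespace Cfsg.Agent.Helper9.TensSD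

open Module Cfsg.Agent.Helper7.ExtF Cfsg.Agent.Helper8.OrthOrder Cfsg.Agent.Helper8.ExtO
  Cfsg.Agent.Helper8.Siegel Cfsg.Agent.Helper8.SiegelGroup Cfsg.Agent.Helper3.TensOm
  Cfsg.Agent.Helper8.Tens

variable {F : Type*} [Field F] {U W V : Type*} [AddCommGroup U] [Module F U]
  [AddCommGroup W] [Module F W] [AddCommGroup V] [Module F V]
  {t : U →ₗ[F] W →ₗ[F] V} {Q : QuadraticForm F V} {f₁ : LinearMap.BilinForm F U}
  {f₂ : LinearMap.BilinForm F W} {M : Subgroup ↥(Isom Q)}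
  [FiniteDimensional F U] [FiniteDimensional F W] [FiniteDimensional F V]

/-- (L3-S) a quadratic tensor isometry whose displacement space has the dimension of `U` is a
symplectic root element of the second factor. -/
theorem isRootS_of_isTens' (ht : IsTensorProduct t) (h : Hyp t Q f₁ f₂ M) (hU : 1 ≤ finrank F U)
    (hab : finrank F U < finrank F W) {g : V ≃ₗ[F] V} (hg : IsTens t g) (hq : Quad g)
    (hr : finrank F ↥(disp g) = finrank F U) (hiso : ∀ v, Q (g v) = Q v) :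
    IsRootS ht f₂ h.alt₂ g := by
  obtain ⟨w, l, hlw, hw, hl, rfl⟩ := isRootB_of_isTens ht hU hab hg hq hr
  obtain ⟨u₀, hu₀⟩ := exists_ne_zero_of_one_le (F := F) (M := U) hU
  obtain ⟨u₁, hu₁⟩ := exists_pair f₁ h.nd₁ hu₀
  have hrel : ∀ w₁ w₂, l w₂ * f₂ w₁ w + l w₁ * f₂ w w₂ = 0 := by
    intro w₁ w₂
    have hp := Cfsg.Agent.Helper8.WittQuad.polar_isometry Q _ hiso (t u₀ w₁) (t u₁ w₂)
    rw [xB_t, xB_t, h.pol, h.pol, hu₁, one_mul, one_mul] at hp
    simp only [map_add, map_smul, LinearMap.add_apply, LinearMap.smul_apply, smul_eq_mul,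
      h.alt₂ w] at hp
    linear_combination hp
  have hex : ∃ w₂, l w₂ = 1 := by
    have : ∃ w', l w' ≠ 0 := by
      by_contra hcon
      push Not at hcon
      exact hl (LinearMap.ext hcon)
    obtain ⟨w', hw'⟩ := this
    exact ⟨(l w')⁻¹ • w', by rw [map_smul, smul_eq_mul, inv_mul_cancel₀ hw']⟩
  obtain ⟨w₂, hw₂⟩ := hex
  set κ := f₂ w₂ w with hκ
  have hl1 : ∀ w₁, f₂ w₁ w = l w₁ * κ := by
    intro w₁
    have := hrel w₁ w₂
    rw [hw₂, one_mul, alt_skew f₂ h.alt₂ w w₂, ← hκ] at this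
    linear_combination this
  have hκ0 : κ ≠ 0 := by
    intro h0
    apply hw
    apply h.nd₂
    intro y
    rw [alt_skew f₂ h.alt₂, hl1 y, h0, mul_zero, neg_zero]
  have hl2 : l = lw f₂ w κ⁻¹ := by
    apply LinearMap.ext
    intro w₁
    rw [lw_apply, hl1 w₁, mul_comm (l w₁), ← mul_assoc, inv_mul_cancel₀ hκ0, one_mul]
  subst hl2
  exact ⟨w, κ⁻¹, hw, inv_ne_zero hκ0, rfl⟩

/-- **Leaf D**: the hypothesis `RootHypS` from (Q-S). -/
theorem rootHypS_of_QS (ht : IsTensorProduct t) (h : Hyp t Q f₁ f₂ M) (ha : 2 ≤ finrank F U)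
    (hab : finrank F U + 2 ≤ finrank F W) (hno : ¬ SG Q ≤ M)
    (hQS : ∀ q ∈ XM M, ∀ w₀ : W, w₀ ≠ 0 → (∀ x ∈ fib t w₀, q x = x) →
      (∀ x ∈ Sperp ht f₂ w₀, q x - x ∈ fib t w₀) → IsTens t q) :
    RootHypS ht f₂ h.alt₂ (XM M) := by
  have hU : 1 ≤ finrank F U := by omega
  intro g hg x hx w₀ hw₀ hst
  obtain ⟨w, c, hw, hc, rfl⟩ := hx
  set z := g * yB ht f₂ h.alt₂ w c * g⁻¹ with hzdef
  have hz : z ∈ XM M := (XM M).mul_mem ((XM M).mul_mem hg (yB_mem ht h w c)) ((XM M).inv_mem hg)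
  have hq : Quad z := quad_conj (quad_xB ht w _ _) g
  have hr : finrank F ↥(disp z) = finrank F U := by
    rw [hzdef, disp_conj, finrank_img, disp_yB ht h.alt₂ h.nd₂ hw hc, finrank_fib ht hw]
  obtain ⟨A, B₀, hA, hB₀, hC1⟩ := exists_AB ht h hU hQS hz hw₀ hst
  have hA1 : ∀ u, A u = u := A_eq_one ht h hab hq hr hw₀ hA hC1
  have hfix : ∀ u, z (t u w₀) = t u w₀ := by
    intro u; rw [hA, hA1]
  have hC1' : ∀ u w', f₂ w' w₀ = 0 → z (t u w') - t u (B₀ w') ∈ fib t w₀ := by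
    intro u w' hw'
    have := hC1 u w' hw'
    rwa [hA1] at this
  obtain ⟨w₃, c₃, hw₃, hB⟩ := exists_transvection_mod f₂ h.alt₂ h.nd₂ hw₀ B₀
    (fun w₁ w₂ h1 h2 => B₀_iso ht h hU hz hw₀ hst hC1' h1 h2)
    (fun w₁ h1 => B₀_perp ht h hU hz hw₀ hst hC1' h1)
    (fun w₁ w₂ h1 h2 => Cfsg.Agent.Helper1.TensSDRank.dep_of_rank ht hU hr hw₀ hC1' h1 h2)
  have hT : IsTens t z := isTens_of_transvection ht h hQS hz hw₀ hfix hC1' hw₃ hB
  exact isRootS_of_isTens' ht h hU (by omega) hT hq hr (isom_of_mem_XM hz)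

end Cfsg.Agent.Helper9.TensSD
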