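import Mathlib
import Cfsg.Prelude.Def_MonsterType
import Cfsg.Agent.Helper9.Core

set_option autoImplicit false

namespace Cfsg.Agent.Helper9

/-- An extraspecial 2-group is a 2-group. -/
theorem isPGroup_of_isExtraspecial {G : Type*} [Group G] (Q : Subgroup G)
    (hL1 : Cfsg.IsExtraspecial 2 ↥Q) : IsPGroup 2 ↥Q := hL1.1.1

/-- In the large-extraspecial setting, an odd-order subgroup normalized by `Q` and centralizing
the centre of `Q` is trivial. -/
theorem eq_bot_of_le_centralizer_center {G : Type*} [Group G] [Finite G] (Q : Subgroup G)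
    (hL1 : Cfsg.IsExtraspecial 2 ↥Q)
    (hL2 : Subgroup.centralizer (Q : Set G) = ((Subgroup.center ↥Q).map Q.subtype))
    (hL3 : Subgroup.centralizer (((Subgroup.center ↥Q).map Q.subtype) : Set G)
      ≤ Subgroup.normalizer (Q : Set G))
    (K : Subgroup G) (hK : Odd (Nat.card K)) (hQK : Q ≤ Subgroup.normalizer (K : Set G))
    (hKZ : K ≤ Subgroup.centralizer (((Subgroup.center ↥Q).map Q.subtype) : Set G)) : K = ⊥ := by
  have hQ2 : IsPGroup 2 ↥Q := isPGroup_of_isExtraspecial Q hL1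
  rw [eq_bot_iff]
  intro k hk
  rw [Subgroup.mem_bot]
  have hkN : k ∈ Subgroup.normalizer (Q : Set G) := hL3 (hKZ hk)
  -- k centralizes Q
  have hkC : k ∈ Subgroup.centralizer (Q : Set G) := by
    rw [Subgroup.mem_centralizer_iff]
    intro q hq
    have hqN : q ∈ Subgroup.normalizer (K : Set G) := hQK hq
    -- commutator q * k * q⁻¹ * k⁻¹ lies in K and in Q
    have h1 : q * k * q⁻¹ * k⁻¹ ∈ K := by
      have : q * k * q⁻¹ ∈ K := (Subgroup.mem_normalizer_iff.mp hqN k).mp hk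
      exact K.mul_mem this (K.inv_mem hk)
    have h2 : q * k * q⁻¹ * k⁻¹ ∈ Q := by
      have : k * q⁻¹ * k⁻¹ ∈ Q := (Subgroup.mem_normalizer_iff.mp hkN q⁻¹).mp (Q.inv_mem hq)
      have h3 : q * (k * q⁻¹ * k⁻¹) ∈ Q := Q.mul_mem hq this
      simpa [mul_assoc] using h3
    have h4 := eq_one_of_mem_odd_of_mem_two hK hQ2 h1 h2
    have : q * k = k * q := by
      have h5 : q * k * q⁻¹ * k⁻¹ * (k * q) = k * q := by rw [h4, one_mul]
      rw [← h5]; group
    exact this
  rw [hL2] at hkC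
  have hkQ : k ∈ Q := by
    obtain ⟨y, _, rfl⟩ := hkC
    exact y.2
  exact eq_one_of_mem_odd_of_mem_two hK hQ2 hk hkQ

/-- If the centre of `Q` lies in a normal 2-subgroup `N` of a subgroup containing `K`... here:
an odd-order subgroup `K` normalized by `Z`, with `Z` inside a 2-subgroup `N` normalized by `K`,
is centralized by `Z`. -/
theorem le_centralizer_of_le_two_group {G : Type*} [Group G] [Finite G] (Z N K : Subgroup G)
    (hK : Odd (Nat.card K)) (hN : IsPGroup 2 ↥N) (hZN : Z ≤ N)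
    (hZK : Z ≤ Subgroup.normalizer (K : Set G)) (hKN : K ≤ Subgroup.normalizer (N : Set G)) :
    K ≤ Subgroup.centralizer (Z : Set G) := by
  intro k hk
  rw [Subgroup.mem_centralizer_iff]
  intro z hz
  have hzN : z ∈ Subgroup.normalizer (K : Set G) := hZK hz
  have hkN : k ∈ Subgroup.normalizer (N : Set G) := hKN hk
  have h1 : z * k * z⁻¹ * k⁻¹ ∈ K := by
    have : z * k * z⁻¹ ∈ K := (Subgroup.mem_normalizer_iff.mp hzN k).mp hk
    exact K.mul_mem this (K.inv_mem hk)
  have h2 : z * k * z⁻¹ * k⁻¹ ∈ N := by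
    have : k * z⁻¹ * k⁻¹ ∈ N := (Subgroup.mem_normalizer_iff.mp hkN z⁻¹).mp (N.inv_mem (hZN hz))
    have h3 : z * (k * z⁻¹ * k⁻¹) ∈ N := N.mul_mem (hZN hz) this
    simpa [mul_assoc] using h3
  have h4 := eq_one_of_mem_odd_of_mem_two hK hN h1 h2
  have h5 : z * k * z⁻¹ * k⁻¹ * (k * z) = k * z := by rw [h4, one_mul]
  rw [← h5]; group

end Cfsg.Agent.Helper9
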