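import Mathlib
import Cfsg.Prelude.Def_MonsterType
import Cfsg.Agent.Helper9.LargeExtra

set_option autoImplicit false

namespace Cfsg.Agent.Helper9

open scoped commutatorElement

/-- An involution normalizing a finite subgroup `K` and fixing no non-trivial element of it
inverts every element of `K`. -/
theorem fpf_invol_inverts {G : Type*} [Group G] (K : Subgroup G) [Finite K] (t : G)
    (ht : t * t = 1) (htK : t ∈ Subgroup.normalizer (K : Set G))
    (hfix : ∀ k ∈ K, t * k = k * t → k = 1) : ∀ k ∈ K, t * k * t⁻¹ = k⁻¹ := by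
  have htinv : t⁻¹ = t := inv_eq_of_mul_eq_one_left ht
  have hconj : ∀ k ∈ K, t * k * t⁻¹ ∈ K := fun k hk =>
    (Subgroup.mem_normalizer_iff.mp htK k).mp hk
  let f : K → K := fun k => ⟨(k : G)⁻¹ * (t * k * t⁻¹), K.mul_mem (K.inv_mem k.2) (hconj k k.2)⟩
  have hinj : Function.Injective f := by
    intro k l hkl
    have h1 : (k : G)⁻¹ * (t * k * t⁻¹) = (l : G)⁻¹ * (t * l * t⁻¹) := congrArg Subtype.val hkl
    have h2 : t * ((l : G) * (k : G)⁻¹) = ((l : G) * (k : G)⁻¹) * t := by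
      have h3 : (l : G) * (k : G)⁻¹ = t * l * t⁻¹ * (t * k * t⁻¹)⁻¹ := by
        have : (l : G) * ((k : G)⁻¹ * (t * k * t⁻¹)) = (l : G) * ((l : G)⁻¹ * (t * l * t⁻¹)) := by
          rw [h1]
        have h4 : (l : G) * (k : G)⁻¹ * (t * k * t⁻¹) = t * l * t⁻¹ := by
          rw [mul_assoc, this]; group
        rw [← h4]; group
      have h5 : t * l * t⁻¹ * (t * k * t⁻¹)⁻¹ = t * ((l : G) * (k : G)⁻¹) * t⁻¹ := by group
      rw [h5] at h3
      calc t * ((l : G) * (k : G)⁻¹) = t * ((l : G) * (k : G)⁻¹) * t⁻¹ * t := by group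
        _ = ((l : G) * (k : G)⁻¹) * t := by rw [← h3]
    have h6 := hfix _ (K.mul_mem l.2 (K.inv_mem k.2)) h2
    have h7 : (l : G) = k := by
      have := mul_inv_eq_one.mp h6
      exact this
    exact Subtype.ext h7.symm
  have hsurj : Function.Surjective f := Finite.injective_iff_surjective.mp hinj
  intro k hk
  obtain ⟨l, hl⟩ := hsurj ⟨k, hk⟩
  have hl' : (l : G)⁻¹ * (t * l * t⁻¹) = k := congrArg Subtype.val hl
  rw [← hl']
  have key : t * t * (l : G) * t⁻¹ * t⁻¹ = l := by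
    rw [ht, one_mul, mul_assoc, ← mul_inv_rev, ht, inv_one, mul_one]
  calc t * ((l : G)⁻¹ * (t * l * t⁻¹)) * t⁻¹
      = (t * (l : G)⁻¹ * t⁻¹) * (t * t * (l : G) * t⁻¹ * t⁻¹) := by group
    _ = t * (l : G)⁻¹ * t⁻¹ * l := by rw [key]
    _ = ((l : G)⁻¹ * (t * l * t⁻¹))⁻¹ := by group

/-- In the large-extraspecial setting, let `b ∈ Q` and let `K` be an odd-order subgroup normalized
by `Q`. If `C_K(b)` centralizes the centre of `Q`, then `C_K(b)` is trivial. -/
theorem centralizer_inter_eq_bot {G : Type*} [Group G] [Finite G] (Q : Subgroup G)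
    (hL1 : Cfsg.IsExtraspecial 2 ↥Q)
    (hL2 : Subgroup.centralizer (Q : Set G) = ((Subgroup.center ↥Q).map Q.subtype))
    (hL3 : Subgroup.centralizer (((Subgroup.center ↥Q).map Q.subtype) : Set G)
      ≤ Subgroup.normalizer (Q : Set G))
    (K : Subgroup G) (hK : Odd (Nat.card K)) (hQK : Q ≤ Subgroup.normalizer (K : Set G))
    (b : G) (hbQ : b ∈ Q)
    (hKb : K ⊓ Subgroup.centralizer ({b} : Set G)
      ≤ Subgroup.centralizer (((Subgroup.center ↥Q).map Q.subtype) : Set G)) :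
    ∀ k ∈ K, k * b = b * k → k = 1 := by
  have hQ2 : IsPGroup 2 ↥Q := isPGroup_of_isExtraspecial Q hL1
  intro k hk hkb
  have hkKb : k ∈ K ⊓ Subgroup.centralizer ({b} : Set G) :=
    ⟨hk, Subgroup.mem_centralizer_singleton_iff.mpr hkb⟩
  have hkZ := hKb hkKb
  have hkN : k ∈ Subgroup.normalizer (Q : Set G) := hL3 hkZ
  have hkconj : ∀ q ∈ Q, k * q * k⁻¹ ∈ Q := fun q hq =>
    (Subgroup.mem_normalizer_iff.mp hkN q).mp hq
  -- k commutes with every element of C_Q(b)
  have hcomm1 : ∀ q ∈ Q, q * b = b * q → q * k = k * q := by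
    intro q hq _
    have hqN : q ∈ Subgroup.normalizer (K : Set G) := hQK hq
    have h1 : q * k * q⁻¹ * k⁻¹ ∈ K := by
      have : q * k * q⁻¹ ∈ K := (Subgroup.mem_normalizer_iff.mp hqN k).mp hk
      exact K.mul_mem this (K.inv_mem hk)
    have h2 : q * k * q⁻¹ * k⁻¹ ∈ Q := by
      have h3 : q * (k * q⁻¹ * k⁻¹) ∈ Q := Q.mul_mem hq (hkconj _ (Q.inv_mem hq))
      simpa [mul_assoc] using h3
    have h4 := eq_one_of_mem_odd_of_mem_two hK hQ2 h1 h2
    have h5 : q * k * q⁻¹ * k⁻¹ * (k * q) = k * q := by rw [h4, one_mul]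
    rw [← h5]; group
  -- commutators of elements of Q lie in the centre of Q, hence commute with k
  have hcommZ : ∀ q ∈ Q, k * (q * b * q⁻¹ * b⁻¹) = (q * b * q⁻¹ * b⁻¹) * k := by
    intro q hq
    have h1 : ⁅(⟨q, hq⟩ : Q), (⟨b, hbQ⟩ : Q)⁆ ∈ Subgroup.center Q := by
      have h2 : ⁅(⟨q, hq⟩ : Q), (⟨b, hbQ⟩ : Q)⁆ ∈ commutator Q :=
        Subgroup.commutator_mem_commutator (Subgroup.mem_top _) (Subgroup.mem_top _)
      rw [hL1.1.2.2] at h2
      exact h2
    have h3 : q * b * q⁻¹ * b⁻¹ ∈ (Subgroup.center Q).map Q.subtype := by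
      refine ⟨_, h1, ?_⟩
      simp [commutatorElement_def]
    have := (Subgroup.mem_centralizer_iff.mp hkZ) _ h3
    exact this.symm
  -- now k commutes with every q ∈ Q
  have hcomm2 : ∀ q ∈ Q, q * k = k * q := by
    intro q hq
    set m : G := q⁻¹ * (k * q * k⁻¹) with hm
    have hmQ : m ∈ Q := Q.mul_mem (Q.inv_mem hq) (hkconj q hq)
    have hkb' : k⁻¹ * b = b * k⁻¹ := by
      have : k⁻¹ * (k * b) * k⁻¹ = k⁻¹ * (b * k) * k⁻¹ := by rw [hkb]
      simpa [mul_assoc] using this.symm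
    have hmb : m * b = b * m := by
      -- (k q k⁻¹) b (k q k⁻¹)⁻¹ b⁻¹ = k (q b q⁻¹ b⁻¹) k⁻¹ = q b q⁻¹ b⁻¹
      have h1 : (k * q * k⁻¹) * b * (k * q * k⁻¹)⁻¹ * b⁻¹ = k * (q * b * q⁻¹ * b⁻¹) * k⁻¹ := by
        have e1 : (k * q * k⁻¹) * b * (k * q * k⁻¹)⁻¹ * b⁻¹
            = k * q * (k⁻¹ * b) * k * q⁻¹ * k⁻¹ * b⁻¹ := by group
        have hkb'' : k⁻¹ * b⁻¹ = b⁻¹ * k⁻¹ := by
          have : (b * k)⁻¹ = (k * b)⁻¹ := by rw [hkb]
          simpa using this
        rw [e1, hkb']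
        have e2 : k * q * (b * k⁻¹) * k * q⁻¹ * k⁻¹ * b⁻¹ = k * q * b * q⁻¹ * (k⁻¹ * b⁻¹) := by group
        rw [e2, hkb'']; group
      have h2 : k * (q * b * q⁻¹ * b⁻¹) * k⁻¹ = q * b * q⁻¹ * b⁻¹ := by
        rw [hcommZ q hq]; group
      rw [h2] at h1
      have h3 : (k * q * k⁻¹) * b * (k * q * k⁻¹)⁻¹ = q * b * q⁻¹ := by
        have := congrArg (· * b) h1
        simpa [mul_assoc] using this
      rw [hm]
      have h4 : q⁻¹ * ((k * q * k⁻¹) * b * (k * q * k⁻¹)⁻¹) * q = b := by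
        rw [h3]; group
      have h5 : q⁻¹ * (k * q * k⁻¹) * b = q⁻¹ * ((k * q * k⁻¹) * b * (k * q * k⁻¹)⁻¹) * q
          * (q⁻¹ * (k * q * k⁻¹)) := by group
      rw [h5, h4]
    have hmk : m * k = k * m := hcomm1 m hmQ hmb
    have hkq : k * q * k⁻¹ = q * m := by rw [hm]; group
    have hpow : ∀ n : ℕ, k ^ n * q * (k ^ n)⁻¹ = q * m ^ n := by
      intro n
      induction n with
      | zero => simp
      | succ n ih =>
        have hmnk : m ^ n * k = k * m ^ n := by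
          have : Commute (m ^ n) k := (Commute.pow_left (show Commute m k from hmk) n)
          exact this.eq
        calc k ^ (n + 1) * q * (k ^ (n + 1))⁻¹
            = k * (k ^ n * q * (k ^ n)⁻¹) * k⁻¹ := by rw [pow_succ']; group
          _ = k * (q * m ^ n) * k⁻¹ := by rw [ih]
          _ = (k * q * k⁻¹) * (k * m ^ n * k⁻¹) := by group
          _ = (q * m) * (m ^ n * k * k⁻¹) := by rw [hkq, hmnk]
          _ = q * m ^ (n + 1) := by rw [pow_succ']; group
    have h1 := hpow (orderOf k)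
    rw [pow_orderOf_eq_one] at h1
    have h2 : m ^ orderOf k = 1 := by
      have : q = q * m ^ orderOf k := by simpa using h1
      exact (mul_eq_left.mp this.symm)
    have h3 : orderOf m ∣ orderOf k := orderOf_dvd_of_pow_eq_one h2
    have h4 : orderOf k ∣ Nat.card K := by
      have : orderOf (⟨k, hk⟩ : K) ∣ Nat.card K := orderOf_dvd_natCard _
      rwa [Subgroup.orderOf_mk] at this
    have h5 : Odd (orderOf m) := hK.of_dvd_nat (dvd_trans h3 h4)
    obtain ⟨j, hj⟩ := hQ2 ⟨m, hmQ⟩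
    have hj' : m ^ 2 ^ j = 1 := by
      have := congrArg Subtype.val hj
      simpa using this
    have h6 : orderOf m ∣ 2 ^ j := orderOf_dvd_of_pow_eq_one hj'
    have h7 : orderOf m = 1 := by
      have hc : Nat.Coprime (orderOf m) (2 ^ j) :=
        Nat.Coprime.pow_right _ ((Nat.coprime_two_right).mpr h5)
      exact Nat.Coprime.eq_one_of_dvd hc h6
    have h8 : m = 1 := orderOf_eq_one_iff.mp h7
    rw [h8, mul_one] at hkq
    have : k * q = q * k := by
      calc k * q = k * q * k⁻¹ * k := by group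
        _ = q * k := by rw [hkq]
    exact this.symm
  have hkC : k ∈ Subgroup.centralizer (Q : Set G) := by
    rw [Subgroup.mem_centralizer_iff]
    intro q hq
    exact hcomm2 q hq
  rw [hL2] at hkC
  have hkQ : k ∈ Q := by
    obtain ⟨y, _, rfl⟩ := hkC
    exact y.2
  exact eq_one_of_mem_odd_of_mem_two hK hQ2 hk hkQ

end Cfsg.Agent.Helper9
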