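import Mathlib
import Cfsg.Agent.Helper9.GLP3A

/-!
# S1301, B-side, piece (III): the new `Balance5` for `p = 2` (hypothesis form)
-/

set_option autoImplicit false

namespace Cfsg.Agent.Helper9.GLP

open Cfsg.Agent.Helper2
open scoped commutatorElement

universe u

section main

variable {G : Type u} [Group G] [Finite G]

omit [Finite G] in
/-- `E(G) ∩ C_G(P)`, as a subgroup of `N_G(P)`, is normal. -/
theorem layer_inf_centralizer_normal (P : Subgroup G) :
    ((Cfsg.layer G ⊓ Subgroup.centralizer (P : Set G)).subgroupOf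
      (Subgroup.normalizer (P : Set G))).Normal := by
  have hMN : Cfsg.layer G ⊓ Subgroup.centralizer (P : Set G) ≤ Subgroup.normalizer (P : Set G) :=
    inf_le_right.trans (Subgroup.centralizer_le_normalizer _)
  rw [Subgroup.normal_subgroupOf_iff_le_normalizer hMN]
  intro n hn
  rw [Subgroup.mem_normalizer_iff]
  intro x
  have hEn : (Cfsg.layer G).Normal := inferInstance
  have h1 : x ∈ Cfsg.layer G ↔ n * x * n⁻¹ ∈ Cfsg.layer G := by
    constructor
    · intro hx; exact hEn.conj_mem x hx n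
    · intro hx
      have := hEn.conj_mem _ hx n⁻¹
      simpa [mul_assoc] using this
  have h2 : x ∈ Subgroup.centralizer (P : Set G) ↔
      n * x * n⁻¹ ∈ Subgroup.centralizer (P : Set G) := by
    have hn' := Subgroup.mem_normalizer_iff.mp hn
    simp only [Subgroup.mem_centralizer_iff]
    constructor
    · intro hx r hr
      have hr' : n⁻¹ * r * n ∈ P := by
        rw [hn' (n⁻¹ * r * n)]
        simpa [mul_assoc] using hr
      have := hx _ hr'
      calc r * (n * x * n⁻¹) = n * ((n⁻¹ * r * n) * x) * n⁻¹ := by group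
        _ = n * (x * (n⁻¹ * r * n)) * n⁻¹ := by rw [this]
        _ = n * x * n⁻¹ * r := by group
    · intro hx r hr
      have hr' : n * r * n⁻¹ ∈ P := (hn' r).mp hr
      have := hx _ hr'
      calc r * x = n⁻¹ * ((n * r * n⁻¹) * (n * x * n⁻¹)) * n := by group
        _ = n⁻¹ * ((n * x * n⁻¹) * (n * r * n⁻¹)) * n := by rw [this]
        _ = x * r := by group
  exact and_congr h1 h2

/-- New `Balance5` for `p = 2` (no Schreier hypothesis): `O(G) = 1`, `P` a 2-subgroup, `N = N_G(P)`,
`K ≤ N` perfect, generated by 2-elements, with image a component of `N/O(N)`.  Then `K ≤ E(G)`. -/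
theorem map_le_layer_two_of
    (hplus : ∀ (K : Subgroup G) [K.Normal] (P Y O₁ : Subgroup G), IsPGroup 2 ↥P →
      (⁅Y, Y⁆ = Y ∧ Cfsg.Agent.Helper2.opp 2 Y = Y) → Y ≤ Subgroup.centralizer (P : Set G) →
      (Nat.card ↥O₁).Coprime 2 → O₁ ≤ K →
      P ⊔ Y ⊔ ((K ⊔ P) ⊓ Subgroup.centralizer (P : Set G)) ≤ Subgroup.normalizer (O₁ : Set G) →
      ⁅K ⊓ Subgroup.centralizer (P : Set G), Y⁆ ≤ O₁ →
      ∃ Yf : Subgroup G, ⁅K, Yf⁆ ≤ Cfsg.pPrimeCore 2 G ∧ Y ≤ K ⊔ Yf)
    (hO : Cfsg.pPrimeCore 2 G = ⊥) (P : Subgroup G) (hP : IsPGroup 2 ↥P)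
    (K : Subgroup ↥(Subgroup.normalizer (P : Set G))) (hKperf : ⁅K, K⁆ = K)
    (hKopp : opp 2 K = K)
    (hKc : Cfsg.IsComponent (K.map (QuotientGroup.mk'
      (Cfsg.pPrimeCore 2 ↥(Subgroup.normalizer (P : Set G)))))) :
    K.map (Subgroup.normalizer (P : Set G)).subtype ≤ Cfsg.layer G := by
  haveI : Fact (Nat.Prime 2) := ⟨Nat.prime_two⟩
  have hOc : (Nat.card ↥(Cfsg.pPrimeCore 2 ↥(Subgroup.normalizer (P : Set G)))).Coprime 2 :=
    Cfsg.Agent.Helper1.card_pPrimeCore_coprime 2
  have hKJ : K ≤ (Cfsg.layer (↥(Subgroup.normalizer (P : Set G)) ⧸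
        Cfsg.pPrimeCore 2 ↥(Subgroup.normalizer (P : Set G)))).comap
      (QuotientGroup.mk' (Cfsg.pPrimeCore 2 ↥(Subgroup.normalizer (P : Set G)))) := by
    rw [← Subgroup.map_le_iff_le_comap]
    exact component_le_layer hKc
  -- `M = E(G) ∩ C_G(P)`
  have hMN : Cfsg.layer G ⊓ Subgroup.centralizer (P : Set G) ≤ Subgroup.normalizer (P : Set G) :=
    inf_le_right.trans (Subgroup.centralizer_le_normalizer _)
  have hMnn := layer_inf_centralizer_normal P
  have hMnmap : ((Cfsg.layer G ⊓ Subgroup.centralizer (P : Set G)).subgroupOf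
      (Subgroup.normalizer (P : Set G))).map (Subgroup.normalizer (P : Set G)).subtype =
      Cfsg.layer G ⊓ Subgroup.centralizer (P : Set G) :=
    Subgroup.map_subgroupOf_eq_of_le hMN
  rcases le_sup_or_commutator_le_pPrimeCore 2 K _ hKc hMnn.isSubnormal with h | h
  · -- `K ≤ M O(N)`
    have h1 : K ≤ (Cfsg.layer G ⊓ Subgroup.centralizer (P : Set G)).subgroupOf
        (Subgroup.normalizer (P : Set G)) := by
      rw [← hKopp]
      calc opp 2 K ≤ opp 2 (_ ⊔ _) := opp_mono h
        _ = opp 2 _ := opp_sup_eq _ hOc _ hMnn.isSubnormal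
        _ ≤ _ := opp_le 2 _
    calc K.map (Subgroup.normalizer (P : Set G)).subtype
        ≤ ((Cfsg.layer G ⊓ Subgroup.centralizer (P : Set G)).subgroupOf
          (Subgroup.normalizer (P : Set G))).map (Subgroup.normalizer (P : Set G)).subtype :=
          Subgroup.map_mono h1
      _ = Cfsg.layer G ⊓ Subgroup.centralizer (P : Set G) := hMnmap
      _ ≤ Cfsg.layer G := inf_le_left
  · -- `[K, M] ≤ O(N)`
    apply map_le_layer_of_le_layer_sup_centralizer 2 hO P hP K hKperf hKJ
    have hK'perf : ⁅K.map (Subgroup.normalizer (P : Set G)).subtype,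
        K.map (Subgroup.normalizer (P : Set G)).subtype⁆ =
        K.map (Subgroup.normalizer (P : Set G)).subtype := by
      rw [← Subgroup.map_commutator, hKperf]
    have hK'opp : opp 2 (K.map (Subgroup.normalizer (P : Set G)).subtype) =
        K.map (Subgroup.normalizer (P : Set G)).subtype := by
      rw [← map_opp_eq, hKopp]
    have hK'N : K.map (Subgroup.normalizer (P : Set G)).subtype ≤ Subgroup.normalizer (P : Set G) := by
      rintro _ ⟨k, -, rfl⟩
      exact k.2
    have hK'P : K.map (Subgroup.normalizer (P : Set G)).subtype ≤ Subgroup.centralizer (P : Set G) := by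
      rintro _ ⟨k, hk, rfl⟩
      rw [Subgroup.mem_centralizer_iff]
      intro r hr
      have hrN : r ∈ (Subgroup.normalizer (P : Set G)) := Subgroup.le_normalizer hr
      have := comm_of_mk_mem_layer (P.subgroupOf (Subgroup.normalizer (P : Set G)))
        Subgroup.normal_in_normalizer
        (hP.comap_of_injective (Subgroup.normalizer (P : Set G)).subtype
          (Subgroup.normalizer (P : Set G)).subtype_injective) k (hKJ hk) ⟨r, hrN⟩
        (Subgroup.mem_subgroupOf.mpr hr)
      exact (congrArg Subtype.val this).symm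
    -- `O₁ = O(N) ∩ M`
    have hO1n : (Cfsg.pPrimeCore 2 ↥(Subgroup.normalizer (P : Set G)) ⊓
        (Cfsg.layer G ⊓ Subgroup.centralizer (P : Set G)).subgroupOf
          (Subgroup.normalizer (P : Set G))).Normal := by
      haveI := hMnn
      infer_instance
    have hO1norm := le_normalizer_map_subtype (Subgroup.normalizer (P : Set G))
      (Cfsg.pPrimeCore 2 ↥(Subgroup.normalizer (P : Set G)) ⊓
        (Cfsg.layer G ⊓ Subgroup.centralizer (P : Set G)).subgroupOf
          (Subgroup.normalizer (P : Set G)))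
    have hO1card : (Nat.card ↥((Cfsg.pPrimeCore 2 ↥(Subgroup.normalizer (P : Set G)) ⊓
        (Cfsg.layer G ⊓ Subgroup.centralizer (P : Set G)).subgroupOf
          (Subgroup.normalizer (P : Set G))).map (Subgroup.normalizer (P : Set G)).subtype)).Coprime 2 := by
      rw [Subgroup.card_map_of_injective (Subgroup.normalizer (P : Set G)).subtype_injective]
      exact Nat.Coprime.coprime_dvd_left (Subgroup.card_dvd_of_le inf_le_left) hOc
    have hO1E : (Cfsg.pPrimeCore 2 ↥(Subgroup.normalizer (P : Set G)) ⊓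
        (Cfsg.layer G ⊓ Subgroup.centralizer (P : Set G)).subgroupOf
          (Subgroup.normalizer (P : Set G))).map (Subgroup.normalizer (P : Set G)).subtype ≤
        Cfsg.layer G := by
      calc _ ≤ ((Cfsg.layer G ⊓ Subgroup.centralizer (P : Set G)).subgroupOf
          (Subgroup.normalizer (P : Set G))).map (Subgroup.normalizer (P : Set G)).subtype :=
            Subgroup.map_mono inf_le_right
        _ = Cfsg.layer G ⊓ Subgroup.centralizer (P : Set G) := hMnmap
        _ ≤ Cfsg.layer G := inf_le_left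
    have hnorm : P ⊔ K.map (Subgroup.normalizer (P : Set G)).subtype ⊔
        ((Cfsg.layer G ⊔ P) ⊓ Subgroup.centralizer (P : Set G)) ≤
        Subgroup.normalizer (((Cfsg.pPrimeCore 2 ↥(Subgroup.normalizer (P : Set G)) ⊓
        (Cfsg.layer G ⊓ Subgroup.centralizer (P : Set G)).subgroupOf
          (Subgroup.normalizer (P : Set G))).map (Subgroup.normalizer (P : Set G)).subtype :
            Subgroup G) : Set G) := by
      refine le_trans ?_ hO1norm
      refine sup_le (sup_le Subgroup.le_normalizer hK'N) ?_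
      exact inf_le_right.trans (Subgroup.centralizer_le_normalizer _)
    have hKY : ⁅Cfsg.layer G ⊓ Subgroup.centralizer (P : Set G),
        K.map (Subgroup.normalizer (P : Set G)).subtype⁆ ≤
        (Cfsg.pPrimeCore 2 ↥(Subgroup.normalizer (P : Set G)) ⊓
        (Cfsg.layer G ⊓ Subgroup.centralizer (P : Set G)).subgroupOf
          (Subgroup.normalizer (P : Set G))).map (Subgroup.normalizer (P : Set G)).subtype := by
      have h5 : ⁅(Cfsg.layer G ⊓ Subgroup.centralizer (P : Set G)).subgroupOf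
          (Subgroup.normalizer (P : Set G)), K⁆ ≤
          Cfsg.pPrimeCore 2 ↥(Subgroup.normalizer (P : Set G)) ⊓
          (Cfsg.layer G ⊓ Subgroup.centralizer (P : Set G)).subgroupOf
            (Subgroup.normalizer (P : Set G)) := by
        apply le_inf
        · rw [Subgroup.commutator_comm]; exact h
        · haveI := hMnn
          exact Subgroup.commutator_le_left ((Cfsg.layer G ⊓ Subgroup.centralizer (P : Set G)).subgroupOf
            (Subgroup.normalizer (P : Set G))) K
      have h6 := Subgroup.map_mono (f := (Subgroup.normalizer (P : Set G)).subtype) h5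
      rw [Subgroup.map_commutator, hMnmap] at h6
      exact h6
    obtain ⟨Yf, hYf1, hYf2⟩ := hplus (Cfsg.layer G) P (K.map (Subgroup.normalizer (P : Set G)).subtype)
      _ hP ⟨hK'perf, hK'opp⟩ hK'P hO1card hO1E hnorm hKY
    rw [hO, le_bot_iff, Subgroup.commutator_eq_bot_iff_le_centralizer] at hYf1
    -- hYf1 : layer ≤ centralizer Yf
    refine hYf2.trans (sup_le_sup_left ?_ _)
    rw [← Subgroup.commutator_eq_bot_iff_le_centralizer, Subgroup.commutator_comm,
      Subgroup.commutator_eq_bot_iff_le_centralizer]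
    exact hYf1

/-- PIECE (III) of helper2's S1301 blueprint (exact stub, hypothesis form): a 2-component of `N_G(P)`
lies in `E(G)` when `O(G) = 1`. -/
theorem map_pComponent_le_layer_of
    (hplus : ∀ (K : Subgroup G) [K.Normal] (P Y O₁ : Subgroup G), IsPGroup 2 ↥P →
      (⁅Y, Y⁆ = Y ∧ Cfsg.Agent.Helper2.opp 2 Y = Y) → Y ≤ Subgroup.centralizer (P : Set G) →
      (Nat.card ↥O₁).Coprime 2 → O₁ ≤ K →
      P ⊔ Y ⊔ ((K ⊔ P) ⊓ Subgroup.centralizer (P : Set G)) ≤ Subgroup.normalizer (O₁ : Set G) →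
      ⁅K ⊓ Subgroup.centralizer (P : Set G), Y⁆ ≤ O₁ →
      ∃ Yf : Subgroup G, ⁅K, Yf⁆ ≤ Cfsg.pPrimeCore 2 G ∧ Y ≤ K ⊔ Yf)
    (hO : Cfsg.pPrimeCore 2 G = ⊥) (P : Subgroup G) (hP : IsPGroup 2 ↥P)
    (I : Subgroup ↥(Subgroup.normalizer (P : Set G))) (hI : Cfsg.IsPComponent 2 I) :
    I.map (Subgroup.normalizer (P : Set G)).subtype ≤ Cfsg.layer G := by
  haveI : Fact (Nat.Prime 2) := ⟨Nat.prime_two⟩
  exact map_le_layer_two_of hplus hO P hP I (pComponent_perfect hI) (pComponent_opp_eq 2 hI) hI.2.1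

end main

end Cfsg.Agent.Helper9.GLP
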