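import Mathlib
import Cfsg.Agent.Lead.BswDefs
import Cfsg.Agent.Lead.BswDefs2
import Cfsg.Agent.Helper7.Bsw_A31_35
import Cfsg.Agent.Helper9.Bsw_B10_17
import Cfsg.Agent.Lead.Bsw_A1_12
import Cfsg.Agent.Helper5.Bsw_B18_23
import Cfsg.Agent.Helper3.Bsw_C7_C8
import Cfsg.Agent.Helper3.Bsw_C2_C6
import Cfsg.Agent.Helper6.Bsw_A29_30
import Cfsg.Agent.Helper6.Bsw_C4

/-!
# S3282 (abstract Brauer-Suzuki-Wall), group side, endgame `e = +1`: pieces E0 - E4  (helper9)
-/

set_option autoImplicit false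
namespace Cfsg.Agent.Lead.Bsw
variable {G : Type*} [Group G] [Finite G] {t s : G} {K : Subgroup G}

/-! ### general auxiliary facts -/

omit [Finite G] in
theorem h9_card_subgroup_ne_one (A : Subgroup G) :
    Nat.card {a : G // a ∈ A ∧ a ≠ 1} = Nat.card A - 1 := by
  have : Nat.card ((A : Set G) \ {1} : Set G) = Nat.card A - 1 := by
    rw [Nat.card_coe_set_eq, Set.ncard_sdiff_singleton_of_mem (Subgroup.one_mem _),
      ← Nat.card_coe_set_eq]
    rfl
  rw [← this]
  rfl

omit [Finite G] in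
theorem h9_mem_normalizer_of_map_eq {A : Subgroup G} {g : G}
    (hmap : A.map (MulAut.conj g).toMonoidHom = A) : g ∈ Subgroup.normalizer (A : Set G) := by
  rw [Subgroup.mem_normalizer_iff]
  intro x
  constructor
  · intro hx
    rw [← hmap]
    exact Subgroup.mem_map.mpr ⟨x, hx, by simp [MulAut.conj_apply]⟩
  · intro hx
    rw [← hmap] at hx
    obtain ⟨x', hx', hxx'⟩ := Subgroup.mem_map.mp hx
    have h2 : g * x' * g⁻¹ = g * x * g⁻¹ := by simpa [MulAut.conj_apply] using hxx'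
    have : x' = x := mul_left_cancel (mul_right_cancel h2)
    rw [← this]
    exact hx'

/-- splitting a finite subtype along a predicate -/
theorem h9_card_split {α : Type*} [Finite α] (P Q : α → Prop) :
    Nat.card {y // P y} = Nat.card {y // P y ∧ Q y} + Nat.card {y // P y ∧ ¬ Q y} := by
  have h1 : {y | P y} = {y | P y ∧ Q y} ∪ {y | P y ∧ ¬ Q y} := by
    ext y
    simp only [Set.mem_ofPred_eq, Set.mem_union]
    constructor
    · intro hy
      by_cases hq : Q y
      · exact Or.inl ⟨hy, hq⟩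
      · exact Or.inr ⟨hy, hq⟩
    · rintro (hy | hy)
      · exact hy.1
      · exact hy.1
  have h2 : Disjoint {y | P y ∧ Q y} {y | P y ∧ ¬ Q y} := by
    rw [Set.disjoint_left]
    intro y hy hy'
    exact hy'.2 hy.2
  have h3 := Set.ncard_union_eq h2 (Set.toFinite _) (Set.toFinite _)
  rw [← h1] at h3
  rw [← Nat.card_coe_set_eq, ← Nat.card_coe_set_eq, ← Nat.card_coe_set_eq] at h3
  exact h3

-- E0 (general): conjugates of a torus give many torus elements of the same order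
theorem torus_orbit_bound (h : Hyp t K s) {y : G} (hy : IsTorusElt y) :
    Nat.card G * (Nat.card (Subgroup.centralizer ({y} : Set G)) - 1) ≤
      Nat.card {y' : G // IsTorusElt y' ∧ Nat.card (Subgroup.centralizer ({y'} : Set G)) =
        Nat.card (Subgroup.centralizer ({y} : Set G))} *
      Nat.card (Subgroup.normalizer ((Subgroup.centralizer ({y} : Set G) : Subgroup G) : Set G)) := by
  classical
  rw [← h9_card_subgroup_ne_one, ← Nat.card_prod, ← Nat.card_prod]
  have hφ : ∀ x : G × {a : G // a ∈ Subgroup.centralizer ({y} : Set G) ∧ a ≠ 1},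
      IsTorusElt (x.1 * x.2.1 * x.1⁻¹) ∧
        Nat.card (Subgroup.centralizer ({x.1 * x.2.1 * x.1⁻¹} : Set G)) =
          Nat.card (Subgroup.centralizer ({y} : Set G)) := by
    intro x
    have hx := torus_cent h hy x.2.2.1 x.2.2.2
    refine ⟨(isTorusElt_conj _ _).mpr hx.2, ?_⟩
    rw [h7_card_cent_conj, hx.1]
  let φ : G × {a : G // a ∈ Subgroup.centralizer ({y} : Set G) ∧ a ≠ 1} →
      {y' : G // IsTorusElt y' ∧ Nat.card (Subgroup.centralizer ({y'} : Set G)) =
        Nat.card (Subgroup.centralizer ({y} : Set G))} :=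
    fun x => ⟨x.1 * x.2.1 * x.1⁻¹, hφ x⟩
  have hP : ∀ x x' : G × {a : G // a ∈ Subgroup.centralizer ({y} : Set G) ∧ a ≠ 1},
      φ x = φ x' → x'.1⁻¹ * x.1 ∈
        Subgroup.normalizer ((Subgroup.centralizer ({y} : Set G) : Subgroup G) : Set G) := by
    intro x x' hxx
    have e : x.1 * x.2.1 * x.1⁻¹ = x'.1 * x'.2.1 * x'.1⁻¹ := congrArg Subtype.val hxx
    have e2 : (x'.1⁻¹ * x.1) * x.2.1 * (x'.1⁻¹ * x.1)⁻¹ = x'.2.1 := by
      calc (x'.1⁻¹ * x.1) * x.2.1 * (x'.1⁻¹ * x.1)⁻¹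
          = x'.1⁻¹ * (x.1 * x.2.1 * x.1⁻¹) * x'.1 := by group
        _ = x'.2.1 := by rw [e]; group
    apply h9_mem_normalizer_of_map_eq
    apply torus_TI h hy
    intro hbot
    have hmem : x'.2.1 ∈ Subgroup.centralizer ({y} : Set G) ⊓
        (Subgroup.centralizer ({y} : Set G)).map (MulAut.conj (x'.1⁻¹ * x.1)).toMonoidHom := by
      refine Subgroup.mem_inf.mpr ⟨x'.2.2.1, Subgroup.mem_map.mpr ⟨x.2.1, x.2.2.1, ?_⟩⟩
      rw [MulEquiv.coe_toMonoidHom, MulAut.conj_apply]
      exact e2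
    rw [hbot, Subgroup.mem_bot] at hmem
    exact x'.2.2.2 hmem
  have : Nonempty (G × {a : G // a ∈ Subgroup.centralizer ({y} : Set G) ∧ a ≠ 1}) :=
    ⟨(1, ⟨y, h9_self_mem_cent y, hy.1⟩)⟩
  have hbase : ∀ x : G × {a : G // a ∈ Subgroup.centralizer ({y} : Set G) ∧ a ≠ 1},
      φ (Function.invFun φ (φ x)) = φ x := fun x => Function.invFun_eq ⟨x, rfl⟩
  apply Nat.card_le_card_of_injective
    (fun x : G × {a : G // a ∈ Subgroup.centralizer ({y} : Set G) ∧ a ≠ 1} =>
      ((φ x, ⟨(Function.invFun φ (φ x)).1⁻¹ * x.1, hP x _ (hbase x).symm⟩) :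
        {y' : G // IsTorusElt y' ∧ Nat.card (Subgroup.centralizer ({y'} : Set G)) =
          Nat.card (Subgroup.centralizer ({y} : Set G))} ×
        Subgroup.normalizer ((Subgroup.centralizer ({y} : Set G) : Subgroup G) : Set G)))
  intro x x' hxx
  have h1 : φ x = φ x' := congrArg Prod.fst hxx
  have h2 : (Function.invFun φ (φ x)).1⁻¹ * x.1 = (Function.invFun φ (φ x')).1⁻¹ * x'.1 :=
    congrArg (fun p => (p.2 : G)) hxx
  rw [h1] at h2
  have h3 : x.1 = x'.1 := mul_left_cancel h2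
  have e : x.1 * x.2.1 * x.1⁻¹ = x'.1 * x'.2.1 * x'.1⁻¹ := congrArg Subtype.val h1
  rw [← h3] at e
  have h4 : x.2.1 = x'.2.1 := mul_left_cancel (mul_right_cancel e)
  exact Prod.ext h3 (Subtype.ext h4)

-- E1
theorem plus_torus_card (hp : HypPlus t K s) {y : G} (hy : IsTorusElt y) :
    Nat.card (Subgroup.centralizer ({y} : Set G)) = Nat.card K + 1 ∨
    Nat.card (Subgroup.centralizer ({y} : Set G)) = 2 * Nat.card K + 1 := by
  have h := hp.h
  have hk := hp.hk
  obtain ⟨c, hc⟩ := hp.hF y hy.1 (fun g => not_conj_into_K h (Or.inl hy) g)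
  rw [F_torus h hy] at hc
  have h3 := torus_card_ge h hy
  have hb := coset_bound h hy
  rw [hp.hn] at hb
  have hle : Nat.card (Subgroup.centralizer ({y} : Set G)) ≤ 2 * Nat.card K + 1 :=
    Nat.le_of_mul_le_mul_right hb (Nat.succ_pos _)
  have h3' : (3 : ℤ) ≤ (Nat.card (Subgroup.centralizer ({y} : Set G)) : ℤ) := by exact_mod_cast h3
  have hle' : (Nat.card (Subgroup.centralizer ({y} : Set G)) : ℤ) ≤ 2 * (Nat.card K : ℤ) + 1 := by
    exact_mod_cast hle
  have hk' : (4 : ℤ) ≤ (Nat.card K : ℤ) := by exact_mod_cast hk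
  have hc0 : c ≤ 0 := by
    by_contra hcon
    rw [not_le] at hcon
    nlinarith
  have hc1 : -1 ≤ c := by
    by_contra hcon
    rw [not_le] at hcon
    have : c ≤ -2 := by omega
    nlinarith
  have hcc : c = 0 ∨ c = -1 := by omega
  rcases hcc with rfl | rfl
  · right
    have : (Nat.card (Subgroup.centralizer ({y} : Set G)) : ℤ) = 2 * (Nat.card K : ℤ) + 1 := by
      rw [hc]; ring
    exact_mod_cast this
  · left
    have : (Nat.card (Subgroup.centralizer ({y} : Set G)) : ℤ) = (Nat.card K : ℤ) + 1 := by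
      rw [hc]; ring
    exact_mod_cast this

-- E2
theorem plus_no_NR (hp : HypPlus t K s) (y : G) : ¬ IsNR y := by
  intro hy
  have h := hp.h
  have hk := hp.hk
  obtain ⟨c, hc⟩ := hp.hF y hy.1 (fun g => not_conj_into_K h (Or.inr hy) g)
  rw [F_eq_zero_of_NR hy] at hc
  have hk' : (4 : ℤ) ≤ (Nat.card K : ℤ) := by exact_mod_cast hk
  have hc' : (Nat.card K : ℤ) * (c + 2) = -1 := by
    have : ((0 : ℕ) : ℤ) = 0 := rfl
    rw [this] at hc
    linarith
  rcases le_or_gt 0 (c + 2) with h0 | h0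
  · nlinarith
  · have : c + 2 ≤ -1 := by omega
    nlinarith

-- E3 (pure arithmetic)
theorem plus_arith (k n r1 r2 R1 R2 : ℕ) (hk : 4 ≤ k) (hn : n = (2 * k + 1) * (k + 1))
    (h1 : n = 1 + k * (k - 1) + (r1 + r2)) (h2 : (k + 1) * R1 = n * r1) (h3 : (2 * k + 1) * R2 = n * r2)
    (h4 : 2 * k * n = 1 + n + n * (k - 2) + (R1 + R2) + 0) : r2 = 4 * k ∧ R2 = 4 * k * (k + 1) := by
  obtain ⟨j, rfl⟩ : ∃ j, k = j + 4 := ⟨k - 4, by omega⟩
  have e1 : j + 4 - 1 = j + 3 := by omega
  have e2 : j + 4 - 2 = j + 2 := by omega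
  rw [e1] at h1
  rw [e2] at h4
  subst hn
  have hR1 : R1 = (2 * (j + 4) + 1) * r1 := by
    have : (j + 4 + 1) * R1 = (j + 4 + 1) * ((2 * (j + 4) + 1) * r1) := by
      rw [h2]; ring
    exact Nat.eq_of_mul_eq_mul_left (Nat.succ_pos _) this
  have hR2 : R2 = (j + 4 + 1) * r2 := by
    have : (2 * (j + 4) + 1) * R2 = (2 * (j + 4) + 1) * ((j + 4 + 1) * r2) := by
      rw [h3]; ring
    exact Nat.eq_of_mul_eq_mul_left (Nat.succ_pos _) this
  subst hR1
  subst hR2
  have hr2 : (j + 4) * r2 = (j + 4) * (4 * (j + 4)) := by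
    zify at h1 h4 ⊢
    nlinarith
  have hr2' : r2 = 4 * (j + 4) := Nat.eq_of_mul_eq_mul_left (by omega) hr2
  subst hr2'
  constructor
  · rfl
  · ring

-- E4
theorem plus_counts (hp : HypPlus t K s) :
    Nat.card {y : G // (IsTorusElt y ∧ Nat.card (Subgroup.centralizer ({y} : Set G)) = 2 * Nat.card K + 1) ∧
      t * y * t⁻¹ = y⁻¹} = 4 * Nat.card K ∧
    Nat.card {y : G // IsTorusElt y ∧ Nat.card (Subgroup.centralizer ({y} : Set G)) = 2 * Nat.card K + 1} =
      4 * Nat.card K * (Nat.card K + 1) := by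
  have h := hp.h
  have hk := hp.hk
  -- the torus elements inverted by `t`, split according to the order of the torus
  have hsplit1 := h9_card_split (fun y : G => IsTorusElt y ∧ t * y * t⁻¹ = y⁻¹)
    (fun y : G => Nat.card (Subgroup.centralizer ({y} : Set G)) = 2 * Nat.card K + 1)
  have hsplit2 := h9_card_split (fun y : G => IsTorusElt y)
    (fun y : G => Nat.card (Subgroup.centralizer ({y} : Set G)) = 2 * Nat.card K + 1)
  have hne : Nat.card K + 1 ≠ 2 * Nat.card K + 1 := by omega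
  have ea : Nat.card {y : G // (IsTorusElt y ∧ t * y * t⁻¹ = y⁻¹) ∧
      Nat.card (Subgroup.centralizer ({y} : Set G)) = 2 * Nat.card K + 1} =
      Nat.card {y : G // (IsTorusElt y ∧
        Nat.card (Subgroup.centralizer ({y} : Set G)) = 2 * Nat.card K + 1) ∧ t * y * t⁻¹ = y⁻¹} := by
    apply Nat.card_congr
    apply Equiv.subtypeEquivRight
    intro y
    tauto
  have eb : Nat.card {y : G // (IsTorusElt y ∧ t * y * t⁻¹ = y⁻¹) ∧
      ¬ Nat.card (Subgroup.centralizer ({y} : Set G)) = 2 * Nat.card K + 1} =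
      Nat.card {y : G // (IsTorusElt y ∧
        Nat.card (Subgroup.centralizer ({y} : Set G)) = Nat.card K + 1) ∧ t * y * t⁻¹ = y⁻¹} := by
    apply Nat.card_congr
    apply Equiv.subtypeEquivRight
    intro y
    constructor
    · rintro ⟨⟨hy, hty⟩, hc⟩
      rcases plus_torus_card hp hy with h1 | h1
      · exact ⟨⟨hy, h1⟩, hty⟩
      · exact absurd h1 hc
    · rintro ⟨⟨hy, hc⟩, hty⟩
      refine ⟨⟨hy, hty⟩, ?_⟩
      rw [hc]
      exact hne
  have ec : Nat.card {y : G // IsTorusElt y ∧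
      ¬ Nat.card (Subgroup.centralizer ({y} : Set G)) = 2 * Nat.card K + 1} =
      Nat.card {y : G // IsTorusElt y ∧
        Nat.card (Subgroup.centralizer ({y} : Set G)) = Nat.card K + 1} := by
    apply Nat.card_congr
    apply Equiv.subtypeEquivRight
    intro y
    constructor
    · rintro ⟨hy, hc⟩
      rcases plus_torus_card hp hy with h1 | h1
      · exact ⟨hy, h1⟩
      · exact absurd h1 hc
    · rintro ⟨hy, hc⟩
      refine ⟨hy, ?_⟩
      rw [hc]
      exact hne
  rw [ea, eb] at hsplit1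
  rw [ec] at hsplit2
  have hC2 := count_per_inv h
  rw [hsplit1] at hC2
  have hC4a := torus_count (t := t) h (Nat.card K + 1)
  have hC4b := torus_count (t := t) h (2 * Nat.card K + 1)
  have hC6 := census h
  have hNR : Nat.card {y : G // IsNR y} = 0 := by
    rw [Nat.card_eq_zero]
    left
    exact ⟨fun y => plus_no_NR hp y.1 y.2⟩
  rw [hNR, hsplit2, card_G h] at hC6
  have := plus_arith (Nat.card K) (nInv G) _ _ _ _ hk hp.hn
    (by rw [hC2]; ring) hC4a hC4b (by rw [hC6]; ring)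
  exact this

end Cfsg.Agent.Lead.Bsw
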