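import Mathlib
import Cfsg.Agent.Lead.BswDefs
import Cfsg.Agent.Lead.BswDefs2
import Cfsg.Agent.Helper9.Bsw_E0_E4

/-!
# S3282 (abstract Brauer-Suzuki-Wall), group side, endgame `e = +1`: pieces E5 - E7  (helper9)
-/

set_option autoImplicit false
namespace Cfsg.Agent.Lead.Bsw
variable {G : Type*} [Group G] [Finite G] {t s : G} {K : Subgroup G}

-- E5
theorem plus_exists_torus (hp : HypPlus t K s) :
    ∃ y : G, IsTorusElt y ∧ Nat.card (Subgroup.centralizer ({y} : Set G)) = 2 * Nat.card K + 1 ∧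
      t * y * t⁻¹ = y⁻¹ := by
  have h1 := (plus_counts hp).1
  have hk := hp.hk
  have hpos : 0 < Nat.card {y : G // (IsTorusElt y ∧
      Nat.card (Subgroup.centralizer ({y} : Set G)) = 2 * Nat.card K + 1) ∧ t * y * t⁻¹ = y⁻¹} := by
    rw [h1]; omega
  obtain ⟨⟨y, hy⟩⟩ := (Nat.card_pos_iff.mp hpos).1
  exact ⟨y, hy.1.1, hy.1.2, hy.2⟩

-- E6
theorem plus_K_le_normalizer (hp : HypPlus t K s) {y : G} (hy : IsTorusElt y)
    (hc : Nat.card (Subgroup.centralizer ({y} : Set G)) = 2 * Nat.card K + 1) (hty : t * y * t⁻¹ = y⁻¹) :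
    Subgroup.normalizer ((Subgroup.centralizer ({y} : Set G) : Subgroup G) : Set G) =
      Subgroup.centralizer ({y} : Set G) ⊔ K := by
  have h := hp.h
  have hk := hp.hk
  have htN : t ∈ Subgroup.normalizer ((Subgroup.centralizer ({y} : Set G) : Subgroup G) : Set G) :=
    inverter_mem_normalizer hty
  have hB15 := torus_normalizer_eq h hy h.ht htN
  have hB16 := torus_normalizer_card h hy h.ht htN
  rw [Kz_t h] at hB15 hB16
  have hE0 := torus_orbit_bound h hy
  rw [hc, (plus_counts hp).2, card_G h, hp.hn, hB16, hc] at hE0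
  -- hE0 : 2k(2k+1)(k+1) * (2k+1-1) ≤ 4k(k+1) * ((2k+1) * w)
  have hw : Nat.card K ≤ Nat.card ((Subgroup.normalizer
      ((Subgroup.centralizer ({y} : Set G) : Subgroup G) : Set G) ⊓ K : Subgroup G)) := by
    have e1 : 2 * Nat.card K + 1 - 1 = 2 * Nat.card K := by omega
    rw [e1] at hE0
    have hpos : 0 < 4 * Nat.card K * (Nat.card K + 1) * (2 * Nat.card K + 1) := by positivity
    have : 4 * Nat.card K * (Nat.card K + 1) * (2 * Nat.card K + 1) * Nat.card K ≤
        4 * Nat.card K * (Nat.card K + 1) * (2 * Nat.card K + 1) *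
          Nat.card ((Subgroup.normalizer
            ((Subgroup.centralizer ({y} : Set G) : Subgroup G) : Set G) ⊓ K : Subgroup G)) := by
      calc 4 * Nat.card K * (Nat.card K + 1) * (2 * Nat.card K + 1) * Nat.card K
          = 2 * Nat.card K * ((2 * Nat.card K + 1) * (Nat.card K + 1)) * (2 * Nat.card K) := by ring
        _ ≤ _ := hE0
        _ = _ := by ring
    exact Nat.le_of_mul_le_mul_left this hpos
  have hinf : Subgroup.normalizer ((Subgroup.centralizer ({y} : Set G) : Subgroup G) : Set G) ⊓ K = K :=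
    Subgroup.eq_of_le_of_card_ge inf_le_right hw
  rw [hinf] at hB15
  exact hB15

-- E7
theorem plus_concl (hp : HypPlus t K s) : Concl G := by
  have h := hp.h
  have hk := hp.hk
  obtain ⟨y, hy, hc, hty⟩ := plus_exists_torus hp
  rw [Concl_def]
  refine ⟨Subgroup.centralizer ({y} : Set G), K, ?_, ?_, h.hKab, ?_, ?_, ?_, ?_⟩
  · rw [hc, card_G h, hp.hn]
    have e1 : 2 * Nat.card K + 1 - 1 = 2 * Nat.card K := by omega
    rw [e1]
    ring
  · intro x hx hx1
    exact (torus_cent h hy hx hx1).1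
  · rw [hc]
  · have := torus_inf_Kz h hy h.ht
    rw [Kz_t h] at this
    exact this
  · exact plus_K_le_normalizer hp hy hc hty
  · intro X hX hX1
    have hK1 : K ≠ ⊥ := by
      intro hbot
      have := h.htK
      rw [hbot, Subgroup.mem_bot] at this
      exact h9_inv_ne_one h.ht this
    have hNX := normalizer_sub_K h hX hX1
    have hNK := normalizer_sub_K h (le_refl K) hK1
    refine ⟨by rw [hNX, hNK], s, h.hs, h.hsK, h.hinv, ?_⟩
    rw [hNK, h.hH]

end Cfsg.Agent.Lead.Bsw
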