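import Mathlib
import Cfsg.Agent.Helper9.PrimSimple

set_option autoImplicit false

/-!
A criterion of simplicity for primitive groups: the full power of a prime `p` dividing the order
of the group divides the degree, and the group is generated by its `p`-elements.
-/

namespace Cfsg.Agent.Helper9

open MulAction

theorem simple_of_prim_sylow {G X : Type*} [Group G] [Finite G] [MulAction G X]
    [FaithfulSMul G X] [IsPreprimitive G X] [Nontrivial G] (a : X) (p k : ℕ) (hp : p.Prime)
    (hk : p ^ k ∣ Nat.card X) (hG : ¬ p ^ (k + 1) ∣ Nat.card G)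
    (hgen : ∀ V : Subgroup G, (∀ x : G, x ^ (p ^ k) = 1 → x ∈ V) → V = ⊤) :
    IsSimpleGroup G := by
  refine ⟨fun N hN => ?_⟩
  by_cases hne : N = ⊥
  · exact Or.inl hne
  right
  haveI := hN
  have hdvd : p ^ k ∣ Nat.card N := hk.trans (prim_normal_card (X := X) a N hne)
  have hidx : ¬ p ∣ N.index := by
    intro hpi
    apply hG
    rw [← Subgroup.card_mul_index N, pow_succ]
    exact Nat.mul_dvd_mul hdvd hpi
  have hcop : Nat.Coprime (p ^ k) N.index :=
    Nat.Coprime.pow_left k ((Nat.Prime.coprime_iff_not_dvd hp).mpr hidx)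
  apply hgen
  intro x hx
  have h1 : ((QuotientGroup.mk' N) x) ^ (p ^ k) = 1 := by rw [← map_pow, hx, map_one]
  have h2 : ((QuotientGroup.mk' N) x) ^ N.index = 1 := by
    rw [Subgroup.index_eq_card]
    exact pow_card_eq_one'
  have h3 : orderOf ((QuotientGroup.mk' N) x) ∣ Nat.gcd (p ^ k) N.index :=
    Nat.dvd_gcd (orderOf_dvd_of_pow_eq_one h1) (orderOf_dvd_of_pow_eq_one h2)
  rw [hcop, Nat.dvd_one, orderOf_eq_one_iff] at h3
  exact (QuotientGroup.eq_one_iff x).mp h3

end Cfsg.Agent.Helper9
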