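import Mathlib

set_option autoImplicit false

/-! Helper9, maximal class project, piece W: a group of order 81 with centre of order 3 and an elementary abelian
subgroup of order 27 is isomorphic to a Sylow 3-subgroup of the symmetric group of degree 9. -/

namespace Cfsg.Agent.Helper9.MC

open scoped Pointwise

/-- a nontrivial normal subgroup of a finite `p`-group meets the centre nontrivially. -/
theorem normal_meets_center {Q : Type*} [Group Q] [Finite Q] {p : ℕ} [hp : Fact p.Prime]
    (hQ : IsPGroup p Q) (M : Subgroup Q) [hM : M.Normal] (hMne : M ≠ ⊥) :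
    ∃ b ∈ M, b ≠ 1 ∧ b ∈ Subgroup.center Q := by
  have hQ' : IsPGroup p (ConjAct Q) := hQ
  have hcard : p ∣ Nat.card M := by
    obtain ⟨k, hk⟩ := (hQ.to_subgroup M).exists_card_eq
    have hk0 : k ≠ 0 := by
      rintro rfl
      rw [pow_zero] at hk
      exact hMne (Subgroup.card_eq_one.1 hk)
    rw [hk]
    exact dvd_pow_self p hk0
  have h1 : (1 : M) ∈ MulAction.fixedPoints (ConjAct Q) M := by
    intro g
    exact smul_one g
  obtain ⟨b, hb, hne⟩ := hQ'.exists_fixed_point_of_prime_dvd_card_of_fixed_point M hcard h1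
  refine ⟨(b : Q), b.2, ?_, ?_⟩
  · intro h
    apply hne
    exact (Subtype.ext h).symm
  · rw [Subgroup.mem_center_iff]
    intro g
    have h2 := hb (ConjAct.toConjAct g)
    have h3 := congrArg Subtype.val h2
    rw [ConjAct.Subgroup.val_conj_smul, ConjAct.smul_def, ConjAct.ofConjAct_toConjAct] at h3
    calc g * b = g * b * g⁻¹ * g := by group
      _ = b * g := by rw [h3]

/-- the subgroup generated by two commuting elements, as the set of the products of their powers. -/
def genTwo {S : Type*} [Group S] (a b : S) (hc : Commute a b) : Subgroup S where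
  carrier := {x | ∃ i j : ℤ, x = a ^ i * b ^ j}
  one_mem' := ⟨0, 0, by simp⟩
  mul_mem' := by
    rintro _ _ ⟨i, j, rfl⟩ ⟨k, l, rfl⟩
    refine ⟨i + k, j + l, ?_⟩
    have hcz : Commute (b ^ j) (a ^ k) := (hc.symm.zpow_zpow j k)
    rw [zpow_add, zpow_add]
    calc a ^ i * b ^ j * (a ^ k * b ^ l) = a ^ i * (b ^ j * a ^ k) * b ^ l := by group
      _ = a ^ i * (a ^ k * b ^ j) * b ^ l := by rw [hcz.eq]
      _ = a ^ i * a ^ k * (b ^ j * b ^ l) := by group
  inv_mem' := by
    rintro _ ⟨i, j, rfl⟩
    refine ⟨-i, -j, ?_⟩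
    have hcz : Commute (b ^ (-j)) (a ^ (-i)) := (hc.symm.zpow_zpow (-j) (-i))
    rw [mul_inv_rev, ← zpow_neg, ← zpow_neg]
    exact hcz.eq

theorem mem_genTwo {S : Type*} [Group S] (a b : S) (hc : Commute a b) (x : S) :
    x ∈ genTwo a b hc ↔ ∃ i j : ℤ, x = a ^ i * b ^ j := Iff.rfl

/-- a power of an element of order three that is not the identity generates the element. -/
theorem eq_zpow_of_order_three {S : Type*} [Group S] {b : S} (hb : orderOf b = 3) {j : ℤ} (h : b ^ j ≠ 1) :
    (b ^ j) ^ j = b := by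
  have h3 : ¬ (3 : ℤ) ∣ j := by
    intro hd
    apply h
    rw [← orderOf_dvd_iff_zpow_eq_one, hb]
    exact_mod_cast hd
  rw [← zpow_mul]
  nth_rewrite 2 [← zpow_one b]
  rw [zpow_eq_zpow_iff_modEq, hb]
  have h1 : j % 3 = 1 ∨ j % 3 = 2 := by omega
  unfold Int.ModEq
  push_cast
  rw [Int.mul_emod]
  rcases h1 with h1 | h1 <;> rw [h1] <;> rfl

theorem sylow_perm_nine_of_card_81 {S : Type*} [Group S] [Finite S] (hcard : Nat.card S = 81)
    (hZ : Nat.card (Subgroup.center S) = 3) (A : Subgroup S) (hA : Nat.card A = 27)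
    (hexp : ∀ a ∈ A, a ^ 3 = 1) (hab : ∀ a ∈ A, ∀ b ∈ A, a * b = b * a) :
    ∃ W : Sylow 3 (Equiv.Perm (Fin 9)),
      Nonempty (S ≃* ↥(W : Subgroup (Equiv.Perm (Fin 9)))) := by
  classical
  haveI : Fact (Nat.Prime 3) := ⟨by norm_num⟩
  have hS3 : IsPGroup 3 S := IsPGroup.of_card (n := 4) (by rw [hcard]; norm_num)
  -- the first element, outside the centre
  obtain ⟨a, haA, haZ⟩ : ∃ a ∈ A, a ∉ Subgroup.center S := by
    by_contra hcon
    push Not at hcon
    have := Subgroup.card_le_of_le (show A ≤ Subgroup.center S from hcon)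
    rw [hA, hZ] at this
    omega
  have ha1 : a ≠ 1 := by
    rintro rfl
    exact haZ (Subgroup.one_mem _)
  have horda : orderOf a = 3 := orderOf_eq_prime (hexp a haA) ha1
  -- the second element, outside the group generated by the first and the centre
  have hcardH1 : Nat.card ↥(Subgroup.zpowers a ⊔ Subgroup.center S) ≤ 9 := by
    have h1 : Nat.card ↥(Subgroup.zpowers a ⊔ Subgroup.center S) =
        Nat.card ↥((Subgroup.zpowers a : Set S) * (Subgroup.center S : Set S)) := by
      rw [← Subgroup.mul_normal]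
      rfl
    rw [h1]
    refine Set.natCard_mul_le.trans ?_
    have h2 : Nat.card ↥(Subgroup.zpowers a : Set S) = 3 := by
      rw [← horda]
      exact Nat.card_zpowers a
    have h3 : Nat.card ↥(Subgroup.center S : Set S) = 3 := hZ
    rw [h2, h3]
  obtain ⟨b, hbA, hbH⟩ : ∃ b ∈ A, b ∉ Subgroup.zpowers a ⊔ Subgroup.center S := by
    by_contra hcon
    push Not at hcon
    have := Subgroup.card_le_of_le (show A ≤ Subgroup.zpowers a ⊔ Subgroup.center S from hcon)
    rw [hA] at this
    omega
  have hb1 : b ≠ 1 := by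
    rintro rfl
    exact hbH (Subgroup.one_mem _)
  have hordb : orderOf b = 3 := orderOf_eq_prime (hexp b hbA) hb1
  have hc : Commute a b := hab a haA b hbA
  -- the subgroup of order nine
  have haB : a ∈ genTwo a b hc := ⟨1, 0, by simp⟩
  have hbB : b ∈ genTwo a b hc := ⟨0, 1, by simp⟩
  have hBle : Nat.card ↥(genTwo a b hc) ≤ 9 := by
    let f : Fin 3 × Fin 3 → S := fun q => a ^ (q.1 : ℕ) * b ^ (q.2 : ℕ)
    have hsub : ((genTwo a b hc : Subgroup S) : Set S) ⊆ ↑(Finset.univ.image f) := by
      rintro x ⟨i, j, rfl⟩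
      rw [Finset.coe_image, Finset.coe_univ, Set.image_univ]
      have hi0 : 0 ≤ i % 3 := Int.emod_nonneg _ (by norm_num)
      have hi3 : i % 3 < 3 := Int.emod_lt_of_pos _ (by norm_num)
      have hj0 : 0 ≤ j % 3 := Int.emod_nonneg _ (by norm_num)
      have hj3 : j % 3 < 3 := Int.emod_lt_of_pos _ (by norm_num)
      refine ⟨(⟨(i % 3).toNat, by omega⟩, ⟨(j % 3).toNat, by omega⟩), ?_⟩
      show a ^ (i % 3).toNat * b ^ (j % 3).toNat = a ^ i * b ^ j
      have e1 : a ^ (i % 3).toNat = a ^ i := by
        rw [← zpow_natCast, Int.toNat_of_nonneg hi0]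
        have := zpow_mod_orderOf a i
        rw [horda] at this
        exact this
      have e2 : b ^ (j % 3).toNat = b ^ j := by
        rw [← zpow_natCast, Int.toNat_of_nonneg hj0]
        have := zpow_mod_orderOf b j
        rw [hordb] at this
        exact this
      rw [e1, e2]
    have h1 : Nat.card ↥(genTwo a b hc) = ((genTwo a b hc : Subgroup S) : Set S).ncard := rfl
    rw [h1]
    calc ((genTwo a b hc : Subgroup S) : Set S).ncard ≤ (↑(Finset.univ.image f) : Set S).ncard :=
          Set.ncard_le_ncard hsub (Set.toFinite _)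
      _ = (Finset.univ.image f).card := Set.ncard_coe_finset _
      _ ≤ (Finset.univ : Finset (Fin 3 × Fin 3)).card := Finset.card_image_le
      _ = 9 := by simp
  have hBge : 9 ≤ Nat.card ↥(genTwo a b hc) := by
    have hle : Subgroup.zpowers a ≤ genTwo a b hc := by
      rw [Subgroup.zpowers_le]
      exact haB
    have hne : Subgroup.zpowers a ≠ genTwo a b hc := by
      intro h
      apply hbH
      apply (le_sup_left : Subgroup.zpowers a ≤ Subgroup.zpowers a ⊔ Subgroup.center S)
      rw [h]
      exact hbB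
    obtain ⟨n, hn⟩ := (hS3.to_subgroup (genTwo a b hc)).exists_card_eq
    have h3 : Nat.card ↥(Subgroup.zpowers a) = 3 := by
      rw [← horda]
      exact Nat.card_zpowers a
    have hlt : 3 < Nat.card ↥(genTwo a b hc) := by
      rcases lt_or_eq_of_le (Subgroup.card_le_of_le hle) with h | h
      · rw [h3] at h
        exact h
      · exact absurd (Subgroup.eq_of_le_of_card_ge hle (le_of_eq h.symm)) hne
    rw [hn] at hlt ⊢
    have hn2 : 2 ≤ n := by
      by_contra hcon
      push Not at hcon
      interval_cases n <;> omega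
    calc 9 = 3 ^ 2 := by norm_num
      _ ≤ 3 ^ n := Nat.pow_le_pow_right (by norm_num) hn2
  have hBcard : Nat.card ↥(genTwo a b hc) = 9 := le_antisymm hBle hBge
  -- it meets the centre trivially
  have hBZ : ∀ x ∈ genTwo a b hc, x ∈ Subgroup.center S → x = 1 := by
    rintro x ⟨i, j, rfl⟩ hx
    have hbj : b ^ j = 1 := by
      by_contra hne
      apply hbH
      rw [← eq_zpow_of_order_three hordb hne]
      apply Subgroup.zpow_mem
      have e : b ^ j = a ^ (-i) * (a ^ i * b ^ j) := by
        rw [← mul_assoc, ← zpow_add]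
        simp
      rw [e]
      exact Subgroup.mul_mem _ ((le_sup_left : Subgroup.zpowers a ≤ _) (Subgroup.zpow_mem_zpowers a _))
        ((le_sup_right : Subgroup.center S ≤ _) hx)
    rw [hbj, mul_one] at hx ⊢
    by_contra hne
    apply haZ
    rw [← eq_zpow_of_order_three horda hne]
    exact Subgroup.zpow_mem _ hx _
  -- the core is trivial
  have hcore : (genTwo a b hc).normalCore = ⊥ := by
    by_contra hne
    obtain ⟨c, hcM, hc1, hcZ⟩ := normal_meets_center hS3 (genTwo a b hc).normalCore hne
    exact hc1 (hBZ c (Subgroup.normalCore_le _ hcM) hcZ)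
  -- the action on the cosets
  have hinj : Function.Injective (MulAction.toPermHom S (S ⧸ genTwo a b hc)) := by
    rw [← MonoidHom.ker_eq_bot_iff, ← Subgroup.normalCore_eq_ker]
    exact hcore
  have hq : Nat.card (S ⧸ genTwo a b hc) = 9 := by
    have h1 := Subgroup.card_eq_card_quotient_mul_card_subgroup (genTwo a b hc)
    rw [hcard, hBcard] at h1
    omega
  let e : (S ⧸ genTwo a b hc) ≃ Fin 9 := Finite.equivFinOfCardEq hq
  let ψ : S →* Equiv.Perm (Fin 9) :=
    (Equiv.permCongrHom e).toMonoidHom.comp (MulAction.toPermHom S (S ⧸ genTwo a b hc))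
  have hψ : Function.Injective ψ := (Equiv.permCongrHom e).injective.comp hinj
  have hrange : Nat.card ↥ψ.range = 81 := by
    rw [← Nat.card_congr (MonoidHom.ofInjective hψ).toEquiv, hcard]
  have hfact : (Nat.card (Equiv.Perm (Fin 9))).factorization 3 = 4 := by
    rw [Nat.card_perm, Nat.card_eq_fintype_card, Fintype.card_fin]
    have e9 : Nat.factorial 9 = 3 ^ 4 * 4480 := by decide
    rw [e9, Nat.factorization_mul (by norm_num) (by norm_num), Nat.Prime.factorization_pow (by norm_num)]
    have h0 : (4480 : ℕ).factorization 3 = 0 := Nat.factorization_eq_zero_of_not_dvd (by norm_num)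
    simp [h0]
  refine ⟨Sylow.ofCard ψ.range (by rw [hrange, hfact]; norm_num), ⟨?_⟩⟩
  exact MonoidHom.ofInjective hψ

end Cfsg.Agent.Helper9.MC
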