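import Cfsg.Agent.Helper8.TensA

set_option autoImplicit false
set_option linter.unusedSectionVars false
set_option linter.unusedVariables false

/-! S5666, case `dim U = 2` (helper4's direct route), step (S3) (helper9): the `W`-support of the
plane `g₀ (U ⊗ y)` has dimension at most `4`. -/

namespace Cfsg.Agent.Helper9.SpOA2

open Module Cfsg.Agent.Helper7.ExtF Cfsg.Agent.Helper8.Tens

variable {F : Type*} [Field F] {U W V : Type*} [AddCommGroup U] [Module F U]
  [AddCommGroup W] [Module F W] [AddCommGroup V] [Module F V]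
  {t : U →ₗ[F] W →ₗ[F] V}

/-- the bilinear map `(u, a) ↦ evU (f₁ u) (g₀ (t a y))`. -/
noncomputable def suppMap (ht : IsTensorProduct t) (f₁ : LinearMap.BilinForm F U)
    (g₀ : V ≃ₗ[F] V) (y : W) : U →ₗ[F] U →ₗ[F] W :=
  LinearMap.mk₂ F (fun u a => evU ht (f₁ u) (g₀ (t a y)))
    (fun u u' a => by
      show evU ht (f₁ (u + u')) _ = _
      rw [map_add, evU_add, LinearMap.add_apply])
    (fun c u a => by
      show evU ht (f₁ (c • u)) _ = _
      rw [map_smul, evU_smul, LinearMap.smul_apply])
    (fun u a a' => by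
      show evU ht (f₁ u) (g₀ (t (a + a') y)) = _
      rw [map_add, LinearMap.add_apply, map_add, map_add])
    (fun c u a => by
      show evU ht (f₁ u) (g₀ (t (c • a) y)) = _
      rw [map_smul, LinearMap.smul_apply, map_smul, map_smul])

theorem suppMap_apply (ht : IsTensorProduct t) (f₁ : LinearMap.BilinForm F U)
    (g₀ : V ≃ₗ[F] V) (y : W) (u a : U) :
    suppMap ht f₁ g₀ y u a = evU ht (f₁ u) (g₀ (t a y)) := rfl

/-- the values of a bilinear map on a space with a finite basis lie in the span of the values on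
the basis. -/
theorem bilin_mem_span {ι : Type*} [Fintype ι] (b : Basis ι F U) (φ : U →ₗ[F] U →ₗ[F] W)
    (u a : U) : φ u a ∈ Submodule.span F (Set.range (fun p : ι × ι => φ (b p.1) (b p.2))) := by
  have hu : u = ∑ i : ι, (b.repr u i : F) • (b i : U) := (b.sum_repr u).symm
  have ha : a = ∑ i : ι, (b.repr a i : F) • (b i : U) := (b.sum_repr a).symm
  -- first in `a`
  have h1 : ∀ x : U, ∀ j : ι, φ x (b j) ∈ Submodule.span F (Set.range (fun p : ι × ι => φ (b p.1) (b p.2))) := by
    intro x j
    have hx : x = ∑ i : ι, (b.repr x i : F) • (b i : U) := (b.sum_repr x).symm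
    rw [hx, map_sum, LinearMap.sum_apply]
    refine Submodule.sum_mem _ (fun i _ => ?_)
    rw [map_smul, LinearMap.smul_apply]
    exact Submodule.smul_mem _ _ (Submodule.subset_span ⟨(i, j), rfl⟩)
  rw [ha, map_sum]
  refine Submodule.sum_mem _ (fun j _ => ?_)
  rw [map_smul]
  exact Submodule.smul_mem _ _ (h1 u j)

/-- **(S3)**: the `W`-support of `g₀ (U ⊗ y)` has dimension at most `4` when `dim U = 2`. -/
theorem finrank_suppW [FiniteDimensional F U] [FiniteDimensional F W]
    (ht : IsTensorProduct t) (hU2 : finrank F U = 2)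
    (f₁ : LinearMap.BilinForm F U) (g₀ : V ≃ₗ[F] V) (y : W) :
    finrank F ↥(Submodule.span F {w | ∃ u a : U, evU ht (f₁ u) (g₀ (t a y)) = w}) ≤ 4 := by
  set b : Basis (Fin 2) F U := Module.finBasisOfFinrankEq F U hU2 with hb
  set φ := suppMap ht f₁ g₀ y with hφ
  set ψ : Fin 2 × Fin 2 → W := fun p => φ (b p.1) (b p.2) with hψ
  have hle : Submodule.span F {w | ∃ u a : U, evU ht (f₁ u) (g₀ (t a y)) = w} ≤
      Submodule.span F (Set.range ψ) := by
    rw [Submodule.span_le]
    rintro w ⟨u, a, rfl⟩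
    exact bilin_mem_span b φ u a
  have h1 := Submodule.finrank_mono hle
  have h2 : finrank F ↥(Submodule.span F (Set.range ψ)) ≤ Fintype.card (Fin 2 × Fin 2) :=
    finrank_range_le_card ψ
  have h3 : Fintype.card (Fin 2 × Fin 2) = 4 := by simp
  omega

end Cfsg.Agent.Helper9.SpOA2
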