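import Cfsg.Agent.Helper8.TensSA

set_option autoImplicit false
set_option linter.unusedSectionVars false
set_option linter.unusedVariables false

/-! Tensor decompositions (helper9): the flipped bilinear map `t.flip : W →ₗ U →ₗ V` of a tensor
product is a tensor product, so that every statement on fibres `U ⊗ w` and root elements
`1 ⊗ (1 + w l)` of the second factor applies to fibres `u ⊗ W` and root elements of the first
factor. -/

namespace Cfsg.Agent.Helper9.TensFlip

open Module Cfsg.Agent.Helper7.ExtF Cfsg.Agent.Helper8.Tens

variable {F : Type*} [Field F] {U W V : Type*} [AddCommGroup U] [Module F U]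
  [AddCommGroup W] [Module F W] [AddCommGroup V] [Module F V]
  {t : U →ₗ[F] W →ₗ[F] V}

/-- the flip of a tensor product is a tensor product. -/
theorem isTP_flip (ht : IsTensorProduct t) : IsTensorProduct t.flip := by
  have h : TensorProduct.lift t.flip =
      (TensorProduct.lift t).comp (TensorProduct.comm F W U).toLinearMap := by
    apply TensorProduct.ext'
    intro w u
    simp
  unfold IsTensorProduct at ht ⊢
  rw [h]
  exact ht.comp (TensorProduct.comm F W U).bijective

@[simp] theorem flip_flip (t : U →ₗ[F] W →ₗ[F] V) : t.flip.flip = t := by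
  ext u w; rfl

/-- the fibre of the flipped map is `u ⊗ W`. -/
theorem mem_fib_flip {u : U} {v : V} : v ∈ fib t.flip u ↔ ∃ w, t u w = v := by
  rw [mem_fib]; rfl

/-- a tensor for the flipped map is a tensor. -/
theorem isTens_flip_iff {g : V ≃ₗ[F] V} : IsTens t.flip g ↔ IsTens t g := by
  constructor
  · rintro ⟨B, A, h⟩
    exact ⟨A, B, fun u w => h w u⟩
  · rintro ⟨A, B, h⟩
    exact ⟨B, A, fun w u => h u w⟩

/-- evaluation for the flipped map. -/
theorem ev_flip (ht : IsTensorProduct t) (a : Module.Dual F U) (v : V) :
    ev (isTP_flip ht) a v = evU ht a v := by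
  have : ev (isTP_flip ht) a = evU ht a := by
    apply ext_pure ht
    intro u w
    rw [evU_t]
    exact ev_t (isTP_flip ht) a w u
  exact LinearMap.congr_fun this v

/-- root elements for the flipped map. -/
theorem xB_flip (ht : IsTensorProduct t) (u : U) (a : Module.Dual F U) (h : a u = 0) :
    xB (isTP_flip ht) u a h = xA ht u a h := by
  apply LinearEquiv.ext
  intro v
  rw [xB_apply, xA_apply, ev_flip]
  rfl

theorem yB_flip (ht : IsTensorProduct t) (f₁ : LinearMap.BilinForm F U) (halt₁ : ∀ u, f₁ u u = 0)
    (u : U) (c : F) : yB (isTP_flip ht) f₁ halt₁ u c = yA ht f₁ halt₁ u c :=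
  xB_flip ht u _ _

end Cfsg.Agent.Helper9.TensFlip
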