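import Mathlib
import Cfsg.Prelude

set_option autoImplicit false

/-!
Tools for isomorphisms: the projective special linear groups of isomorphic rings, and an
isomorphism from a subgroup of a product that is the graph of a correspondence.
-/

namespace Cfsg.Agent.Helper9

/-- an isomorphism carries the centre onto the centre. -/
theorem map_center_of_mulEquiv {G H : Type*} [Group G] [Group H] (e : G ≃* H) :
    (Subgroup.center G).map (e : G →* H) = Subgroup.center H := by
  ext y
  constructor
  · rintro ⟨x, hx, rfl⟩
    rw [Subgroup.mem_center_iff]
    intro h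
    have h1 := Subgroup.mem_center_iff.mp hx (e.symm h)
    have h2 := congrArg e h1
    simpa using h2
  · intro hy
    refine ⟨e.symm y, ?_, by simp⟩
    change e.symm y ∈ Subgroup.center G
    rw [Subgroup.mem_center_iff]
    intro g
    have h1 := Subgroup.mem_center_iff.mp hy (e g)
    apply e.injective
    simpa using h1

/-- the special linear groups of isomorphic rings. -/
def slCongr {n : Type*} [Fintype n] [DecidableEq n] {R S : Type*} [CommRing R] [CommRing S]
    (e : R ≃+* S) : Matrix.SpecialLinearGroup n R ≃* Matrix.SpecialLinearGroup n S where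
  toFun := Matrix.SpecialLinearGroup.map e.toRingHom
  invFun := Matrix.SpecialLinearGroup.map e.symm.toRingHom
  left_inv := by
    intro A
    apply Subtype.ext
    ext i j
    change e.symm (e (A.1 i j)) = A.1 i j
    simp
  right_inv := by
    intro A
    apply Subtype.ext
    ext i j
    change e (e.symm (A.1 i j)) = A.1 i j
    simp
  map_mul' := map_mul _

/-- the projective special linear groups of isomorphic rings. -/
noncomputable def pslCongr {n : Type*} [Fintype n] [DecidableEq n] {R S : Type*} [CommRing R]
    [CommRing S] (e : R ≃+* S) :
    Matrix.ProjectiveSpecialLinearGroup n R ≃* Matrix.ProjectiveSpecialLinearGroup n S :=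
  QuotientGroup.congr _ _ (slCongr e) (map_center_of_mulEquiv (slCongr e))

/-- a subgroup of a product whose two projections are injective, the first one being onto a
generating set, gives an isomorphism when the second group is not larger. -/
theorem iso_of_graph {H T : Type*} [Group H] [Group T] [Finite H] [Finite T]
    (R : Subgroup (H × T))
    (h1 : ∀ t : T, ((1 : H), t) ∈ R → t = 1)
    (h2 : ∀ h : H, (h, (1 : T)) ∈ R → h = 1)
    (S : Set H) (hS : Subgroup.closure S = ⊤) (h3 : ∀ s ∈ S, ∃ t : T, (s, t) ∈ R)
    (hcard : Nat.card T ≤ Nat.card H) : Nonempty (H ≃* T) := by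
  let pH : R →* H := (MonoidHom.fst H T).comp R.subtype
  let pT : R →* T := (MonoidHom.snd H T).comp R.subtype
  have hHinj : Function.Injective pH := by
    rw [injective_iff_map_eq_one]
    rintro ⟨⟨h, t⟩, hr⟩ he
    change h = 1 at he
    subst he
    have := h1 t hr
    subst this
    rfl
  have hTinj : Function.Injective pT := by
    rw [injective_iff_map_eq_one]
    rintro ⟨⟨h, t⟩, hr⟩ he
    change t = 1 at he
    subst he
    have := h2 h hr
    subst this
    rfl
  have hHsurj : Function.Surjective pH := by
    rw [← MonoidHom.range_eq_top, eq_top_iff, ← hS, Subgroup.closure_le]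
    intro s hs
    obtain ⟨t, ht⟩ := h3 s hs
    exact ⟨⟨(s, t), ht⟩, rfl⟩
  let eH : R ≃* H := MulEquiv.ofBijective pH ⟨hHinj, hHsurj⟩
  have hTbij : Function.Bijective pT := by
    apply Function.Injective.bijective_of_nat_card_le hTinj
    rw [Nat.card_congr eH.toEquiv]
    exact hcard
  exact ⟨eH.symm.trans (MulEquiv.ofBijective pT hTbij)⟩

end Cfsg.Agent.Helper9
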