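import Mathlib

set_option autoImplicit false

/-!
Normalizers and centralizers of conjugate subgroups, and the order of the normalizer of a Sylow
7-subgroup of order 7 in a group of order 244823040 whose centralizer has order 42.
-/

namespace Cfsg.Agent.Helper9.ConjT

variable {G : Type*} [Group G]

theorem normalizer_conj_iff (H K : Subgroup G) (c : G) (hK : ∀ x, x ∈ K ↔ c⁻¹ * x * c ∈ H)
    (g : G) : g ∈ Subgroup.normalizer (K : Set G) ↔
      c⁻¹ * g * c ∈ Subgroup.normalizer (H : Set G) := by
  rw [Subgroup.mem_normalizer_iff, Subgroup.mem_normalizer_iff]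
  constructor
  · intro hg h
    have := hg (c * h * c⁻¹)
    rw [hK, hK] at this
    have e1 : c⁻¹ * (c * h * c⁻¹) * c = h := by group
    have e2 : c⁻¹ * (g * (c * h * c⁻¹) * g⁻¹) * c = (c⁻¹ * g * c) * h * (c⁻¹ * g * c)⁻¹ := by
      group
    rw [e1, e2] at this
    exact this
  · intro hg k
    have := hg (c⁻¹ * k * c)
    rw [hK k, hK (g * k * g⁻¹)]
    have e : c⁻¹ * (g * k * g⁻¹) * c = (c⁻¹ * g * c) * (c⁻¹ * k * c) * (c⁻¹ * g * c)⁻¹ := by
      group
    rw [e]
    exact this

theorem centralizer_conj_iff (H K : Subgroup G) (c : G) (hK : ∀ x, x ∈ K ↔ c⁻¹ * x * c ∈ H)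
    (g : G) : g ∈ Subgroup.centralizer (K : Set G) ↔
      c⁻¹ * g * c ∈ Subgroup.centralizer (H : Set G) := by
  rw [Subgroup.mem_centralizer_iff, Subgroup.mem_centralizer_iff]
  constructor
  · intro hg h hh
    have hk : c * h * c⁻¹ ∈ K := by
      rw [hK]
      have e1 : c⁻¹ * (c * h * c⁻¹) * c = h := by group
      rw [e1]
      exact hh
    have := hg _ hk
    calc h * (c⁻¹ * g * c) = c⁻¹ * (c * h * c⁻¹ * g) * c := by group
      _ = c⁻¹ * (g * (c * h * c⁻¹)) * c := by rw [this]
      _ = c⁻¹ * g * c * h := by group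
  · intro hg k hk
    have := hg _ ((hK k).mp hk)
    calc k * g = c * (c⁻¹ * k * c * (c⁻¹ * g * c)) * c⁻¹ := by group
      _ = c * (c⁻¹ * g * c * (c⁻¹ * k * c)) * c⁻¹ := by rw [this]
      _ = g * k := by group

theorem card_of_conj_iff (A B : Subgroup G) (c : G) (h : ∀ g, g ∈ A ↔ c⁻¹ * g * c ∈ B) :
    Nat.card A = Nat.card B := by
  apply Nat.card_congr
  refine (MulAut.conj c⁻¹).toEquiv.subtypeEquiv (fun g => ?_)
  rw [h g]
  simp

/-- the order of the normalizer, from Sylow's theorem. -/
theorem card_normalizer_seven [Finite G] (S : Subgroup G) (hS : Nat.card S = 7)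
    (hG : Nat.card G = 244823040)
    (hC : Nat.card (Subgroup.centralizer (S : Set G)) = 42) :
    Nat.card (Subgroup.normalizer (S : Set G)) = 126 := by
  have hp : Fact (Nat.Prime 7) := ⟨by norm_num⟩
  have hG0 : Nat.card G ≠ 0 := Nat.card_pos.ne'
  have h1 : 1 ≤ (Nat.card G).factorization 7 := by
    apply (hp.out.pow_dvd_iff_le_factorization hG0).mp
    rw [hG]
    decide
  have h2 : ¬ 2 ≤ (Nat.card G).factorization 7 := by
    intro h
    have := (hp.out.pow_dvd_iff_le_factorization hG0).mpr h
    rw [hG] at this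
    revert this
    decide
  have hfac : (Nat.card G).factorization 7 = 1 := by omega
  let P : Sylow 7 G := Sylow.ofCard S (by rw [hS, hfac, pow_one])
  have hidx : Nat.card (Sylow 7 G) = (Subgroup.normalizer ((P : Subgroup G) : Set G)).index :=
    P.card_eq_index_normalizer
  have hPS : (P : Subgroup G) = S := rfl
  rw [hPS] at hidx
  have hmod : Nat.card (Sylow 7 G) % 7 = 1 := card_sylow_modEq_one 7 G
  have hNi := Subgroup.card_mul_index (Subgroup.normalizer (S : Set G))
  have hker := Subgroup.card_mul_index (S.normalizerMonoidHom).ker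
  rw [Subgroup.index_ker, Subgroup.normalizerMonoidHom_ker] at hker
  have hkc : Nat.card ((Subgroup.centralizer (S : Set G)).subgroupOf
      (Subgroup.normalizer (S : Set G))) = 42 := by
    rw [← hC]
    exact Nat.card_congr
      (Subgroup.subgroupOfEquivOfLe (Subgroup.centralizer_le_normalizer _)).toEquiv
  rw [hkc] at hker
  have hcyc : IsCyclic S := isCyclic_of_prime_card hS
  have hdvd : Nat.card (S.normalizerMonoidHom).range ∣ 6 := by
    have := Subgroup.card_subgroup_dvd_card (S.normalizerMonoidHom).range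
    rw [IsCyclic.card_mulAut, hS, Nat.totient_prime hp.out] at this
    exact this
  have hle := Nat.le_of_dvd (by norm_num) hdvd
  rw [hidx] at hmod
  rw [hG] at hNi
  generalize Nat.card (S.normalizerMonoidHom).range = j at *
  generalize Nat.card (Subgroup.normalizer (S : Set G)) = n at *
  generalize (Subgroup.normalizer (S : Set G)).index = i at *
  have hn : n = 42 * j := hker.symm
  subst hn
  interval_cases j <;> omega

end Cfsg.Agent.Helper9.ConjT
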