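import Mathlib
import Cfsg.Prelude.Def_BaumannBlocks
import Cfsg.Agent.Helper1.ThompsonSub

set_option autoImplicit false

/-!
Helper9: Thompson and Baumann subgroups of subgroups of an ambient group, in ambient language:
transport along automorphisms, and the fact that a `p`-subgroup `T₀` containing `J(T)` (resp. `B(T)`),
`T` a Sylow `p`-subgroup, has `J(T₀) = J(T)` (resp. `B(T₀) = B(T)`).
-/

namespace Cfsg.Agent.Helper9.BB

open Cfsg.Agent.Helper1

universe u

variable {G : Type u} [Group G]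

/-- `A` is an elementary abelian `p`-subgroup of `S` of largest order (ambient formulation). -/
def MaxEA (p : ℕ) (S A : Subgroup G) : Prop :=
  A ≤ S ∧ Cfsg.IsElementaryAbelian p A ∧
    ∀ B : Subgroup G, B ≤ S → Cfsg.IsElementaryAbelian p B → Nat.card B ≤ Nat.card A

theorem card_subgroupOf_le {H L : Subgroup G} (h : H ≤ L) :
    Nat.card (H.subgroupOf L) = Nat.card H :=
  Nat.card_congr (Subgroup.subgroupOfEquivOfLe h).toEquiv

theorem maxEA_map_subtype {p : ℕ} {S : Subgroup G} {A' : Subgroup S}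
    (hA' : A' ∈ Cfsg.maxElementaryAbelianSubgroups p S) : MaxEA p S (A'.map S.subtype) := by
  refine ⟨Subgroup.map_subtype_le A', IsElementaryAbelian_map hA'.1 _, ?_⟩
  intro B hB hBe
  rw [Subgroup.card_map_of_injective S.subtype_injective]
  have := hA'.2 (B.subgroupOf S)
    (IsElementaryAbelian_comap_of_injective hBe S.subtype S.subtype_injective)
  rwa [card_subgroupOf_le hB] at this

theorem MaxEA.subgroupOf_mem {p : ℕ} {S A : Subgroup G} (hA : MaxEA p S A) :
    A.subgroupOf S ∈ Cfsg.maxElementaryAbelianSubgroups p S := by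
  refine ⟨IsElementaryAbelian_comap_of_injective hA.2.1 S.subtype S.subtype_injective, ?_⟩
  intro B' hB'
  rw [card_subgroupOf_le hA.1, ← Subgroup.card_map_of_injective S.subtype_injective]
  exact hA.2.2 _ (Subgroup.map_subtype_le B') (IsElementaryAbelian_map hB' _)

theorem MaxEA.le_thompson {p : ℕ} {S A : Subgroup G} (hA : MaxEA p S A) :
    A ≤ Cfsg.thompsonSubgroupOf p S := by
  rw [Cfsg.thompsonSubgroupOf, ← Subgroup.map_subgroupOf_eq_of_le hA.1]
  exact Subgroup.map_mono (le_sSup hA.subgroupOf_mem)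

theorem thompson_le_of_forall {p : ℕ} {S H : Subgroup G} (h : ∀ A, MaxEA p S A → A ≤ H) :
    Cfsg.thompsonSubgroupOf p S ≤ H := by
  rw [Cfsg.thompsonSubgroupOf, Subgroup.map_le_iff_le_comap]
  apply sSup_le
  intro A' hA'
  rw [← Subgroup.map_le_iff_le_comap]
  exact h _ (maxEA_map_subtype hA')

theorem thompsonSubgroupOf_le (p : ℕ) (S : Subgroup G) : Cfsg.thompsonSubgroupOf p S ≤ S :=
  thompson_le_of_forall fun _ hA => hA.1

theorem exists_maxEA [Finite G] (p : ℕ) (S : Subgroup G) : ∃ A, MaxEA p S A := by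
  obtain ⟨A', hA'⟩ := maxElementaryAbelianSubgroups_nonempty (G := ↥S) p
  exact ⟨_, maxEA_map_subtype hA'⟩

theorem map_symm_map (φ : G ≃* G) (S : Subgroup G) :
    (S.map φ.toMonoidHom).map φ.symm.toMonoidHom = S := by
  ext x
  constructor
  · rintro ⟨_, ⟨s, hs, rfl⟩, rfl⟩
    simpa using hs
  · intro hx
    exact ⟨φ x, ⟨x, hx, rfl⟩, by simp⟩

theorem map_map_symm (φ : G ≃* G) (S : Subgroup G) :
    (S.map φ.symm.toMonoidHom).map φ.toMonoidHom = S := by
  ext x
  constructor
  · rintro ⟨_, ⟨s, hs, rfl⟩, rfl⟩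
    simpa using hs
  · intro hx
    exact ⟨φ.symm x, ⟨x, hx, rfl⟩, by simp⟩

theorem MaxEA.map {p : ℕ} {S A : Subgroup G} (hA : MaxEA p S A) (φ : G ≃* G) :
    MaxEA p (S.map φ.toMonoidHom) (A.map φ.toMonoidHom) := by
  refine ⟨Subgroup.map_mono hA.1, IsElementaryAbelian_map hA.2.1 _, ?_⟩
  intro B hB hBe
  rw [Subgroup.card_map_of_injective φ.injective]
  have h1 : B.map φ.symm.toMonoidHom ≤ S := by
    have := Subgroup.map_mono (f := φ.symm.toMonoidHom) hB
    rwa [map_symm_map] at this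
  have := hA.2.2 _ h1 (IsElementaryAbelian_map hBe _)
  rwa [Subgroup.card_map_of_injective φ.symm.injective] at this

theorem thompsonSubgroupOf_map (p : ℕ) (S : Subgroup G) (φ : G ≃* G) :
    Cfsg.thompsonSubgroupOf p (S.map φ.toMonoidHom) =
      (Cfsg.thompsonSubgroupOf p S).map φ.toMonoidHom := by
  apply le_antisymm
  · apply thompson_le_of_forall
    intro A hA
    have h := hA.map φ.symm
    rw [map_symm_map] at h
    have h2 := Subgroup.map_mono (f := φ.toMonoidHom) h.le_thompson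
    rwa [map_map_symm] at h2
  · rw [Subgroup.map_le_iff_le_comap]
    apply thompson_le_of_forall
    intro A hA
    rw [← Subgroup.map_le_iff_le_comap]
    exact (hA.map φ).le_thompson

theorem centralizer_map (φ : G ≃* G) (H : Subgroup G) :
    Subgroup.centralizer ((H.map φ.toMonoidHom : Subgroup G) : Set G) =
      (Subgroup.centralizer (H : Set G)).map φ.toMonoidHom := by
  ext x
  constructor
  · intro hx
    refine ⟨φ.symm x, ?_, by simp⟩
    show φ.symm x ∈ Subgroup.centralizer (H : Set G)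
    rw [Subgroup.mem_centralizer_iff]
    intro h hh
    have := Subgroup.mem_centralizer_iff.1 hx (φ h) ⟨h, hh, rfl⟩
    apply φ.injective
    simpa using this
  · rintro ⟨c, hc, rfl⟩
    rw [Subgroup.mem_centralizer_iff]
    rintro _ ⟨h, hh, rfl⟩
    have := Subgroup.mem_centralizer_iff.1 hc h hh
    show φ h * φ c = φ c * φ h
    rw [← map_mul, ← map_mul, this]

theorem centerThompsonOf_map (p : ℕ) (S : Subgroup G) (φ : G ≃* G) :
    Cfsg.centerThompsonOf p (S.map φ.toMonoidHom) =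
      (Cfsg.centerThompsonOf p S).map φ.toMonoidHom := by
  unfold Cfsg.centerThompsonOf
  rw [thompsonSubgroupOf_map, centralizer_map, Subgroup.map_inf _ _ _ φ.injective]

theorem omegaOne_map (p : ℕ) (H : Subgroup G) (φ : G ≃* G) :
    Cfsg.omegaOne p (H.map φ.toMonoidHom) = (Cfsg.omegaOne p H).map φ.toMonoidHom := by
  unfold Cfsg.omegaOne
  rw [MonoidHom.map_closure]
  congr 1
  ext x
  constructor
  · rintro ⟨⟨h, hh, rfl⟩, hx⟩
    refine ⟨h, ⟨hh, ?_⟩, rfl⟩
    apply φ.injective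
    simpa using hx
  · rintro ⟨h, ⟨hh, hp⟩, rfl⟩
    refine ⟨⟨h, hh, rfl⟩, ?_⟩
    show φ h ^ p = 1
    rw [← map_pow, hp, map_one]

theorem baumannSubgroupOf_map (p : ℕ) (S : Subgroup G) (φ : G ≃* G) :
    Cfsg.baumannSubgroupOf p (S.map φ.toMonoidHom) =
      (Cfsg.baumannSubgroupOf p S).map φ.toMonoidHom := by
  unfold Cfsg.baumannSubgroupOf
  rw [centerThompsonOf_map, omegaOne_map, centralizer_map, Subgroup.map_inf _ _ _ φ.injective]

theorem baumannSubgroupOf_le (p : ℕ) (S : Subgroup G) : Cfsg.baumannSubgroupOf p S ≤ S :=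
  inf_le_left

/-- `S` normalizes `B(S)`. -/
theorem le_normalizer_baumann (p : ℕ) (S : Subgroup G) :
    S ≤ Subgroup.normalizer (Cfsg.baumannSubgroupOf p S : Set G) := by
  intro s hs
  rw [Subgroup.mem_normalizer_iff_map_conj_eq]
  have h1 : S.map (MulAut.conj s).toMonoidHom = S := by
    have : s ∈ Subgroup.normalizer (S : Set G) := Subgroup.le_normalizer hs
    exact Subgroup.mem_normalizer_iff_map_conj_eq.1 this
  have h2 := baumannSubgroupOf_map p S (MulAut.conj s)
  rw [h1] at h2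
  exact h2.symm

/-- `S` normalizes `J(S)`. -/
theorem le_normalizer_thompson (p : ℕ) (S : Subgroup G) :
    S ≤ Subgroup.normalizer (Cfsg.thompsonSubgroupOf p S : Set G) := by
  intro s hs
  rw [Subgroup.mem_normalizer_iff_map_conj_eq]
  have h1 : S.map (MulAut.conj s).toMonoidHom = S := by
    have : s ∈ Subgroup.normalizer (S : Set G) := Subgroup.le_normalizer hs
    exact Subgroup.mem_normalizer_iff_map_conj_eq.1 this
  have h2 := thompsonSubgroupOf_map p S (MulAut.conj s)
  rw [h1] at h2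
  exact h2.symm

/-- `J(S) ≤ B(S)`. -/
theorem thompson_le_baumann (p : ℕ) (S : Subgroup G) :
    Cfsg.thompsonSubgroupOf p S ≤ Cfsg.baumannSubgroupOf p S := by
  refine le_inf (thompsonSubgroupOf_le p S) ?_
  intro x hx
  rw [Subgroup.mem_centralizer_iff]
  intro y hy
  have hy' : y ∈ Cfsg.centerThompsonOf p S := by
    have : Cfsg.omegaOne p (Cfsg.centerThompsonOf p S) ≤ Cfsg.centerThompsonOf p S := by
      unfold Cfsg.omegaOne
      rw [Subgroup.closure_le]
      intro z hz
      exact hz.1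
    exact this hy
  exact (Subgroup.mem_centralizer_iff.1 hy'.2 x hx).symm

/-- the Thompson subgroup depends only on the family of maximal elementary abelian subgroups. -/
theorem thompson_eq_of_maxEA_iff {p : ℕ} {S S' : Subgroup G}
    (h : ∀ A, MaxEA p S A ↔ MaxEA p S' A) :
    Cfsg.thompsonSubgroupOf p S = Cfsg.thompsonSubgroupOf p S' :=
  le_antisymm (thompson_le_of_forall fun A hA => ((h A).1 hA).le_thompson)
    (thompson_le_of_forall fun A hA => ((h A).2 hA).le_thompson)

/-- If `J(S) ≤ S₀ ≤ S` then `MaxEA` for `S₀` and `S` agree. -/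
theorem maxEA_iff_of_le [Finite G] {p : ℕ} {S₀ S : Subgroup G} (h0 : S₀ ≤ S)
    (hJ : Cfsg.thompsonSubgroupOf p S ≤ S₀) (A : Subgroup G) : MaxEA p S₀ A ↔ MaxEA p S A := by
  obtain ⟨A1, hA1⟩ := exists_maxEA p S
  have hA1' : A1 ≤ S₀ := hA1.le_thompson.trans hJ
  constructor
  · intro hA
    refine ⟨hA.1.trans h0, hA.2.1, ?_⟩
    intro B hB hBe
    exact (hA1.2.2 B hB hBe).trans (hA.2.2 A1 hA1' hA1.2.1)
  · intro hA
    exact ⟨hA.le_thompson.trans hJ, hA.2.1, fun B hB hBe => hA.2.2 B (hB.trans h0) hBe⟩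

theorem thompson_eq_of_le [Finite G] {p : ℕ} {S₀ S : Subgroup G} (h0 : S₀ ≤ S)
    (hJ : Cfsg.thompsonSubgroupOf p S ≤ S₀) :
    Cfsg.thompsonSubgroupOf p S₀ = Cfsg.thompsonSubgroupOf p S :=
  thompson_eq_of_maxEA_iff (maxEA_iff_of_le h0 hJ)

/-- `B(S₀) = S₀ ∩ B(S)`-type formula: if `J(S₀) = J(S)` then `B(S₀) = S₀ ⊓ C(Ω₁ Z(J(S)))`. -/
theorem baumann_eq_of_thompson_eq {p : ℕ} {S₀ S : Subgroup G}
    (h : Cfsg.thompsonSubgroupOf p S₀ = Cfsg.thompsonSubgroupOf p S) :
    Cfsg.baumannSubgroupOf p S₀ =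
      S₀ ⊓ Subgroup.centralizer (Cfsg.omegaOne p (Cfsg.centerThompsonOf p S) : Set G) := by
  unfold Cfsg.baumannSubgroupOf Cfsg.centerThompsonOf
  rw [h]

/-- (F2) for the Thompson subgroup: a `p`-subgroup `T₀` containing `J(T)`, `T` Sylow, has `J(T₀) = J(T)`. -/
theorem thompson_eq_of_sylow [Finite G] {p : ℕ} [Fact p.Prime] (T : Sylow p G) (T₀ : Subgroup G)
    (hT₀ : IsPGroup p T₀) (hJ : Cfsg.thompsonSubgroupOf p (T : Subgroup G) ≤ T₀) :
    Cfsg.thompsonSubgroupOf p T₀ = Cfsg.thompsonSubgroupOf p (T : Subgroup G) := by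
  obtain ⟨Q, hQ⟩ := hT₀.exists_le_sylow
  obtain ⟨g, hg⟩ := MulAction.exists_smul_eq G T Q
  have hQT : (Q : Subgroup G) = (T : Subgroup G).map (MulAut.conj g).toMonoidHom := by
    rw [← hg]; rfl
  -- `J(Q) = J(T)^g` has the same order as `J(T)` and contains it
  have hJQ : Cfsg.thompsonSubgroupOf p (Q : Subgroup G) =
      (Cfsg.thompsonSubgroupOf p (T : Subgroup G)).map (MulAut.conj g).toMonoidHom := by
    rw [hQT, thompsonSubgroupOf_map]
  -- every `MaxEA` of `T` is a `MaxEA` of `Q`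
  have hTQ : ∀ A, MaxEA p (T : Subgroup G) A → MaxEA p (Q : Subgroup G) A := by
    intro A hA
    refine ⟨(hA.le_thompson.trans hJ).trans hQ, hA.2.1, ?_⟩
    intro B hB hBe
    have h1 : B.map (MulAut.conj g).symm.toMonoidHom ≤ (T : Subgroup G) := by
      have := Subgroup.map_mono (f := (MulAut.conj g).symm.toMonoidHom) hB
      rwa [hQT, map_symm_map] at this
    have := hA.2.2 _ h1 (IsElementaryAbelian_map hBe _)
    rwa [Subgroup.card_map_of_injective (MulAut.conj g).symm.injective] at this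
  have hle : Cfsg.thompsonSubgroupOf p (T : Subgroup G) ≤ Cfsg.thompsonSubgroupOf p (Q : Subgroup G) :=
    thompson_le_of_forall fun A hA => (hTQ A hA).le_thompson
  have heq : Cfsg.thompsonSubgroupOf p (T : Subgroup G) = Cfsg.thompsonSubgroupOf p (Q : Subgroup G) := by
    apply Subgroup.eq_of_le_of_card_ge hle
    rw [hJQ, Subgroup.card_map_of_injective (MulAut.conj g).injective]
  rw [heq]
  apply thompson_eq_of_le hQ
  rw [← heq]; exact hJ

/-- (F2) for the Baumann subgroup: a `p`-subgroup `T₀` containing `B(T)`, `T` Sylow, has `B(T₀) = B(T)`. -/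
theorem baumann_eq_of_sylow [Finite G] {p : ℕ} [Fact p.Prime] (T : Sylow p G) (T₀ : Subgroup G)
    (hT₀ : IsPGroup p T₀) (hB : Cfsg.baumannSubgroupOf p (T : Subgroup G) ≤ T₀) :
    Cfsg.baumannSubgroupOf p T₀ = Cfsg.baumannSubgroupOf p (T : Subgroup G) := by
  have hJ : Cfsg.thompsonSubgroupOf p (T : Subgroup G) ≤ T₀ :=
    (thompson_le_baumann p _).trans hB
  obtain ⟨Q, hQ⟩ := hT₀.exists_le_sylow
  obtain ⟨g, hg⟩ := MulAction.exists_smul_eq G T Q
  have hQT : (Q : Subgroup G) = (T : Subgroup G).map (MulAut.conj g).toMonoidHom := by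
    rw [← hg]; rfl
  have h1 := thompson_eq_of_sylow T T₀ hT₀ hJ
  have h2 := thompson_eq_of_sylow T (Q : Subgroup G) Q.2 (hJ.trans hQ)
  have e1 := baumann_eq_of_thompson_eq h1
  have e2 := baumann_eq_of_thompson_eq h2
  have e3 : Cfsg.baumannSubgroupOf p (T : Subgroup G) = (T : Subgroup G) ⊓
      Subgroup.centralizer (Cfsg.omegaOne p (Cfsg.centerThompsonOf p (T : Subgroup G)) : Set G) := rfl
  have hle1 : Cfsg.baumannSubgroupOf p (T : Subgroup G) ≤ Cfsg.baumannSubgroupOf p T₀ := by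
    rw [e1]
    refine le_inf hB ?_
    rw [e3]; exact inf_le_right
  have hle2 : Cfsg.baumannSubgroupOf p T₀ ≤ Cfsg.baumannSubgroupOf p (Q : Subgroup G) := by
    rw [e1, e2]
    exact inf_le_inf_right _ hQ
  have hcard : Nat.card (Cfsg.baumannSubgroupOf p (Q : Subgroup G)) =
      Nat.card (Cfsg.baumannSubgroupOf p (T : Subgroup G)) := by
    rw [hQT, baumannSubgroupOf_map, Subgroup.card_map_of_injective (MulAut.conj g).injective]
  have heq : Cfsg.baumannSubgroupOf p (T : Subgroup G) = Cfsg.baumannSubgroupOf p (Q : Subgroup G) :=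
    Subgroup.eq_of_le_of_card_ge (hle1.trans hle2) hcard.le
  apply le_antisymm
  · rw [heq]; exact hle2
  · exact hle1

end Cfsg.Agent.Helper9.BB
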