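import Mathlib
import Cfsg.Prelude.Def_BaumannBlocks
import Cfsg.Agent.Helper9.BBA

set_option autoImplicit false

/-!
Helper9: a subgroup `E = O^p(E) = [E, B(T)]` is normalized by every `p`-subgroup that `E` and `B(T)` normalize.
-/

namespace Cfsg.Agent.Helper9.BB

open Cfsg.Agent.Helper1
open scoped commutatorElement

universe u

variable {G : Type u} [Group G]

theorem le_normalizer_of_forall_conj {N S : Subgroup G}
    (h : ∀ s ∈ S, ∀ n ∈ N, s * n * s⁻¹ ∈ N) : S ≤ Subgroup.normalizer (N : Set G) := by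
  intro s hs
  rw [Subgroup.mem_normalizer_iff]
  intro n
  constructor
  · exact h s hs n
  · intro hn
    have := h s⁻¹ (inv_mem hs) _ hn
    simpa [mul_assoc] using this

theorem conj_mem_of_mem_normalizer {N : Subgroup G} {s n : G}
    (hs : s ∈ Subgroup.normalizer (N : Set G)) (hn : n ∈ N) : s * n * s⁻¹ ∈ N :=
  (Subgroup.mem_normalizer_iff.1 hs n).1 hn

theorem conj_inv_mem_of_mem_normalizer {N : Subgroup G} {s n : G}
    (hs : s ∈ Subgroup.normalizer (N : Set G)) (hn : n ∈ N) : s⁻¹ * n * s ∈ N := by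
  have := conj_mem_of_mem_normalizer (inv_mem hs) hn
  simpa using this

theorem conj_mem_commutator_right {H K : Subgroup G} {k : G} (hk : k ∈ K) {n : G}
    (hn : n ∈ ⁅H, K⁆) : k * n * k⁻¹ ∈ ⁅H, K⁆ := by
  rw [Subgroup.commutator_def] at hn ⊢
  induction hn using Subgroup.closure_induction with
  | mem x hx =>
    obtain ⟨h, hh, k', hk', rfl⟩ := hx
    have e : k * ⁅h, k'⁆ * k⁻¹ = ⁅h, k⁆⁻¹ * ⁅h, k * k'⁆ := by
      simp only [commutatorElement_def]; group
    rw [e]
    exact mul_mem (inv_mem (Subgroup.subset_closure ⟨h, hh, k, hk, rfl⟩))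
      (Subgroup.subset_closure ⟨h, hh, k * k', mul_mem hk hk', rfl⟩)
  | one => simp
  | mul x y _ _ ihx ihy =>
    have : k * (x * y) * k⁻¹ = (k * x * k⁻¹) * (k * y * k⁻¹) := by group
    rw [this]; exact mul_mem ihx ihy
  | inv x _ ih =>
    have : k * x⁻¹ * k⁻¹ = (k * x * k⁻¹)⁻¹ := by group
    rw [this]; exact inv_mem ih

theorem le_normalizer_commutator_right (H K : Subgroup G) :
    K ≤ Subgroup.normalizer ((⁅H, K⁆ : Subgroup G) : Set G) :=
  le_normalizer_of_forall_conj fun _ hk _ hn => conj_mem_commutator_right hk hn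

theorem le_normalizer_commutator_left (H K : Subgroup G) :
    H ≤ Subgroup.normalizer ((⁅H, K⁆ : Subgroup G) : Set G) := by
  rw [Subgroup.commutator_comm]
  exact le_normalizer_commutator_right K H

/-- If `S` maps a generating set into itself under conjugation, `S` normalizes the closure. -/
theorem le_normalizer_closure {S : Subgroup G} {X : Set G}
    (h : ∀ s ∈ S, ∀ x ∈ X, s * x * s⁻¹ ∈ X) : S ≤ Subgroup.normalizer ((Subgroup.closure X : Subgroup G) : Set G) := by
  apply le_normalizer_of_forall_conj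
  intro s hs n hn
  induction hn using Subgroup.closure_induction with
  | mem x hx => exact Subgroup.subset_closure (h s hs x hx)
  | one => simp
  | mul x y _ _ ihx ihy =>
    have : s * (x * y) * s⁻¹ = (s * x * s⁻¹) * (s * y * s⁻¹) := by group
    rw [this]; exact mul_mem ihx ihy
  | inv x _ ih =>
    have : s * x⁻¹ * s⁻¹ = (s * x * s⁻¹)⁻¹ := by group
    rw [this]; exact inv_mem ih

/-- The centralizer of the section `Q X / X`: elements normalizing `Q` and `X` and centralizing `Q` modulo `X`. -/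
def secCent (Q X : Subgroup G) : Subgroup G where
  carrier := {g | g ∈ Subgroup.normalizer (Q : Set G) ∧ g ∈ Subgroup.normalizer (X : Set G) ∧
    ∀ q ∈ Q, ⁅g, q⁆ ∈ X}
  one_mem' := by
    refine ⟨one_mem _, one_mem _, ?_⟩
    intro q _
    simp [commutatorElement_def]
  mul_mem' := by
    rintro g h ⟨hg1, hg2, hg3⟩ ⟨hh1, hh2, hh3⟩
    refine ⟨mul_mem hg1 hh1, mul_mem hg2 hh2, ?_⟩
    intro q hq
    have e : ⁅g * h, q⁆ = g * ⁅h, q⁆ * g⁻¹ * ⁅g, q⁆ := by
      simp only [commutatorElement_def]; group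
    rw [e]
    exact mul_mem (conj_mem_of_mem_normalizer hg2 (hh3 q hq)) (hg3 q hq)
  inv_mem' := by
    rintro g ⟨hg1, hg2, hg3⟩
    refine ⟨inv_mem hg1, inv_mem hg2, ?_⟩
    intro q hq
    have e : ⁅g⁻¹, q⁆ = g⁻¹ * (⁅g, q⁆)⁻¹ * g := by
      simp only [commutatorElement_def]; group
    rw [e]
    exact conj_inv_mem_of_mem_normalizer hg2 (inv_mem (hg3 q hq))

theorem mem_secCent {Q X : Subgroup G} {g : G} : g ∈ secCent Q X ↔
    g ∈ Subgroup.normalizer (Q : Set G) ∧ g ∈ Subgroup.normalizer (X : Set G) ∧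
      ∀ q ∈ Q, ⁅g, q⁆ ∈ X := Iff.rfl

/-- a subgroup normalizing `Q` and `X` normalizes the section centralizer. -/
theorem le_normalizer_secCent {Q X E : Subgroup G} (hEQ : E ≤ Subgroup.normalizer (Q : Set G))
    (hEX : E ≤ Subgroup.normalizer (X : Set G)) :
    E ≤ Subgroup.normalizer ((secCent Q X : Subgroup G) : Set G) := by
  apply le_normalizer_of_forall_conj
  rintro e he g ⟨hg1, hg2, hg3⟩
  refine ⟨mul_mem (mul_mem (hEQ he) hg1) (inv_mem (hEQ he)),
    mul_mem (mul_mem (hEX he) hg2) (inv_mem (hEX he)), ?_⟩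
  intro q hq
  have e1 : ⁅e * g * e⁻¹, q⁆ = e * ⁅g, e⁻¹ * q * e⁆ * e⁻¹ := by
    simp only [commutatorElement_def]; group
  rw [e1]
  exact conj_mem_of_mem_normalizer (hEX he) (hg3 _ (conj_inv_mem_of_mem_normalizer (hEQ he) hq))

/-- `[E, B] ≤ C` if `B ≤ C` and `E` normalizes `C`. -/
theorem commutator_le_of_le_normalizer {E B C : Subgroup G} (hB : B ≤ C)
    (hE : E ≤ Subgroup.normalizer (C : Set G)) : ⁅E, B⁆ ≤ C := by
  rw [Subgroup.commutator_le]
  intro e he b hb
  have : ⁅e, b⁆ = (e * b * e⁻¹) * b⁻¹ := by simp only [commutatorElement_def]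
  rw [this]
  exact mul_mem (conj_mem_of_mem_normalizer (hE he) (hB hb)) (inv_mem (hB hb))

/-- `(x y)^m ∈ x^m E` when `x` normalizes `E ∋ y`. -/
theorem mul_pow_mem {E : Subgroup G} {x y : G} (hx : x ∈ Subgroup.normalizer (E : Set G))
    (hy : y ∈ E) (m : ℕ) : ∃ e ∈ E, (x * y) ^ m = x ^ m * e := by
  induction m with
  | zero => exact ⟨1, one_mem _, by simp⟩
  | succ m ih =>
    obtain ⟨e, he, h⟩ := ih
    refine ⟨x⁻¹ * e * x * y, mul_mem (conj_inv_mem_of_mem_normalizer hx he) hy, ?_⟩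
    rw [pow_succ, h, pow_succ]
    group

/-- a `p`-element `x` normalizing `E`, `y ∈ E`, with `x y` a `p'`-element: then `x ∈ E`. -/
theorem mem_of_coprime_mul {p : ℕ} [Fact p.Prime] {E : Subgroup G} {x y : G}
    (hx : x ∈ Subgroup.normalizer (E : Set G)) (hy : y ∈ E) {k : ℕ} (hxp : x ^ (p ^ k) = 1)
    (hxy : (orderOf (x * y)).Coprime p) : x ∈ E := by
  obtain ⟨e, he, h⟩ := mul_pow_mem hx hy (orderOf (x * y))
  rw [pow_orderOf_eq_one] at h
  have hxn : x ^ orderOf (x * y) ∈ E := by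
    have : x ^ orderOf (x * y) = e⁻¹ := by
      rw [eq_inv_iff_mul_eq_one]; exact h.symm
    rw [this]; exact inv_mem he
  have hdvd : orderOf x ∣ p ^ k := orderOf_dvd_of_pow_eq_one hxp
  have hcop : (orderOf (x * y)).Coprime (orderOf x) :=
    Nat.Coprime.coprime_dvd_right hdvd (Nat.Coprime.pow_right k hxy)
  obtain ⟨m, hm⟩ := exists_pow_eq_self_of_coprime hcop
  rw [← hm]
  exact pow_mem hxn m

/-- description of `O^p(E) ≤ N`. -/
theorem pResidualOf_le_iff {p : ℕ} {E N : Subgroup G} :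
    Cfsg.pResidualOf p E ≤ N ↔ ∀ g ∈ E, (orderOf g).Coprime p → g ∈ N := by
  unfold Cfsg.pResidualOf Cfsg.pResidual
  rw [Subgroup.map_le_iff_le_comap, Subgroup.closure_le]
  constructor
  · intro h g hg hc
    have : (⟨g, hg⟩ : ↥E) ∈ {g : ↥E | Nat.Coprime (orderOf g) p} := by
      show Nat.Coprime (orderOf (⟨g, hg⟩ : ↥E)) p
      rwa [← Subgroup.orderOf_coe]
    exact h this
  · rintro h ⟨g, hg⟩ hc
    show g ∈ N
    apply h g hg
    have : Nat.Coprime (orderOf (⟨g, hg⟩ : ↥E)) p := hc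
    rwa [← Subgroup.orderOf_coe] at this

theorem pResidualOf_le (p : ℕ) (E : Subgroup G) : Cfsg.pResidualOf p E ≤ E :=
  pResidualOf_le_iff.2 fun _ hg _ => hg

theorem mem_pResidualOf {p : ℕ} {E : Subgroup G} {g : G} (hg : g ∈ E) (hc : (orderOf g).Coprime p) :
    g ∈ Cfsg.pResidualOf p E :=
  (pResidualOf_le_iff.1 le_rfl) g hg hc

/-- **Core lemma.** `E = O^p(E) = [E,B]`, `Q` a `p`-group, `B` and `Q` normalize each other, `E` normalizes `Q`:
then `Q` normalizes `E`. -/
theorem normalizes_core {p : ℕ} [Fact p.Prime] {E B Q : Subgroup G}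
    (hres : Cfsg.pResidualOf p E = E) (hEB : ⁅E, B⁆ = E) (hQp : IsPGroup p Q)
    (hQB : Q ≤ Subgroup.normalizer (B : Set G)) (hBQ : B ≤ Subgroup.normalizer (Q : Set G))
    (hEQ : E ≤ Subgroup.normalizer (Q : Set G)) : Q ≤ Subgroup.normalizer (E : Set G) := by
  have hBE : B ≤ Subgroup.normalizer (E : Set G) := by
    have := le_normalizer_commutator_right E B
    rwa [hEB] at this
  have hEE : E ≤ Subgroup.normalizer (E : Set G) := Subgroup.le_normalizer
  set gen : Set G := {x | ∃ e ∈ E, ∃ d ∈ B ⊓ Q, x = e * d * e⁻¹} with hgen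
  set X : Subgroup G := Subgroup.closure gen with hX
  have hDX : B ⊓ Q ≤ X := by
    intro d hd
    exact Subgroup.subset_closure ⟨1, one_mem _, d, hd, by simp⟩
  have hXQ : X ≤ Q := by
    rw [hX, Subgroup.closure_le]
    rintro _ ⟨e, he, d, hd, rfl⟩
    exact conj_mem_of_mem_normalizer (hEQ he) (Subgroup.mem_inf.1 hd).2
  have hXE : X ≤ Subgroup.normalizer (E : Set G) := by
    rw [hX, Subgroup.closure_le]
    rintro _ ⟨e, he, d, hd, rfl⟩
    exact mul_mem (mul_mem (hEE he) (hBE (Subgroup.mem_inf.1 hd).1)) (inv_mem (hEE he))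
  have hEX : E ≤ Subgroup.normalizer (X : Set G) := by
    apply le_normalizer_closure
    rintro e' he' _ ⟨e, he, d, hd, rfl⟩
    exact ⟨e' * e, mul_mem he' he, d, hd, by group⟩
  have hBX : B ≤ Subgroup.normalizer (X : Set G) := by
    apply le_normalizer_closure
    rintro b hb _ ⟨e, he, d, hd, rfl⟩
    refine ⟨b * e * b⁻¹, conj_mem_of_mem_normalizer (hBE hb) he, b * d * b⁻¹,
      Subgroup.mem_inf.2 ⟨mul_mem (mul_mem hb (Subgroup.mem_inf.1 hd).1) (inv_mem hb),
        conj_mem_of_mem_normalizer (hBQ hb) (Subgroup.mem_inf.1 hd).2⟩, by group⟩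
  -- `B` centralizes `Q` modulo `X`
  have hBC : B ≤ secCent Q X := by
    intro b hb
    refine ⟨hBQ hb, hBX hb, ?_⟩
    intro q hq
    apply hDX
    refine Subgroup.mem_inf.2 ⟨?_, ?_⟩
    · have : ⁅b, q⁆ = b * (q * b⁻¹ * q⁻¹) := by simp only [commutatorElement_def]; group
      rw [this]
      exact mul_mem hb (conj_mem_of_mem_normalizer (hQB hq) (inv_mem hb))
    · have : ⁅b, q⁆ = (b * q * b⁻¹) * q⁻¹ := by simp only [commutatorElement_def]
      rw [this]
      exact mul_mem (conj_mem_of_mem_normalizer (hBQ hb) hq) (inv_mem hq)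
  have hEC : E ≤ secCent Q X := by
    have h1 := commutator_le_of_le_normalizer hBC (le_normalizer_secCent hEQ hEX)
    rwa [hEB] at h1
  -- conclusion
  apply le_normalizer_of_forall_conj
  intro q hq
  have key : E ≤ E.comap (MulAut.conj q).toMonoidHom := by
    conv_lhs => rw [← hres]
    rw [pResidualOf_le_iff]
    intro y hy hc
    show q * y * q⁻¹ ∈ E
    have hx : ⁅q, y⁆ ∈ X := by
      have h1 := (hEC hy).2.2 q hq
      have : ⁅q, y⁆ = (⁅y, q⁆)⁻¹ := by simp only [commutatorElement_def]; group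
      rw [this]; exact inv_mem h1
    obtain ⟨k, hk⟩ := (hQp.to_le hXQ) ⟨_, hx⟩
    have hk' : (⁅q, y⁆) ^ (p ^ k) = 1 := by
      have := congrArg Subtype.val hk
      simpa using this
    have e1 : q * y * q⁻¹ = ⁅q, y⁆ * y := by simp only [commutatorElement_def]; group
    have hord : orderOf (⁅q, y⁆ * y) = orderOf y := by
      rw [← e1]
      have : q * y * q⁻¹ = MulAut.conj q y := rfl
      rw [this, MulEquiv.orderOf_eq]
    have hmem : ⁅q, y⁆ ∈ E := mem_of_coprime_mul (hXE hx) hy hk' (by rw [hord]; exact hc)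
    rw [e1]
    exact mul_mem hmem hy
  intro e he
  exact key he

/-- **S2983 as a lemma**: for `T` Sylow, `B = B(T)`, `E = O^p(E) = [E,B]`: every `p`-subgroup normalized by `B` and `E`
normalizes `E`. -/
theorem normalizes_of_block [Finite G] {p : ℕ} [Fact p.Prime] (T : Sylow p G) {E Q : Subgroup G}
    (hres : Cfsg.pResidualOf p E = E) (hEB : ⁅E, Cfsg.baumannSubgroupOf p (T : Subgroup G)⁆ = E)
    (hQp : IsPGroup p Q)
    (hBQ : Cfsg.baumannSubgroupOf p (T : Subgroup G) ≤ Subgroup.normalizer (Q : Set G))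
    (hEQ : E ≤ Subgroup.normalizer (Q : Set G)) : Q ≤ Subgroup.normalizer (E : Set G) := by
  have hBp : IsPGroup p (Cfsg.baumannSubgroupOf p (T : Subgroup G)) :=
    T.2.to_le (baumannSubgroupOf_le p _)
  have hT₀ : IsPGroup p (Cfsg.baumannSubgroupOf p (T : Subgroup G) ⊔ Q : Subgroup G) :=
    IsPGroup.to_sup_of_normal_right' hBp hQp hBQ
  have h1 := baumann_eq_of_sylow T _ hT₀ le_sup_left
  have hQB : Q ≤ Subgroup.normalizer (Cfsg.baumannSubgroupOf p (T : Subgroup G) : Set G) := by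
    have := le_normalizer_baumann p (Cfsg.baumannSubgroupOf p (T : Subgroup G) ⊔ Q)
    rw [h1] at this
    exact le_sup_right.trans this
  exact normalizes_core hres hEB hQp hQB hBQ hEQ

end Cfsg.Agent.Helper9.BB
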