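import Mathlib
import Cfsg.Prelude.Def_BaumannBlocks
import Cfsg.Agent.Helper9.BBB
import Cfsg.Agent.Helper9.Core
import Cfsg.Agent.Lead.LLemA
import Cfsg.Agent.Helper1.Coprime

set_option autoImplicit false

/-!
Helper9: infrastructure for the `B(T)`-block lemmas: normalizers of functorial subgroups, `Ω₁Z`, coprime action of
`E = O^p(E)` on a `p`-group, `O^p(E Q) = E`.
-/

namespace Cfsg.Agent.Helper9.BB

open Cfsg.Agent.Helper1
open scoped commutatorElement

universe u

variable {G : Type u} [Group G]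

/-! ### normalizers of functorial subgroups -/

theorem mem_normalizer_of_map_eq {g : G} {A : Subgroup G}
    (h : A.map (MulAut.conj g).toMonoidHom = A) : g ∈ Subgroup.normalizer (A : Set G) :=
  Subgroup.mem_normalizer_iff_map_conj_eq.2 h

theorem map_eq_of_mem_normalizer {g : G} {A : Subgroup G}
    (h : g ∈ Subgroup.normalizer (A : Set G)) : A.map (MulAut.conj g).toMonoidHom = A :=
  Subgroup.mem_normalizer_iff_map_conj_eq.1 h

theorem omegaOneCenter_map (p : ℕ) (X : Subgroup G) (φ : G ≃* G) :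
    Cfsg.omegaOneCenter p (X.map φ.toMonoidHom) = (Cfsg.omegaOneCenter p X).map φ.toMonoidHom := by
  unfold Cfsg.omegaOneCenter
  rw [← omegaOne_map, Subgroup.map_inf _ _ _ φ.injective, centralizer_map]

theorem normalizer_le_pCoreOf (p : ℕ) (E : Subgroup G) :
    Subgroup.normalizer (E : Set G) ≤ Subgroup.normalizer (Cfsg.pCoreOf p E : Set G) := by
  intro g hg
  apply mem_normalizer_of_map_eq
  rw [← Cfsg.Agent.Lead.LLem.pCoreOf_map _ (MulAut.conj g).injective, map_eq_of_mem_normalizer hg]

theorem normalizer_le_omegaOneCenter (p : ℕ) (X : Subgroup G) :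
    Subgroup.normalizer (X : Set G) ≤ Subgroup.normalizer (Cfsg.omegaOneCenter p X : Set G) := by
  intro g hg
  apply mem_normalizer_of_map_eq
  rw [← omegaOneCenter_map, map_eq_of_mem_normalizer hg]

theorem normalizer_le_centralizer (A : Subgroup G) :
    Subgroup.normalizer (A : Set G) ≤
      Subgroup.normalizer ((Subgroup.centralizer (A : Set G) : Subgroup G) : Set G) := by
  intro g hg
  apply mem_normalizer_of_map_eq
  rw [← centralizer_map, map_eq_of_mem_normalizer hg]

theorem normalizer_inf_le (A B : Subgroup G) :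
    Subgroup.normalizer (A : Set G) ⊓ Subgroup.normalizer (B : Set G) ≤
      Subgroup.normalizer ((A ⊓ B : Subgroup G) : Set G) := by
  intro g hg
  apply mem_normalizer_of_map_eq
  rw [Subgroup.map_inf _ _ _ (MulAut.conj g).injective,
    map_eq_of_mem_normalizer (Subgroup.mem_inf.1 hg).1, map_eq_of_mem_normalizer (Subgroup.mem_inf.1 hg).2]

theorem normalizer_inf_le_commutator (A B : Subgroup G) :
    Subgroup.normalizer (A : Set G) ⊓ Subgroup.normalizer (B : Set G) ≤
      Subgroup.normalizer ((⁅A, B⁆ : Subgroup G) : Set G) := by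
  intro g hg
  apply mem_normalizer_of_map_eq
  rw [Subgroup.map_commutator,
    map_eq_of_mem_normalizer (Subgroup.mem_inf.1 hg).1, map_eq_of_mem_normalizer (Subgroup.mem_inf.1 hg).2]

theorem le_normalizer_of_normal (E N : Subgroup G) [hN : N.Normal] :
    E ≤ Subgroup.normalizer (N : Set G) := by
  intro e _
  rw [Subgroup.mem_normalizer_iff]
  intro n
  constructor
  · intro hn; exact hN.conj_mem n hn e
  · intro hn
    have := hN.conj_mem _ hn e⁻¹
    simpa [mul_assoc] using this

/-! ### `Ω₁Z` -/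

theorem omegaOneCenter_le (p : ℕ) (X : Subgroup G) :
    Cfsg.omegaOneCenter p X ≤ X ⊓ Subgroup.centralizer (X : Set G) := by
  unfold Cfsg.omegaOneCenter Cfsg.omegaOne
  rw [Subgroup.closure_le]
  intro x hx
  exact hx.1

theorem omegaOneCenter_le_self (p : ℕ) (X : Subgroup G) : Cfsg.omegaOneCenter p X ≤ X :=
  (omegaOneCenter_le p X).trans inf_le_left

theorem omegaOneCenter_le_centralizer (p : ℕ) (X : Subgroup G) :
    Cfsg.omegaOneCenter p X ≤ Subgroup.centralizer (X : Set G) :=
  (omegaOneCenter_le p X).trans inf_le_right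

theorem mem_omegaOneCenter {p : ℕ} {X : Subgroup G} {x : G} (hx : x ∈ X)
    (hc : x ∈ Subgroup.centralizer (X : Set G)) (hp : x ^ p = 1) : x ∈ Cfsg.omegaOneCenter p X := by
  unfold Cfsg.omegaOneCenter Cfsg.omegaOne
  exact Subgroup.subset_closure ⟨Subgroup.mem_inf.2 ⟨hx, hc⟩, hp⟩

/-- elements of `Ω₁Z(X)` commute with `X`. -/
theorem omegaOneCenter_commute {p : ℕ} {X : Subgroup G} {x y : G}
    (hx : x ∈ Cfsg.omegaOneCenter p X) (hy : y ∈ X) : x * y = y * x :=
  (Subgroup.mem_centralizer_iff.1 (omegaOneCenter_le_centralizer p X hx) y hy).symm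

theorem omegaOneCenter_pow {p : ℕ} {X : Subgroup G} {x : G}
    (hx : x ∈ Cfsg.omegaOneCenter p X) : x ^ p = 1 := by
  have hle := omegaOneCenter_le p X
  unfold Cfsg.omegaOneCenter Cfsg.omegaOne at hx hle
  induction hx using Subgroup.closure_induction with
  | mem x hx => exact hx.2
  | one => exact one_pow p
  | mul x y hx hy ihx ihy =>
    have hxy : Commute x y :=
      (Subgroup.mem_centralizer_iff.1 (Subgroup.mem_inf.1 (hle hx)).2 y
        (Subgroup.mem_inf.1 (hle hy)).1).symm
    rw [hxy.mul_pow, ihx, ihy, one_mul]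
  | inv x _ ih => rw [inv_pow, ih, inv_one]

theorem isElementaryAbelian_omegaOneCenter (p : ℕ) (X : Subgroup G) :
    Cfsg.IsElementaryAbelian p (Cfsg.omegaOneCenter p X) := by
  refine ⟨?_, fun a ha => omegaOneCenter_pow ha⟩
  constructor; constructor
  rintro ⟨a, ha⟩ ⟨b, hb⟩
  apply Subtype.ext
  exact omegaOneCenter_commute ha (omegaOneCenter_le_self p X hb)

/-! ### coprime action of `E = O^p(E)` -/

/-- `[V, E, E] = [V, E]` for a `p`-group `V` normalized by `E = O^p(E)`. -/
theorem comm_comm_eq [Finite G] {p : ℕ} [Fact p.Prime] {V E : Subgroup G} (hV : IsPGroup p V)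
    (hEV : E ≤ Subgroup.normalizer (V : Set G)) (hres : Cfsg.pResidualOf p E = E) :
    ⁅⁅V, E⁆, E⁆ = ⁅V, E⁆ := by
  apply le_antisymm
  · exact Subgroup.le_normalizer_iff_commutator_le_left.1 (Subgroup.normalizer_commutator_ge_right V E)
  · set N : Subgroup G := ⁅⁅V, E⁆, E⁆ with hN
    have hEN : E ≤ Subgroup.normalizer (N : Set G) := le_normalizer_commutator_right _ _
    have hEC : E ≤ secCent V N := by
      conv_lhs => rw [← hres]
      rw [pResidualOf_le_iff]
      intro y hy hc
      refine ⟨hEV hy, hEN hy, ?_⟩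
      intro v hv
      have hAV : Subgroup.zpowers y ≤ Subgroup.normalizer (V : Set G) := by
        rw [Subgroup.zpowers_le]; exact hEV hy
      obtain ⟨k, hk⟩ := IsPGroup.iff_card.1 hV
      have hcop : (Nat.card (Subgroup.zpowers y)).Coprime (Nat.card V) := by
        rw [Nat.card_zpowers, hk]
        exact Nat.Coprime.pow_right k hc
      have hsolv : Group.IsSolvable (Subgroup.zpowers y) :=
        Group.isSolvable_of_comm (fun a b => mul_comm' a b)
      have h1 := coprime_commutator_commutator (Subgroup.zpowers y) V hAV hcop (Or.inl hsolv)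
      have hAE : Subgroup.zpowers y ≤ E := by rw [Subgroup.zpowers_le]; exact hy
      have h2 : ⁅v, y⁆ ∈ N := by
        have : ⁅v, y⁆ ∈ ⁅V, Subgroup.zpowers y⁆ :=
          Subgroup.commutator_mem_commutator hv (Subgroup.mem_zpowers y)
        rw [← h1] at this
        exact Subgroup.commutator_mono (Subgroup.commutator_mono le_rfl hAE) hAE this
      have : ⁅y, v⁆ = (⁅v, y⁆)⁻¹ := by simp only [commutatorElement_def]; group
      rw [this]; exact inv_mem h2
    rw [Subgroup.commutator_le]
    intro v hv e he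
    have h1 := (hEC he).2.2 v hv
    have : ⁅v, e⁆ = (⁅e, v⁆)⁻¹ := by simp only [commutatorElement_def]; group
    rw [this]; exact inv_mem h1

/-- `h` normalizes `E = O^p(E)` as soon as `[h, E]` lies in a `p`-group normalizing `E`. -/
theorem conj_mem_of_comm_mem {p : ℕ} [Fact p.Prime] {E K : Subgroup G}
    (hres : Cfsg.pResidualOf p E = E) (hKp : IsPGroup p K)
    (hKE : K ≤ Subgroup.normalizer (E : Set G)) {h : G} (hh : ∀ y ∈ E, ⁅h, y⁆ ∈ K) :
    ∀ e ∈ E, h * e * h⁻¹ ∈ E := by
  have key : E ≤ E.comap (MulAut.conj h).toMonoidHom := by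
    conv_lhs => rw [← hres]
    rw [pResidualOf_le_iff]
    intro y hy hc
    show h * y * h⁻¹ ∈ E
    have hx : ⁅h, y⁆ ∈ K := hh y hy
    obtain ⟨k, hk⟩ := hKp ⟨_, hx⟩
    have hk' : (⁅h, y⁆) ^ (p ^ k) = 1 := by
      have := congrArg Subtype.val hk
      simpa using this
    have e1 : h * y * h⁻¹ = ⁅h, y⁆ * y := by simp only [commutatorElement_def]; group
    have hord : orderOf (⁅h, y⁆ * y) = orderOf y := by
      rw [← e1]
      have : h * y * h⁻¹ = MulAut.conj h y := rfl
      rw [this, MulEquiv.orderOf_eq]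
    have hmem : ⁅h, y⁆ ∈ E := mem_of_coprime_mul (hKE hx) hy hk' (by rw [hord]; exact hc)
    rw [e1]
    exact mul_mem hmem hy
  intro e he
  exact key he

/-- `O^p(E Q) = E` for `E = O^p(E)` and a `p`-group `Q` normalizing `E`. -/
theorem pResidualOf_sup_eq {p : ℕ} [Fact p.Prime] {E Q : Subgroup G}
    (hres : Cfsg.pResidualOf p E = E) (hQp : IsPGroup p Q)
    (hQE : Q ≤ Subgroup.normalizer (E : Set G)) : Cfsg.pResidualOf p (E ⊔ Q) = E := by
  apply le_antisymm
  · rw [pResidualOf_le_iff]
    intro g hg hc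
    have hg' : g ∈ ((Q ⊔ E : Subgroup G) : Set G) := by rw [sup_comm]; exact hg
    rw [Subgroup.coe_mul_of_left_le_normalizer_right Q E hQE] at hg'
    obtain ⟨x, hx, y, hy, rfl⟩ := hg'
    obtain ⟨k, hk⟩ := hQp ⟨x, hx⟩
    have hk' : x ^ (p ^ k) = 1 := by
      have := congrArg Subtype.val hk
      simpa using this
    exact mul_mem (mem_of_coprime_mul (hQE hx) hy hk' hc) hy
  · conv_lhs => rw [← hres]
    rw [pResidualOf_le_iff]
    intro g hg hc
    exact mem_pResidualOf (Subgroup.mem_sup_left hg) hc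

/-- a `p`-group of automorphisms-by-conjugation stabilizing `P ≥ W ≥ 1`: a `p'`-element centralizing `W` and `P / W`
centralizes `P`. -/
theorem commute_of_stab_chain {p : ℕ} [Fact p.Prime] {P W : Subgroup G} (hP : IsPGroup p P) (hWP : W ≤ P)
    {x : G} (hc : (orderOf x).Coprime p) (hxW : ∀ w ∈ W, x * w = w * x)
    (hxP : ∀ g ∈ P, ⁅x, g⁆ ∈ W) : ∀ g ∈ P, x * g = g * x := by
  intro g hg
  -- `x g x⁻¹ = w g` with `w` centralized by `x`
  set w := ⁅x, g⁆ with hw
  have hwW : w ∈ W := hxP g hg
  have hconj : ∀ m : ℕ, x ^ m * g * (x ^ m)⁻¹ = w ^ m * g := by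
    intro m
    induction m with
    | zero => simp
    | succ m ih =>
      have hxw : x * w ^ m = w ^ m * x := by
        have : Commute x w := hxW w hwW
        exact (this.pow_right m).eq
      calc x ^ (m + 1) * g * (x ^ (m + 1))⁻¹ = x * (x ^ m * g * (x ^ m)⁻¹) * x⁻¹ := by
            rw [pow_succ']; group
        _ = x * (w ^ m * g) * x⁻¹ := by rw [ih]
        _ = (x * w ^ m) * g * x⁻¹ := by group
        _ = w ^ m * (x * g * x⁻¹ * g⁻¹) * g := by rw [hxw]; group
        _ = w ^ (m + 1) * g := by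
            rw [pow_succ, hw, commutatorElement_def]
  have h1 := hconj (orderOf x)
  rw [pow_orderOf_eq_one] at h1
  have h2 : w ^ orderOf x = 1 := by
    have : g = w ^ orderOf x * g := by simpa using h1
    exact (mul_eq_right.1 this.symm)
  obtain ⟨k, hk⟩ := hP ⟨w, hWP hwW⟩
  have hk' : w ^ (p ^ k) = 1 := by
    have := congrArg Subtype.val hk
    simpa using this
  have hw1 : w = 1 := by
    have hd1 : orderOf w ∣ orderOf x := orderOf_dvd_of_pow_eq_one h2
    have hd2 : orderOf w ∣ p ^ k := orderOf_dvd_of_pow_eq_one hk'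
    have hcop : (orderOf x).Coprime (p ^ k) := Nat.Coprime.pow_right k hc
    have : orderOf w = 1 := Nat.eq_one_of_dvd_coprimes hcop hd1 hd2
    exact orderOf_eq_one_iff.1 this
  have : x * g * x⁻¹ * g⁻¹ = 1 := by rw [← commutatorElement_def, ← hw, hw1]
  calc x * g = (x * g * x⁻¹ * g⁻¹) * g * x := by group
    _ = g * x := by rw [this, one_mul]

end Cfsg.Agent.Helper9.BB
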