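import Cfsg.Agent.Helper9.SpOMain4
import Cfsg.Agent.Helper3.SpOA2D

set_option autoImplicit false
set_option linter.unusedSectionVars false
set_option linter.unusedVariables false

/-! S5666 (helper9): the `dim U ≥ 3` branch of `mainSO`, complete: every leaf ([LQ] helper2 + lead,
[A2] helper3, [STAB] helper7, [L3U] helper8, [MAINU]/[STL] helper9, [OPP] helper3) plugged in. -/

namespace Cfsg.Agent.Helper6.SpO

open Module Cfsg.Agent.Helper7.ExtF Cfsg.Agent.Helper8.Tens

variable {F : Type*} [Field F] {U W V : Type*} [AddCommGroup U] [Module F U]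
  [AddCommGroup W] [Module F W] [AddCommGroup V] [Module F V]
  {t : U →ₗ[F] W →ₗ[F] V} {B : LinearMap.BilinForm F V} {f₁ : LinearMap.BilinForm F U}
  {f₂ : LinearMap.BilinForm F W} {X : Subgroup (V ≃ₗ[F] V)}
  [FiniteDimensional F U] [FiniteDimensional F W] [FiniteDimensional F V]

/-- **`mainSO` for `dim U ≥ 3`**: a group `X` of isometries of `B = f₁ ⊗ f₂` containing
`Sp(U) ⊗ O(W)` (in the sense of `Hyp`) either contains a full root group of symplectic
transvections with a pure centre, or consists of tensors. -/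
theorem mainSO_ge3 [Finite F] (ht : IsTensorProduct t) (h : Hyp t B f₁ f₂ X)
    (ha : 3 ≤ finrank F U) (hb : 3 ≤ finrank F W) (hn : 14 ≤ finrank F U * finrank F W)
    (hex : ¬ (Nat.card F = 3 ∧ finrank F W = 3)) :
    HasPureTv t B h.altB X ∨ ∀ g ∈ X, IsTens t g :=
  mainSO_of_A2 ht h ha hb hn hex
    (fun hLQ u hu g hg hR => H3.A2_main ht h hb hLQ hu hg hR)

/-- alias of `mainSO_ge3`. -/
theorem H9.mainSO_ge3' [Finite F] (ht : IsTensorProduct t) (h : Hyp t B f₁ f₂ X)
    (ha : 3 ≤ finrank F U) (hb : 3 ≤ finrank F W) (hn : 14 ≤ finrank F U * finrank F W)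
    (hex : ¬ (Nat.card F = 3 ∧ finrank F W = 3)) :
    HasPureTv t B h.altB X ∨ ∀ g ∈ X, IsTens t g :=
  mainSO_ge3 ht h ha hb hn hex

end Cfsg.Agent.Helper6.SpO
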