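import Mathlib
import Cfsg.Agent.Helper6.KuDefs

/-!
# K3 of the S4607 blueprint (helper6): lifting matrix units modulo a nil ideal
-/

set_option autoImplicit false

namespace Cfsg.Agent.Helper6.Ku

variable {F : Type*} [Field F] {A : Type*} [Ring A] [Algebra F A]

/-- geometric series inside a corner: if `i` is idempotent, `r ∈ iAi` nilpotent, then `i - r`
has a right inverse `w ∈ iAi` (relative to the identity `i`). -/
theorem h9_geom (i r : A) (hi : IsIdempotentElem i) (hir : i * r = r) (hri : r * i = r)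
    (hr : IsNilpotent r) :
    ∃ w : A, i * w = w ∧ w * i = w ∧ (i - r) * w = i := by
  obtain ⟨N, hN⟩ := hr
  refine ⟨i * (∑ k ∈ Finset.range N, r ^ k) * i, ?_, ?_, ?_⟩
  · rw [← mul_assoc, ← mul_assoc, hi.eq]
  · rw [mul_assoc, hi.eq]
  · have h1 : (i - r) * i = i * (1 - r) := by
      rw [sub_mul, hi.eq, mul_sub, mul_one, hir, hri]
    calc (i - r) * (i * (∑ k ∈ Finset.range N, r ^ k) * i)
        = ((i - r) * i) * (∑ k ∈ Finset.range N, r ^ k) * i := by
          simp only [mul_assoc]
      _ = i * ((1 - r) * ∑ k ∈ Finset.range N, r ^ k) * i := by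
          rw [h1]; simp only [mul_assoc]
      _ = i := by
          rw [mul_neg_geom_sum, hN, sub_zero, mul_one, hi.eq]

theorem exists_matUnits (J : Ideal A) [J.IsTwoSided]
    (hJ : ∀ x ∈ J, IsNilpotent x) (n : ℕ) (hn : 0 < n)
    (φ : (A ⧸ J) ≃ₐ[F] Matrix (Fin n) (Fin n) F) :
    ∃ (i : A) (e u v : Fin n → A), MatUnits F n J i e u v := by
  classical
  set f : A →+* A ⧸ J := Ideal.Quotient.mk J with hf
  have hmem : ∀ x : A, f x = 0 → x ∈ J := fun x hx => Ideal.Quotient.eq_zero_iff_mem.mp hx
  have hker : ∀ x ∈ RingHom.ker f, IsNilpotent x := fun x hx => hJ x (hmem x hx)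
  have hsurj : Function.Surjective f := Ideal.Quotient.mk_surjective
  -- matrix units in the quotient
  let E : Fin n → Fin n → A ⧸ J := fun j k => φ.symm (Matrix.single j k 1)
  have hEE : ∀ j k l, E j k * E k l = E j l := by
    intro j k l
    simp only [E]
    rw [← map_mul, Matrix.single_mul_single_same, mul_one]
  have hEE0 : ∀ j k k' l, k ≠ k' → E j k * E k' l = 0 := by
    intro j k k' l h
    simp only [E]
    rw [← map_mul, Matrix.single_mul_single_of_ne _ _ _ _ h, map_zero]
  have hcoi : CompleteOrthogonalIdempotents (fun j => E j j) := by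
    refine ⟨⟨fun j => hEE j j j, fun j k hjk => hEE0 j j k k hjk⟩, ?_⟩
    simp only [E]
    rw [← map_sum, Matrix.sum_single_one, map_one]
  obtain ⟨e, he, hfe⟩ := CompleteOrthogonalIdempotents.lift_of_isNilpotent_ker f hker hcoi
    (fun j => f.mem_range.mpr (hsurj _))
  have hfe' : ∀ j, f (e j) = E j j := fun j => congr_fun hfe j
  have heidem : ∀ j, e j * e j = e j := fun j => he.idem j
  set z : Fin n := ⟨0, hn⟩ with hz
  choose x hx using fun j : Fin n => hsurj (E z j)
  choose y hy using fun j : Fin n => hsurj (E j z)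
  obtain ⟨i, hi⟩ : ∃ i : A, i = e z := ⟨_, rfl⟩
  have hii : IsIdempotentElem i := hi ▸ he.idem z
  have hfi : f i = E z z := hi ▸ hfe' z
  obtain ⟨a, ha⟩ : ∃ a : Fin n → A, ∀ j, a j = i * x j * e j := ⟨_, fun _ => rfl⟩
  obtain ⟨b, hb⟩ : ∃ b : Fin n → A, ∀ j, b j = e j * y j * i := ⟨_, fun _ => rfl⟩
  have hia : ∀ j, i * a j = a j := by
    intro j
    rw [ha, ← mul_assoc, ← mul_assoc, hii.eq]
  have hae : ∀ j, a j * e j = a j := by
    intro j
    rw [ha, mul_assoc, heidem]
  have heb : ∀ j, e j * b j = b j := by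
    intro j
    rw [hb, ← mul_assoc, ← mul_assoc, heidem]
  have hbi : ∀ j, b j * i = b j := by
    intro j
    rw [hb, mul_assoc, hii.eq]
  have hfa : ∀ j, f (a j) = E z j := by
    intro j
    rw [ha, map_mul, map_mul, hfi, hx, hfe', hEE, hEE]
  have hfb : ∀ j, f (b j) = E j z := by
    intro j
    rw [hb, map_mul, map_mul, hfi, hy, hfe', hEE, hEE]
  -- the correction units
  have hw : ∀ j, ∃ w : A, i * w = w ∧ w * i = w ∧ (a j * b j) * w = i := by
    intro j
    have hr1 : i * (i - a j * b j) = i - a j * b j := by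
      rw [mul_sub, hii.eq, ← mul_assoc, hia]
    have hr2 : (i - a j * b j) * i = i - a j * b j := by
      rw [sub_mul, hii.eq, mul_assoc, hbi]
    have hr3 : IsNilpotent (i - a j * b j) := by
      apply hJ
      apply hmem
      rw [map_sub, map_mul, hfa, hfb, hfi, hEE, sub_self]
    obtain ⟨w, hw1, hw2, hw3⟩ := h9_geom i (i - a j * b j) hii hr1 hr2 hr3
    refine ⟨w, hw1, hw2, ?_⟩
    rwa [sub_sub_cancel] at hw3
  choose w hw1 hw2 hw3 using hw
  have hfw : ∀ j, f (w j) = E z z := by
    intro j
    have h1 : f (a j * b j * w j) = f i := by rw [hw3]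
    rw [map_mul, map_mul, hfa, hfb, hEE, hfi] at h1
    have h2 : f (i * w j) = f (w j) := by rw [hw1]
    rw [map_mul, hfi] at h2
    rw [← h2, h1]
  refine ⟨i, e, a, fun j => b j * w j, ?_⟩
  refine
    { idem := hii
      coi := he
      u_left := hia
      u_right := hae
      v_left := ?_
      v_right := ?_
      uv := ?_
      vu := ?_
      loc := ?_ }
  · intro j
    show e j * (b j * w j) = b j * w j
    rw [← mul_assoc, heb]
  · intro j
    show b j * w j * i = b j * w j
    rw [mul_assoc, hw2]
  · intro j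
    show a j * (b j * w j) = i
    rw [← mul_assoc, hw3]
  · intro j
    show b j * w j * a j = e j
    obtain ⟨g, hg⟩ : ∃ g : A, g = b j * w j * a j := ⟨_, rfl⟩
    rw [← hg]
    have hgg : g * g = g := by
      have : g * g = b j * w j * ((a j * b j) * w j) * a j := by
        simp only [hg, mul_assoc]
      rw [this, hw3, mul_assoc, hia, hg]
    have heg : e j * g = g := by
      rw [hg, ← mul_assoc, ← mul_assoc, heb]
    have hge : g * e j = g := by
      rw [hg, mul_assoc, hae]
    have hfg : f g = f (e j) := by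
      rw [hg, map_mul, map_mul, hfb, hfw, hfa, hEE, hEE, hfe']
    have hd : IsIdempotentElem (e j - g) := by
      show (e j - g) * (e j - g) = e j - g
      rw [mul_sub, sub_mul, sub_mul, heidem, hge, heg, hgg, sub_self, sub_zero]
    have hdn : IsNilpotent (e j - g) := by
      apply hJ
      apply hmem
      rw [map_sub, hfg, sub_self]
    have := hd.eq_zero_of_isNilpotent hdn
    exact (sub_eq_zero.mp this).symm
  · intro t
    refine ⟨φ (f t) z z, ?_⟩
    have h0 : f (i * t * i - (φ (f t) z z) • i) = 0 := by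
      apply φ.injective
      have hsm : f ((φ (f t) z z) • i) = (φ (f t) z z) • f i := by
        show (Ideal.Quotient.mkₐ F J) ((φ (f t) z z) • i) =
          (φ (f t) z z) • (Ideal.Quotient.mkₐ F J) i
        exact map_smul _ _ _
      rw [map_sub, map_zero, map_mul, map_mul, hsm, hfi, map_sub, map_mul, map_mul, map_smul]
      simp only [E, AlgEquiv.apply_symm_apply]
      rw [Matrix.single_mul_mul_single, one_mul, mul_one, Matrix.smul_single, smul_eq_mul,
        mul_one, sub_self]
    exact hmem _ h0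

end Cfsg.Agent.Helper6.Ku
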