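import Mathlib
import Cfsg.Prelude.Def_Characters
import Cfsg.Prelude.Def_BlockLocal
import Cfsg.Prelude.Def_Blocks
import Cfsg.Prelude.Def_CharExt
import Cfsg.Agent.Helper8.RMcKPMa
import Cfsg.Agent.Helper6.RMcKGlD

/-!
# S4807, piece PM, clause (6): equivariance of the relation `PMRel`
-/

set_option autoImplicit false

namespace Cfsg.Agent.Helper9.RMcK

open Cfsg.Agent.Helper6 Cfsg.Agent.Helper6.RMcK Cfsg.Agent.Helper8.RMcK

universe u

variable {Γ : Type u} [Group Γ] [Finite Γ]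

omit [Finite Γ] in
/-- conjugating the function of a homomorphism -/
theorem cjc_homFun (M : Subgroup Γ) (a : Γ) (haM : a ∈ Subgroup.normalizer (M : Set Γ))
    (μ : M →* ℂˣ) :
    cjc M a haM (homFun μ) = homFun (μ.comp (nconj M a haM).toMonoidHom) := rfl

/-- `IsCanon` is preserved by conjugation with an element normalizing `W`, `S`, `M`. -/
theorem isCanon_cjc {W S M : Subgroup Γ} (hWM : W ≤ M) (hSM : S ≤ M) (a : Γ)
    (haW : a ∈ Subgroup.normalizer (W : Set Γ)) (haS : a ∈ Subgroup.normalizer (S : Set Γ))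
    (haM : a ∈ Subgroup.normalizer (M : Set Γ)) (η : W → ℂ) (ηh : M → ℂ)
    (h : IsCanon hWM hSM η ηh) :
    IsCanon hWM hSM (cjc W a haW η) (cjc M a haM ηh) := by
  obtain ⟨h1, h2, h3⟩ := h
  refine ⟨cjc_isIrr M a haM h1, ?_, ?_⟩
  · rw [res_cjc hWM a haM haW, h2]
  · intro s
    rw [Cfsg.Agent.Helper3.RMcK.D4b_detChar_cjc M a haM ηh (Cfsg.Agent.Helper6.IsIrrCharacter.isCharacter h1), cjc_apply]
    have hs' : a⁻¹ * (s : Γ) * a ∈ S := (Subgroup.mem_normalizer_iff''.mp haS (s : Γ)).mp s.2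
    have e : nconj M a haM (Subgroup.inclusion hSM s) =
        Subgroup.inclusion hSM ⟨a⁻¹ * (s : Γ) * a, hs'⟩ := Subtype.ext rfl
    rw [e]
    exact h3 _

/-- PM clause (6): equivariance of `PMRel` under `a ∈ N(W) ∩ N(S)`. -/
theorem PM6_equivariant (p : ℕ) [Fact p.Prime] (W S C M M' : Subgroup Γ) (hS : IsPGroup p S)
    (hW : (Nat.card W).Coprime p) (hSW : S ≤ Subgroup.normalizer (W : Set Γ))
    (hC : C = fixC W S) (hM : M = W ⊔ S) (hM' : M' = C ⊔ S) (hWM : W ≤ M) (hSM : S ≤ M)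
    (hCM' : C ≤ M') (hSM' : S ≤ M') (hM'M : M' ≤ M) (hCW : C ≤ W)
    (τ : M → ℂ) (τ' : M' → ℂ) (a : Γ)
    (haW : a ∈ Subgroup.normalizer (W : Set Γ)) (haS : a ∈ Subgroup.normalizer (S : Set Γ))
    (haM : a ∈ Subgroup.normalizer (M : Set Γ)) (haM' : a ∈ Subgroup.normalizer (M' : Set Γ))
    (h : PMRel p hWM hSM hCM' hSM' hM'M hCW τ τ') :
    PMRel p hWM hSM hCM' hSM' hM'M hCW (cjc M a haM τ) (cjc M' a haM' τ') := by
  have _ := hS
  have _ := hW
  have _ := hSW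
  have _ := hM
  have _ := hM'
  have haC : a ∈ Subgroup.normalizer (C : Set Γ) := by
    rw [hC]; exact normalizer_fixC W S a haW haS
  obtain ⟨η, β, ηh, βh, μ, hη, hβ, hinv, hGl, hcη, hcβ, hμ, hτ, hτ'⟩ := h
  refine ⟨cjc W a haW η, cjc C a haC β, cjc M a haM ηh, cjc M' a haM' βh,
    μ.comp (nconj M a haM).toMonoidHom, cjc_isIrr W a haW hη, cjc_isIrr C a haC hβ,
    cjc_mem_inertia_of_normalizes W S a haW haS η hinv, glC_cjc hCW a haW haC η β hGl,
    isCanon_cjc hWM hSM a haW haS haM η ηh hcη, isCanon_cjc hCM' hSM' a haC haS haM' β βh hcβ,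
    ?_, ?_, ?_⟩
  · intro w
    have hw' : a⁻¹ * (w : Γ) * a ∈ W := (Subgroup.mem_normalizer_iff''.mp haW (w : Γ)).mp w.2
    have e : nconj M a haM (Subgroup.inclusion hWM w) =
        Subgroup.inclusion hWM ⟨a⁻¹ * (w : Γ) * a, hw'⟩ := Subtype.ext rfl
    rw [MonoidHom.comp_apply, MulEquiv.coe_toMonoidHom, e]
    exact hμ _
  · rw [hτ, cjc_mul_fun, cjc_homFun]
  · rw [hτ', cjc_mul_fun, cjc_homFun]
    congr 1

end Cfsg.Agent.Helper9.RMcK
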