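import Mathlib
import Cfsg.Agent.Helper1.Coprime
import Cfsg.Agent.Helper1.Fitting2

/-!
# Piece D3 of S4807 (relative McKay for `p`-solvable groups): the structure lemma for Lemma X

`D3_of_D1` proves the statement with piece D1 (an abelian group acting irreducibly on an abelian
section is cyclic modulo the kernel of the action) as an explicit hypothesis.
-/

set_option autoImplicit false

namespace Cfsg.Agent.Helper9.RMcK

open scoped commutatorElement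

universe u

variable {Γ : Type u} [Group Γ]

theorem nconj {H : Subgroup Γ} {g h : Γ} (hg : g ∈ Subgroup.normalizer (H : Set Γ)) (hh : h ∈ H) :
    g * h * g⁻¹ ∈ H :=
  (Subgroup.mem_normalizer_iff.1 hg h).1 hh

theorem nconj' {H : Subgroup Γ} {g h : Γ} (hg : g ∈ Subgroup.normalizer (H : Set Γ)) (hh : h ∈ H) :
    g⁻¹ * h * g ∈ H := by
  have := nconj (Subgroup.inv_mem _ hg) hh
  rwa [inv_inv] at this

theorem le_normalizer_of_conj {A H : Subgroup Γ} (h : ∀ a ∈ A, ∀ x ∈ H, a * x * a⁻¹ ∈ H) :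
    A ≤ Subgroup.normalizer (H : Set Γ) := by
  intro a ha
  rw [Subgroup.mem_normalizer_iff]
  intro x
  refine ⟨h a ha x, fun hx => ?_⟩
  have := h a⁻¹ (A.inv_mem ha) _ hx
  simpa [mul_assoc] using this

/-- the normalizer of `W` normalizes the centralizer of `W` -/
theorem le_normalizer_centralizer {D W : Subgroup Γ}
    (h : D ≤ Subgroup.normalizer (W : Set Γ)) :
    D ≤ Subgroup.normalizer ((Subgroup.centralizer (W : Set Γ) : Subgroup Γ) : Set Γ) := by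
  apply le_normalizer_of_conj
  intro d hd c hc
  rw [Subgroup.mem_centralizer_iff] at hc ⊢
  intro r hr
  have hr' : d⁻¹ * r * d ∈ W := nconj' (h hd) hr
  have := hc _ hr'
  calc r * (d * c * d⁻¹) = d * ((d⁻¹ * r * d) * c) * d⁻¹ := by group
    _ = d * (c * (d⁻¹ * r * d)) * d⁻¹ := by rw [this]
    _ = d * c * d⁻¹ * r := by group

/-- `A` normalizes `⁅T, S⁆` if it normalizes `T` and `S`. -/
theorem le_normalizer_commutator {A T S : Subgroup Γ}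
    (hT : A ≤ Subgroup.normalizer (T : Set Γ)) (hS : A ≤ Subgroup.normalizer (S : Set Γ)) :
    A ≤ Subgroup.normalizer ((⁅T, S⁆ : Subgroup Γ) : Set Γ) := by
  apply le_normalizer_of_conj
  intro a ha x hx
  have h1 : ⁅T, S⁆ ≤ (⁅T, S⁆ : Subgroup Γ).comap (MulAut.conj a).toMonoidHom := by
    rw [Subgroup.commutator_le]
    intro t ht s hs
    rw [Subgroup.mem_comap]
    have e : (MulAut.conj a).toMonoidHom ⁅t, s⁆ = ⁅a * t * a⁻¹, a * s * a⁻¹⁆ := by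
      simp only [MulEquiv.coe_toMonoidHom, MulAut.conj_apply, commutatorElement_def]
      group
    rw [e]
    exact Subgroup.commutator_mem_commutator (nconj (hT ha) ht) (nconj (hS ha) hs)
  have h2 := h1 hx
  rw [Subgroup.mem_comap] at h2
  simpa using h2

variable [Finite Γ]

/-- The statement of piece D1, as a hypothesis. -/
def D1Stmt (Γ : Type u) [Group Γ] : Prop :=
  ∀ (T T₀ A : Subgroup Γ), T₀ ≤ T → T₀ ≠ T →
    (∀ s ∈ T, ∀ t ∈ T, s * t * s⁻¹ * t⁻¹ ∈ T₀) →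
    A ≤ Subgroup.normalizer (T : Set Γ) → A ≤ Subgroup.normalizer (T₀ : Set Γ) →
    (∀ U : Subgroup Γ, T₀ ≤ U → U ≤ T → A ≤ Subgroup.normalizer (U : Set Γ) →
      U = T₀ ∨ U = T) →
    (∀ a ∈ A, ∀ b ∈ A, ∀ t ∈ T,
      (a * b * a⁻¹ * b⁻¹) * t * (a * b * a⁻¹ * b⁻¹)⁻¹ * t⁻¹ ∈ T₀) →
    ∃ c ∈ A, ∀ a ∈ A, ∃ k : ℕ, ∀ t ∈ T, (a * c ^ k) * t * (a * c ^ k)⁻¹ * t⁻¹ ∈ T₀

/-- **D3**, with D1 as a hypothesis. -/
theorem D3_of_D1 (hD1 : D1Stmt Γ) (p : ℕ) [Fact p.Prime] (W S A C : Subgroup Γ)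
    (hS : IsPGroup p S) (hW : (Nat.card W).Coprime p) (hA : (Nat.card A).Coprime p)
    (hSW : S ≤ Subgroup.normalizer (W : Set Γ)) (hAW : A ≤ Subgroup.normalizer (W : Set Γ))
    (hAS : A ≤ Subgroup.normalizer (S : Set Γ))
    (hC : C = W ⊓ Subgroup.centralizer (S : Set Γ))
    (hCA : C ≤ A) (hab : ∀ a ∈ A, ∀ b ∈ A, a * b * a⁻¹ * b⁻¹ ∈ C)
    (hnc : ¬ S ≤ Subgroup.centralizer (W : Set Γ)) :
    ∃ T B S₁ : Subgroup Γ, T ≤ S ∧ S ≤ Subgroup.normalizer (T : Set Γ) ∧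
      A ≤ Subgroup.normalizer (T : Set Γ) ∧ ¬ T ≤ Subgroup.centralizer (W : Set Γ) ∧
      C ≤ B ∧ B ≤ A ∧ A ≤ Subgroup.normalizer (B : Set Γ) ∧
      (∃ c ∈ A, ∀ a ∈ A, ∃ k : ℕ, a * c ^ k ∈ B) ∧
      S₁ ≤ T ∧ A ≤ Subgroup.normalizer (S₁ : Set Γ) ∧
      S₁ ≤ Subgroup.centralizer (B : Set Γ) ∧
      W ⊓ Subgroup.centralizer (S₁ : Set Γ) = W ⊓ Subgroup.centralizer (T : Set Γ) := by
  have _ := hW
  -- a minimal invariant subgroup not centralizing `W`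
  let 𝒯 : Set (Subgroup Γ) := {T | T ≤ S ∧ S ≤ Subgroup.normalizer (T : Set Γ) ∧
    A ≤ Subgroup.normalizer (T : Set Γ) ∧ ¬ T ≤ Subgroup.centralizer (W : Set Γ)}
  have hS𝒯 : S ∈ 𝒯 := ⟨le_rfl, Subgroup.le_normalizer, hAS, hnc⟩
  obtain ⟨T, -, hTmin⟩ := (Set.toFinite 𝒯).exists_le_minimal hS𝒯
  obtain ⟨hTS, hST, hAT, hTW⟩ : T ∈ 𝒯 := hTmin.prop
  set CW : Subgroup Γ := Subgroup.centralizer (W : Set Γ) with hCW
  set T₀ : Subgroup Γ := T ⊓ CW with hT₀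
  have hT₀T : T₀ ≤ T := inf_le_left
  have hT₀ne : T₀ ≠ T := by
    intro h
    apply hTW
    rw [← h]
    exact inf_le_right
  have hST₀ : S ≤ Subgroup.normalizer (T₀ : Set Γ) :=
    Cfsg.Agent.Helper1.le_normalizer_inf hST (le_normalizer_centralizer hSW)
  have hAT₀ : A ≤ Subgroup.normalizer (T₀ : Set Γ) :=
    Cfsg.Agent.Helper1.le_normalizer_inf hAT (le_normalizer_centralizer hAW)
  -- proper invariant subgroups of `T` lie in `T₀`
  have hmin : ∀ U : Subgroup Γ, U ≤ T → S ≤ Subgroup.normalizer (U : Set Γ) →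
      A ≤ Subgroup.normalizer (U : Set Γ) → U ≠ T → U ≤ T₀ := by
    intro U hUT hSU hAU hne
    by_contra hcon
    have hUW : ¬ U ≤ CW := fun h => hcon (le_inf hUT h)
    have hU𝒯 : U ∈ 𝒯 := ⟨hUT.trans hTS, hSU, hAU, hUW⟩
    exact hne (le_antisymm hUT (hTmin.2 hU𝒯 hUT))
  -- `[T, S] ≤ T₀`
  have hTSle : ⁅T, S⁆ ≤ T := Subgroup.le_normalizer_iff_commutator_le_left.1 hST
  have hcomm : ⁅T, S⁆ ≤ T₀ := by
    apply hmin _ hTSle (Subgroup.normalizer_commutator_ge_right T S)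
      (le_normalizer_commutator hAT hAS)
    intro h
    have hnil : Group.IsNilpotent ↥S := hS.isNilpotent
    have hbot := Cfsg.Agent.Helper1.eq_bot_of_commutator_eq_of_isNilpotent hnil hTS h
    apply hTW
    rw [hbot]
    exact bot_le
  have hts : ∀ t ∈ T, ∀ s ∈ S, t * s * t⁻¹ * s⁻¹ ∈ T₀ := by
    intro t ht s hs
    have := Subgroup.commutator_mem_commutator ht hs
    rw [commutatorElement_def] at this
    exact hcomm this
  -- hypotheses of D1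
  have habT : ∀ s ∈ T, ∀ t ∈ T, s * t * s⁻¹ * t⁻¹ ∈ T₀ := fun s hs t ht => hts s hs t (hTS ht)
  have hirr : ∀ U : Subgroup Γ, T₀ ≤ U → U ≤ T → A ≤ Subgroup.normalizer (U : Set Γ) →
      U = T₀ ∨ U = T := by
    intro U hT₀U hUT hAU
    by_cases hUT' : U = T
    · right; exact hUT'
    · left
      apply le_antisymm _ hT₀U
      apply hmin U hUT _ hAU hUT'
      apply le_normalizer_of_conj
      intro s hs u hu
      -- s u s⁻¹ = (u s u⁻¹ s⁻¹)⁻¹ * u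
      have h1 := hts u (hUT hu) s hs
      have h2 : s * u * s⁻¹ = (u * s * u⁻¹ * s⁻¹)⁻¹ * u := by group
      rw [h2]
      exact U.mul_mem (U.inv_mem (hT₀U h1)) hu
  have hCS : ∀ x ∈ C, ∀ s ∈ S, x * s = s * x := by
    intro x hx s hs
    rw [hC] at hx
    have := Subgroup.mem_centralizer_iff.1 hx.2 s hs
    exact this.symm
  have hAab : ∀ a ∈ A, ∀ b ∈ A, ∀ t ∈ T,
      (a * b * a⁻¹ * b⁻¹) * t * (a * b * a⁻¹ * b⁻¹)⁻¹ * t⁻¹ ∈ T₀ := by
    intro a ha b hb t ht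
    have h1 := hCS _ (hab a ha b hb) t (hTS ht)
    rw [h1]
    have : t * (a * b * a⁻¹ * b⁻¹) * (a * b * a⁻¹ * b⁻¹)⁻¹ * t⁻¹ = 1 := by group
    rw [this]
    exact T₀.one_mem
  obtain ⟨c, hcA, hc⟩ := hD1 T T₀ A hT₀T hT₀ne habT hAT hAT₀ hirr hAab
  -- the kernel `B` of the action of `A` on `T / T₀`
  let B : Subgroup Γ :=
    { carrier := {a | a ∈ A ∧ ∀ t ∈ T, a * t * a⁻¹ * t⁻¹ ∈ T₀}
      one_mem' := by
        refine ⟨A.one_mem, fun t _ => ?_⟩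
        have : (1 : Γ) * t * 1⁻¹ * t⁻¹ = 1 := by group
        rw [this]; exact T₀.one_mem
      mul_mem' := by
        rintro a a' ⟨ha, h1⟩ ⟨ha', h2⟩
        refine ⟨A.mul_mem ha ha', fun t ht => ?_⟩
        have e : a * a' * t * (a * a')⁻¹ * t⁻¹ =
            (a * (a' * t * a'⁻¹ * t⁻¹) * a⁻¹) * (a * t * a⁻¹ * t⁻¹) := by group
        rw [e]
        exact T₀.mul_mem (nconj (hAT₀ ha) (h2 t ht)) (h1 t ht)
      inv_mem' := by
        rintro a ⟨ha, h1⟩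
        refine ⟨A.inv_mem ha, fun t ht => ?_⟩
        have e : a⁻¹ * t * a⁻¹⁻¹ * t⁻¹ = a⁻¹ * (a * t * a⁻¹ * t⁻¹)⁻¹ * a := by group
        rw [e]
        exact nconj' (hAT₀ ha) (T₀.inv_mem (h1 t ht)) }
  have hBmem : ∀ {a : Γ}, a ∈ B ↔ a ∈ A ∧ ∀ t ∈ T, a * t * a⁻¹ * t⁻¹ ∈ T₀ := Iff.rfl
  have hBA : B ≤ A := fun a ha => (hBmem.1 ha).1
  have hCB : C ≤ B := by
    intro x hx
    refine hBmem.2 ⟨hCA hx, fun t ht => ?_⟩
    rw [hCS x hx t (hTS ht)]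
    have : t * x * x⁻¹ * t⁻¹ = 1 := by group
    rw [this]; exact T₀.one_mem
  have hAB : A ≤ Subgroup.normalizer (B : Set Γ) := by
    apply le_normalizer_of_conj
    intro g hg a ha
    obtain ⟨haA, h1⟩ := hBmem.1 ha
    refine hBmem.2 ⟨A.mul_mem (A.mul_mem hg haA) (A.inv_mem hg), fun t ht => ?_⟩
    have ht' : g⁻¹ * t * g ∈ T := nconj' (hAT hg) ht
    have e : g * a * g⁻¹ * t * (g * a * g⁻¹)⁻¹ * t⁻¹ =
        g * (a * (g⁻¹ * t * g) * a⁻¹ * (g⁻¹ * t * g)⁻¹) * g⁻¹ := by group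
    rw [e]
    exact nconj (hAT₀ hg) (h1 _ ht')
  -- the fixed points `S₁`
  set S₁ : Subgroup Γ := T ⊓ Subgroup.centralizer (B : Set Γ) with hS₁
  have hAS₁ : A ≤ Subgroup.normalizer (S₁ : Set Γ) :=
    Cfsg.Agent.Helper1.le_normalizer_inf hAT (le_normalizer_centralizer hAB)
  -- `T = S₁ T₀` by coprime action
  have hBT : B ≤ Subgroup.normalizer (T : Set Γ) := hBA.trans hAT
  have hTp : IsPGroup p ↥T := hS.to_le hTS
  have hBcop : (Nat.card ↥B).Coprime (Nat.card ↥T) := by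
    obtain ⟨n, hn⟩ := IsPGroup.iff_card.1 hTp
    rw [hn]
    apply Nat.Coprime.pow_right
    exact Nat.Coprime.coprime_dvd_left (Subgroup.card_dvd_of_le hBA) hA
  have hTsolv : Group.IsSolvable ↥T := by
    have : Group.IsNilpotent ↥T := hTp.isNilpotent
    infer_instance
  have hTT₀ : T ≤ Subgroup.normalizer (T₀ : Set Γ) := hTS.trans hST₀
  have hdecomp : ∀ t ∈ T, ∃ s₁ ∈ S₁, ∃ t₀ ∈ T₀, t = s₁ * t₀ := by
    intro t ht
    obtain ⟨c', hc', hc'N⟩ := Cfsg.Agent.Helper1.coprime_fixed_coset B T hBT hBcop (Or.inr hTsolv)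
      T₀ hT₀T hTT₀ (hBA.trans hAT₀) t ht (fun a ha => (hBmem.1 ha).2 t ht)
    refine ⟨c', hc', (t⁻¹ * c')⁻¹, T₀.inv_mem hc'N, by group⟩
  refine ⟨T, B, S₁, hTS, hST, hAT, hTW, hCB, hBA, hAB, ⟨c, hcA, fun a ha => ?_⟩, inf_le_left,
    hAS₁, inf_le_right, ?_⟩
  · obtain ⟨k, hk⟩ := hc a ha
    exact ⟨k, hBmem.2 ⟨A.mul_mem ha (A.pow_mem hcA k), hk⟩⟩
  · apply le_antisymm
    · intro w hw
      obtain ⟨hwW, hwS₁⟩ := Subgroup.mem_inf.1 hw
      refine Subgroup.mem_inf.2 ⟨hwW, ?_⟩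
      rw [Subgroup.mem_centralizer_iff] at hwS₁ ⊢
      intro t ht
      obtain ⟨s₁, hs₁, t₀, ht₀, rfl⟩ := hdecomp t ht
      have h1 := hwS₁ s₁ hs₁
      have h2 : t₀ * w = w * t₀ := by
        have := Subgroup.mem_centralizer_iff.1 (Subgroup.mem_inf.1 ht₀).2 w hwW
        exact this.symm
      calc s₁ * t₀ * w = s₁ * (t₀ * w) := by group
        _ = s₁ * (w * t₀) := by rw [h2]
        _ = (s₁ * w) * t₀ := by group
        _ = w * s₁ * t₀ := by rw [h1]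
        _ = w * (s₁ * t₀) := by group
    · exact inf_le_inf_left W (Subgroup.centralizer_le inf_le_left)

end Cfsg.Agent.Helper9.RMcK
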