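import Mathlib
import Cfsg.Agent.Helper6.RMcKStmts
import Cfsg.Agent.Helper8.RMcKSZ
import Cfsg.Agent.Helper9.RMcKD3

/-!
# Piece CP of S4807 (relative McKay for `p`-solvable groups)

`CP_cenP_of_cen : CenStmt Γ p → CenPStmt Γ p`: the central terminal case, stated with a subgroup
`P ≥ L` such that `P / L` is a Sylow `p`-subgroup of `G / L`, follows from the central case stated
with a `p`-subgroup `S` and a normal `p'`-subgroup `W`.
-/

set_option autoImplicit false

namespace Cfsg.Agent.Helper9.RMcK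

open Cfsg.Agent.Helper6 Cfsg.Agent.Helper6.RMcK

universe u

variable {Γ : Type u} [Group Γ]

/-- `A` normalizes `H ⊔ K` if it normalizes `H` and `K`. -/
theorem le_normalizer_sup {A H K : Subgroup Γ}
    (hH : A ≤ Subgroup.normalizer (H : Set Γ)) (hK : A ≤ Subgroup.normalizer (K : Set Γ)) :
    A ≤ Subgroup.normalizer ((H ⊔ K : Subgroup Γ) : Set Γ) := by
  apply le_normalizer_of_conj
  intro a ha x hx
  have h1 : H ⊔ K ≤ (H ⊔ K : Subgroup Γ).comap (MulAut.conj a).toMonoidHom := by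
    refine sup_le (fun h hh => ?_) (fun k hk => ?_)
    · rw [Subgroup.mem_comap]
      exact Subgroup.mem_sup_left (by simpa using nconj (hH ha) hh)
    · rw [Subgroup.mem_comap]
      exact Subgroup.mem_sup_right (by simpa using nconj (hK ha) hk)
  have h2 := h1 hx
  rw [Subgroup.mem_comap] at h2
  simpa using h2

variable [Finite Γ]

/-- A Sylow `p`-subgroup of a subgroup `P`, as a subgroup of the ambient group; if it is normalized
by `P` then it contains every `p`-element of `P`. -/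
theorem exists_sylow_sub (p : ℕ) [Fact p.Prime] (P : Subgroup Γ) :
    ∃ S : Subgroup Γ, S ≤ P ∧ IsPGroup p S ∧ ¬ p ∣ S.relIndex P ∧
      (P ≤ Subgroup.normalizer (S : Set Γ) → ∀ x ∈ P, (∃ k : ℕ, x ^ p ^ k = 1) → x ∈ S) := by
  obtain ⟨Q⟩ : Nonempty (Sylow p ↥P) := Sylow.nonempty
  have hSP : (Q : Subgroup ↥P).map P.subtype ≤ P := by
    rintro _ ⟨x, -, rfl⟩; exact x.2
  have hsub : ((Q : Subgroup ↥P).map P.subtype).subgroupOf P = (Q : Subgroup ↥P) :=
    Subgroup.comap_map_eq_self_of_injective P.subtype_injective _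
  refine ⟨(Q : Subgroup ↥P).map P.subtype, hSP, Q.2.map _, ?_, ?_⟩
  · show ¬ p ∣ (((Q : Subgroup ↥P).map P.subtype).subgroupOf P).index
    rw [hsub]
    exact Q.not_dvd_index
  · intro hn x hx ⟨k, hk⟩
    have hQn : (Q : Subgroup ↥P).Normal := by
      rw [← hsub]
      exact (Subgroup.normal_subgroupOf_iff_le_normalizer hSP).2 hn
    have huniq := Sylow.unique_of_normal Q hQn
    have hT : IsPGroup p (Subgroup.zpowers (⟨x, hx⟩ : ↥P)) := by
      rintro ⟨y, hy⟩
      obtain ⟨n, rfl⟩ := Subgroup.mem_zpowers_iff.1 hy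
      refine ⟨k, Subtype.ext ?_⟩
      have hxk : (⟨x, hx⟩ : ↥P) ^ p ^ k = 1 := Subtype.ext (by simpa using hk)
      show ((⟨x, hx⟩ : ↥P) ^ n) ^ p ^ k = 1
      rw [← zpow_natCast, ← zpow_mul, mul_comm, zpow_mul, zpow_natCast, hxk, one_zpow]
    obtain ⟨Q', hQ'⟩ := hT.exists_le_sylow
    have hQQ : Q' = Q := Subsingleton.elim _ _
    rw [hQQ] at hQ'
    exact ⟨⟨x, hx⟩, hQ' (Subgroup.mem_zpowers _), rfl⟩

theorem CP_cenP_of_cen (p : ℕ) [Fact p.Prime] (hC : CenStmt Γ p) : CenPStmt Γ p := by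
  have hp : p.Prime := Fact.out
  intro G L K P N hLK hKG hLN hLZ hGK hcop hLP hPG hLPp hPsyl hGKP hN ν hν
  obtain ⟨S, hSP, hS, hSsyl, hSel⟩ := exists_sylow_sub p P
  have hSG : S ≤ G := hSP.trans hPG
  -- `L` is centralized by `G`, hence normalized by everything in `G`
  have hGL : G ≤ Subgroup.normalizer (L : Set Γ) := by
    apply le_normalizer_of_conj
    intro g hg l hl
    rw [← hLZ l hl g hg, mul_inv_cancel_right]; exact hl
  -- `L` normalizes every subgroup of `G`
  have hLnorm : ∀ H : Subgroup Γ, H ≤ G → L ≤ Subgroup.normalizer (H : Set Γ) := by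
    intro H hH
    apply le_normalizer_of_conj
    intro l hl x hx
    rw [hLZ l hl x (hH hx), mul_inv_cancel_right]; exact hx
  -- `P = L ⊔ S`
  have hPLS : P ≤ L ⊔ S :=
    Helper8.RMcK.SY2_normal_p_section_le p P P L S hLP le_rfl (hPG.trans hGL)
      Subgroup.le_normalizer hLPp hSP hS hSsyl
  have hPeq : P = L ⊔ S := le_antisymm hPLS (sup_le hLP hSP)
  -- `S` is Sylow in `G`
  have hSsylG : ¬ p ∣ S.relIndex G := by
    rw [← Subgroup.relIndex_mul_relIndex S P G hSP hPG]
    exact hp.not_dvd_mul hSsyl hPsyl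
  -- `P` normalizes `S`
  have hPS : P ≤ Subgroup.normalizer (S : Set Γ) := by
    rw [hPeq]
    exact sup_le (hLnorm S hSG) Subgroup.le_normalizer
  -- the normal `p`-complement `W` of `K`
  obtain ⟨W, hWK, hGW, hWcop, hWp⟩ :=
    Helper8.RMcK.SZ2_exists_normal_p_complement p G K L hLK hKG hGK hLZ hcop
  have hKWS : K ≤ W ⊔ S :=
    Helper8.RMcK.SY2_normal_p_section_le p G K W S hWK hKG hGW hGK hWp hSG hS hSsylG
  have hKPWS : K ⊔ P = W ⊔ S := by
    apply le_antisymm
    · refine sup_le hKWS ?_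
      rw [hPeq]
      exact sup_le (hLK.trans hKWS) le_sup_right
    · exact sup_le (hWK.trans le_sup_left) (hSP.trans le_sup_right)
  have hGWS : G ≤ Subgroup.normalizer ((W ⊔ S : Subgroup Γ) : Set Γ) := by
    rw [← hKPWS]; exact hGKP
  have hLWS : L ≤ W ⊔ S := hLK.trans hKWS
  -- the normalizers agree
  have hNeq : N = G ⊓ Subgroup.normalizer (S : Set Γ) := by
    rw [hN]
    apply le_antisymm
    · intro g hg
      refine ⟨hg.1, ?_⟩
      have hgP : g ∈ Subgroup.normalizer (P : Set Γ) := hg.2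
      have hconj : ∀ a ∈ Subgroup.normalizer (P : Set Γ), ∀ s ∈ S, a * s * a⁻¹ ∈ S := by
        intro a ha s hs
        apply hSel hPS _ (nconj ha (hSP hs))
        obtain ⟨k, hk⟩ := hS ⟨s, hs⟩
        refine ⟨k, ?_⟩
        have hk' : s ^ p ^ k = 1 := by
          have := congrArg Subtype.val hk
          simpa using this
        rw [conj_pow, hk', mul_one, mul_inv_cancel]
      exact (le_normalizer_of_conj (A := Subgroup.normalizer (P : Set Γ)) hconj) hgP
    · intro g hg
      refine ⟨hg.1, ?_⟩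
      have h1 : Subgroup.zpowers g ≤ Subgroup.normalizer (L : Set Γ) := by
        rw [Subgroup.zpowers_le]; exact hGL hg.1
      have h2 : Subgroup.zpowers g ≤ Subgroup.normalizer (S : Set Γ) := by
        rw [Subgroup.zpowers_le]; exact hg.2
      have h3 := le_normalizer_sup h1 h2
      rw [← hPeq] at h3
      exact h3 (Subgroup.mem_zpowers g)
  have hLN' : L ≤ G ⊓ Subgroup.normalizer (S : Set Γ) := hNeq ▸ hLN
  have key := hC G L W S (G ⊓ Subgroup.normalizer (S : Set Γ)) (hLK.trans hKG) hLN' hLZ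
    (hWK.trans hKG) hGW hWcop hSG hS hSsylG hGWS hLWS rfl ν hν
  rw [key]
  exact pcnt_congr p hLN' hLN hNeq.symm ν

end Cfsg.Agent.Helper9.RMcK
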