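import Mathlib
import Cfsg.Agent.Lead.RMcKD1
import Cfsg.Agent.Helper9.RMcKD3

/-!
# Piece D3 of S4807, unconditional: `D3_of_D1` applied to lead's D1.
-/

set_option autoImplicit false

namespace Cfsg.Agent.Helper9.RMcK

universe u

variable {Γ : Type u} [Group Γ] [Finite Γ]

theorem D1Stmt_holds : D1Stmt Γ :=
  fun T T₀ A h1 h2 h3 h4 h5 h6 h7 =>
    Cfsg.Agent.Lead.RMcK.D1_exists_cyclic_generator T T₀ A h1 h2 h3 h4 h5 h6 h7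

theorem D3_lemmaX_structure (p : ℕ) [Fact p.Prime] (W S A C : Subgroup Γ)
    (hS : IsPGroup p S) (hW : (Nat.card W).Coprime p) (hA : (Nat.card A).Coprime p)
    (hSW : S ≤ Subgroup.normalizer (W : Set Γ)) (hAW : A ≤ Subgroup.normalizer (W : Set Γ))
    (hAS : A ≤ Subgroup.normalizer (S : Set Γ))
    (hC : C = W ⊓ Subgroup.centralizer (S : Set Γ))
    (hCA : C ≤ A) (hab : ∀ a ∈ A, ∀ b ∈ A, a * b * a⁻¹ * b⁻¹ ∈ C)
    (hnc : ¬ S ≤ Subgroup.centralizer (W : Set Γ)) :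
    ∃ T B S₁ : Subgroup Γ, T ≤ S ∧ S ≤ Subgroup.normalizer (T : Set Γ) ∧
      A ≤ Subgroup.normalizer (T : Set Γ) ∧ ¬ T ≤ Subgroup.centralizer (W : Set Γ) ∧
      C ≤ B ∧ B ≤ A ∧ A ≤ Subgroup.normalizer (B : Set Γ) ∧
      (∃ c ∈ A, ∀ a ∈ A, ∃ k : ℕ, a * c ^ k ∈ B) ∧
      S₁ ≤ T ∧ A ≤ Subgroup.normalizer (S₁ : Set Γ) ∧
      S₁ ≤ Subgroup.centralizer (B : Set Γ) ∧
      W ⊓ Subgroup.centralizer (S₁ : Set Γ) = W ⊓ Subgroup.centralizer (T : Set Γ) :=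
  D3_of_D1 D1Stmt_holds p W S A C hS hW hA hSW hAW hAS hC hCA hab hnc

end Cfsg.Agent.Helper9.RMcK
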