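import Mathlib
import Cfsg.Prelude.Def_GeometricClasses

/-!
# ASCH-PP piece T6 (helper9): `(GL_2(3) ≀ S_2) ∩ SL_4(3) ≤ CSp_4(3)`

Over the field with three elements the stabiliser in `SL_4` of a decomposition into two planes preserves, up to a
scalar, the symplectic form that is the orthogonal sum of the two determinant forms: the two block determinants have
product `1` and are `±1`, hence equal.
-/

set_option autoImplicit false
set_option linter.unusedVariables false

namespace Cfsg.Agent.Helper9.AschPP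

open Cfsg Cfsg.Geo
open scoped MatrixGroups Matrix

variable {F : Type*} [Field F]

theorem det_fin_four {R : Type*} [CommRing R] (M : Matrix (Fin 4) (Fin 4) R) :
    M.det = M 0 0 * (M 1 1 * (M 2 2 * M 3 3 - M 2 3 * M 3 2) - M 1 2 * (M 2 1 * M 3 3 - M 2 3 * M 3 1) +
        M 1 3 * (M 2 1 * M 3 2 - M 2 2 * M 3 1))
      - M 0 1 * (M 1 0 * (M 2 2 * M 3 3 - M 2 3 * M 3 2) - M 1 2 * (M 2 0 * M 3 3 - M 2 3 * M 3 0) +
        M 1 3 * (M 2 0 * M 3 2 - M 2 2 * M 3 0))
      + M 0 2 * (M 1 0 * (M 2 1 * M 3 3 - M 2 3 * M 3 1) - M 1 1 * (M 2 0 * M 3 3 - M 2 3 * M 3 0) +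
        M 1 3 * (M 2 0 * M 3 1 - M 2 1 * M 3 0))
      - M 0 3 * (M 1 0 * (M 2 1 * M 3 2 - M 2 2 * M 3 1) - M 1 1 * (M 2 0 * M 3 2 - M 2 2 * M 3 0) +
        M 1 2 * (M 2 0 * M 3 1 - M 2 1 * M 3 0)) := by
  rw [Matrix.det_succ_row_zero]
  simp [Fin.sum_univ_succ, Matrix.det_fin_three, Fin.succAbove]
  ring

/-- the index bijection -/
def e4 : (Σ _ : Fin 2, Fin 2) ≃ Fin 4 where
  toFun a := ⟨2 * a.1.val + a.2.val, by have := a.1.isLt; have := a.2.isLt; omega⟩
  invFun k := ⟨⟨k.val / 2, by have := k.isLt; omega⟩, ⟨k.val % 2, by omega⟩⟩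
  left_inv := by rintro ⟨i, ε⟩; fin_cases i <;> fin_cases ε <;> rfl
  right_inv := by intro k; fin_cases k <;> rfl

section form

variable (b : Module.Basis (Fin 4) F (Fin 4 → F))

/-- the alternating form `x₀y₁ - x₁y₀ + x₂y₃ - x₃y₂` in the coordinates of the basis `b` -/
noncomputable def alt4 (x y : Fin 4 → F) : F :=
  b.repr x 0 * b.repr y 1 - b.repr x 1 * b.repr y 0 + (b.repr x 2 * b.repr y 3 - b.repr x 3 * b.repr y 2)

theorem alt4_skew (x y : Fin 4 → F) : alt4 b x y = - alt4 b y x := by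
  unfold alt4; ring

theorem alt4_symplectic : IsSymplecticForm (alt4 b) := by
  refine ⟨⟨?_, ?_, ?_, ?_⟩, alt4_skew b, ?_, ?_⟩
  · intro x y v; simp only [alt4, map_add, Finsupp.add_apply]; ring
  · intro c x v; simp only [alt4, map_smul, Finsupp.smul_apply, smul_eq_mul]; ring
  · intro v x y; simp only [alt4, map_add, Finsupp.add_apply]; ring
  · intro c v x; simp only [alt4, map_smul, Finsupp.smul_apply, smul_eq_mul]; ring
  · intro v; unfold alt4; ring
  · have hleft : ∀ v : Fin 4 → F, v ≠ 0 → ∃ x, alt4 b x v ≠ 0 := by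
      intro v hv
      have h1 : b.repr v ≠ 0 := fun h => hv (b.repr.map_eq_zero_iff.1 h)
      obtain ⟨k, hk⟩ := Finsupp.ne_iff.1 h1
      rw [Finsupp.zero_apply] at hk
      fin_cases k
      · refine ⟨b 1, ?_⟩
        simp only [alt4, Module.Basis.repr_self]
        simpa using hk
      · refine ⟨b 0, ?_⟩
        simp only [alt4, Module.Basis.repr_self]
        simpa using hk
      · refine ⟨b 3, ?_⟩
        simp only [alt4, Module.Basis.repr_self]
        simpa using hk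
      · refine ⟨b 2, ?_⟩
        simp only [alt4, Module.Basis.repr_self]
        simpa using hk
    intro v hv
    obtain ⟨x, hx⟩ := hleft v hv
    refine ⟨⟨x, hx⟩, ⟨x, ?_⟩⟩
    rw [alt4_skew]
    exact neg_ne_zero.2 hx

end form

/-- **T6** -/
theorem c2_planes_three [Fintype F] (hq : Fintype.card F = 3) (D : Fin 2 → Submodule F (Fin 4 → F))
    (hD : IsMDecomposition 2 D) :
    ∃ f : (Fin 4 → F) → (Fin 4 → F) → F, IsSymplecticForm f ∧
      decompositionStabilizer D ⊓ specialLinear (Fin 4) F ≤ similarityGroup f := by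
  classical
  have hint : DirectSum.IsInternal D :=
    (DirectSum.isInternal_submodule_iff_iSupIndep_and_iSup_eq_top D).2 ⟨hD.indep, hD.iSup_eq_top⟩
  let v : ∀ i, Module.Basis (Fin 2) F (D i) := fun i => Module.finBasisOfFinrankEq F (D i) (hD.finrank_eq i)
  set 𝔟 : Module.Basis (Σ _ : Fin 2, Fin 2) F (Fin 4 → F) := hint.collectedBasis v with h𝔟
  set b : Module.Basis (Fin 4) F (Fin 4 → F) := 𝔟.reindex e4 with hb
  have hbapp : ∀ k, b k = 𝔟 (e4.symm k) := fun k => Module.Basis.reindex_apply 𝔟 e4 k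
  have hrepr : ∀ (x : Fin 4 → F) k, b.repr x k = 𝔟.repr x (e4.symm k) := fun x k =>
    Module.Basis.repr_reindex_apply (b := 𝔟) (e := e4) (x := x) k
  have hmem0 : ∀ k : Fin 4, b k ∈ D (e4.symm k).1 := fun k => by
    rw [hbapp]; exact hint.collectedBasis_mem v _
  have hzero : ∀ {x : Fin 4 → F} {i : Fin 2} (k : Fin 4), x ∈ D i → i ≠ (e4.symm k).1 → b.repr x k = 0 := by
    intro x i k hx hne
    rw [hrepr]
    exact hint.collectedBasis_repr_of_mem_ne v hne hx
  refine ⟨alt4 b, alt4_symplectic b, ?_⟩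
  rintro g ⟨⟨σ, hσ⟩, hg1⟩
  set gL : (Fin 4 → F) →ₗ[F] (Fin 4 → F) := Matrix.toLin' (g : Matrix (Fin 4) (Fin 4) F) with hgL
  have hgmem : ∀ {x : Fin 4 → F} {k : Fin 2}, x ∈ D k → gL x ∈ D (σ k) := by
    intro x k hx
    rw [← hσ k]
    exact ⟨x, hx, rfl⟩
  set M : Matrix (Fin 4) (Fin 4) F := LinearMap.toMatrix b b gL with hM
  have hMapp : ∀ k l, M k l = b.repr (gL (b l)) k := fun k l => LinearMap.toMatrix_apply b b gL k l
  have hMrepr : ∀ x : Fin 4 → F, ∀ k, b.repr (gL x) k = ∑ l, M k l * b.repr x l := by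
    intro x k
    have := congrFun (LinearMap.toMatrix_mulVec_repr b b gL x) k
    rw [← this]
    rfl
  have hdet : M.det = 1 := by
    rw [hM, LinearMap.det_toMatrix, hgL, LinearMap.det_toLin']
    have hg1' : Matrix.GeneralLinearGroup.det g = 1 := by
      have : g ∈ (Matrix.GeneralLinearGroup.det : GL (Fin 4) F →* Fˣ).ker := hg1
      exact MonoidHom.mem_ker.1 this
    have := congrArg Units.val hg1'
    simpa using this
  have hsq : ∀ x : F, x ≠ 0 → x * x = 1 := by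
    intro x hx
    have := FiniteField.pow_card_sub_one_eq_one x hx
    rw [hq] at this
    rw [← this]; ring
  -- the zero pattern
  have hz : ∀ (l k : Fin 4), σ (e4.symm l).1 ≠ (e4.symm k).1 → M k l = 0 := by
    intro l k hne
    rw [hMapp]
    exact hzero k (hgmem (hmem0 l)) hne
  have e0 : (e4.symm 0).1 = 0 := rfl
  have e1 : (e4.symm 1).1 = 0 := rfl
  have e2 : (e4.symm 2).1 = 1 := rfl
  have e3 : (e4.symm 3).1 = 1 := rfl
  have hσ01 : (σ 0 = 0 ∧ σ 1 = 1) ∨ (σ 0 = 1 ∧ σ 1 = 0) := by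
    have h1 : σ 0 ≠ σ 1 := fun h => by simpa using σ.injective h
    have h2 : ∀ i : Fin 2, i = 0 ∨ i = 1 := by decide
    rcases h2 (σ 0) with h | h <;> rcases h2 (σ 1) with h' | h'
    · exact absurd (h.trans h'.symm) h1
    · exact Or.inl ⟨h, h'⟩
    · exact Or.inr ⟨h, h'⟩
    · exact absurd (h.trans h'.symm) h1
  have hform : ∀ x y : Fin 4 → F, alt4 b (gL x) (gL y) =
      (∑ l, M 0 l * b.repr x l) * (∑ l, M 1 l * b.repr y l) -
      (∑ l, M 1 l * b.repr x l) * (∑ l, M 0 l * b.repr y l) +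
      ((∑ l, M 2 l * b.repr x l) * (∑ l, M 3 l * b.repr y l) -
      (∑ l, M 3 l * b.repr x l) * (∑ l, M 2 l * b.repr y l)) := by
    intro x y
    unfold alt4
    simp only [hMrepr]
  rcases hσ01 with ⟨s0, s1⟩ | ⟨s0, s1⟩
  · -- blocks preserved
    have z20 : M 2 0 = 0 := hz 0 2 (by rw [e0, e2, s0]; decide)
    have z30 : M 3 0 = 0 := hz 0 3 (by rw [e0, e3, s0]; decide)
    have z21 : M 2 1 = 0 := hz 1 2 (by rw [e1, e2, s0]; decide)
    have z31 : M 3 1 = 0 := hz 1 3 (by rw [e1, e3, s0]; decide)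
    have z02 : M 0 2 = 0 := hz 2 0 (by rw [e2, e0, s1]; decide)
    have z12 : M 1 2 = 0 := hz 2 1 (by rw [e2, e1, s1]; decide)
    have z03 : M 0 3 = 0 := hz 3 0 (by rw [e3, e0, s1]; decide)
    have z13 : M 1 3 = 0 := hz 3 1 (by rw [e3, e1, s1]; decide)
    set d0 := M 0 0 * M 1 1 - M 0 1 * M 1 0 with hd0
    set d1 := M 2 2 * M 3 3 - M 2 3 * M 3 2 with hd1
    have hdd : d0 * d1 = 1 := by
      rw [← hdet, det_fin_four, z20, z30, z21, z31, z02, z12, z03, z13, hd0, hd1]; ring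
    have hd0ne : d0 ≠ 0 := left_ne_zero_of_mul_eq_one hdd
    have hd1ne : d1 ≠ 0 := right_ne_zero_of_mul_eq_one hdd
    have hd01 : d1 = d0 := by
      calc d1 = (d0 * d0) * d1 := by rw [hsq d0 hd0ne, one_mul]
        _ = d0 * (d0 * d1) := by ring
        _ = d0 := by rw [hdd, mul_one]
    refine ⟨Units.mk0 d0 hd0ne, fun x y => ?_⟩
    have := hform x y
    simp only [Matrix.toLin'_apply, hgL] at this
    rw [this, Units.val_mk0]
    simp only [Fin.sum_univ_four, z20, z30, z21, z31, z02, z12, z03, z13, alt4]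
    have h1 : M 2 2 * M 3 3 - M 2 3 * M 3 2 = d0 := hd01
    have h0 : M 0 0 * M 1 1 - M 0 1 * M 1 0 = d0 := rfl
    linear_combination (b.repr x 0 * b.repr y 1 - b.repr x 1 * b.repr y 0) * h0 +
      (b.repr x 2 * b.repr y 3 - b.repr x 3 * b.repr y 2) * h1
  · -- blocks swapped
    have z00 : M 0 0 = 0 := hz 0 0 (by rw [e0, s0]; decide)
    have z10 : M 1 0 = 0 := hz 0 1 (by rw [e0, e1, s0]; decide)
    have z01 : M 0 1 = 0 := hz 1 0 (by rw [e1, e0, s0]; decide)
    have z11 : M 1 1 = 0 := hz 1 1 (by rw [e1, s0]; decide)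
    have z22 : M 2 2 = 0 := hz 2 2 (by rw [e2, s1]; decide)
    have z32 : M 3 2 = 0 := hz 2 3 (by rw [e2, e3, s1]; decide)
    have z23 : M 2 3 = 0 := hz 3 2 (by rw [e3, e2, s1]; decide)
    have z33 : M 3 3 = 0 := hz 3 3 (by rw [e3, s1]; decide)
    set d0 := M 2 0 * M 3 1 - M 3 0 * M 2 1 with hd0
    set d1 := M 0 2 * M 1 3 - M 1 2 * M 0 3 with hd1
    have hdd : d0 * d1 = 1 := by
      rw [← hdet, det_fin_four, z00, z10, z01, z11, z22, z32, z23, z33, hd0, hd1]; ring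
    have hd0ne : d0 ≠ 0 := left_ne_zero_of_mul_eq_one hdd
    have hd1ne : d1 ≠ 0 := right_ne_zero_of_mul_eq_one hdd
    have hd01 : d1 = d0 := by
      calc d1 = (d0 * d0) * d1 := by rw [hsq d0 hd0ne, one_mul]
        _ = d0 * (d0 * d1) := by ring
        _ = d0 := by rw [hdd, mul_one]
    refine ⟨Units.mk0 d0 hd0ne, fun x y => ?_⟩
    have := hform x y
    simp only [Matrix.toLin'_apply, hgL] at this
    rw [this, Units.val_mk0]
    simp only [Fin.sum_univ_four, z00, z10, z01, z11, z22, z32, z23, z33, alt4]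
    have h1 : M 0 2 * M 1 3 - M 1 2 * M 0 3 = d0 := hd01
    have h0 : M 2 0 * M 3 1 - M 3 0 * M 2 1 = d0 := rfl
    linear_combination (b.repr x 0 * b.repr y 1 - b.repr x 1 * b.repr y 0) * h0 +
      (b.repr x 2 * b.repr y 3 - b.repr x 3 * b.repr y 2) * h1

end Cfsg.Agent.Helper9.AschPP
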