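import Mathlib
import Cfsg.Prelude.Def_GeometricClasses
import Cfsg.Prelude.Def_LieClassical
import Cfsg.Agent.Helper4.AschPPUD2B
import Cfsg.Agent.Helper9.AschPPT6

set_option autoImplicit false
set_option linter.unusedVariables false
set_option linter.unusedSectionVars false

namespace Cfsg.Agent.Helper9.AschPPU42

open Cfsg Cfsg.Geo Cfsg.Agent.Helper3.AschU Cfsg.Agent.Helper7.Herm Cfsg.Agent.Helper9.AschPP
open scoped MatrixGroups Matrix

variable {F : Type*} [Field F] [Fintype F] {q : ℕ}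

/-- for `q ≤ 3` the non-zero elements of the fixed field of `x ↦ x ^ q` square to one -/
theorem mul_self_eq_one_of_fixed (hF : Fintype.card F = q ^ 2) (hq : q ≤ 3) {d : F} (hd : d ^ q = d)
    (hd0 : d ≠ 0) : d * d = 1 := by
  have h2 := two_le_q hF
  have hq' : q = 2 ∨ q = 3 := by omega
  rcases hq' with rfl | rfl
  · have h1 : d * (d - 1) = 0 := by
      have : d ^ 2 = d := hd
      linear_combination this
    rcases mul_eq_zero.1 h1 with h | h
    · exact absurd h hd0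
    · have : d = 1 := sub_eq_zero.1 h
      rw [this, one_mul]
  · have h1 : d * (d * d - 1) = 0 := by
      have : d ^ 3 = d := hd
      linear_combination this
    rcases mul_eq_zero.1 h1 with h | h
    · exact absurd h hd0
    · exact sub_eq_zero.1 h

/-- the `2 × 2` computation: `Aᵀ J B' = J`, `det A · D' = 1`, `σ D' = det B'` force `B' = Δ A` with `Δ = det A = ±1` -/
theorem two_by_two (hF : Fintype.card F = q ^ 2) (hq : q ≤ 3) {a b c d a' b' c' d' D' : F}
    (E1 : a * c' - c * a' = 0) (E2 : a * d' - c * b' = 1) (E3 : b * c' - d * a' = -1)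
    (E4 : b * d' - d * b' = 0) (hdet : (a * d - b * c) * D' = 1) (hD' : D' ^ q = a' * d' - b' * c') :
    (a * d - b * c) * (a * d - b * c) = 1 ∧ (a * d - b * c) ^ q = a * d - b * c ∧
      a' = (a * d - b * c) * a ∧ b' = (a * d - b * c) * b ∧ c' = (a * d - b * c) * c ∧
      d' = (a * d - b * c) * d := by
  set Δ := a * d - b * c with hΔ
  have hΔ0 : Δ ≠ 0 := left_ne_zero_of_mul_eq_one hdet
  have hD0 : D' ≠ 0 := right_ne_zero_of_mul_eq_one hdet
  have ha : a' * Δ = a := by rw [hΔ]; linear_combination (-a) * E3 + b * E1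
  have hb : b' * Δ = b := by rw [hΔ]; linear_combination (-a) * E4 + b * E2
  have hc : c' * Δ = c := by rw [hΔ]; linear_combination d * E1 - c * E3
  have hd : d' * Δ = d := by rw [hΔ]; linear_combination d * E2 - c * E4
  have h1 : (a' * d' - b' * c') * Δ = 1 := by
    have : (a' * d' - b' * c') * Δ * Δ = Δ := by
      calc (a' * d' - b' * c') * Δ * Δ = (a' * Δ) * (d' * Δ) - (b' * Δ) * (c' * Δ) := by ring
        _ = Δ := by rw [ha, hb, hc, hd]
    have h2 : ((a' * d' - b' * c') * Δ - 1) * Δ = 0 := by linear_combination this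
    rcases mul_eq_zero.1 h2 with h | h
    · exact sub_eq_zero.1 h
    · exact absurd h hΔ0
  have hDfix : D' ^ q = D' := by
    rw [hD']
    have : ((a' * d' - b' * c') - D') * Δ = 0 := by linear_combination h1 - hdet
    rcases mul_eq_zero.1 this with h | h
    · exact sub_eq_zero.1 h
    · exact absurd h hΔ0
  have hDD : D' * D' = 1 := mul_self_eq_one_of_fixed hF hq hDfix hD0
  have hΔD : Δ = D' := by
    calc Δ = Δ * (D' * D') := by rw [hDD, mul_one]
      _ = (Δ * D') * D' := by ring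
      _ = D' := by rw [hdet, one_mul]
  have hΔΔ : Δ * Δ = 1 := by rw [hΔD]; exact hDD
  refine ⟨hΔΔ, by rw [hΔD]; exact hDfix, ?_, ?_, ?_, ?_⟩
  · calc a' = a' * (Δ * Δ) := by rw [hΔΔ, mul_one]
      _ = Δ * (a' * Δ) := by ring
      _ = Δ * a := by rw [ha]
  · calc b' = b' * (Δ * Δ) := by rw [hΔΔ, mul_one]
      _ = Δ * (b' * Δ) := by ring
      _ = Δ * b := by rw [hb]
  · calc c' = c' * (Δ * Δ) := by rw [hΔΔ, mul_one]
      _ = Δ * (c' * Δ) := by ring
      _ = Δ * c := by rw [hc]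
  · calc d' = d' * (Δ * Δ) := by rw [hΔΔ, mul_one]
      _ = Δ * (d' * Δ) := by ring
      _ = Δ * d := by rw [hd]

/-- the Gram matrix `[[0, J], [-J, 0]]` of the normalised basis -/
def Om0 (F : Type*) [Field F] : Matrix (Fin 4) (Fin 4) F := !![0, 0, 0, 1; 0, 0, -1, 0; 0, -1, 0, 0; 1, 0, 0, 0]

theorem uni_entry (σ : F →+* F) (g : Matrix (Fin 4) (Fin 4) F) (k l : Fin 4) :
    (gᵀ * Om0 F * g.map σ) k l =
      g 0 k * σ (g 3 l) - g 1 k * σ (g 2 l) - g 2 k * σ (g 1 l) + g 3 k * σ (g 0 l) := by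
  simp only [Matrix.mul_apply, Fin.sum_univ_four, Matrix.transpose_apply, Matrix.map_apply, Om0]
  simp
  ring

theorem forall_fin_four_sq {P : Fin 4 → Fin 4 → Prop} (h00 : P 0 0) (h01 : P 0 1) (h02 : P 0 2) (h03 : P 0 3)
    (h10 : P 1 0) (h11 : P 1 1) (h12 : P 1 2) (h13 : P 1 3) (h20 : P 2 0) (h21 : P 2 1) (h22 : P 2 2)
    (h23 : P 2 3) (h30 : P 3 0) (h31 : P 3 1) (h32 : P 3 2) (h33 : P 3 3) : ∀ i j, P i j := by
  intro i j
  fin_cases i <;> fin_cases j <;> assumption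

/-- **core**: a block-diagonal or block-antidiagonal matrix of determinant one preserving `Om0` is `w`-twisted -/
theorem core_twisted (hF : Fintype.card F = q ^ 2) (hq : q ≤ 3) (g : Matrix (Fin 4) (Fin 4) F)
    (hpat : (g 0 2 = 0 ∧ g 0 3 = 0 ∧ g 1 2 = 0 ∧ g 1 3 = 0 ∧ g 2 0 = 0 ∧ g 2 1 = 0 ∧ g 3 0 = 0 ∧ g 3 1 = 0) ∨
      (g 0 0 = 0 ∧ g 0 1 = 0 ∧ g 1 0 = 0 ∧ g 1 1 = 0 ∧ g 2 2 = 0 ∧ g 2 3 = 0 ∧ g 3 2 = 0 ∧ g 3 3 = 0))
    (huni : gᵀ * Om0 F * g.map (sigq hF : F →+* F) = Om0 F) (hdet : g.det = 1) :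
    ∃ c : F, ∀ i j : Fin 4, (g (i + 2) (j + 2)) ^ q = c * g i j := by
  have hσ : ∀ x : F, (sigq hF : F →+* F) x = x ^ q := fun x => rfl
  have hent : ∀ k l : Fin 4, g 0 k * (g 3 l) ^ q - g 1 k * (g 2 l) ^ q - g 2 k * (g 1 l) ^ q +
      g 3 k * (g 0 l) ^ q = Om0 F k l := by
    intro k l
    have := uni_entry (sigq hF : F →+* F) g k l
    rw [huni] at this
    simp only [hσ] at this
    exact this.symm
  have h0 : (0 : F) ^ q = 0 := zero_pow (by have := two_le_q hF; omega)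
  have hqq : ∀ x : F, (x ^ q) ^ q = x := pow_q_pow_q hF
  have hneg : ∀ x : F, (-x) ^ q = -(x ^ q) := by
    intro x
    have := map_neg (sigq hF) x
    simpa using this
  rcases hpat with ⟨z02, z03, z12, z13, z20, z21, z30, z31⟩ | ⟨z00, z01, z10, z11, z22, z23, z32, z33⟩
  · have E1 := hent 0 2
    have E2 := hent 0 3
    have E3 := hent 1 2
    have E4 := hent 1 3
    simp only [z20, z30, z21, z31, Om0] at E1 E2 E3 E4
    simp at E1 E2 E3 E4
    have hdd : (g 0 0 * g 1 1 - g 0 1 * g 1 0) * (g 2 2 * g 3 3 - g 2 3 * g 3 2) = 1 := by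
      rw [← hdet, det_fin_four, z20, z30, z21, z31, z02, z12, z03, z13]; ring
    have hD' : (g 2 2 * g 3 3 - g 2 3 * g 3 2) ^ q =
        (g 2 2) ^ q * (g 3 3) ^ q - (g 2 3) ^ q * (g 3 2) ^ q := by
      have := map_sub (sigq hF) (g 2 2 * g 3 3) (g 2 3 * g 3 2)
      simp only [sigq_apply] at this
      rw [mul_pow, mul_pow] at this
      exact this
    obtain ⟨hΔΔ, hΔq, ha, hb, hc, hd⟩ := two_by_two hF hq (a := g 0 0) (b := g 0 1) (c := g 1 0) (d := g 1 1)
      (a' := (g 2 2) ^ q) (b' := (g 2 3) ^ q) (c' := (g 3 2) ^ q) (d' := (g 3 3) ^ q)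
      (by linear_combination E1) (by linear_combination E2) (by linear_combination E3)
      (by linear_combination E4) hdd hD'
    set Δ := g 0 0 * g 1 1 - g 0 1 * g 1 0 with hΔ
    have back : ∀ x y : F, x ^ q = Δ * y → y ^ q = Δ * x := by
      intro x y hxy
      have h1 : x = Δ * y ^ q := by
        have := congrArg (fun t => t ^ q) hxy
        simp only [hqq, mul_pow, hΔq] at this
        exact this
      rw [h1, ← mul_assoc, hΔΔ, one_mul]
    have zz : (0 : F) ^ q = Δ * 0 := by rw [h0, mul_zero]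
    refine ⟨Δ, ?_⟩
    refine forall_fin_four_sq (P := fun i j => g (i + 2) (j + 2) ^ q = Δ * g i j)
      ha hb ?_ ?_ hc hd ?_ ?_ ?_ ?_ (back _ _ ha) (back _ _ hb) ?_ ?_ (back _ _ hc) (back _ _ hd)
    · show g 2 0 ^ q = Δ * g 0 2
      rw [z20, z02]; exact zz
    · show g 2 1 ^ q = Δ * g 0 3
      rw [z21, z03]; exact zz
    · show g 3 0 ^ q = Δ * g 1 2
      rw [z30, z12]; exact zz
    · show g 3 1 ^ q = Δ * g 1 3
      rw [z31, z13]; exact zz
    · show g 0 2 ^ q = Δ * g 2 0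
      rw [z20, z02]; exact zz
    · show g 0 3 ^ q = Δ * g 2 1
      rw [z21, z03]; exact zz
    · show g 1 2 ^ q = Δ * g 3 0
      rw [z30, z12]; exact zz
    · show g 1 3 ^ q = Δ * g 3 1
      rw [z31, z13]; exact zz
  · have E1 := hent 0 2
    have E2 := hent 0 3
    have E3 := hent 1 2
    have E4 := hent 1 3
    simp only [z00, z10, z01, z11, Om0] at E1 E2 E3 E4
    simp at E1 E2 E3 E4
    have hdd : (g 2 0 * g 3 1 - g 2 1 * g 3 0) * (g 0 2 * g 1 3 - g 0 3 * g 1 2) = 1 := by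
      rw [← hdet, det_fin_four, z00, z10, z01, z11, z22, z32, z23, z33]; ring
    have hD' : (g 0 2 * g 1 3 - g 0 3 * g 1 2) ^ q =
        (-(g 0 2) ^ q) * (-(g 1 3) ^ q) - (-(g 0 3) ^ q) * (-(g 1 2) ^ q) := by
      have := map_sub (sigq hF) (g 0 2 * g 1 3) (g 0 3 * g 1 2)
      simp only [sigq_apply] at this
      rw [mul_pow, mul_pow] at this
      rw [this]; ring
    obtain ⟨hΔΔ, hΔq, ha, hb, hc, hd⟩ := two_by_two hF hq (a := g 2 0) (b := g 2 1) (c := g 3 0) (d := g 3 1)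
      (a' := -(g 0 2) ^ q) (b' := -(g 0 3) ^ q) (c' := -(g 1 2) ^ q) (d' := -(g 1 3) ^ q)
      (by linear_combination E1) (by linear_combination E2) (by linear_combination E3)
      (by linear_combination E4) hdd hD'
    set Δ := g 2 0 * g 3 1 - g 2 1 * g 3 0 with hΔ
    have hcq : (-Δ) ^ q = -Δ := by rw [hneg, hΔq]
    have hcc : (-Δ) * (-Δ) = 1 := by rw [neg_mul_neg, hΔΔ]
    have back : ∀ x y : F, x ^ q = (-Δ) * y → y ^ q = (-Δ) * x := by
      intro x y hxy
      have h1 : x = (-Δ) * y ^ q := by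
        have := congrArg (fun t => t ^ q) hxy
        simp only [hqq, mul_pow, hcq] at this
        exact this
      rw [h1, ← mul_assoc, hcc, one_mul]
    have zz : (0 : F) ^ q = (-Δ) * 0 := by rw [h0, mul_zero]
    have ha' : g 0 2 ^ q = (-Δ) * g 2 0 := by linear_combination (-1 : F) * ha
    have hb' : g 0 3 ^ q = (-Δ) * g 2 1 := by linear_combination (-1 : F) * hb
    have hc' : g 1 2 ^ q = (-Δ) * g 3 0 := by linear_combination (-1 : F) * hc
    have hd' : g 1 3 ^ q = (-Δ) * g 3 1 := by linear_combination (-1 : F) * hd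
    refine ⟨-Δ, ?_⟩
    refine forall_fin_four_sq (P := fun i j => g (i + 2) (j + 2) ^ q = (-Δ) * g i j)
      ?_ ?_ (back _ _ ha') (back _ _ hb') ?_ ?_ (back _ _ hc') (back _ _ hd') ha' hb' ?_ ?_ hc' hd' ?_ ?_
    · show g 2 2 ^ q = (-Δ) * g 0 0
      rw [z22, z00]; exact zz
    · show g 2 3 ^ q = (-Δ) * g 0 1
      rw [z23, z01]; exact zz
    · show g 3 2 ^ q = (-Δ) * g 1 0
      rw [z32, z10]; exact zz
    · show g 3 3 ^ q = (-Δ) * g 1 1
      rw [z33, z11]; exact zz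
    · show g 0 0 ^ q = (-Δ) * g 2 2
      rw [z22, z00]; exact zz
    · show g 0 1 ^ q = (-Δ) * g 2 3
      rw [z23, z01]; exact zz
    · show g 1 0 ^ q = (-Δ) * g 3 2
      rw [z32, z10]; exact zz
    · show g 1 1 ^ q = (-Δ) * g 3 3
      rw [z33, z11]; exact zz

/-- the change of basis to the rational basis `(p₀ + p₂, p₁ + p₃, μ p₀ + ν p₂, μ p₁ + ν p₃)` -/
def Smat (μ ν : F) : Matrix (Fin 4) (Fin 4) F := !![1, 0, μ, 0; 0, 1, 0, μ; 1, 0, ν, 0; 0, 1, 0, ν]

omit [Fintype F] in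
theorem Smat_det (μ ν : F) : (Smat μ ν).det = (ν - μ) * (ν - μ) := by
  rw [det_fin_four]
  simp [Smat]
  ring

theorem Smat_shift (hF : Fintype.card F = q ^ 2) (μ : F) (a b : Fin 4) :
    (Smat μ (μ ^ q) a b) ^ q = Smat μ (μ ^ q) (a + 2) b := by
  have h0 : (0 : F) ^ q = 0 := zero_pow (by have := two_le_q hF; omega)
  have hqq : (μ ^ q) ^ q = μ := pow_q_pow_q hF μ
  fin_cases a <;> fin_cases b <;> simp [Smat, h0, hqq]

/-- a matrix conjugate by `S` to a `w`-twisted matrix is twisted -/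
theorem transfer (hF : Fintype.card F = q ^ 2) {μ : F} (hμ : μ ^ q ≠ μ) (g h : Matrix (Fin 4) (Fin 4) F)
    (hS : Smat μ (μ ^ q) * h = g * Smat μ (μ ^ q)) (c : F)
    (hg : ∀ i j : Fin 4, g (i + 2) (j + 2) ^ q = c * g i j) (i j : Fin 4) : h i j ^ q = c * h i j := by
  set S := Smat μ (μ ^ q) with hSdef
  have hsh : ∀ a b : Fin 4, (S a b) ^ q = S (a + 2) b := Smat_shift hF μ
  have h22 : ∀ a : Fin 4, a + 2 + 2 = a := by decide
  have hdet : IsUnit S.det := by
    rw [hSdef, Smat_det, isUnit_iff_ne_zero]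
    exact mul_ne_zero (sub_ne_zero.2 hμ) (sub_ne_zero.2 hμ)
  have key : S * (Matrix.of fun a b => h a b ^ q) = S * (c • h) := by
    ext i j
    rw [Matrix.mul_apply, Matrix.mul_apply]
    have h1 : (∑ k, S (i + 2) k * h k j) ^ q = (∑ k, g (i + 2) k * S k j) ^ q := by
      have := congrFun (congrFun hS (i + 2)) j
      rw [Matrix.mul_apply, Matrix.mul_apply] at this
      rw [this]
    rw [sum_pow_q hF, sum_pow_q hF] at h1
    have h2 : ∑ k, (S (i + 2) k * h k j) ^ q = ∑ k, S i k * (h k j) ^ q := by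
      apply Finset.sum_congr rfl
      intro k _
      rw [mul_pow, hsh, h22]
    have h3 : ∑ k, (g (i + 2) k * S k j) ^ q = ∑ k, c * (g i k * S k j) := by
      rw [← Equiv.sum_comp (Equiv.addRight (2 : Fin 4))]
      apply Finset.sum_congr rfl
      intro k _
      rw [Equiv.coe_addRight, mul_pow, hg, hsh, h22]
      ring
    have h4 := congrFun (congrFun hS i) j
    rw [Matrix.mul_apply, Matrix.mul_apply] at h4
    simp only [Matrix.of_apply, Matrix.smul_apply, smul_eq_mul]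
    rw [← h2, h1, h3, ← Finset.mul_sum, ← h4, Finset.mul_sum]
    apply Finset.sum_congr rfl
    intro k _
    ring
  have h5 := ((Matrix.isUnit_iff_isUnit_det _).2 hdet).mul_left_cancel key
  have h6 := congrFun (congrFun h5 i) j
  simpa using h6

end Cfsg.Agent.Helper9.AschPPU42
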