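import Mathlib
import Cfsg.Prelude.Def_GeometricClasses
import Cfsg.Prelude.Def_LieClassical
import Cfsg.Agent.Helper4.AschPPUD2B
import Cfsg.Agent.Helper9.AschPPT6
import Cfsg.Agent.Helper9.AschPPU42A

set_option autoImplicit false
set_option linter.unusedVariables false
set_option linter.unusedSectionVars false

namespace Cfsg.Agent.Helper9.AschPPU42

open Cfsg Cfsg.Geo Cfsg.Agent.Helper3.AschU Cfsg.Agent.Helper7.Herm Cfsg.Agent.Helper9.AschPP
open scoped MatrixGroups Matrix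

variable {F : Type*} [Field F]

/-- a basis of `F^n` as an invertible matrix (columns = basis vectors; the inverse computes coordinates) -/
theorem exists_GL_of_basis {n : ℕ} (b : Module.Basis (Fin n) F (Fin n → F)) :
    ∃ P : GL (Fin n) F, (∀ i k, (P : Matrix (Fin n) (Fin n) F) i k = b k i) ∧
      (∀ v, ((P⁻¹ : GL (Fin n) F) : Matrix (Fin n) (Fin n) F) *ᵥ v = b.repr v) := by
  refine ⟨⟨(Pi.basisFun F (Fin n)).toMatrix b, b.toMatrix (Pi.basisFun F (Fin n)),
    Module.Basis.toMatrix_mul_toMatrix_flip _ _, Module.Basis.toMatrix_mul_toMatrix_flip _ _⟩, ?_, ?_⟩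
  · intro i k
    simp [Module.Basis.toMatrix_apply]
  · intro v
    show b.toMatrix (Pi.basisFun F (Fin n)) *ᵥ v = b.repr v
    have h1 := Module.Basis.toMatrix_mulVec_repr (Pi.basisFun F (Fin n)) b v
    have h2 : ((Pi.basisFun F (Fin n)).repr v : Fin n → F) = v := by
      funext i
      rw [Pi.basisFun_repr]
    rw [h2] at h1
    exact h1

section adapted

variable {D : Fin 2 → Submodule F (Fin 4 → F)} (hint : DirectSum.IsInternal D)
  (v : ∀ i, Module.Basis (Fin 2) F (D i))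

/-- the basis of `F⁴` collected from bases of the two planes -/
noncomputable def adaptedBasis : Module.Basis (Fin 4) F (Fin 4 → F) := (hint.collectedBasis v).reindex e4

theorem adaptedBasis_apply (k : Fin 4) :
    adaptedBasis hint v k = (v (e4.symm k).1 (e4.symm k).2 : Fin 4 → F) := by
  unfold adaptedBasis
  rw [Module.Basis.reindex_apply, DirectSum.IsInternal.collectedBasis_coe]

theorem adaptedBasis_mem (k : Fin 4) : adaptedBasis hint v k ∈ D (e4.symm k).1 := by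
  rw [adaptedBasis_apply]
  exact Submodule.coe_mem _

theorem adaptedBasis_repr_zero {x : Fin 4 → F} {i : Fin 2} (k : Fin 4) (hx : x ∈ D i)
    (hne : i ≠ (e4.symm k).1) : (adaptedBasis hint v).repr x k = 0 := by
  unfold adaptedBasis
  rw [Module.Basis.repr_reindex_apply]
  exact hint.collectedBasis_repr_of_mem_ne v hne hx

theorem e4s0 : e4.symm 0 = ⟨0, 0⟩ := rfl
theorem e4s1 : e4.symm 1 = ⟨0, 1⟩ := rfl
theorem e4s2 : e4.symm 2 = ⟨1, 0⟩ := rfl
theorem e4s3 : e4.symm 3 = ⟨1, 1⟩ := rfl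

/-- the pairing between two complementary totally singular planes is perfect -/
theorem gram_block_det_ne_zero [Fintype F] {q : ℕ} (hF : Fintype.card F = q ^ 2)
    (hts : ∀ i, IsTotallySingularFor (hermForm 4 F q) (D i)) :
    hermForm 4 F q (adaptedBasis hint v 0) (adaptedBasis hint v 2) *
        hermForm 4 F q (adaptedBasis hint v 1) (adaptedBasis hint v 3) -
      hermForm 4 F q (adaptedBasis hint v 0) (adaptedBasis hint v 3) *
        hermForm 4 F q (adaptedBasis hint v 1) (adaptedBasis hint v 2) ≠ 0 := by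
  set a := adaptedBasis hint v with ha
  obtain ⟨P, hP, -⟩ := exists_GL_of_basis a
  set Γ : Matrix (Fin 4) (Fin 4) F := (P : Matrix (Fin 4) (Fin 4) F)ᵀ *
    (P : Matrix (Fin 4) (Fin 4) F).map (sigq hF : F →+* F) with hΓdef
  have hΓ : ∀ k l, Γ k l = hermForm 4 F q (a k) (a l) := by
    intro k l
    simp [hΓdef, Matrix.mul_apply, hermForm, hP]
  have hPdet : (P : Matrix (Fin 4) (Fin 4) F).det ≠ 0 :=
    ((Matrix.isUnit_iff_isUnit_det _).1 P.isUnit).ne_zero
  have hdet : Γ.det ≠ 0 := by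
    rw [hΓdef, Matrix.det_mul, Matrix.det_transpose]
    have h1 : ((P : Matrix (Fin 4) (Fin 4) F).map (sigq hF : F →+* F)).det =
        (sigq hF : F →+* F) (P : Matrix (Fin 4) (Fin 4) F).det :=
      (RingHom.map_det (sigq hF : F →+* F) (P : Matrix (Fin 4) (Fin 4) F)).symm
    rw [h1]
    exact mul_ne_zero hPdet ((map_ne_zero _).2 hPdet)
  have hz : ∀ k l : Fin 4, (e4.symm k).1 = (e4.symm l).1 → Γ k l = 0 := by
    intro k l hkl
    rw [hΓ]
    refine hts (e4.symm k).1 _ (adaptedBasis_mem hint v k) _ ?_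
    rw [hkl]
    exact adaptedBasis_mem hint v l
  have z00 := hz 0 0 rfl
  have z01 := hz 0 1 rfl
  have z10 := hz 1 0 rfl
  have z11 := hz 1 1 rfl
  have z22 := hz 2 2 rfl
  have z23 := hz 2 3 rfl
  have z32 := hz 3 2 rfl
  have z33 := hz 3 3 rfl
  have hfac : Γ.det = (Γ 0 2 * Γ 1 3 - Γ 0 3 * Γ 1 2) * (Γ 2 0 * Γ 3 1 - Γ 2 1 * Γ 3 0) := by
    rw [det_fin_four, z00, z01, z10, z11, z22, z23, z32, z33]
    ring
  rw [hfac] at hdet
  have := left_ne_zero_of_mul hdet
  rw [hΓ, hΓ, hΓ, hΓ] at this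
  exact this

end adapted

/-- a basis adapted to a pair of complementary totally singular planes with Gram matrix `[[0, J], [-J, 0]]` -/
theorem exists_normal_basis [Fintype F] {q : ℕ} (hF : Fintype.card F = q ^ 2)
    (D : Fin 2 → Submodule F (Fin 4 → F)) (hD : IsMDecomposition 2 D)
    (hts : ∀ i, IsTotallySingularFor (hermForm 4 F q) (D i)) :
    ∃ p : Module.Basis (Fin 4) F (Fin 4 → F), (∀ k, p k ∈ D (e4.symm k).1) ∧
      (∀ (x : Fin 4 → F) (i : Fin 2) (k : Fin 4), x ∈ D i → i ≠ (e4.symm k).1 → p.repr x k = 0) ∧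
      (∀ k l, hermForm 4 F q (p k) (p l) = Om0 F k l) := by
  classical
  have hint : DirectSum.IsInternal D :=
    (DirectSum.isInternal_submodule_iff_iSupIndep_and_iSup_eq_top D).2 ⟨hD.indep, hD.iSup_eq_top⟩
  let v : ∀ i, Module.Basis (Fin 2) F (D i) := fun i => Module.finBasisOfFinrankEq F (D i) (hD.finrank_eq i)
  set M : Matrix (Fin 2) (Fin 2) F :=
    Matrix.of fun i l => hermForm 4 F q (v 0 i : Fin 4 → F) (v 1 l : Fin 4 → F) with hM
  have hMdet : IsUnit M.det := by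
    rw [isUnit_iff_ne_zero, Matrix.det_fin_two]
    have := gram_block_det_ne_zero hint v hF hts
    rw [adaptedBasis_apply, adaptedBasis_apply, adaptedBasis_apply, adaptedBasis_apply, e4s0, e4s1, e4s2,
      e4s3] at this
    exact this
  set J2 : Matrix (Fin 2) (Fin 2) F := !![0, 1; -1, 0] with hJ2
  set Y : Matrix (Fin 2) (Fin 2) F := (J2 * M⁻¹)ᵀ with hY
  have hYM : Yᵀ * M = J2 := by
    rw [hY, Matrix.transpose_transpose, Matrix.mul_assoc, Matrix.nonsing_inv_mul _ hMdet, Matrix.mul_one]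
  have hYdet : IsUnit Y.det := by
    rw [hY, Matrix.det_transpose, Matrix.det_mul, Matrix.det_nonsing_inv]
    have : J2.det = 1 := by rw [hJ2, Matrix.det_fin_two]; simp
    rw [this, one_mul]
    exact hMdet.ringInverse
  set E : D 0 ≃ₗ[F] D 0 := Matrix.toLinearEquiv (v 0) Y hYdet with hE
  set v' : ∀ i, Module.Basis (Fin 2) F (D i) := Function.update v 0 ((v 0).map E) with hv'
  have hv'0 : ∀ r, v' 0 r = ∑ j, Y j r • v 0 j := by
    intro r
    rw [hv', Function.update_self, Module.Basis.map_apply, hE, Matrix.toLinearEquiv_apply, Matrix.toLin_self]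
  have hv'1 : v' 1 = v 1 := by
    rw [hv', Function.update_of_ne (by decide)]
  refine ⟨adaptedBasis hint v', adaptedBasis_mem hint v', ?_, ?_⟩
  · intro x i k hx hne
    exact adaptedBasis_repr_zero hint v' k hx hne
  -- the Gram matrix
  have hup : ∀ r l : Fin 2, hermForm 4 F q ((v' 0 r : D 0) : Fin 4 → F) ((v' 1 l : D 1) : Fin 4 → F) = J2 r l := by
    intro r l
    rw [hv'0, hv'1, Fin.sum_univ_two, Submodule.coe_add, Submodule.coe_smul, Submodule.coe_smul,
      hermForm_add_left, hermForm_smul_left, hermForm_smul_left, ← hYM, Matrix.mul_apply, Fin.sum_univ_two,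
      Matrix.transpose_apply, Matrix.transpose_apply]
    rfl
  have h0 : (0 : F) ^ q = 0 := zero_pow (by have := two_le_q hF; omega)
  have hn1 : ((-1 : F)) ^ q = -1 := Cfsg.Agent.Helper4.AschPPU.neg_one_pow_q hF
  have hz : ∀ k l : Fin 4, (e4.symm k).1 = (e4.symm l).1 →
      hermForm 4 F q (adaptedBasis hint v' k) (adaptedBasis hint v' l) = 0 := by
    intro k l hkl
    refine hts (e4.symm k).1 _ (adaptedBasis_mem hint v' k) _ ?_
    rw [hkl]
    exact adaptedBasis_mem hint v' l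
  have hu : ∀ (k l : Fin 4), (e4.symm k).1 = 0 → (e4.symm l).1 = 1 →
      hermForm 4 F q (adaptedBasis hint v' k) (adaptedBasis hint v' l) = J2 (e4.symm k).2 (e4.symm l).2 := by
    intro k l hk hl
    rw [adaptedBasis_apply, adaptedBasis_apply]
    obtain ⟨⟨i, r⟩, hkr⟩ : ∃ a, e4.symm k = a := ⟨_, rfl⟩
    obtain ⟨⟨j, s⟩, hls⟩ : ∃ a, e4.symm l = a := ⟨_, rfl⟩
    rw [hkr] at hk ⊢
    rw [hls] at hl ⊢
    simp only at hk hl
    subst hk
    subst hl
    exact hup r s
  have hsw : ∀ k l : Fin 4, hermForm 4 F q (adaptedBasis hint v' k) (adaptedBasis hint v' l) =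
      (hermForm 4 F q (adaptedBasis hint v' l) (adaptedBasis hint v' k)) ^ q := fun k l => hermForm_swap hF _ _
  refine forall_fin_four_sq ?_ ?_ ?_ ?_ ?_ ?_ ?_ ?_ ?_ ?_ ?_ ?_ ?_ ?_ ?_ ?_
  · rw [hz 0 0 rfl]; simp [Om0]
  · rw [hz 0 1 rfl]; simp [Om0]
  · rw [hu 0 2 rfl rfl]; simp [Om0, hJ2, e4s0, e4s2]
  · rw [hu 0 3 rfl rfl]; simp [Om0, hJ2, e4s0, e4s3]
  · rw [hz 1 0 rfl]; simp [Om0]
  · rw [hz 1 1 rfl]; simp [Om0]
  · rw [hu 1 2 rfl rfl]; simp [Om0, hJ2, e4s1, e4s2]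
  · rw [hu 1 3 rfl rfl]; simp [Om0, hJ2, e4s1, e4s3]
  · rw [hsw, hu 0 2 rfl rfl]; simp [Om0, hJ2, e4s0, e4s2, h0]
  · rw [hsw, hu 1 2 rfl rfl]; simp [Om0, hJ2, e4s1, e4s2, hn1]
  · rw [hz 2 2 rfl]; simp [Om0]
  · rw [hz 2 3 rfl]; simp [Om0]
  · rw [hsw, hu 0 3 rfl rfl]; simp [Om0, hJ2, e4s0, e4s3]
  · rw [hsw, hu 1 3 rfl rfl]; simp [Om0, hJ2, e4s1, e4s3, h0]
  · rw [hz 3 2 rfl]; simp [Om0]
  · rw [hz 3 3 rfl]; simp [Om0]

end Cfsg.Agent.Helper9.AschPPU42
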