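import Mathlib
import Cfsg.Agent.Helper7.UTyA
import Cfsg.Agent.Helper3.UTyB
import Cfsg.Agent.Helper3.UTyC
import Cfsg.Agent.Helper8.UTyA
import Cfsg.Agent.Helper8.SpSSympIso

set_option autoImplicit false
set_option linter.unusedSectionVars false
set_option linter.unusedVariables false
set_option linter.unusedSimpArgs false

/-!
# Involutions of `Sp₄(q)` normalize a structure of type `Sp₂(q²)`

`V` a 4-dimensional nondegenerate alternating space over a finite field of odd order, `δ` a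
self-adjoint endomorphism with `δ² = z` a nonsquare, `X` an isometry with `X² = ±1`.  Then some
conjugate of `X` under an isometry commutes or anticommutes with `δ`.
-/

namespace Cfsg.Agent.Helper9.SS4

open Module Cfsg.Agent.Helper7.SpOrd Cfsg.Agent.Helper7.UTy

variable {F : Type*} [Field F] {V : Type*} [AddCommGroup V] [Module F V]

/-- a symplectic family of four vectors -/
structure SF (B : LinearMap.BilinForm F V) (e f : Fin 2 → V) : Prop where
  ee : ∀ i j, B (e i) (e j) = 0
  ff : ∀ i j, B (f i) (f j) = 0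
  ef : ∀ i j, B (e i) (f j) = if i = j then 1 else 0

/-- `δ` is in standard form with respect to the family -/
def Std (δ : Module.End F V) (z : F) (e f : Fin 2 → V) : Prop :=
  δ (e 0) = e 1 ∧ δ (e 1) = z • e 0 ∧ δ (f 0) = z • f 1 ∧ δ (f 1) = f 0

theorem sf_basis [FiniteDimensional F V] {B : LinearMap.BilinForm F V} (hB : B.IsAlt)
    (h4 : finrank F V = 4) {e f : Fin 2 → V} (h : SF B e f) :
    LinearIndependent F (Sum.elim e f) ∧ ⊤ ≤ Submodule.span F (Set.range (Sum.elim e f)) := by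
  have hAlt : Cfsg.Agent.Helper8.SpS.Alt B := fun x => hB x
  have hli := Cfsg.Agent.Helper8.SpS.linearIndependent_family B hAlt e f h.ee h.ff h.ef
  refine ⟨hli, ?_⟩
  rw [hli.span_eq_top_of_card_eq_finrank' (by rw [Fintype.card_sum, Fintype.card_fin, h4])]

/-- the basis of a symplectic family -/
noncomputable def sfBasis [FiniteDimensional F V] {B : LinearMap.BilinForm F V} (hB : B.IsAlt)
    (h4 : finrank F V = 4) {e f : Fin 2 → V} (h : SF B e f) : Basis (Fin 2 ⊕ Fin 2) F V :=
  Basis.mk (sf_basis hB h4 h).1 (sf_basis hB h4 h).2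

theorem sfBasis_apply [FiniteDimensional F V] {B : LinearMap.BilinForm F V} (hB : B.IsAlt)
    (h4 : finrank F V = 4) {e f : Fin 2 → V} (h : SF B e f) (x : Fin 2 ⊕ Fin 2) :
    sfBasis hB h4 h x = Sum.elim e f x := by
  rw [sfBasis, Basis.mk_apply]

/-- two linear maps which agree on a symplectic family are equal -/
theorem ext_sf [FiniteDimensional F V] {B : LinearMap.BilinForm F V} (hB : B.IsAlt)
    (h4 : finrank F V = 4) {e f : Fin 2 → V} (h : SF B e f) {V' : Type*} [AddCommGroup V']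
    [Module F V'] (S T : V →ₗ[F] V')
    (h0 : S (e 0) = T (e 0)) (h1 : S (e 1) = T (e 1)) (h2 : S (f 0) = T (f 0))
    (h3 : S (f 1) = T (f 1)) : S = T := by
  apply (sfBasis hB h4 h).ext
  intro x
  rw [sfBasis_apply]
  rcases x with i | i
  · fin_cases i
    · exact h0
    · exact h1
  · fin_cases i
    · exact h2
    · exact h3

/-- the standard structure attached to a symplectic family -/
theorem exists_std [FiniteDimensional F V] {B : LinearMap.BilinForm F V} (hB : B.IsAlt)
    (h4 : finrank F V = 4) {e f : Fin 2 → V} (h : SF B e f) (z : F) :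
    ∃ δ' : Module.End F V, Std δ' z e f := by
  refine ⟨(sfBasis hB h4 h).constr F (Sum.elim ![e 1, z • e 0] ![z • f 1, f 0]), ?_, ?_, ?_, ?_⟩
  · have := (sfBasis hB h4 h).constr_basis F (Sum.elim ![e 1, z • e 0] ![z • f 1, f 0]) (Sum.inl 0)
    rw [sfBasis_apply] at this
    simpa using this
  · have := (sfBasis hB h4 h).constr_basis F (Sum.elim ![e 1, z • e 0] ![z • f 1, f 0]) (Sum.inl 1)
    rw [sfBasis_apply] at this
    simpa using this
  · have := (sfBasis hB h4 h).constr_basis F (Sum.elim ![e 1, z • e 0] ![z • f 1, f 0]) (Sum.inr 0)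
    rw [sfBasis_apply] at this
    simpa using this
  · have := (sfBasis hB h4 h).constr_basis F (Sum.elim ![e 1, z • e 0] ![z • f 1, f 0]) (Sum.inr 1)
    rw [sfBasis_apply] at this
    simpa using this

/-- two structures in standard form with respect to symplectic families are conjugate under an
isometry -/
theorem exists_conj_of_std [FiniteDimensional F V] {B : LinearMap.BilinForm F V} (hB : B.IsAlt)
    (h4 : finrank F V = 4) {z : F} {δ₁ δ₂ : Module.End F V} {e₁ f₁ e₂ f₂ : Fin 2 → V}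
    (h₁ : SF B e₁ f₁) (h₂ : SF B e₂ f₂) (s₁ : Std δ₁ z e₁ f₁) (s₂ : Std δ₂ z e₂ f₂) :
    ∃ g : V ≃ₗ[F] V, (∀ x y, B (g x) (g y) = B x y) ∧ ∀ x, g (δ₁ x) = δ₂ (g x) := by
  have hAlt : Cfsg.Agent.Helper8.SpS.Alt B := fun x => hB x
  set b₁ := sfBasis hB h4 h₁ with hb₁
  set b₂ := sfBasis hB h4 h₂ with hb₂
  set g : V ≃ₗ[F] V := b₁.equiv b₂ (Equiv.refl _) with hg
  have hgb : ∀ x, g (b₁ x) = b₂ x := by
    intro x
    rw [hg, Basis.equiv_apply, Equiv.refl_apply]
  have hge : ∀ i, g (e₁ i) = e₂ i := by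
    intro i
    have := hgb (Sum.inl i)
    rwa [hb₁, hb₂, sfBasis_apply, sfBasis_apply] at this
  have hgf : ∀ i, g (f₁ i) = f₂ i := by
    intro i
    have := hgb (Sum.inr i)
    rwa [hb₁, hb₂, sfBasis_apply, sfBasis_apply] at this
  refine ⟨g, ?_, ?_⟩
  · have h1 : B.compl₁₂ (g : V →ₗ[F] V) (g : V →ₗ[F] V) = B := by
      apply LinearMap.ext_basis b₁ b₁
      intro x y
      rw [LinearMap.compl₁₂_apply, LinearEquiv.coe_coe, hgb, hgb, hb₁, hb₂, sfBasis_apply,
        sfBasis_apply, sfBasis_apply, sfBasis_apply,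
        Cfsg.Agent.Helper8.SpS.gram_family B hAlt e₁ f₁ h₁.ee h₁.ff h₁.ef,
        Cfsg.Agent.Helper8.SpS.gram_family B hAlt e₂ f₂ h₂.ee h₂.ff h₂.ef]
    intro x y
    have := LinearMap.congr_fun₂ h1 x y
    rwa [LinearMap.compl₁₂_apply] at this
  · have h1 : (g : V →ₗ[F] V) ∘ₗ δ₁ = δ₂ ∘ₗ (g : V →ₗ[F] V) := by
      apply ext_sf hB h4 h₁
      · rw [LinearMap.comp_apply, LinearMap.comp_apply, LinearEquiv.coe_coe, s₁.1, hge, hge, s₂.1]
      · rw [LinearMap.comp_apply, LinearMap.comp_apply, LinearEquiv.coe_coe, s₁.2.1, map_smul, hge,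
          hge, s₂.2.1]
      · rw [LinearMap.comp_apply, LinearMap.comp_apply, LinearEquiv.coe_coe, s₁.2.2.1, map_smul,
          hgf, hgf, s₂.2.2.1]
      · rw [LinearMap.comp_apply, LinearMap.comp_apply, LinearEquiv.coe_coe, s₁.2.2.2, hgf, hgf,
          s₂.2.2.2]
    intro x
    have := LinearMap.congr_fun h1 x
    simpa using this

/-- the form vanishes on `(v, δ v)` for a self-adjoint `δ` (characteristic not two) -/
theorem sa_self (h2 : (2 : F) ≠ 0) {B : LinearMap.BilinForm F V} (hB : B.IsAlt)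
    {δ : Module.End F V} (hsa : ∀ u v, B (δ u) v = B u (δ v)) (v : V) : B v (δ v) = 0 := by
  have h1 : B v (δ v) = - B (δ v) v := (hB.neg_eq _ _).symm
  have h3 : B (δ v) v = B v (δ v) := hsa v v
  have h4 : (2 : F) * B v (δ v) = 0 := by linear_combination h1 - h3
  exact (mul_eq_zero.mp h4).resolve_left h2

/-- a self-adjoint `δ` with `δ² = z` a nonsquare is in standard form with respect to some
symplectic family -/
theorem exists_std_family [FiniteDimensional F V] (h2 : (2 : F) ≠ 0)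
    {B : LinearMap.BilinForm F V} (hB : B.IsAlt) (hnd : ND B ⊤) (h4 : finrank F V = 4)
    {δ : Module.End F V} {z : F} (hz : ¬ IsSquare z) (hsq : ∀ v, δ (δ v) = z • v)
    (hsa : ∀ u v, B (δ u) v = B u (δ v)) :
    ∃ e f : Fin 2 → V, SF B e f ∧ Std δ z e f := by
  have hz0 : z ≠ 0 := by
    rintro rfl
    exact hz ⟨0, by ring⟩
  have hV : Nontrivial V := by
    apply Module.nontrivial_of_finrank_pos (R := F)
    rw [h4]; norm_num
  obtain ⟨e0, he0⟩ := exists_ne (0 : V)
  obtain ⟨f1, -, hf1⟩ := hnd e0 Submodule.mem_top he0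
  -- normalize
  obtain ⟨f2, hef2⟩ : ∃ f2 : V, B e0 f2 = 1 :=
    ⟨(B e0 f1)⁻¹ • f1, by rw [map_smul, smul_eq_mul, inv_mul_cancel₀ hf1]⟩
  obtain ⟨t, ht⟩ : ∃ t : F, t = B e0 (δ f2) := ⟨_, rfl⟩
  have hden : z - t * t ≠ 0 := by
    intro h
    apply hz
    exact ⟨t, by linear_combination h⟩
  obtain ⟨f0, hf0⟩ : ∃ f0 : V, f0 = (z - t * t)⁻¹ • (z • f2 - t • δ f2) := ⟨_, rfl⟩
  have hef0 : B e0 f0 = 1 := by
    rw [hf0, map_smul, map_sub, map_smul, map_smul, hef2, ← ht, smul_eq_mul, smul_eq_mul,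
      smul_eq_mul, mul_one]
    exact inv_mul_cancel₀ hden
  have hδf0 : δ f0 = (z - t * t)⁻¹ • (z • δ f2 - (t * z) • f2) := by
    rw [hf0, map_smul, map_sub, map_smul, map_smul, hsq, smul_smul]
  have heδf0 : B e0 (δ f0) = 0 := by
    rw [hδf0, map_smul, map_sub, map_smul, map_smul, hef2, ← ht, smul_eq_mul, smul_eq_mul,
      smul_eq_mul, mul_one]
    ring
  have hδδf0 : δ (δ f0) = z • f0 := hsq f0
  refine ⟨![e0, δ e0], ![f0, z⁻¹ • δ f0], ⟨?_, ?_, ?_⟩, ?_, ?_, ?_, ?_⟩
  · intro i j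
    fin_cases i <;> fin_cases j
    · exact hB _
    · exact sa_self h2 hB hsa e0
    · show B (δ e0) e0 = 0
      rw [hsa]; exact sa_self h2 hB hsa e0
    · exact hB _
  · intro i j
    fin_cases i <;> fin_cases j
    · exact hB _
    · show B f0 (z⁻¹ • δ f0) = 0
      rw [map_smul, sa_self h2 hB hsa f0, smul_zero]
    · show B (z⁻¹ • δ f0) f0 = 0
      rw [map_smul, LinearMap.smul_apply, hsa, sa_self h2 hB hsa f0, smul_zero]
    · exact hB _
  · intro i j
    fin_cases i <;> fin_cases j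
    · simpa using hef0
    · show B e0 (z⁻¹ • δ f0) = if (0 : Fin 2) = 1 then 1 else 0
      rw [map_smul, heδf0, smul_zero]; simp
    · show B (δ e0) f0 = if (1 : Fin 2) = 0 then 1 else 0
      rw [hsa, heδf0]; simp
    · show B (δ e0) (z⁻¹ • δ f0) = if (1 : Fin 2) = 1 then 1 else 0
      rw [map_smul, hsa, hδδf0, map_smul, hef0, smul_eq_mul, smul_eq_mul, mul_one,
        inv_mul_cancel₀ hz0]; simp
  · rfl
  · show δ (δ e0) = z • e0
    exact hsq e0
  · show δ f0 = z • (z⁻¹ • δ f0)
    rw [smul_smul, mul_inv_cancel₀ hz0, one_smul]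
  · show δ (z⁻¹ • δ f0) = f0
    rw [map_smul, hδδf0, smul_smul, inv_mul_cancel₀ hz0, one_smul]

/-- case `X² = μ²` with `μ⁴ = 1`: an `X`-adapted symplectic family and a standard structure which
commutes or anticommutes with `X` -/
theorem exists_std_of_sq [FiniteDimensional F V] (h2 : (2 : F) ≠ 0)
    {B : LinearMap.BilinForm F V} (hB : B.IsAlt) (hnd : ND B ⊤) (h4 : finrank F V = 4) (z : F)
    {X : Module.End F V} (hiso : ∀ u v, B (X u) (X v) = B u v) {μ : F} (hμ : μ ^ 4 = 1)
    (hX : ∀ v, X (X v) = (μ * μ) • v) :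
    ∃ (e f : Fin 2 → V) (δ' : Module.End F V), SF B e f ∧ Std δ' z e f ∧
      ((∀ v, X (δ' v) = δ' (X v)) ∨ (∀ v, X (δ' v) = - δ' (X v))) := by
  have hAlt : Cfsg.Agent.Helper8.SpS.Alt B := fun x => hB x
  obtain ⟨k, e, f, ε, -, -, hee, hff, hef, hε, hXe, hXf, hspan⟩ :=
    Cfsg.Agent.Helper3.UTy.exists_adapted_family h2 hB hiso hμ hX 4 ⊤
      (fun _ _ => Submodule.mem_top) hnd (by rw [finrank_top, h4])
  have hli := Cfsg.Agent.Helper8.SpS.linearIndependent_family B hAlt e f hee hff hef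
  have hk1 : 2 * k ≤ 4 := by
    have := hli.fintype_card_le_finrank
    rw [Fintype.card_sum, Fintype.card_fin, h4] at this
    omega
  have hk2 : 4 ≤ 2 * k := by
    have h1 : Submodule.span F (Set.range (Sum.elim e f)) = ⊤ := by
      rw [Set.Sum.elim_range]
      exact top_le_iff.mp hspan
    have h3 := finrank_range_le_card (R := F) (Sum.elim e f)
    rw [Set.finrank, h1, finrank_top, h4, Fintype.card_sum, Fintype.card_fin] at h3
    omega
  obtain rfl : k = 2 := by omega
  have hSF : SF B e f := ⟨hee, hff, hef⟩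
  obtain ⟨δ', hδ'⟩ := exists_std hB h4 hSF z
  have hμ0 : μ ≠ 0 := by
    rintro rfl
    simp at hμ
  have hε0 : ε 0 ≠ 0 := by
    intro h
    have := hε 0
    rw [h, mul_zero] at this
    exact mul_ne_zero hμ0 hμ0 this.symm
  have hcases : ε 1 = ε 0 ∨ ε 1 = - ε 0 :=
    mul_self_eq_mul_self_iff.mp ((hε 1).trans (hε 0).symm)
  refine ⟨e, f, δ', hSF, hδ', ?_⟩
  obtain ⟨s0, s1, s2, s3⟩ := hδ'
  rcases hcases with h | h
  · left
    have key : (X : V →ₗ[F] V) ∘ₗ δ' = δ' ∘ₗ X := by
      apply ext_sf hB h4 hSF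
      · rw [LinearMap.comp_apply, LinearMap.comp_apply, s0, hXe, hXe, map_smul, s0, h]
      · rw [LinearMap.comp_apply, LinearMap.comp_apply, s1, hXe, map_smul, hXe, map_smul, s1, h,
          smul_comm]
      · rw [LinearMap.comp_apply, LinearMap.comp_apply, s2, hXf, map_smul, hXf, map_smul, s2, h,
          smul_comm]
      · rw [LinearMap.comp_apply, LinearMap.comp_apply, s3, hXf, hXf, map_smul, s3, h]
    intro v
    exact LinearMap.congr_fun key v
  · right
    have key : (X : V →ₗ[F] V) ∘ₗ δ' = - (δ' ∘ₗ X) := by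
      apply ext_sf hB h4 hSF
      · rw [LinearMap.neg_apply, LinearMap.comp_apply, LinearMap.comp_apply, s0, hXe, hXe, map_smul,
          s0, h, neg_smul]
      · rw [LinearMap.neg_apply, LinearMap.comp_apply, LinearMap.comp_apply, s1, hXe, map_smul, hXe,
          map_smul, s1, h, neg_smul, neg_neg, smul_comm]
      · rw [LinearMap.neg_apply, LinearMap.comp_apply, LinearMap.comp_apply, s2, hXf, map_smul, hXf,
          map_smul, s2, h, inv_neg, neg_smul, smul_neg, smul_comm]
      · rw [LinearMap.neg_apply, LinearMap.comp_apply, LinearMap.comp_apply, s3, hXf, hXf, map_smul,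
          s3, h, inv_neg, neg_smul, neg_neg]
    intro v
    exact LinearMap.congr_fun key v

/-- case `X² = -1` with `-1` a nonsquare: a symplectic family and a standard structure which
commutes with `X` -/
theorem exists_std_of_neg_one [Fintype F] [Finite V] (hq : Odd (Fintype.card F))
    {B : LinearMap.BilinForm F V} (hB : B.IsAlt) (hnd : ND B ⊤) (h4 : finrank F V = 4)
    {z : F} (hz : ¬ IsSquare z) {X : Module.End F V} (hiso : ∀ u v, B (X u) (X v) = B u v)
    (hX : ∀ v, X (X v) = -v) (hm : ¬ IsSquare (-1 : F)) :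
    ∃ (e f : Fin 2 → V) (δ' : Module.End F V), SF B e f ∧ Std δ' z e f ∧
      ∀ v, X (δ' v) = δ' (X v) := by
  have hfd : FiniteDimensional F V := Module.Finite.of_finite
  have h2 : (2 : F) ≠ 0 := Cfsg.Agent.Helper3.UTy.two_ne_zero_of_odd_card hq
  have hskew : ∀ u v, B (X u) v = - B u (X v) := by
    intro u v
    rw [← hiso (X u) v, hX, map_neg, LinearMap.neg_apply]
  have hskew' : ∀ u v, B u (X v) = - B (X u) v := by
    intro u v
    rw [hskew, neg_neg]
  have hUS : US B X (-1) := ⟨hB, hnd, fun v => by rw [hX, neg_one_smul], hskew, hm⟩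
  obtain ⟨v, hv1, hv2⟩ := Cfsg.Agent.Helper8.UTy.exists_frame hq 2 hUS (by rw [h4])
  obtain ⟨a, b, hab⟩ := Cfsg.Agent.Helper8.UTy.exists_norm_eq hq (z := (-1 : F))
    (neg_ne_zero.2 one_ne_zero) (-1)
  -- an isotropic vector for the hermitian norm
  obtain ⟨u, hu⟩ : ∃ u : V, u = v 0 + a • v 1 + b • X (v 1) := ⟨_, rfl⟩
  have hXu : X u = X (v 0) + a • X (v 1) - b • v 1 := by
    rw [hu, map_add, map_add, map_smul, map_smul, hX, smul_neg, sub_eq_add_neg]
  have g00 : B (X (v 0)) (v 0) = 1 := by simpa using hv2 0 0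
  have g01 : B (X (v 0)) (v 1) = 0 := by simpa using hv2 0 1
  have g10 : B (X (v 1)) (v 0) = 0 := by simpa using hv2 1 0
  have g11 : B (X (v 1)) (v 1) = 1 := by simpa using hv2 1 1
  have k00 : B (v 0) (X (v 0)) = -1 := by rw [hskew', g00]
  have k01 : B (v 0) (X (v 1)) = 0 := by rw [hskew', g01, neg_zero]
  have k10 : B (v 1) (X (v 0)) = 0 := by rw [hskew', g10, neg_zero]
  have k11 : B (v 1) (X (v 1)) = -1 := by rw [hskew', g11]
  have huXu : B u (X u) = 0 := by
    rw [hXu, hu]
    simp only [map_add, map_sub, map_smul, LinearMap.add_apply,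
      LinearMap.smul_apply, smul_eq_mul, hv1, hiso, g01, g10, g11, k00, k01, k10, k11]
    linear_combination (-1 : F) * hab
  have hu0 : u ≠ 0 := by
    intro h0
    have h1 : B (X (v 0)) u = 1 := by
      rw [hu]
      simp only [map_add, map_smul, smul_eq_mul, hiso, hv1, g00, g01]
      ring
    rw [h0, map_zero] at h1
    exact zero_ne_one h1
  obtain ⟨s, hs⟩ := Cfsg.Agent.Helper3.UTy.isSquare_neg_of_not hm hz
  have hz0 : z ≠ 0 := by
    rintro rfl
    exact hz ⟨0, by ring⟩
  have hs0 : s ≠ 0 := by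
    rintro rfl
    rw [mul_zero, neg_eq_zero] at hs
    exact hz0 hs
  -- a partner of `u`
  obtain ⟨w1', -, hw1'⟩ := hnd u Submodule.mem_top hu0
  obtain ⟨w1, hw1⟩ : ∃ w1 : V, B u w1 = 1 :=
    ⟨(B u w1')⁻¹ • w1', by rw [map_smul, smul_eq_mul, inv_mul_cancel₀ hw1']⟩
  obtain ⟨t, ht⟩ : ∃ t : F, t = B u (X w1) := ⟨_, rfl⟩
  have hden : 1 + t * t ≠ 0 := by
    intro h
    exact hm ⟨t, by linear_combination (-1 : F) * h⟩
  obtain ⟨w0, hw0⟩ : ∃ w0 : V, w0 = (1 + t * t)⁻¹ • (w1 + t • X w1) := ⟨_, rfl⟩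
  have huw0 : B u w0 = 1 := by
    rw [hw0, map_smul, map_add, map_smul, hw1, ← ht, smul_eq_mul, smul_eq_mul]
    exact inv_mul_cancel₀ hden
  have hXw0 : X w0 = (1 + t * t)⁻¹ • (X w1 - t • w1) := by
    rw [hw0, map_smul, map_add, map_smul, hX, smul_neg, sub_eq_add_neg]
  have huXw0 : B u (X w0) = 0 := by
    rw [hXw0, map_smul, map_sub, map_smul, hw1, ← ht, smul_eq_mul, smul_eq_mul]
    ring
  obtain ⟨c, hc⟩ : ∃ c : F, c = - (B w0 (X w0)) / 2 := ⟨_, rfl⟩
  obtain ⟨w, hw⟩ : ∃ w : V, w = w0 + c • X u := ⟨_, rfl⟩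
  have hXw : X w = X w0 - c • u := by
    rw [hw, map_add, map_smul, hX, smul_neg, sub_eq_add_neg]
  have huw : B u w = 1 := by
    rw [hw, map_add, map_smul, huw0, huXu, smul_zero, add_zero]
  have huXw : B u (X w) = 0 := by
    rw [hXw, map_sub, map_smul, huXw0, hB.self_eq_zero, smul_zero, sub_zero]
  have hw0u : B w0 u = -1 := by
    rw [← hB.neg_eq, huw0]
  have hwXw : B w (X w) = 0 := by
    rw [hXw, hw]
    simp only [map_add, map_sub, map_smul, LinearMap.add_apply, LinearMap.sub_apply,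
      LinearMap.smul_apply, smul_eq_mul, hiso, huw0, hw0u, hB.self_eq_zero]
    rw [hskew u u, huXu]
    rw [hc]
    field_simp
    ring
  have hXuw : B (X u) w = 0 := by rw [hskew, huXw, neg_zero]
  have hSF : SF B ![u, s • X u] ![w, s⁻¹ • X w] := by
    refine ⟨?_, ?_, ?_⟩
    · intro i j
      fin_cases i <;> fin_cases j
      · exact hB _
      · show B u (s • X u) = 0
        rw [map_smul, huXu, smul_zero]
      · show B (s • X u) u = 0
        rw [map_smul, LinearMap.smul_apply, hskew, huXu, neg_zero, smul_zero]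
      · exact hB _
    · intro i j
      fin_cases i <;> fin_cases j
      · exact hB _
      · show B w (s⁻¹ • X w) = 0
        rw [map_smul, hwXw, smul_zero]
      · show B (s⁻¹ • X w) w = 0
        rw [map_smul, LinearMap.smul_apply, hskew, hwXw, neg_zero, smul_zero]
      · exact hB _
    · intro i j
      fin_cases i <;> fin_cases j
      · simpa using huw
      · show B u (s⁻¹ • X w) = if (0 : Fin 2) = 1 then 1 else 0
        rw [map_smul, huXw, smul_zero]; simp
      · show B (s • X u) w = if (1 : Fin 2) = 0 then 1 else 0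
        rw [map_smul, LinearMap.smul_apply, hXuw, smul_zero]; simp
      · show B (s • X u) (s⁻¹ • X w) = if (1 : Fin 2) = 1 then 1 else 0
        rw [map_smul, map_smul, LinearMap.smul_apply, hiso, huw, smul_eq_mul, smul_eq_mul, mul_one,
          inv_mul_cancel₀ hs0]; simp
  obtain ⟨δ', hδ'⟩ := exists_std hB h4 hSF z
  refine ⟨_, _, δ', hSF, hδ', ?_⟩
  obtain ⟨s0, s1, s2, s3⟩ := hδ'
  have e0 : (![u, s • X u] : Fin 2 → V) 0 = u := rfl
  have e1 : (![u, s • X u] : Fin 2 → V) 1 = s • X u := rfl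
  have f0 : (![w, s⁻¹ • X w] : Fin 2 → V) 0 = w := rfl
  have f1 : (![w, s⁻¹ • X w] : Fin 2 → V) 1 = s⁻¹ • X w := rfl
  rw [e0, e1] at s0 s1
  rw [f0, f1] at s2 s3
  have hsz : s⁻¹ * z = -s := by
    have : z = -(s * s) := by rw [← hs, neg_neg]
    rw [this]
    field_simp
  have hsz' : s * z⁻¹ = - s⁻¹ := by
    have : z = -(s * s) := by rw [← hs, neg_neg]
    rw [this]
    field_simp
  -- `δ'` on the vectors `X u`, `X w`
  have dXu : δ' (X u) = (-s) • u := by
    have := congrArg (fun y => s⁻¹ • y) s1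
    simp only [map_smul, smul_smul, inv_mul_cancel₀ hs0, one_smul] at this
    rw [this, hsz]
  have dXw : δ' (X w) = s • w := by
    have := congrArg (fun y => s • y) s3
    simp only [map_smul, smul_smul, mul_inv_cancel₀ hs0, one_smul] at this
    exact this
  have dw : δ' w = (-s) • X w := by
    rw [s2, smul_smul, mul_comm, hsz]
  have key : (X : V →ₗ[F] V) ∘ₗ δ' = δ' ∘ₗ X := by
    apply ext_sf hB h4 hSF
    · rw [e0, LinearMap.comp_apply, LinearMap.comp_apply, s0, map_smul, hX, dXu, smul_neg, neg_smul]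
    · rw [e1, LinearMap.comp_apply, LinearMap.comp_apply, s1, map_smul, map_smul, hX, map_smul,
        map_neg, s0, smul_neg, smul_smul, ← neg_smul, ← neg_mul]
      congr 1
      linear_combination (-1 : F) * hs
    · rw [f0, LinearMap.comp_apply, LinearMap.comp_apply, dw, map_smul, hX, dXw, smul_neg, neg_smul,
        neg_neg]
    · rw [f1, LinearMap.comp_apply, LinearMap.comp_apply, s3, map_smul, hX, map_smul, map_neg, dw,
        smul_neg, smul_smul, mul_neg, inv_mul_cancel₀ hs0, neg_smul, one_smul, neg_neg]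
  intro x
  exact LinearMap.congr_fun key x

/-- **P2** (for S5975): an isometry `X` with `X² = ±1` of a 4-dimensional symplectic space over a
finite field of odd order has a conjugate (under an isometry) commuting or anticommuting with a given
self-adjoint `δ` with `δ² = z` a nonsquare. -/
theorem exists_conj_SS4 {F V : Type*} [Field F] [Fintype F] [AddCommGroup V] [Module F V]
    [Finite V] (hq : Odd (Fintype.card F))
    {B : LinearMap.BilinForm F V} (hB : B.IsAlt) (hnd : Cfsg.Agent.Helper7.SpOrd.ND B ⊤)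
    (h4 : Module.finrank F V = 4)
    {δ : Module.End F V} {z : F} (hz : ¬ IsSquare z) (hsq : ∀ v, δ (δ v) = z • v)
    (hsa : ∀ u v, B (δ u) v = B u (δ v))
    {X : Module.End F V} (hiso : ∀ u v, B (X u) (X v) = B u v)
    (hX : (∀ v, X (X v) = v) ∨ (∀ v, X (X v) = -v)) :
    ∃ g : V ≃ₗ[F] V, (∀ u v, B (g u) (g v) = B u v) ∧
      ((∀ v, g (X (g.symm (δ v))) = δ (g (X (g.symm v)))) ∨
        (∀ v, g (X (g.symm (δ v))) = - δ (g (X (g.symm v))))) := by
  have hfd : FiniteDimensional F V := Module.Finite.of_finite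
  have h2 : (2 : F) ≠ 0 := Cfsg.Agent.Helper3.UTy.two_ne_zero_of_odd_card hq
  obtain ⟨e, f, hSF, hStd⟩ := exists_std_family h2 hB hnd h4 hz hsq hsa
  -- a standard structure commuting or anticommuting with `X`
  have hmain : ∃ (e' f' : Fin 2 → V) (δ' : Module.End F V), SF B e' f' ∧ Std δ' z e' f' ∧
      ((∀ v, X (δ' v) = δ' (X v)) ∨ (∀ v, X (δ' v) = - δ' (X v))) := by
    rcases hX with hX | hX
    · exact exists_std_of_sq h2 hB hnd h4 z hiso (μ := 1) (by norm_num)
        (fun v => by rw [hX, mul_one, one_smul])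
    · by_cases hm : IsSquare (-1 : F)
      · obtain ⟨i, hi⟩ := hm
        refine exists_std_of_sq h2 hB hnd h4 z hiso (μ := i) ?_
          (fun v => by rw [hX, ← hi, neg_one_smul])
        have : i ^ 4 = (i * i) * (i * i) := by ring
        rw [this, ← hi]; norm_num
      · obtain ⟨e', f', δ', h1, h2', h3⟩ := exists_std_of_neg_one hq hB hnd h4 hz hiso hX hm
        exact ⟨e', f', δ', h1, h2', Or.inl h3⟩
  obtain ⟨e', f', δ', hSF', hStd', hcomm⟩ := hmain
  obtain ⟨g, hg1, hg2⟩ := exists_conj_of_std hB h4 hSF' hSF hStd' hStd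
  have hg3 : ∀ y, g.symm (δ y) = δ' (g.symm y) := by
    intro y
    apply g.injective
    rw [LinearEquiv.apply_symm_apply, hg2, LinearEquiv.apply_symm_apply]
  refine ⟨g, hg1, ?_⟩
  rcases hcomm with hc | hc
  · left
    intro v
    rw [hg3, hc, hg2]
  · right
    intro v
    rw [hg3, hc, map_neg, hg2]

end Cfsg.Agent.Helper9.SS4
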