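import Mathlib
import Cfsg.Agent.Helper7.FHDefs

/-!
# S1142 piece L1a: a polynomial vanishing on the eigenvalues of a real symmetric matrix kills it
-/

set_option autoImplicit false
set_option linter.unusedVariables false
set_option linter.unusedSectionVars false

namespace Cfsg.Agent.Helper7.FH

open Matrix Finset

section h9L1a

variable {F : Type*} [Fintype F] [DecidableEq F]

/-- on an eigenvector, a polynomial in `M` acts by the value of the polynomial -/
theorem h9_aeval_mulVec_eigen (M : Matrix F F ℝ) (h : Polynomial ℝ) {μ : ℝ} {v : F → ℝ}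
    (hv : M.mulVec v = μ • v) : (Polynomial.aeval M h).mulVec v = h.eval μ • v := by
  induction h using Polynomial.induction_on' with
  | add p q hp hq =>
    rw [map_add, Matrix.add_mulVec, hp, hq, Polynomial.eval_add, add_smul]
  | monomial k c =>
    rw [Polynomial.aeval_monomial, Polynomial.eval_monomial]
    have hpow : ∀ k : ℕ, (M ^ k).mulVec v = μ ^ k • v := by
      intro k
      induction k with
      | zero => simp
      | succ k ih =>
        rw [pow_succ, ← Matrix.mulVec_mulVec, hv, Matrix.mulVec_smul, ih, smul_smul, pow_succ, mul_comm]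
    rw [Algebra.algebraMap_eq_smul_one, Matrix.smul_mul, Matrix.one_mul, Matrix.smul_mulVec, hpow,
      smul_smul]

theorem spec_annihilate (M : Matrix F F ℝ) (hM : M.transpose = M) (h : Polynomial ℝ)
    (hh : ∀ μ : ℝ, (∃ v : F → ℝ, v ≠ 0 ∧ M.mulVec v = μ • v) → h.eval μ = 0) :
    Polynomial.aeval M h = 0 := by
  have hH : M.IsHermitian := by
    unfold Matrix.IsHermitian
    rw [Matrix.conjTranspose_eq_transpose_of_trivial, hM]
  -- the eigenvector basis, transported to `F → ℝ`
  let bas : Module.Basis F ℝ (F → ℝ) :=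
    hH.eigenvectorBasis.toBasis.map (WithLp.linearEquiv 2 ℝ (F → ℝ))
  have hbas : ∀ j, bas j = ⇑(hH.eigenvectorBasis j) := by
    intro j
    simp [bas]
  have hkill : ∀ j, (Polynomial.aeval M h).mulVec (bas j) = 0 := by
    intro j
    have hv := hH.mulVec_eigenvectorBasis j
    rw [← hbas j] at hv
    rw [h9_aeval_mulVec_eigen M h hv]
    have hne : bas j ≠ 0 := bas.ne_zero j
    rw [hh _ ⟨bas j, hne, hv⟩, zero_smul]
  have hlin : Matrix.mulVecLin (Polynomial.aeval M h) = 0 := by
    apply bas.ext
    intro j
    rw [Matrix.mulVecLin_apply, hkill j]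
    simp
  have h0 : Matrix.toLin' (Polynomial.aeval M h) = 0 := by
    rw [Matrix.toLin'_apply', hlin]
  exact (LinearEquiv.map_eq_zero_iff _).1 h0

end h9L1a

end Cfsg.Agent.Helper7.FH
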