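import Mathlib

/-!
# ASCH-PRIME piece P14 (`c3_small`), part A: elementary facts on the fields with 4 and 64 elements
-/

set_option autoImplicit false
set_option linter.style.haveILetI false
set_option linter.unusedVariables false

namespace Cfsg.Agent.Helper9.Asch.C3

/-! ### the field with four elements -/

section four
variable {F : Type*} [Field F] [Fintype F]

theorem two_eq_zero_of_card_four (hq : Fintype.card F = 4) : (2 : F) = 0 := by
  obtain ⟨p, hp⟩ := CharP.exists F
  haveI := hp
  obtain ⟨k, hpr, hk⟩ := FiniteField.card F p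
  rw [hq] at hk
  have hp2 : p = 2 := by
    have h1 : p ∣ 4 := by
      rw [hk]
      exact dvd_pow_self p (PNat.ne_zero k)
    have h2 : p ∣ 2 ^ 2 := by norm_num; exact h1
    exact (Nat.prime_dvd_prime_iff_eq hpr Nat.prime_two).1 (hpr.dvd_of_dvd_pow h2)
  subst hp2
  have : ((2 : ℕ) : F) = 0 := CharP.cast_eq_zero F 2
  exact_mod_cast this

theorem add_self_of_card_four (hq : Fintype.card F = 4) (x : F) : x + x = 0 := by
  have h2 := two_eq_zero_of_card_four hq
  linear_combination x * h2

theorem neg_eq_of_card_four (hq : Fintype.card F = 4) (x : F) : -x = x := by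
  have := add_self_of_card_four hq x
  linear_combination -this

theorem cube_eq_one_of_card_four (hq : Fintype.card F = 4) {x : F} (hx : x ≠ 0) : x ^ 3 = 1 := by
  have := FiniteField.pow_card_sub_one_eq_one x hx
  rwa [hq] at this

/-- `X³ + X + 1` has no root in the field with four elements -/
theorem no_root_of_card_four (hq : Fintype.card F = 4) (s : F) : s ^ 3 ≠ s + 1 := by
  intro h
  by_cases hs : s = 0
  · subst hs
    simp at h
  · rw [cube_eq_one_of_card_four hq hs] at h
    apply hs
    linear_combination -h

/-- an element different from `0` and `1` is a primitive cube root of unity -/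
theorem sq_add_self_add_one (hq : Fintype.card F = 4) {x : F} (h0 : x ≠ 0) (h1 : x ≠ 1) :
    x ^ 2 + x + 1 = 0 := by
  have h3 := cube_eq_one_of_card_four hq h0
  have : (x - 1) * (x ^ 2 + x + 1) = 0 := by linear_combination h3
  rcases mul_eq_zero.1 this with h | h
  · exact absurd (sub_eq_zero.1 h) h1
  · exact h

/-- there is an element different from `0` and `1` -/
theorem exists_ne_zero_one (hq : Fintype.card F = 4) : ∃ w : F, w ≠ 0 ∧ w ≠ 1 := by
  classical
  by_contra hcon
  push Not at hcon
  have hsub : (Finset.univ : Finset F) ⊆ {0, 1} := by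
    intro x _
    by_cases hx : x = 0
    · simp [hx]
    · simp [hcon x hx]
  have := Finset.card_le_card hsub
  rw [Finset.card_univ, hq] at this
  have h2 : ({0, 1} : Finset F).card ≤ 2 := Finset.card_le_two
  omega

/-- the norm form of `F₆₄/F₄` in the basis `1, θ, θ²` (`θ³ = θ + 1`): the elements of norm one are the
`F₄`-multiples of the elements of `F₈`. -/
theorem norm_eq_one (hq : Fintype.card F = 4) (a b c : F)
    (h : a ^ 3 + b ^ 3 + c ^ 3 + a * b ^ 2 + a * c ^ 2 + b * c ^ 2 + a * b * c = 1) :
    ∃ s : F, s ≠ 0 ∧ (a = 0 ∨ a = s) ∧ (b = 0 ∨ b = s) ∧ (c = 0 ∨ c = s) := by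
  have h2 := two_eq_zero_of_card_four hq
  by_cases ha : a = 0
  · by_cases hb : b = 0
    · by_cases hc : c = 0
      · subst ha hb hc
        simp at h
      · exact ⟨c, hc, Or.inl ha, Or.inl hb, Or.inr rfl⟩
    · by_cases hc : c = 0
      · exact ⟨b, hb, Or.inl ha, Or.inr rfl, Or.inl hc⟩
      · -- b, c ≠ 0, a = 0 : b c² = 1 ⇒ b = c
        have hb3 := cube_eq_one_of_card_four hq hb
        have hc3 := cube_eq_one_of_card_four hq hc
        subst ha
        have h1 : b * c ^ 2 = 1 := by linear_combination h - hb3 - hc3 - h2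
        have hbc : b = c := by
          have : b * c ^ 3 = c := by linear_combination c * h1
          rw [hc3, mul_one] at this
          exact this
        exact ⟨c, hc, Or.inl rfl, Or.inr hbc, Or.inr rfl⟩
  · by_cases hb : b = 0
    · by_cases hc : c = 0
      · exact ⟨a, ha, Or.inr rfl, Or.inl hb, Or.inl hc⟩
      · -- a, c ≠ 0, b = 0 : a c² = 1 ⇒ a = c
        have ha3 := cube_eq_one_of_card_four hq ha
        have hc3 := cube_eq_one_of_card_four hq hc
        subst hb
        have h1 : a * c ^ 2 = 1 := by linear_combination h - ha3 - hc3 - h2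
        have hac : a = c := by
          have : a * c ^ 3 = c := by linear_combination c * h1
          rw [hc3, mul_one] at this
          exact this
        exact ⟨c, hc, Or.inr hac, Or.inl rfl, Or.inr rfl⟩
    · by_cases hc : c = 0
      · -- a, b ≠ 0, c = 0 : a b² = 1 ⇒ a = b
        have ha3 := cube_eq_one_of_card_four hq ha
        have hb3 := cube_eq_one_of_card_four hq hb
        subst hc
        have h1 : a * b ^ 2 = 1 := by linear_combination h - ha3 - hb3 - h2
        have hab : a = b := by
          have : a * b ^ 3 = b := by linear_combination b * h1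
          rw [hb3, mul_one] at this
          exact this
        exact ⟨b, hb, Or.inr hab, Or.inr rfl, Or.inl rfl⟩
      · -- all non-zero
        have ha3 := cube_eq_one_of_card_four hq ha
        have hb3 := cube_eq_one_of_card_four hq hb
        have hc3 := cube_eq_one_of_card_four hq hc
        -- a b² + a c² + b c² + a b c = 0
        have h1 : a * b ^ 2 + a * c ^ 2 + b * c ^ 2 + a * b * c = 0 := by
          linear_combination h - ha3 - hb3 - hc3 - h2
        -- x = a/c, y = b/c
        set x := a * c⁻¹ with hx
        set y := b * c⁻¹ with hy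
        have hcc : c * c⁻¹ = 1 := mul_inv_cancel₀ hc
        have hax : a = x * c := by rw [hx, mul_assoc, inv_mul_cancel₀ hc, mul_one]
        have hby : b = y * c := by rw [hy, mul_assoc, inv_mul_cancel₀ hc, mul_one]
        have hy0 : y ≠ 0 := mul_ne_zero hb (inv_ne_zero hc)
        have hx0 : x ≠ 0 := mul_ne_zero ha (inv_ne_zero hc)
        have h3 : x * y ^ 2 + x + y + x * y = 0 := by
          have : (x * y ^ 2 + x + y + x * y) * c ^ 3 = 0 := by
            rw [hax, hby] at h1
            linear_combination h1
          rw [hc3, mul_one] at this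
          exact this
        by_cases hy1 : y = 1
        · have hx1 : x = 1 := by
            rw [hy1] at h3
            linear_combination h3 - (x + 1) * h2
          refine ⟨c, hc, Or.inr ?_, Or.inr ?_, Or.inr rfl⟩
          · rw [hax, hx1, one_mul]
          · rw [hby, hy1, one_mul]
        · exfalso
          have h4 := sq_add_self_add_one hq hy0 hy1
          apply hy0
          linear_combination h3 - x * h4

end four

/-! ### fields of characteristic two: the roots of `X³ + X + 1` -/

section roots
variable {L : Type*} [Field L]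

/-- if `y` is a root of `X³ + X + 1` in characteristic two, the roots are `y, y², y⁴ = y² + y` -/
theorem root_cases (h2 : (2 : L) = 0) {y D : L} (hy : y * y * y = y + 1) (hD : D * D * D = D + 1) :
    D = y ∨ D = y * y ∨ D = y * y + y := by
  have key : (D - y) * (D - y * y) * (D - (y * y + y)) = 0 := by
    linear_combination hD + (D * (3 + y) - 1 - y - y ^ 2) * hy + (2 * D - D ^ 2 * (y + y ^ 2) + D * (y ^ 2 + 2 * y) - y ^ 2 - y) * h2
  rcases mul_eq_zero.1 key with h | h
  · rcases mul_eq_zero.1 h with h | h
    · exact Or.inl (sub_eq_zero.1 h)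
    · exact Or.inr (Or.inl (sub_eq_zero.1 h))
  · exact Or.inr (Or.inr (sub_eq_zero.1 h))

end roots

/-! ### the field with 64 elements contains a root of `X³ + X + 1` -/

section sixtyfour
variable {L : Type*} [Field L] [Finite L]

theorem two_eq_zero_of_card_sixtyfour (h : Nat.card L = 64) : (2 : L) = 0 := by
  haveI : Fintype L := Fintype.ofFinite L
  obtain ⟨p, hp⟩ := CharP.exists L
  haveI := hp
  obtain ⟨k, hpr, hk⟩ := FiniteField.card L p
  rw [← Nat.card_eq_fintype_card, h] at hk
  have hp2 : p = 2 := by
    have h1 : p ∣ 64 := by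
      rw [hk]
      exact dvd_pow_self p (PNat.ne_zero k)
    have h2 : p ∣ 2 ^ 6 := by norm_num; exact h1
    exact (Nat.prime_dvd_prime_iff_eq hpr Nat.prime_two).1 (hpr.dvd_of_dvd_pow h2)
  subst hp2
  have : ((2 : ℕ) : L) = 0 := CharP.cast_eq_zero L 2
  exact_mod_cast this

theorem exists_root_of_card (h : Nat.card L = 64) : ∃ y : L, y * y * y = y + 1 := by
  have h2 := two_eq_zero_of_card_sixtyfour h
  have hu : Nat.card Lˣ = 63 := by rw [Nat.card_units, h]
  haveI : Fact (Nat.Prime 7) := ⟨by norm_num⟩
  obtain ⟨u, hu7⟩ := exists_prime_orderOf_dvd_card' (G := Lˣ) 7 (by rw [hu]; norm_num)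
  set y₀ : L := (u : L) with hy₀
  have h7 : y₀ ^ 7 = 1 := by
    have : u ^ 7 = 1 := by rw [← hu7]; exact pow_orderOf_eq_one u
    have := congrArg Units.val this
    simpa using this
  have hne1 : y₀ ≠ 1 := by
    intro h1
    have : u = 1 := Units.ext (by rw [Units.val_one]; exact h1)
    rw [this, orderOf_one] at hu7
    norm_num at hu7
  have hne0 : y₀ ≠ 0 := u.ne_zero
  have key : (y₀ + 1) * ((y₀ ^ 3 + y₀ + 1) * (y₀ ^ 3 + y₀ ^ 2 + 1)) = 0 := by
    linear_combination h7 + (y₀ ^ 6 + y₀ ^ 5 + 2 * y₀ ^ 4 + 2 * y₀ ^ 3 + y₀ ^ 2 + y₀ + 1) * h2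
  rcases mul_eq_zero.1 key with h | h
  · exfalso
    apply hne1
    linear_combination h - h2
  · rcases mul_eq_zero.1 h with h | h
    · refine ⟨y₀, ?_⟩
      linear_combination h - (y₀ + 1) * h2
    · refine ⟨y₀⁻¹, ?_⟩
      have hw : y₀ * y₀⁻¹ = 1 := mul_inv_cancel₀ hne0
      apply mul_left_cancel₀ (pow_ne_zero 3 hne0)
      linear_combination ((y₀ * y₀⁻¹) ^ 2 + y₀ * y₀⁻¹ + 1 - y₀ ^ 2) * hw - h + h2

end sixtyfour

/-! ### `1, y, y²` are independent over a field in which `X³ + X + 1` has no root -/

section indep
variable {F L : Type*} [Field F] [Field L]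

theorem indep_of_no_root (ι : F →+* L) (hroot : ∀ s : F, s ^ 3 ≠ s + 1) {y : L}
    (hy : y * y * y = y + 1) {a b c : F} (h : ι a + ι b * y + ι c * (y * y) = 0) :
    a = 0 ∧ b = 0 ∧ c = 0 := by
  have hinj : Function.Injective ι := ι.injective
  -- `y` is not in the image of `ι`
  have hny : ∀ s : F, y ≠ ι s := by
    intro s hs
    apply hroot s
    apply hinj
    rw [map_pow, map_add, map_one, ← hs]
    linear_combination hy
  by_cases hc : c = 0
  · subst hc
    simp only [map_zero, zero_mul, add_zero] at h
    by_cases hb : b = 0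
    · subst hb
      simp only [map_zero, zero_mul, add_zero] at h
      refine ⟨?_, rfl, rfl⟩
      apply hinj
      rw [map_zero]
      linear_combination h
    · exfalso
      apply hny (-a / b)
      have hb' : ι b ≠ 0 := fun h0 => hb (hinj (by rw [h0, map_zero]))
      rw [map_div₀, map_neg]
      field_simp
      linear_combination h
  · exfalso
    have hc' : ι c ≠ 0 := fun h0 => hc (hinj (by rw [h0, map_zero]))
    -- γ y = δ
    have hgd : ι (b ^ 2 - a * c - c ^ 2) * y = ι (c ^ 2 - a * b) := by
      simp only [map_sub, map_pow, map_mul]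
      linear_combination (ι c) ^ 2 * hy - (ι c * y - ι b) * h
    by_cases hg : b ^ 2 - a * c - c ^ 2 = 0
    · rw [hg, map_zero, zero_mul] at hgd
      have hd : c ^ 2 - a * b = 0 := hinj (by rw [← hgd, map_zero])
      apply hroot (b / c)
      field_simp
      linear_combination b * hg - c * hd
    · apply hny ((c ^ 2 - a * b) / (b ^ 2 - a * c - c ^ 2))
      have hg' : ι (b ^ 2 - a * c - c ^ 2) ≠ 0 := fun h0 => hg (hinj (by rw [h0, map_zero]))
      rw [map_div₀, eq_div_iff hg']
      linear_combination hgd

end indep

end Cfsg.Agent.Helper9.Asch.C3
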