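import Mathlib
import Cfsg.Agent.Helper9.AschC3A

/-!
# ASCH-PRIME piece P14 (`c3_small`), part B: the companion matrix of `X³ + X + 1` over `F₄`
-/

set_option autoImplicit false
set_option linter.style.haveILetI false
set_option linter.unusedVariables false

namespace Cfsg.Agent.Helper9.Asch.C3

open scoped Matrix

/-- companion matrix of `X³ + X + 1` -/
def Cm (R : Type*) [Ring R] : Matrix (Fin 3) (Fin 3) R := !![0,0,1; 1,0,1; 0,1,0]
/-- the matrix of the Frobenius `x ↦ x²` of `F₈` in the basis `1, θ, θ²` -/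
def Tm (R : Type*) [Ring R] : Matrix (Fin 3) (Fin 3) R := !![1,0,0; 0,0,1; 0,1,1]
/-- the inverse of `Tm` in characteristic two -/
def Ti (R : Type*) [Ring R] : Matrix (Fin 3) (Fin 3) R := !![1,0,0; 0,1,1; 0,1,0]
/-- a transvection -/
def Em (R : Type*) [Ring R] : Matrix (Fin 3) (Fin 3) R := !![1,1,0; 0,1,0; 0,0,1]

section maps
variable {R S : Type*} [Ring R] [Ring S] (φ : R →+* S)

theorem map_Cm : φ.mapMatrix (Cm R) = Cm S := by
  ext i j
  fin_cases i <;> fin_cases j <;> simp [Cm]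

theorem map_Tm : φ.mapMatrix (Tm R) = Tm S := by
  ext i j
  fin_cases i <;> fin_cases j <;> simp [Tm]

theorem map_Ti : φ.mapMatrix (Ti R) = Ti S := by
  ext i j
  fin_cases i <;> fin_cases j <;> simp [Ti]

theorem map_Em : φ.mapMatrix (Em R) = Em S := by
  ext i j
  fin_cases i <;> fin_cases j <;> simp [Em]

end maps

/-! ### identities over `ZMod 2` -/

theorem z_Cm_cube : Cm (ZMod 2) * Cm (ZMod 2) * Cm (ZMod 2) = Cm (ZMod 2) + 1 := by decide
theorem z_Tm_Cm : Tm (ZMod 2) * Cm (ZMod 2) = Cm (ZMod 2) * Cm (ZMod 2) * Tm (ZMod 2) := by decide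
theorem z_Ti_Tm : Ti (ZMod 2) * Tm (ZMod 2) = 1 := by decide
theorem z_Tm_Ti : Tm (ZMod 2) * Ti (ZMod 2) = 1 := by decide
theorem z_Ti_Cm : Ti (ZMod 2) * (Cm (ZMod 2) * Cm (ZMod 2)) = Cm (ZMod 2) * Ti (ZMod 2) := by decide
theorem z_Ti2_Cm : Ti (ZMod 2) * Ti (ZMod 2) * (Cm (ZMod 2) * Cm (ZMod 2) + Cm (ZMod 2)) =
    Cm (ZMod 2) * (Ti (ZMod 2) * Ti (ZMod 2)) := by decide
theorem z_det_Tm : (Tm (ZMod 2)).det = 1 := by decide
theorem z_det_Ti : (Ti (ZMod 2)).det = 1 := by decide
theorem z_det_Em : (Em (ZMod 2)).det = 1 := by decide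
theorem z_Em_Em : Em (ZMod 2) * Em (ZMod 2) = 1 := by decide
theorem z_Em_ne : (Em (ZMod 2) * Cm (ZMod 2) * Em (ZMod 2) * Cm (ZMod 2)) 0 0 = 1 ∧
    (Cm (ZMod 2) * (Em (ZMod 2) * Cm (ZMod 2) * Em (ZMod 2))) 0 0 = 0 := by decide

/-! ### the same identities over a ring of characteristic two -/

section chartwo
variable {R : Type*} [CommRing R] (φ : ZMod 2 →+* R)
include φ

theorem Cm_cube : Cm R * Cm R * Cm R = Cm R + 1 := by
  have := congrArg φ.mapMatrix z_Cm_cube
  simpa only [map_mul, map_add, map_one, map_Cm] using this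

theorem Tm_Cm : Tm R * Cm R = Cm R * Cm R * Tm R := by
  have := congrArg φ.mapMatrix z_Tm_Cm
  simpa only [map_mul, map_add, map_one, map_Cm, map_Tm] using this

theorem Ti_Tm : Ti R * Tm R = 1 := by
  have := congrArg φ.mapMatrix z_Ti_Tm
  simpa only [map_mul, map_add, map_one, map_Ti, map_Tm] using this

theorem Tm_Ti : Tm R * Ti R = 1 := by
  have := congrArg φ.mapMatrix z_Tm_Ti
  simpa only [map_mul, map_add, map_one, map_Ti, map_Tm] using this

theorem Ti_Cm : Ti R * (Cm R * Cm R) = Cm R * Ti R := by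
  have := congrArg φ.mapMatrix z_Ti_Cm
  simpa only [map_mul, map_add, map_one, map_Ti, map_Cm] using this

theorem Ti2_Cm : Ti R * Ti R * (Cm R * Cm R + Cm R) = Cm R * (Ti R * Ti R) := by
  have := congrArg φ.mapMatrix z_Ti2_Cm
  simpa only [map_mul, map_add, map_one, map_Ti, map_Cm] using this

theorem det_Tm : (Tm R).det = 1 := by
  have := congrArg φ z_det_Tm
  rwa [RingHom.map_det, map_Tm, map_one] at this

theorem det_Ti : (Ti R).det = 1 := by
  have := congrArg φ z_det_Ti
  rwa [RingHom.map_det, map_Ti, map_one] at this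

theorem det_Em : (Em R).det = 1 := by
  have := congrArg φ z_det_Em
  rwa [RingHom.map_det, map_Em, map_one] at this

theorem Em_Em : Em R * Em R = 1 := by
  have := congrArg φ.mapMatrix z_Em_Em
  simpa only [map_mul, map_add, map_one, map_Em] using this

theorem Em_ne [Nontrivial R] : Em R * Cm R * Em R * Cm R ≠ Cm R * (Em R * Cm R * Em R) := by
  intro h
  have h1 : (Em R * Cm R * Em R * Cm R) 0 0 = 1 := by
    have := congrArg φ z_Em_ne.1
    rw [map_one] at this
    rw [← this, ← map_Em φ, ← map_Cm φ]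
    simp only [← map_mul]
    rfl
  have h2 : (Cm R * (Em R * Cm R * Em R)) 0 0 = 0 := by
    have := congrArg φ z_Em_ne.2
    rw [map_zero] at this
    rw [← this, ← map_Em φ, ← map_Cm φ]
    simp only [← map_mul]
    rfl
  rw [h] at h1
  rw [h1] at h2
  exact one_ne_zero h2

end chartwo

/-! ### the commutant of the companion matrix -/

section commutant
variable {F : Type*} [Field F]

/-- a matrix commuting with `Cm` is `a + b Cm + c Cm²`, explicitly -/
theorem form_of_comm {h : Matrix (Fin 3) (Fin 3) F} (hc : h * Cm F = Cm F * h) :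
    h = !![h 0 0, h 2 0, h 1 0; h 1 0, h 0 0 + h 2 0, h 1 0 + h 2 0; h 2 0, h 1 0, h 0 0 + h 2 0] := by
  have e := fun i j => congrFun (congrFun hc i) j
  have e00 := e 0 0
  have e01 := e 0 1
  have e02 := e 0 2
  have e10 := e 1 0
  have e11 := e 1 1
  have e12 := e 1 2
  have e20 := e 2 0
  have e21 := e 2 1
  have e22 := e 2 2
  simp [Cm, Matrix.mul_apply, Fin.sum_univ_three] at e00 e01 e02 e10 e11 e12 e20 e21 e22
  ext i j
  fin_cases i <;> fin_cases j <;> simp
  · exact e00
  · rw [e01, e20]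
  · exact e10
  · linear_combination e11 + e00 + e20
  · exact e20
  · linear_combination e21 + e10

end commutant

/-! ### the prime field and matrices with entries in it -/

section core
variable {F : Type*} [Field F]

/-- the prime field `{x | x² = x}` of a field of characteristic two -/
def F2 (h2 : (2 : F) = 0) : Subfield F where
  carrier := {x | x * x = x}
  mul_mem' := by
    intro a b ha hb
    simp only [Set.mem_ofPred_eq] at ha hb ⊢
    calc a * b * (a * b) = (a * a) * (b * b) := by ring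
      _ = a * b := by rw [ha, hb]
  one_mem' := by simp
  add_mem' := by
    intro a b ha hb
    simp only [Set.mem_ofPred_eq] at ha hb ⊢
    linear_combination ha + hb + a * b * h2
  zero_mem' := by simp
  neg_mem' := by
    intro a ha
    simp only [Set.mem_ofPred_eq] at ha ⊢
    linear_combination ha + a * h2
  inv_mem' := by
    intro a ha
    simp only [Set.mem_ofPred_eq] at ha ⊢
    rw [← mul_inv, ha]

theorem mem_F2_iff (h2 : (2 : F) = 0) {x : F} : x ∈ F2 h2 ↔ x * x = x := Iff.rfl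

theorem eq_zero_or_one_of_mem_F2 (h2 : (2 : F) = 0) {x : F} (hx : x ∈ F2 h2) : x = 0 ∨ x = 1 := by
  rw [mem_F2_iff] at hx
  have : x * (x - 1) = 0 := by linear_combination hx
  rcases mul_eq_zero.1 this with h | h
  · exact Or.inl h
  · exact Or.inr (sub_eq_zero.1 h)

/-- all entries lie in the subfield `S` -/
def EntIn (S : Subfield F) (M : Matrix (Fin 3) (Fin 3) F) : Prop := ∀ i j, M i j ∈ S

theorem EntIn.mul {S : Subfield F} {A B : Matrix (Fin 3) (Fin 3) F} (hA : EntIn S A) (hB : EntIn S B) :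
    EntIn S (A * B) := by
  intro i j
  rw [Matrix.mul_apply]
  exact Subfield.sum_mem S (fun k _ => S.mul_mem (hA i k) (hB k j))

theorem EntIn.one (S : Subfield F) : EntIn S (1 : Matrix (Fin 3) (Fin 3) F) := by
  intro i j
  by_cases h : i = j
  · rw [h, Matrix.one_apply_eq]; exact S.one_mem
  · rw [Matrix.one_apply_ne h]; exact S.zero_mem

theorem entIn_Cm (S : Subfield F) : EntIn S (Cm F) := by
  intro i j
  fin_cases i <;> fin_cases j <;> simp [Cm, S.zero_mem, S.one_mem]

theorem entIn_Tm (S : Subfield F) : EntIn S (Tm F) := by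
  intro i j
  fin_cases i <;> fin_cases j <;> simp [Tm, S.zero_mem, S.one_mem]

theorem entIn_Em (S : Subfield F) : EntIn S (Em F) := by
  intro i j
  fin_cases i <;> fin_cases j <;> simp [Em, S.zero_mem, S.one_mem]

variable [Fintype F]

/-- the key step: an element of `SL₃(F₄)` that conjugates the companion matrix `C` to `C`, `C²` or `C⁴`
is a scalar multiple of a matrix over `F₂`. -/
theorem core (hq : Fintype.card F = 4) (φ : ZMod 2 →+* F) (h2 : (2 : F) = 0)
    {g : Matrix (Fin 3) (Fin 3) F} (hdet : g.det = 1)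
    (hcase : g * Cm F = Cm F * g ∨ g * Cm F = Cm F * Cm F * g ∨
      g * Cm F = (Cm F * Cm F + Cm F) * g) :
    ∃ s : F, s ≠ 0 ∧ EntIn (F2 h2) (s⁻¹ • g) := by
  -- Step 1: a matrix `S` over `F₂` with `S g` commuting with `C`
  obtain ⟨S, Sinv, hSinv, hSS, hSdet, hScomm⟩ : ∃ S Sinv : Matrix (Fin 3) (Fin 3) F,
      EntIn (F2 h2) Sinv ∧ Sinv * S = 1 ∧ S.det = 1 ∧ (S * g) * Cm F = Cm F * (S * g) := by
    rcases hcase with h | h | h
    · exact ⟨1, 1, EntIn.one _, by simp, by simp, by simpa using h⟩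
    · refine ⟨Ti F, Tm F, entIn_Tm _, Tm_Ti φ, det_Ti φ, ?_⟩
      rw [mul_assoc, h, ← mul_assoc, ← mul_assoc, mul_assoc (Ti F), Ti_Cm φ, mul_assoc]
    · refine ⟨Ti F * Ti F, Tm F * Tm F, (entIn_Tm _).mul (entIn_Tm _), ?_, ?_, ?_⟩
      · rw [mul_assoc (Tm F) (Tm F), ← mul_assoc (Tm F) (Ti F) (Ti F), Tm_Ti φ, one_mul, Tm_Ti φ]
      · rw [Matrix.det_mul, det_Ti φ, one_mul]
      · rw [mul_assoc, h, ← mul_assoc, Ti2_Cm φ, mul_assoc]
  -- Step 2: the shape of `h = S g`
  set h := S * g with hh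
  have hdeth : h.det = 1 := by rw [hh, Matrix.det_mul, hSdet, hdet, one_mul]
  have hform := form_of_comm hScomm
  set a := h 0 0 with ha
  set b := h 1 0 with hb
  set c := h 2 0 with hc
  have hN : a ^ 3 + b ^ 3 + c ^ 3 + a * b ^ 2 + a * c ^ 2 + b * c ^ 2 + a * b * c = 1 := by
    rw [hform, Matrix.det_fin_three] at hdeth
    simp at hdeth
    linear_combination hdeth - (a ^ 2 * c - a * b ^ 2 - 2 * a * b * c - b * c ^ 2) * h2
  obtain ⟨s, hs0, has, hbs, hcs⟩ := norm_eq_one hq a b c hN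
  refine ⟨s, hs0, ?_⟩
  -- Step 3: `s⁻¹ h` has entries in `F₂`
  have hmem : ∀ x : F, (x = 0 ∨ x = s) → s⁻¹ * x ∈ F2 h2 := by
    rintro x (rfl | rfl)
    · rw [mul_zero]; exact (F2 h2).zero_mem
    · rw [inv_mul_cancel₀ hs0]; exact (F2 h2).one_mem
  have hk : EntIn (F2 h2) (s⁻¹ • h) := by
    intro i j
    rw [Matrix.smul_apply, smul_eq_mul, hform]
    fin_cases i <;> fin_cases j <;> simp [mul_add] <;>
      first
      | exact hmem _ has
      | exact hmem _ hbs
      | exact hmem _ hcs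
      | exact (F2 h2).add_mem (hmem _ has) (hmem _ hcs)
      | exact (F2 h2).add_mem (hmem _ hbs) (hmem _ hcs)
  -- Step 4
  have hg : s⁻¹ • g = Sinv * (s⁻¹ • h) := by
    rw [Matrix.mul_smul, hh, ← mul_assoc, hSS, one_mul]
  rw [hg]
  exact hSinv.mul hk

end core

end Cfsg.Agent.Helper9.Asch.C3
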