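import Mathlib
import Cfsg.Prelude.Def_GeometricClasses
import Cfsg.Agent.Lead.AschBase
import Cfsg.Agent.Helper9.AschC3B

/-!
# ASCH-PRIME piece P14 (`c3_small`), part C: a field subalgebra of degree 3 of `M₃(F₄)` is conjugate to
`F₄[C]`, `C` the companion matrix of `X³ + X + 1`
-/

set_option autoImplicit false
set_option linter.style.haveILetI false
set_option linter.unusedVariables false

namespace Cfsg.Agent.Helper9.Asch.C3

open Cfsg Cfsg.Geo Cfsg.Agent.Lead.Asch
open scoped MatrixGroups Matrix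

variable {F : Type*} [Field F]

theorem isField_of_isFieldSubalgebra {K : Subalgebra F (Matrix (Fin 3) (Fin 3) F)}
    (hK : IsFieldSubalgebra 3 K) : IsField ↥K where
  exists_pair_ne := ⟨0, 1, zero_ne_one⟩
  mul_comm := fun a b => Subtype.ext (hK.comm a a.2 b b.2)
  mul_inv_cancel := fun {a} ha => by
    obtain ⟨y, hy, hxy⟩ := hK.inv a a.2 (fun h => ha (Subtype.ext h))
    exact ⟨⟨y, hy⟩, Subtype.ext hxy⟩

/-- `K` contains a root of `X³ + X + 1` -/
theorem exists_root_in [Fintype F] (hq : Fintype.card F = 4)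
    {K : Subalgebra F (Matrix (Fin 3) (Fin 3) F)} (hK : IsFieldSubalgebra 3 K) :
    ∃ y : Matrix (Fin 3) (Fin 3) F, y ∈ K ∧ y * y * y = y + 1 := by
  have hfield := isField_of_isFieldSubalgebra hK
  haveI : Finite ↥K := inferInstance
  have hcard : Nat.card ↥K = 64 := by
    rw [Module.natCard_eq_pow_finrank (K := F) (V := ↥K), hK.finrank_eq, Nat.card_eq_fintype_card, hq]
    norm_num
  letI : Field ↥K := hfield.toField
  obtain ⟨y, hy⟩ := exists_root_of_card (L := ↥K) hcard
  exact ⟨y.1, y.2, congrArg Subtype.val hy⟩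

/-- the matrix with columns `e₀, y e₀, y² e₀` -/
def Pmat (y : Matrix (Fin 3) (Fin 3) F) : Matrix (Fin 3) (Fin 3) F :=
  Matrix.of fun i j => (y ^ (j : ℕ)) i 0

theorem Pmat_apply (y : Matrix (Fin 3) (Fin 3) F) (i j : Fin 3) : Pmat y i j = (y ^ (j : ℕ)) i 0 := rfl

theorem y_mul_Pmat {y : Matrix (Fin 3) (Fin 3) F} (hy : y * y * y = y + 1) :
    y * Pmat y = Pmat y * Cm F := by
  have hL : ∀ i j, (y * Pmat y) i j = (y ^ ((j : ℕ) + 1)) i 0 := by
    intro i j
    rw [pow_succ', Matrix.mul_apply, Matrix.mul_apply]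
    rfl
  have h3 : y ^ 3 = y + 1 := by rw [← hy]; noncomm_ring
  ext i j
  rw [hL]
  fin_cases j
  · simp [Matrix.mul_apply, Fin.sum_univ_three, Cm, Pmat_apply]
  · simp [Matrix.mul_apply, Fin.sum_univ_three, Cm, Pmat_apply]
  · simp [Matrix.mul_apply, Fin.sum_univ_three, Cm, Pmat_apply, h3]
    ring

/-- `1, y, y²` are independent, so `Pmat y` is invertible -/
theorem isUnit_Pmat [Fintype F] (hq : Fintype.card F = 4)
    {K : Subalgebra F (Matrix (Fin 3) (Fin 3) F)} (hK : IsFieldSubalgebra 3 K)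
    {y : Matrix (Fin 3) (Fin 3) F} (hyK : y ∈ K) (hy : y * y * y = y + 1) : IsUnit (Pmat y) := by
  have key : ∀ w : Fin 3 → F, Pmat y *ᵥ w = 0 → w = 0 := by
    intro w hw
    set k : Matrix (Fin 3) (Fin 3) F := w 0 • 1 + w 1 • y + w 2 • (y * y) with hk
    have hkK : k ∈ K := by
      rw [hk]
      exact K.add_mem (K.add_mem (K.smul_mem K.one_mem _) (K.smul_mem hyK _))
        (K.smul_mem (K.mul_mem hyK hyK) _)
    have hcol : ∀ i, k i 0 = 0 := by
      intro i
      have := congrFun hw i
      rw [Matrix.mulVec, dotProduct, Fin.sum_univ_three] at this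
      simp only [Pmat_apply, Fin.val_zero, pow_zero, Fin.val_one, pow_one, Fin.val_two, Pi.zero_apply] at this
      rw [hk]
      simp only [Matrix.add_apply, Matrix.smul_apply, smul_eq_mul]
      rw [pow_two] at this
      linear_combination this
    have hk0 : k = 0 := by
      by_contra hne
      obtain ⟨k', hk'K, hkk'⟩ := hK.inv k hkK hne
      have hk'k : k' * k = 1 := by rw [hK.comm k' hk'K k hkK, hkk']
      have h00 := congrFun (congrFun hk'k 0) 0
      rw [Matrix.mul_apply, Fin.sum_univ_three, hcol 0, hcol 1, hcol 2] at h00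
      simp at h00
    -- pass to the field `K`
    have hfield := isField_of_isFieldSubalgebra hK
    let y' : ↥K := ⟨y, hyK⟩
    let ι : F →+* ↥K := algebraMap F ↥K
    have hy' : y' * y' * y' = y' + 1 := Subtype.ext hy
    have hrel : ι (w 0) + ι (w 1) * y' + ι (w 2) * (y' * y') = 0 := by
      apply Subtype.ext
      show (algebraMap F ↥K (w 0) : Matrix (Fin 3) (Fin 3) F) + (algebraMap F ↥K (w 1) : Matrix (Fin 3) (Fin 3) F) * y
        + (algebraMap F ↥K (w 2) : Matrix (Fin 3) (Fin 3) F) * (y * y) = 0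
      rw [← hk0, hk]
      simp only [Algebra.algebraMap_eq_smul_one, Subalgebra.coe_smul, Subalgebra.coe_one, smul_mul_assoc, one_mul]
    letI : Field ↥K := hfield.toField
    obtain ⟨h0, h1, h2⟩ := indep_of_no_root (L := ↥K) ι (no_root_of_card_four hq) hy' hrel
    funext i
    fin_cases i
    · exact h0
    · exact h1
    · exact h2
  rw [← Matrix.mulVec_injective_iff_isUnit]
  intro w w' h
  have := key (w - w') (by rw [Matrix.mulVec_sub, h, sub_self])
  exact sub_eq_zero.1 this

end Cfsg.Agent.Helper9.Asch.C3
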