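import Mathlib
import Cfsg.Prelude.Def_GeometricClasses
import Cfsg.Agent.Lead.AschBase
import Cfsg.Agent.Helper6.AschSub
import Cfsg.Agent.Helper7.AschNotSLB
import Cfsg.Agent.Helper9.AschC3C

/-!
# ASCH-PRIME piece P14: the normalizer of a Singer cycle of `SL₃(4)` is not maximal
(it lies in a subfield group `F₄ˣ ∘ GL₃(2)`).
-/

set_option autoImplicit false
set_option linter.style.haveILetI false
set_option linter.unusedVariables false
set_option maxHeartbeats 1000000

namespace Cfsg.Agent.Helper9.Asch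

open Cfsg Cfsg.Geo Cfsg.Agent.Lead.Asch Cfsg.Agent.Helper9.Asch.C3
open scoped MatrixGroups Matrix

variable {F : Type*} [Field F]

namespace C3

/-- in the field `K`, a root of `X³ + X + 1` is `y`, `y²` or `y⁴` -/
theorem root_cases_in [Fintype F] (hq : Fintype.card F = 4)
    {K : Subalgebra F (Matrix (Fin 3) (Fin 3) F)} (hK : IsFieldSubalgebra 3 K)
    {y D : Matrix (Fin 3) (Fin 3) F} (hyK : y ∈ K) (hDK : D ∈ K)
    (hy : y * y * y = y + 1) (hD : D * D * D = D + 1) :
    D = y ∨ D = y * y ∨ D = y * y + y := by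
  have h2 := two_eq_zero_of_card_four hq
  have hfield := isField_of_isFieldSubalgebra hK
  have h2K : (2 : ↥K) = 0 := by
    rw [← map_ofNat (algebraMap F ↥K) 2, h2, map_zero]
  let y' : ↥K := ⟨y, hyK⟩
  let D' : ↥K := ⟨D, hDK⟩
  have hy' : y' * y' * y' = y' + 1 := Subtype.ext hy
  have hD' : D' * D' * D' = D' + 1 := Subtype.ext hD
  letI : Field ↥K := hfield.toField
  rcases root_cases (L := ↥K) h2K hy' hD' with h | h | h
  · exact Or.inl (congrArg Subtype.val h)
  · exact Or.inr (Or.inl (congrArg Subtype.val h))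
  · exact Or.inr (Or.inr (congrArg Subtype.val h))

theorem F2_ne_top [Fintype F] (hq : Fintype.card F = 4) (h2 : (2 : F) = 0) : F2 h2 ≠ ⊤ := by
  intro htop
  obtain ⟨w, hw0, hw1⟩ := exists_ne_zero_one hq
  have : w ∈ F2 h2 := by rw [htop]; trivial
  rcases eq_zero_or_one_of_mem_F2 h2 this with h | h
  · exact hw0 h
  · exact hw1 h

end C3

/-- P14: the Singer normalizer of `SL₃(4)` is not maximal. -/
theorem c3_small [Fintype F] (hq : Fintype.card F = 4) (K : Subalgebra F (Matrix (Fin 3) (Fin 3) F))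
    (hK : IsFieldSubalgebra 3 K) :
    ¬ IsMaximalIn (specialLinear (Fin 3) F) (subalgebraNormalizer K ⊓ specialLinear (Fin 3) F) := by
  intro hmax
  have h2 := two_eq_zero_of_card_four hq
  haveI : CharP F 2 := CharTwo.of_one_ne_zero_of_two_eq_zero one_ne_zero h2
  let φ : ZMod 2 →+* F := ZMod.castHom (dvd_refl 2) F
  obtain ⟨y, hyK, hy⟩ := exists_root_in hq hK
  have hPu := isUnit_Pmat hq hK hyK hy
  let P : GL (Fin 3) F := hPu.unit
  have hPval : (P : Matrix (Fin 3) (Fin 3) F) = Pmat y := hPu.unit_spec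
  have hyP : y * (P : Matrix (Fin 3) (Fin 3) F) = (P : Matrix (Fin 3) (Fin 3) F) * Cm F := by
    rw [hPval]; exact y_mul_Pmat hy
  set Pm : Matrix (Fin 3) (Fin 3) F := (P : Matrix (Fin 3) (Fin 3) F) with hPm
  set Pi : Matrix (Fin 3) (Fin 3) F := ((P⁻¹ : GL (Fin 3) F) : Matrix (Fin 3) (Fin 3) F) with hPi
  have hPPi : Pm * Pi = 1 := Units.mul_inv P
  have hPiP : Pi * Pm = 1 := Units.inv_mul P
  have hC : Pi * y * Pm = Cm F := by rw [mul_assoc, hyP, ← mul_assoc, hPiP, one_mul]
  have hCC : Pi * (y * y) * Pm = Cm F * Cm F := by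
    calc Pi * (y * y) * Pm = (Pi * y * Pm) * (Pi * y * Pm) := by
          simp only [mul_assoc]; rw [← mul_assoc Pm Pi, hPPi, one_mul]
      _ = Cm F * Cm F := by rw [hC]
  -- the overgroup
  have hHM : subalgebraNormalizer K ⊓ specialLinear (Fin 3) F ≤
      subfieldSubgroup (F2 h2) P ⊓ specialLinear (Fin 3) F := by
    rintro g ⟨hgN, hgS⟩
    refine ⟨?_, hgS⟩
    have hgN' : ∀ k : Matrix (Fin 3) (Fin 3) F, k ∈ K ↔
        (g : Matrix (Fin 3) (Fin 3) F) * k * ((g⁻¹ : GL (Fin 3) F) : Matrix (Fin 3) (Fin 3) F) ∈ K := hgN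
    set gm : Matrix (Fin 3) (Fin 3) F := (g : Matrix (Fin 3) (Fin 3) F) with hgm
    set gi : Matrix (Fin 3) (Fin 3) F := ((g⁻¹ : GL (Fin 3) F) : Matrix (Fin 3) (Fin 3) F) with hgi
    have hggi : gm * gi = 1 := Units.mul_inv g
    have hgig : gi * gm = 1 := Units.inv_mul g
    have hdetg : gm.det = 1 := by
      have : Matrix.GeneralLinearGroup.det g = 1 := hgS
      have := congrArg Units.val this
      simpa using this
    set D := gm * y * gi with hD
    have hDK : D ∈ K := (hgN' y).1 hyK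
    have hD3 : D * D * D = D + 1 := by
      calc D * D * D = gm * (y * (gi * gm) * y * (gi * gm) * y) * gi := by
            rw [hD]; simp only [mul_assoc]
        _ = gm * (y * y * y) * gi := by rw [hgig]; simp only [mul_one]
        _ = D + 1 := by rw [hy, mul_add, add_mul, mul_one, hggi, hD, mul_assoc]
    have hDg : D * gm = gm * y := by
      rw [hD, mul_assoc, hgig, mul_one]
    -- g' = P⁻¹ g P
    set g' := Pi * gm * Pm with hg'
    have hdetg' : g'.det = 1 := by
      rw [hg', Matrix.det_mul, Matrix.det_mul, hdetg, mul_one, ← Matrix.det_mul, hPiP, Matrix.det_one]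
    have hg'C : g' * Cm F = (Pi * D * Pm) * g' := by
      calc g' * Cm F = Pi * gm * (Pm * Cm F) := by rw [hg']; simp only [mul_assoc]
        _ = Pi * (gm * y) * Pm := by rw [← hyP]; simp only [mul_assoc]
        _ = Pi * (D * gm) * Pm := by rw [hDg]
        _ = (Pi * D * Pm) * g' := by
            rw [hg']; simp only [mul_assoc]; rw [← mul_assoc Pm Pi, hPPi, one_mul]
    have hcase : g' * Cm F = Cm F * g' ∨ g' * Cm F = Cm F * Cm F * g' ∨
        g' * Cm F = (Cm F * Cm F + Cm F) * g' := by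
      rcases C3.root_cases_in hq hK hyK hDK hy hD3 with h | h | h
      · left; rw [hg'C, h, hC]
      · right; left; rw [hg'C, h, hCC]
      · right; right
        rw [hg'C, h, mul_add, add_mul, hCC, hC]
    obtain ⟨s, hs0, hent⟩ := core hq φ h2 hdetg' hcase
    -- the scalar `s⁻¹`
    let zi : GL (Fin 3) F := Units.map (Matrix.scalar (Fin 3) : F →+* Matrix (Fin 3) (Fin 3) F).toMonoidHom
      (Units.mk0 s⁻¹ (inv_ne_zero hs0))
    have hzi : (zi : Matrix (Fin 3) (Fin 3) F) = s⁻¹ • (1 : Matrix (Fin 3) (Fin 3) F) := by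
      show Matrix.scalar (Fin 3) s⁻¹ = _
      rw [Matrix.scalar_apply, Matrix.smul_one_eq_diagonal]
    have hziS : zi ∈ scalars (Fin 3) F := ⟨_, rfl⟩
    let m : GL (Fin 3) F := P⁻¹ * g * P * zi
    have hmval : (m : Matrix (Fin 3) (Fin 3) F) = s⁻¹ • g' := by
      show (P⁻¹ * g * P * zi : GL (Fin 3) F).val = _
      rw [Units.val_mul, Units.val_mul, Units.val_mul, hzi, Matrix.mul_smul, mul_one]
    have hm : m ∈ (Matrix.GeneralLinearGroup.map ((F2 h2).subtype : (F2 h2) →+* F)).range := by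
      apply Cfsg.Agent.Helper6.Asch.mem_range_map_of_entries
      intro i j
      rw [hmval]
      exact hent i j
    unfold subfieldSubgroup
    refine Subgroup.mem_map.2 ⟨m * zi⁻¹, Subgroup.mul_mem_sup hm (Subgroup.inv_mem _ hziS), ?_⟩
    show P * (m * zi⁻¹) * P⁻¹ = g
    show P * (P⁻¹ * g * P * zi * zi⁻¹) * P⁻¹ = g
    group
  rcases hmax.2 _ hHM inf_le_right with h | h
  · -- the transvection
    let Eu : GL (Fin 3) F := ⟨Em F, Em F, Em_Em φ, Em_Em φ⟩
    have hEuval : (Eu : Matrix (Fin 3) (Fin 3) F) = Em F := rfl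
    have hEuinv : ((Eu⁻¹ : GL (Fin 3) F) : Matrix (Fin 3) (Fin 3) F) = Em F := rfl
    let τ : GL (Fin 3) F := P * Eu * P⁻¹
    have hτM : τ ∈ subfieldSubgroup (F2 h2) P ⊓ specialLinear (Fin 3) F := by
      constructor
      · unfold subfieldSubgroup
        refine Subgroup.mem_map.2 ⟨Eu, Subgroup.mem_sup_left ?_, rfl⟩
        apply Cfsg.Agent.Helper6.Asch.mem_range_map_of_entries
        intro i j
        exact entIn_Em _ i j
      · show Matrix.GeneralLinearGroup.det τ = 1
        have hdE : Matrix.GeneralLinearGroup.det Eu = 1 := by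
          apply Units.ext
          show (Em F).det = 1
          exact det_Em φ
        show Matrix.GeneralLinearGroup.det (P * Eu * P⁻¹) = 1
        rw [map_mul, map_mul, hdE, mul_one, map_inv, mul_inv_cancel]
    rw [h] at hτM
    have hτN : ∀ k : Matrix (Fin 3) (Fin 3) F, k ∈ K ↔
        (τ : Matrix (Fin 3) (Fin 3) F) * k * ((τ⁻¹ : GL (Fin 3) F) : Matrix (Fin 3) (Fin 3) F) ∈ K := hτM.1
    have hτval : (τ : Matrix (Fin 3) (Fin 3) F) = Pm * Em F * Pi := by
      show (P * Eu * P⁻¹ : GL (Fin 3) F).val = _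
      rw [Units.val_mul, Units.val_mul]
    have hτinv : ((τ⁻¹ : GL (Fin 3) F) : Matrix (Fin 3) (Fin 3) F) = Pm * Em F * Pi := by
      have : τ⁻¹ = P * Eu⁻¹ * P⁻¹ := by
        show (P * Eu * P⁻¹)⁻¹ = _
        group
      rw [this, Units.val_mul, Units.val_mul, hEuinv]
    have hDK := (hτN y).1 hyK
    have hcomm := hK.comm _ hDK y hyK
    rw [hτval, hτinv] at hcomm
    -- conjugate back by P
    have hE : Em F * Cm F * Em F * Cm F = Cm F * (Em F * Cm F * Em F) := by
      have h1 : Pi * (Pm * Em F * Pi * y * (Pm * Em F * Pi) * y) * Pm = Em F * Cm F * Em F * Cm F := by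
        calc Pi * (Pm * Em F * Pi * y * (Pm * Em F * Pi) * y) * Pm
            = (Pi * Pm) * Em F * (Pi * y * Pm) * Em F * (Pi * y * Pm) := by
              simp only [mul_assoc]
          _ = Em F * Cm F * Em F * Cm F := by rw [hPiP, hC, one_mul]
      have h2' : Pi * (y * (Pm * Em F * Pi * y * (Pm * Em F * Pi))) * Pm = Cm F * (Em F * Cm F * Em F) := by
        calc Pi * (y * (Pm * Em F * Pi * y * (Pm * Em F * Pi))) * Pm
            = (Pi * y * Pm) * (Em F * (Pi * y * Pm) * Em F * (Pi * Pm)) := by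
              simp only [mul_assoc]
          _ = Cm F * (Em F * Cm F * Em F) := by rw [hPiP, hC, mul_one]
      rw [← h1, ← h2', hcomm]
    exact Em_ne φ hE
  · -- `M = SL₃`
    apply Cfsg.Agent.Helper7.Asch.not_le_subfieldSubgroup (by norm_num) (F2 h2) (C3.F2_ne_top hq h2) P
    rw [← h]
    exact inf_le_left

end Cfsg.Agent.Helper9.Asch
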