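import Mathlib
import Cfsg.Prelude.Def_GeometricClasses
import Cfsg.Agent.Helper7.FExA
import Cfsg.Agent.Helper9.AschCompC4

/-!
# ASCH-COMP piece R2: subfields of prime degree of a field subalgebra of the matrix algebra

`exists_prime_subfield`: a field subalgebra `K` of degree `c` contains for every prime `r ∣ c` a field subalgebra
`K'` of degree `r` (the fixed field of `Frob^r`) with `N(K) ≤ N(K')`.
-/

set_option autoImplicit false
open Cfsg Cfsg.Geo Cfsg.Agent.Helper7
open scoped MatrixGroups Matrix Kronecker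

namespace Cfsg.Agent.Helper9.AschComp

variable {n : ℕ} {F : Type*} [Field F]

theorem conj_pow (g : GL (Fin n) F) (k : Matrix (Fin n) (Fin n) F) (m : ℕ) :
    ((g : Matrix (Fin n) (Fin n) F) * k * ((g⁻¹ : GL (Fin n) F) : Matrix (Fin n) (Fin n) F)) ^ m =
      (g : Matrix (Fin n) (Fin n) F) * k ^ m * ((g⁻¹ : GL (Fin n) F) : Matrix (Fin n) (Fin n) F) := by
  have e2 : ((g⁻¹ : GL (Fin n) F) : Matrix (Fin n) (Fin n) F) * (g : Matrix (Fin n) (Fin n) F) = 1 :=
    Units.inv_mul g
  induction m with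
  | zero => simp
  | succ m ih =>
    rw [pow_succ, ih, pow_succ]
    calc (g : Matrix (Fin n) (Fin n) F) * k ^ m * ((g⁻¹ : GL (Fin n) F) : Matrix (Fin n) (Fin n) F) *
          ((g : Matrix (Fin n) (Fin n) F) * k * ((g⁻¹ : GL (Fin n) F) : Matrix (Fin n) (Fin n) F))
        = (g : Matrix (Fin n) (Fin n) F) * k ^ m *
          (((g⁻¹ : GL (Fin n) F) : Matrix (Fin n) (Fin n) F) * (g : Matrix (Fin n) (Fin n) F)) * k *
          ((g⁻¹ : GL (Fin n) F) : Matrix (Fin n) (Fin n) F) := by simp only [mul_assoc]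
      _ = _ := by rw [e2, mul_one]; simp only [mul_assoc]

/-- **R2**: a field subalgebra of degree `c` contains, for every divisor `r` of `c`, a field subalgebra of degree `r`
which is normalized by everything normalizing the big one (`K' = {k ∈ K : k^(q^r) = k}`). -/
theorem exists_prime_subfield [Fintype F] (hn : 0 < n) {c r : ℕ} (K : Subalgebra F (Matrix (Fin n) (Fin n) F))
    (hK : IsFieldSubalgebra c K) (hr : r.Prime) (hrc : r ∣ c) :
    ∃ K' : Subalgebra F (Matrix (Fin n) (Fin n) F), IsFieldSubalgebra r K' ∧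
      subalgebraNormalizer K ≤ subalgebraNormalizer K' := by
  classical
  haveI : Nonempty (Fin n) := ⟨⟨0, hn⟩⟩
  letI : Field K := FEx.fieldOfSub K hK
  haveI : Finite K := inferInstance
  haveI : FiniteDimensional F K := inferInstance
  haveI : Algebra.IsAlgebraic F K := Algebra.IsAlgebraic.of_finite F K
  set q := Fintype.card F with hq
  set φ : Gal(K/F) := FiniteField.frobeniusAlgEquivOfAlgebraic F K with hφdef
  have hφ : orderOf φ = c := by
    rw [hφdef, FiniteField.orderOf_frobeniusAlgEquivOfAlgebraic, hK.finrank_eq]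
  have hφapp : ∀ (m : ℕ) (x : K), (φ ^ m) x = x ^ (q ^ m) := by
    intro m x
    rw [AlgEquiv.coe_pow, hφdef, FiniteField.coe_frobeniusAlgEquivOfAlgebraic_iterate]
  have hcpos : 0 < c := by
    rw [← hK.finrank_eq]
    exact Module.finrank_pos
  set G' : Subgroup Gal(K/F) := Subgroup.zpowers (φ ^ r) with hG'
  have hcard : Nat.card G' = c / r := by
    rw [hG', Nat.card_zpowers, orderOf_pow_of_dvd hr.ne_zero (by rw [hφ]; exact hrc), hφ]
  set E : IntermediateField F K := IntermediateField.fixedField G' with hE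
  have h1 : Module.finrank E K = c / r := by
    rw [hE, IntermediateField.finrank_fixedField_eq_card, hcard]
  have h2 : Module.finrank F E * Module.finrank E K = c := by
    rw [Module.finrank_mul_finrank, hK.finrank_eq]
  have hEr : Module.finrank F E = r := by
    rw [h1] at h2
    obtain ⟨k, rfl⟩ := hrc
    have hk : 0 < k := by
      rcases Nat.eq_zero_or_pos k with h | h
      · subst h; simp at hcpos
      · exact h
    rw [Nat.mul_div_cancel_left k hr.pos] at h2
    exact Nat.eq_of_mul_eq_mul_right hk h2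
  -- membership in `E`
  have hmemE : ∀ x : K, x ∈ E ↔ x ^ (q ^ r) = x := by
    intro x
    rw [hE, IntermediateField.mem_fixedField_iff]
    constructor
    · intro h
      have := h (φ ^ r) (Subgroup.mem_zpowers _)
      rwa [hφapp] at this
    · intro h σ hσ
      have hle : G' ≤ MulAction.stabilizer Gal(K/F) x := by
        rw [hG', Subgroup.zpowers_le, MulAction.mem_stabilizer_iff, AlgEquiv.smul_def, hφapp]
        exact h
      have := hle hσ
      rwa [MulAction.mem_stabilizer_iff, AlgEquiv.smul_def] at this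
  refine ⟨E.toSubalgebra.map K.val, ⟨?_, ?_, ?_⟩, ?_⟩
  · rintro _ ⟨x, _, rfl⟩ _ ⟨y, _, rfl⟩
    exact hK.comm _ x.2 _ y.2
  · rintro _ ⟨x, hx, rfl⟩ h0
    have hx0 : x ≠ 0 := by
      rintro rfl
      exact h0 rfl
    refine ⟨K.val x⁻¹, ⟨x⁻¹, E.inv_mem hx, rfl⟩, ?_⟩
    have : x * x⁻¹ = 1 := mul_inv_cancel₀ hx0
    exact congrArg Subtype.val this
  · rw [← hEr]
    exact (Subalgebra.equivMapOfInjective E.toSubalgebra K.val Subtype.val_injective).toLinearEquiv.finrank_eq.symm
  · apply le_subalgebraNormalizer_of_conj_mem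
    rintro g hg _ ⟨x, hx, rfl⟩
    have hgx : (g : Matrix (Fin n) (Fin n) F) * (x : Matrix (Fin n) (Fin n) F) *
        ((g⁻¹ : GL (Fin n) F) : Matrix (Fin n) (Fin n) F) ∈ K := (hg _).1 x.2
    refine ⟨⟨_, hgx⟩, ?_, rfl⟩
    have hx' : x ^ (q ^ r) = x := (hmemE x).1 hx
    show (⟨_, hgx⟩ : K) ∈ E
    rw [hmemE]
    apply Subtype.ext
    have h3 : ((x ^ (q ^ r) : K) : Matrix (Fin n) (Fin n) F) = (x : Matrix (Fin n) (Fin n) F) ^ (q ^ r) := rfl
    have h4 : (((⟨_, hgx⟩ : K) ^ (q ^ r) : K) : Matrix (Fin n) (Fin n) F) =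
        ((g : Matrix (Fin n) (Fin n) F) * (x : Matrix (Fin n) (Fin n) F) *
        ((g⁻¹ : GL (Fin n) F) : Matrix (Fin n) (Fin n) F)) ^ (q ^ r) := rfl
    rw [h4, conj_pow, ← h3, hx']

end Cfsg.Agent.Helper9.AschComp
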