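import Mathlib
import Cfsg.Prelude.Def_GeometricClasses
import Cfsg.Agent.Helper9.AschPPFinalA
import Cfsg.Agent.Helper9.AschPPT6

/-!
# ASCH-PP finals (helper9): `SL_8` (S5817) and `SL_4` (S5781), modulo the pieces G3, T4 (and T7 for `SL_4`)
-/

set_option autoImplicit false
set_option linter.unusedVariables false

namespace Cfsg.Agent.Helper9.AschPP

open Cfsg Cfsg.Geo Cfsg.Agent.Lead.Asch Cfsg.Agent.Helper6.AschComp Cfsg.Agent.Helper9.AschC6
open Cfsg.Agent.Helper6.AschGen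
open scoped MatrixGroups Matrix

/-- the statement of piece T4 -/
def T4Stmt (n : ℕ) (F : Type*) [Field F] [Fintype F] : Prop :=
  ∀ (k : ℕ), 1 ≤ k → ∀ (e : Fin n ≃ (Fin k → Fin 2)) (P : GL (Fin n) F),
    (∃ f : (Fin n → F) → (Fin n → F) → F, IsSymplecticForm f ∧ tensorWreathSubgroup 2 k e P ≤ similarityGroup f) ∨
    (Odd (Fintype.card F) ∧ ∃ Q : (Fin n → F) → F, IsNondegenerateQuadraticForm Q ∧
      tensorWreathSubgroup 2 k e P ≤ quadSimilarityGroup Q)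

/-- the statement of piece T7 -/
def T7Stmt (F : Type*) [Field F] [Fintype F] : Prop :=
  Fintype.card F = 5 → ∀ (D : Fin 4 → Submodule F (Fin 4 → F)), IsMDecomposition 1 D →
    ∃ R : Subgroup (GL (Fin 4) F), IsLinearSymplecticTypeData 2 R ∧ R ≤ specialLinear (Fin 4) F ∧
      decompositionStabilizer D ⊓ specialLinear (Fin 4) F ≤ subgroupNormalizer R

theorem card_ne_six {F : Type*} [Field F] [Fintype F] : Fintype.card F ≠ 6 := by
  intro h6
  obtain ⟨p, _, k, hp, hk⟩ := FiniteField.card' F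
  rw [h6] at hk
  have hp6 : p ∣ 6 := by
    rw [hk]; exact dvd_pow_self p k.ne_zero
  have hp6' : p ≤ 6 := Nat.le_of_dvd (by norm_num) hp6
  have hp2 := hp.two_le
  have h23 : p = 2 ∨ p = 3 := by
    interval_cases p
    · exact Or.inl rfl
    · exact Or.inr rfl
    · exact absurd hp (by norm_num)
    · exact absurd hp6 (by norm_num)
    · exact absurd hp (by norm_num)
  rcases h23 with rfl | rfl
  · have : (3 : ℕ) ∣ 2 ^ (k : ℕ) := by rw [← hk]; norm_num
    have := Nat.Prime.dvd_of_dvd_pow Nat.prime_three this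
    omega
  · have : (2 : ℕ) ∣ 3 ^ (k : ℕ) := by rw [← hk]; norm_num
    have := Nat.Prime.dvd_of_dvd_pow Nat.prime_two this
    omega

theorem final8 {F : Type*} [Field F] [Fintype F] (hG3 : G3Stmt 8 F) (hT4 : T4Stmt 8 F)
    (H : Subgroup (Matrix.GeneralLinearGroup (Fin 8) F)) (hH : Cfsg.Geo.IsMaximalIn (Cfsg.Geo.specialLinear (Fin 8) F) H) :
    (∃ W : Submodule F (Fin 8 → F), W ≠ ⊥ ∧ W ≠ ⊤ ∧ H = Cfsg.Geo.subspaceStabilizer W ⊓ Cfsg.Geo.specialLinear (Fin 8) F) ∨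
    (5 ≤ Fintype.card F ∧ ∃ D : Fin 8 → Submodule F (Fin 8 → F), Cfsg.Geo.IsMDecomposition 1 D ∧ H = Cfsg.Geo.decompositionStabilizer D ⊓ Cfsg.Geo.specialLinear (Fin 8) F) ∨
    (3 ≤ Fintype.card F ∧ ∃ D : Fin 4 → Submodule F (Fin 8 → F), Cfsg.Geo.IsMDecomposition 2 D ∧ H = Cfsg.Geo.decompositionStabilizer D ⊓ Cfsg.Geo.specialLinear (Fin 8) F) ∨
    (∃ D : Fin 2 → Submodule F (Fin 8 → F), Cfsg.Geo.IsMDecomposition 4 D ∧ H = Cfsg.Geo.decompositionStabilizer D ⊓ Cfsg.Geo.specialLinear (Fin 8) F) ∨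
    (∃ K : Subalgebra F (Matrix (Fin 8) (Fin 8) F), Cfsg.Geo.IsFieldSubalgebra 2 K ∧ H = Cfsg.Geo.subalgebraNormalizer K ⊓ Cfsg.Geo.specialLinear (Fin 8) F) ∨
    (3 ≤ Fintype.card F ∧ ∃ (e : Fin 8 ≃ Fin 2 × Fin 4) (P : Matrix.GeneralLinearGroup (Fin 8) F), H = Cfsg.Geo.tensorProductSubgroup 2 4 e P ⊓ Cfsg.Geo.specialLinear (Fin 8) F) ∨
    (∃ (F₀ : Subfield F) (r : ℕ) (P : Matrix.GeneralLinearGroup (Fin 8) F), r.Prime ∧ Fintype.card F = Nat.card F₀ ^ r ∧ H = Cfsg.Geo.subfieldSubgroup F₀ P ⊓ Cfsg.Geo.specialLinear (Fin 8) F) ∨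
    ((∃ p : ℕ, p.Prime ∧ Fintype.card F = p ∧ (p % 4 = 1)) ∧ ∃ R : Subgroup (Matrix.GeneralLinearGroup (Fin 8) F), Cfsg.Geo.IsLinearSymplecticTypeData 2 R ∧ H = Cfsg.Geo.subgroupNormalizer R ⊓ Cfsg.Geo.specialLinear (Fin 8) F) ∨
    (Odd (Fintype.card F) ∧ ∃ Q : (Fin 8 → F) → F, Cfsg.Geo.IsNondegenerateQuadraticForm Q ∧ H = Cfsg.Geo.quadSimilarityGroup Q ⊓ Cfsg.Geo.specialLinear (Fin 8) F) ∨
    (∃ f : (Fin 8 → F) → (Fin 8 → F) → F, Cfsg.Geo.IsSymplecticForm f ∧ H = Cfsg.Geo.similarityGroup f ⊓ Cfsg.Geo.specialLinear (Fin 8) F) ∨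
    (∃ (σ : F ≃+* F) (f : (Fin 8 → F) → (Fin 8 → F) → F), Cfsg.Geo.IsUnitaryForm σ f ∧ H = Cfsg.Geo.similarityGroup f ⊓ Cfsg.Geo.specialLinear (Fin 8) F) ∨
    Cfsg.Geo.InLinearResidualClass H := by
  have hq2 : 2 ≤ Fintype.card F := Fintype.one_lt_card
  have exitS : ∀ f : (Fin 8 → F) → (Fin 8 → F) → F, IsSymplecticForm f → H ≤ similarityGroup f →
      H = similarityGroup f ⊓ specialLinear (Fin 8) F := fun f hf hle =>
    eq_inf_of_le hH hle (Cfsg.Agent.Helper9.AschCompK.not_le_similarityGroup_symplectic (by norm_num) f hf)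
  have exitQ : ∀ Q : (Fin 8 → F) → F, IsNondegenerateQuadraticForm Q → H ≤ quadSimilarityGroup Q →
      H = quadSimilarityGroup Q ⊓ specialLinear (Fin 8) F := fun Q hQ hle =>
    eq_inf_of_le hH hle (Cfsg.Agent.Helper7.Asch.not_le_quadSimilarityGroup (by norm_num) Q hQ)
  rcases asch_gen_max (perfCase (by norm_num)) (sympCase (by norm_num) hG3) (by norm_num) H hH with
    h | h | h | h | h | h | h | h | h | h | h
  · exact Or.inl h
  · obtain ⟨t, m, D, hD, htm, h1, h2, hHD⟩ := h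
    have ht2 := hD.two_le
    have hm := hD.pos
    have ht8 : t ≤ 8 := by nlinarith
    interval_cases t
    · have hm4 : m = 4 := by omega
      subst hm4
      exact Or.inr (Or.inr (Or.inr (Or.inl ⟨D, hD, hHD⟩)))
    · exfalso; omega
    · have hm2 : m = 2 := by omega
      subst hm2
      refine Or.inr (Or.inr (Or.inl ⟨?_, D, hD, hHD⟩))
      by_contra hlt
      exact h2 ⟨rfl, by omega⟩
    · exfalso; omega
    · exfalso; omega
    · exfalso; omega
    · have hm1 : m = 1 := by omega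
      subst hm1
      refine Or.inr (Or.inl ⟨?_, D, hD, hHD⟩)
      by_contra hlt
      exact h1 ⟨rfl, by omega⟩
  · obtain ⟨r, K, hr, hrn, hK, hHK⟩ := h
    have hr8 : r ≤ 8 := Nat.le_of_dvd (by norm_num) hrn
    have hr2 := hr.two_le
    interval_cases r
    · exact Or.inr (Or.inr (Or.inr (Or.inr (Or.inl ⟨K, hK, hHK⟩))))
    · exact absurd hrn (by norm_num)
    · exact absurd hr (by norm_num)
    · exact absurd hrn (by norm_num)
    · exact absurd hr (by norm_num)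
    · exact absurd hrn (by norm_num)
    · exact absurd hr (by norm_num)
  · obtain ⟨n₁, n₂, e, P, h1, h2, hq, hHT⟩ := h
    have hcard := card_of_equiv_prod e
    have hn1 : n₁ ≤ 4 := by nlinarith
    interval_cases n₁
    · have : n₂ = 4 := by omega
      subst this
      refine Or.inr (Or.inr (Or.inr (Or.inr (Or.inr (Or.inl ⟨?_, e, P, hHT⟩)))))
      by_contra hlt
      exact hq ⟨Or.inl rfl, by omega⟩
    · exfalso; omega
    · have : n₂ = 2 := by omega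
      subst this
      rw [Cfsg.Agent.Helper9.AschComp.tensorProductSubgroup_swap] at hHT
      refine Or.inr (Or.inr (Or.inr (Or.inr (Or.inr (Or.inl ⟨?_, _, P, hHT⟩)))))
      by_contra hlt
      exact hq ⟨Or.inr rfl, by omega⟩
  · exact Or.inr (Or.inr (Or.inr (Or.inr (Or.inr (Or.inr (Or.inl h))))))
  · obtain ⟨r, a, R, hr, hra, hR, hHR⟩ := h
    have hr2' : r = 2 := by
      have hrd : r ∣ 8 := by
        rcases a with _ | a
        · simp at hra
        · rw [hra, pow_succ]; exact dvd_mul_left _ _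
      have hr8 : r ≤ 8 := Nat.le_of_dvd (by norm_num) hrd
      have hr2 := hr.two_le
      interval_cases r
      · rfl
      · exact absurd hrd (by norm_num)
      · exact absurd hr (by norm_num)
      · exact absurd hrd (by norm_num)
      · exact absurd hr (by norm_num)
      · exact absurd hrd (by norm_num)
      · exact absurd hr (by norm_num)
    subst hr2'
    exact Or.inr (Or.inr (Or.inr (Or.inr (Or.inr (Or.inr (Or.inr (Or.inl
      ⟨c6_field_two (by norm_num) hR, R, hR, hHR⟩)))))))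
  · obtain ⟨d, k, e, Pm, hd, hk, hle⟩ := h
    obtain ⟨rfl, rfl⟩ := pow_eq_eight hd hk (card_of_equiv_pi e)
    rcases hT4 3 (by norm_num) e Pm with ⟨f, hf, hfle⟩ | ⟨ho, Q, hQ, hQle⟩
    · exact Or.inr (Or.inr (Or.inr (Or.inr (Or.inr (Or.inr (Or.inr (Or.inr (Or.inr (Or.inl
        ⟨f, hf, exitS f hf (hle.trans hfle)⟩)))))))))
    · exact Or.inr (Or.inr (Or.inr (Or.inr (Or.inr (Or.inr (Or.inr (Or.inr (Or.inl
        ⟨ho, Q, hQ, exitQ Q hQ (hle.trans hQle)⟩))))))))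
  · exact Or.inr (Or.inr (Or.inr (Or.inr (Or.inr (Or.inr (Or.inr (Or.inr (Or.inl h))))))))
  · exact Or.inr (Or.inr (Or.inr (Or.inr (Or.inr (Or.inr (Or.inr (Or.inr (Or.inr (Or.inl h)))))))))
  · exact Or.inr (Or.inr (Or.inr (Or.inr (Or.inr (Or.inr (Or.inr (Or.inr (Or.inr (Or.inr (Or.inl h))))))))))
  · exact Or.inr (Or.inr (Or.inr (Or.inr (Or.inr (Or.inr (Or.inr (Or.inr (Or.inr (Or.inr (Or.inr h))))))))))

theorem final4 {F : Type*} [Field F] [Fintype F] (hG3 : G3Stmt 4 F) (hT4 : T4Stmt 4 F) (hT7 : T7Stmt F)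
    (H : Subgroup (Matrix.GeneralLinearGroup (Fin 4) F)) (hH : Cfsg.Geo.IsMaximalIn (Cfsg.Geo.specialLinear (Fin 4) F) H) :
    (∃ W : Submodule F (Fin 4 → F), W ≠ ⊥ ∧ W ≠ ⊤ ∧ H = Cfsg.Geo.subspaceStabilizer W ⊓ Cfsg.Geo.specialLinear (Fin 4) F) ∨
    (7 ≤ Fintype.card F ∧ ∃ D : Fin 4 → Submodule F (Fin 4 → F), Cfsg.Geo.IsMDecomposition 1 D ∧ H = Cfsg.Geo.decompositionStabilizer D ⊓ Cfsg.Geo.specialLinear (Fin 4) F) ∨
    (4 ≤ Fintype.card F ∧ ∃ D : Fin 2 → Submodule F (Fin 4 → F), Cfsg.Geo.IsMDecomposition 2 D ∧ H = Cfsg.Geo.decompositionStabilizer D ⊓ Cfsg.Geo.specialLinear (Fin 4) F) ∨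
    (∃ K : Subalgebra F (Matrix (Fin 4) (Fin 4) F), Cfsg.Geo.IsFieldSubalgebra 2 K ∧ H = Cfsg.Geo.subalgebraNormalizer K ⊓ Cfsg.Geo.specialLinear (Fin 4) F) ∨
    (∃ (F₀ : Subfield F) (r : ℕ) (P : Matrix.GeneralLinearGroup (Fin 4) F), r.Prime ∧ Fintype.card F = Nat.card F₀ ^ r ∧ H = Cfsg.Geo.subfieldSubgroup F₀ P ⊓ Cfsg.Geo.specialLinear (Fin 4) F) ∨
    (∃ (p : ℕ) (R : Subgroup (Matrix.GeneralLinearGroup (Fin 4) F)), p.Prime ∧ Fintype.card F = p ∧ p % 4 = 1 ∧ Cfsg.Geo.IsLinearSymplecticTypeData 2 R ∧ H = Cfsg.Geo.subgroupNormalizer R ⊓ Cfsg.Geo.specialLinear (Fin 4) F) ∨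
    (Odd (Fintype.card F) ∧ ∃ Q : (Fin 4 → F) → F, Cfsg.Geo.IsNondegenerateQuadraticForm Q ∧ H = Cfsg.Geo.quadSimilarityGroup Q ⊓ Cfsg.Geo.specialLinear (Fin 4) F) ∨
    (∃ f : (Fin 4 → F) → (Fin 4 → F) → F, Cfsg.Geo.IsSymplecticForm f ∧ H = Cfsg.Geo.similarityGroup f ⊓ Cfsg.Geo.specialLinear (Fin 4) F) ∨
    (∃ (σ : F ≃+* F) (f : (Fin 4 → F) → (Fin 4 → F) → F), Cfsg.Geo.IsUnitaryForm σ f ∧ H = Cfsg.Geo.similarityGroup f ⊓ Cfsg.Geo.specialLinear (Fin 4) F) ∨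
    Cfsg.Geo.InLinearResidualClass H := by
  have hq2 : 2 ≤ Fintype.card F := Fintype.one_lt_card
  have exitS : ∀ f : (Fin 4 → F) → (Fin 4 → F) → F, IsSymplecticForm f → H ≤ similarityGroup f →
      H = similarityGroup f ⊓ specialLinear (Fin 4) F := fun f hf hle =>
    eq_inf_of_le hH hle (Cfsg.Agent.Helper9.AschCompK.not_le_similarityGroup_symplectic (by norm_num) f hf)
  have exitQ : ∀ Q : (Fin 4 → F) → F, IsNondegenerateQuadraticForm Q → H ≤ quadSimilarityGroup Q →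
      H = quadSimilarityGroup Q ⊓ specialLinear (Fin 4) F := fun Q hQ hle =>
    eq_inf_of_le hH hle (Cfsg.Agent.Helper7.Asch.not_le_quadSimilarityGroup (by norm_num) Q hQ)
  have exitTW : ∀ (e : Fin 4 ≃ (Fin 2 → Fin 2)) (P : GL (Fin 4) F), H ≤ tensorWreathSubgroup 2 2 e P →
      (Odd (Fintype.card F) ∧ ∃ Q : (Fin 4 → F) → F, IsNondegenerateQuadraticForm Q ∧
        H = quadSimilarityGroup Q ⊓ specialLinear (Fin 4) F) ∨
      (∃ f : (Fin 4 → F) → (Fin 4 → F) → F, IsSymplecticForm f ∧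
        H = similarityGroup f ⊓ specialLinear (Fin 4) F) := by
    intro e P hle
    rcases hT4 2 (by norm_num) e P with ⟨f, hf, hfle⟩ | ⟨ho, Q, hQ, hQle⟩
    · exact Or.inr ⟨f, hf, exitS f hf (hle.trans hfle)⟩
    · exact Or.inl ⟨ho, Q, hQ, exitQ Q hQ (hle.trans hQle)⟩
  rcases asch_gen_max (perfCase (by norm_num)) (sympCase (by norm_num) hG3) (by norm_num) H hH with
    h | h | h | h | h | h | h | h | h | h | h
  · exact Or.inl h
  · obtain ⟨t, m, D, hD, htm, h1, h2, hHD⟩ := h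
    have ht2 := hD.two_le
    have hm := hD.pos
    have ht4 : t ≤ 4 := by nlinarith
    interval_cases t
    · have hm2 : m = 2 := by omega
      subst hm2
      by_cases hq3 : Fintype.card F = 3
      · obtain ⟨f, hf, hfle⟩ := c2_planes_three hq3 D hD
        have hle : H ≤ similarityGroup f := by rw [hHD]; exact hfle
        exact Or.inr (Or.inr (Or.inr (Or.inr (Or.inr (Or.inr (Or.inr (Or.inl ⟨f, hf, exitS f hf hle⟩)))))))
      · refine Or.inr (Or.inr (Or.inl ⟨?_, D, hD, hHD⟩))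
        by_contra hlt
        exact h2 ⟨rfl, by omega⟩
    · exfalso; omega
    · have hm1 : m = 1 := by omega
      subst hm1
      by_cases hq5 : Fintype.card F = 5
      · obtain ⟨R, hR, hRS, hRle⟩ := hT7 hq5 D hD
        have hle : H ≤ subgroupNormalizer R := by rw [hHD]; exact hRle
        obtain ⟨p, hp, hcard, hp4⟩ := c6_field_two (n := 4) (by norm_num) hR
        exact Or.inr (Or.inr (Or.inr (Or.inr (Or.inr (Or.inl ⟨p, R, hp, hcard, hp4, hR,
          eq_inf_of_le hH hle (not_le_subgroupNormalizer_symplecticType (by norm_num) hR hRS)⟩)))))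
      · refine Or.inr (Or.inl ⟨?_, D, hD, hHD⟩)
        have h6 := card_ne_six (F := F)
        by_contra hlt
        exact h1 ⟨rfl, by omega⟩
  · obtain ⟨r, K, hr, hrn, hK, hHK⟩ := h
    have hr4 : r ≤ 4 := Nat.le_of_dvd (by norm_num) hrn
    have hr2 := hr.two_le
    interval_cases r
    · exact Or.inr (Or.inr (Or.inr (Or.inl ⟨K, hK, hHK⟩)))
    · exact absurd hrn (by norm_num)
    · exact absurd hr (by norm_num)
  · obtain ⟨n₁, n₂, e, P, h1, h2, hq, hHT⟩ := h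
    have hcard := card_of_equiv_prod e
    have hn1 : n₁ ≤ 2 := by nlinarith
    have hn12 : n₁ = 2 ∧ n₂ = 2 := by
      interval_cases n₁
      omega
    obtain ⟨rfl, rfl⟩ := hn12
    obtain ⟨e', he'⟩ := tensorProductSubgroup_le_tensorWreath 2 e P
    have hle : H ≤ tensorWreathSubgroup 2 2 e' P := by
      rw [hHT]
      exact inf_le_left.trans he'
    rcases exitTW e' P hle with h | h
    · exact Or.inr (Or.inr (Or.inr (Or.inr (Or.inr (Or.inr (Or.inl h))))))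
    · exact Or.inr (Or.inr (Or.inr (Or.inr (Or.inr (Or.inr (Or.inr (Or.inl h)))))))
  · exact Or.inr (Or.inr (Or.inr (Or.inr (Or.inl h))))
  · obtain ⟨r, a, R, hr, hra, hR, hHR⟩ := h
    have hr2' : r = 2 := by
      have hrd : r ∣ 4 := by
        rcases a with _ | a
        · simp at hra
        · rw [hra, pow_succ]; exact dvd_mul_left _ _
      have hr4 : r ≤ 4 := Nat.le_of_dvd (by norm_num) hrd
      have hr2 := hr.two_le
      interval_cases r
      · rfl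
      · exact absurd hrd (by norm_num)
      · exact absurd hr (by norm_num)
    subst hr2'
    obtain ⟨p, hp, hcard, hp4⟩ := c6_field_two (n := 4) (by norm_num) hR
    exact Or.inr (Or.inr (Or.inr (Or.inr (Or.inr (Or.inl ⟨p, R, hp, hcard, hp4, hR, hHR⟩)))))
  · obtain ⟨d, k, e, Pm, hd, hk, hle⟩ := h
    obtain ⟨rfl, rfl⟩ := pow_eq_four hd hk (card_of_equiv_pi e)
    rcases exitTW e Pm hle with h | h
    · exact Or.inr (Or.inr (Or.inr (Or.inr (Or.inr (Or.inr (Or.inl h))))))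
    · exact Or.inr (Or.inr (Or.inr (Or.inr (Or.inr (Or.inr (Or.inr (Or.inl h)))))))
  · exact Or.inr (Or.inr (Or.inr (Or.inr (Or.inr (Or.inr (Or.inl h))))))
  · exact Or.inr (Or.inr (Or.inr (Or.inr (Or.inr (Or.inr (Or.inr (Or.inl h)))))))
  · exact Or.inr (Or.inr (Or.inr (Or.inr (Or.inr (Or.inr (Or.inr (Or.inr (Or.inl h))))))))
  · exact Or.inr (Or.inr (Or.inr (Or.inr (Or.inr (Or.inr (Or.inr (Or.inr (Or.inr h))))))))

end Cfsg.Agent.Helper9.AschPP
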