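import Mathlib
import Cfsg.Prelude.Def_GeometricClasses
import Cfsg.Agent.Helper9.AschPPFinalA

/-!
# ASCH-PP finals (helper9): `SL_9` (S5829), modulo piece G3
-/

set_option autoImplicit false
set_option linter.unusedVariables false

namespace Cfsg.Agent.Helper9.AschPP

open Cfsg Cfsg.Geo Cfsg.Agent.Lead.Asch Cfsg.Agent.Helper6.AschComp Cfsg.Agent.Helper9.AschC6
open Cfsg.Agent.Helper6.AschGen
open scoped MatrixGroups Matrix

theorem final9 {F : Type*} [Field F] [Fintype F] (hG3 : G3Stmt 9 F)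
    (H : Subgroup (Matrix.GeneralLinearGroup (Fin 9) F))
    (hH : Cfsg.Geo.IsMaximalIn (Cfsg.Geo.specialLinear (Fin 9) F) H) :
    (∃ W : Submodule F (Fin 9 → F), W ≠ ⊥ ∧ W ≠ ⊤ ∧ H = Cfsg.Geo.subspaceStabilizer W ⊓ Cfsg.Geo.specialLinear (Fin 9) F) ∨
    (5 ≤ Fintype.card F ∧ ∃ D : Fin 9 → Submodule F (Fin 9 → F), Cfsg.Geo.IsMDecomposition 1 D ∧ H = Cfsg.Geo.decompositionStabilizer D ⊓ Cfsg.Geo.specialLinear (Fin 9) F) ∨
    (∃ D : Fin 3 → Submodule F (Fin 9 → F), Cfsg.Geo.IsMDecomposition 3 D ∧ H = Cfsg.Geo.decompositionStabilizer D ⊓ Cfsg.Geo.specialLinear (Fin 9) F) ∨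
    (∃ K : Subalgebra F (Matrix (Fin 9) (Fin 9) F), Cfsg.Geo.IsFieldSubalgebra 3 K ∧ H = Cfsg.Geo.subalgebraNormalizer K ⊓ Cfsg.Geo.specialLinear (Fin 9) F) ∨
    (∃ (F₀ : Subfield F) (r : ℕ) (P : Matrix.GeneralLinearGroup (Fin 9) F), r.Prime ∧ Fintype.card F = Nat.card F₀ ^ r ∧ H = Cfsg.Geo.subfieldSubgroup F₀ P ⊓ Cfsg.Geo.specialLinear (Fin 9) F) ∨
    ((∃ p : ℕ, p.Prime ∧ Fintype.card F = p ∧ (p % 3 = 1)) ∧ ∃ R : Subgroup (Matrix.GeneralLinearGroup (Fin 9) F), Cfsg.Geo.IsLinearSymplecticTypeData 3 R ∧ H = Cfsg.Geo.subgroupNormalizer R ⊓ Cfsg.Geo.specialLinear (Fin 9) F) ∨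
    (∃ (e : Fin 9 ≃ (Fin 2 → Fin 3)) (P : Matrix.GeneralLinearGroup (Fin 9) F), H = Cfsg.Geo.tensorWreathSubgroup 3 2 e P ⊓ Cfsg.Geo.specialLinear (Fin 9) F) ∨
    (Odd (Fintype.card F) ∧ ∃ Q : (Fin 9 → F) → F, Cfsg.Geo.IsNondegenerateQuadraticForm Q ∧ H = Cfsg.Geo.quadSimilarityGroup Q ⊓ Cfsg.Geo.specialLinear (Fin 9) F) ∨
    (∃ (σ : F ≃+* F) (f : (Fin 9 → F) → (Fin 9 → F) → F), Cfsg.Geo.IsUnitaryForm σ f ∧ H = Cfsg.Geo.similarityGroup f ⊓ Cfsg.Geo.specialLinear (Fin 9) F) ∨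
    Cfsg.Geo.InLinearResidualClass H := by
  have hq2 : 2 ≤ Fintype.card F := Fintype.one_lt_card
  have exitTW : ∀ (e : Fin 9 ≃ (Fin 2 → Fin 3)) (P : GL (Fin 9) F), H ≤ tensorWreathSubgroup 3 2 e P →
      H = tensorWreathSubgroup 3 2 e P ⊓ specialLinear (Fin 9) F := fun e P hle =>
    eq_inf_of_le hH hle (Cfsg.Agent.Helper7.AschPP.not_le_tensorWreathSubgroup 3 2 (by norm_num) (by norm_num) e P)
  rcases asch_gen_max (perfCase (by norm_num)) (sympCase (by norm_num) hG3) (by norm_num) H hH with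
    h | h | h | h | h | h | h | h | h | h | h
  · exact Or.inl h
  · obtain ⟨t, m, D, hD, htm, h1, h2, hHD⟩ := h
    have ht2 := hD.two_le
    have hm := hD.pos
    have ht9 : t ≤ 9 := by nlinarith
    interval_cases t
    · exfalso; omega
    · have hm3 : m = 3 := by omega
      subst hm3
      exact Or.inr (Or.inr (Or.inl ⟨D, hD, hHD⟩))
    · exfalso; omega
    · exfalso; omega
    · exfalso; omega
    · exfalso; omega
    · exfalso; omega
    · have hm1 : m = 1 := by omega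
      subst hm1
      refine Or.inr (Or.inl ⟨?_, D, hD, hHD⟩)
      by_contra hlt
      exact h1 ⟨rfl, by omega⟩
  · obtain ⟨r, K, hr, hrn, hK, hHK⟩ := h
    have hr9 : r ≤ 9 := Nat.le_of_dvd (by norm_num) hrn
    have hr2 := hr.two_le
    interval_cases r
    · exact absurd hrn (by norm_num)
    · exact Or.inr (Or.inr (Or.inr (Or.inl ⟨K, hK, hHK⟩)))
    · exact absurd hr (by norm_num)
    · exact absurd hrn (by norm_num)
    · exact absurd hr (by norm_num)
    · exact absurd hrn (by norm_num)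
    · exact absurd hr (by norm_num)
    · exact absurd hr (by norm_num)
  · obtain ⟨n₁, n₂, e, P, h1, h2, hq, hHT⟩ := h
    have hcard := card_of_equiv_prod e
    have hn1 : n₁ ≤ 4 := by nlinarith
    have hn13 : n₁ = 3 ∧ n₂ = 3 := by
      interval_cases n₁
      · omega
      · omega
      · omega
    obtain ⟨rfl, rfl⟩ := hn13
    obtain ⟨e', he'⟩ := tensorProductSubgroup_le_tensorWreath 3 e P
    have hle : H ≤ tensorWreathSubgroup 3 2 e' P := by
      rw [hHT]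
      exact inf_le_left.trans he'
    exact Or.inr (Or.inr (Or.inr (Or.inr (Or.inr (Or.inr (Or.inl ⟨e', P, exitTW e' P hle⟩))))))
  · exact Or.inr (Or.inr (Or.inr (Or.inr (Or.inl h))))
  · obtain ⟨r, a, R, hr, hra, hR, hHR⟩ := h
    have hr3 : r = 3 := by
      have hrd : r ∣ 9 := by
        rcases a with _ | a
        · simp at hra
        · rw [hra, pow_succ]; exact dvd_mul_left _ _
      have hr9 : r ≤ 9 := Nat.le_of_dvd (by norm_num) hrd
      have hr2 := hr.two_le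
      interval_cases r
      · exact absurd hrd (by norm_num)
      · rfl
      · exact absurd hr (by norm_num)
      · exact absurd hrd (by norm_num)
      · exact absurd hr (by norm_num)
      · exact absurd hrd (by norm_num)
      · exact absurd hr (by norm_num)
      · exact absurd hr (by norm_num)
    subst hr3
    exact Or.inr (Or.inr (Or.inr (Or.inr (Or.inr (Or.inl ⟨c6_field_three hR, R, hR, hHR⟩)))))
  · obtain ⟨d, k, e, Pm, hd, hk, hle⟩ := h
    obtain ⟨rfl, rfl⟩ := pow_eq_nine hd hk (card_of_equiv_pi e)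
    exact Or.inr (Or.inr (Or.inr (Or.inr (Or.inr (Or.inr (Or.inl ⟨e, Pm, exitTW e Pm hle⟩))))))
  · exact Or.inr (Or.inr (Or.inr (Or.inr (Or.inr (Or.inr (Or.inr (Or.inl h)))))))
  · obtain ⟨f, hf, -⟩ := h
    exact absurd hf (Cfsg.Agent.Helper3.Asch.no_symplectic_of_odd (by decide) f)
  · exact Or.inr (Or.inr (Or.inr (Or.inr (Or.inr (Or.inr (Or.inr (Or.inr (Or.inl h))))))))
  · exact Or.inr (Or.inr (Or.inr (Or.inr (Or.inr (Or.inr (Or.inr (Or.inr (Or.inr h))))))))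

end Cfsg.Agent.Helper9.AschPP
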