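import Mathlib
import Cfsg.Agent.Helper9.AschPPT7B

/-!
# ASCH-PP piece T7, part C (helper9): monomial matrices of determinant one normalise the image of `HW`

Here `F` is a field in which every non-zero element is a power of `ζ`, `ζ² = -1` (the field with five elements).
-/

set_option autoImplicit false
set_option linter.unusedVariables false

namespace Cfsg.Agent.Helper9.AschPP

open scoped Matrix

variable {F : Type*} [Field F]

/-- a sign function with product one, normalised at `0`, is a character -/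
theorem exists_char (h2 : (2 : F) ≠ 0) (ε : V2 → F) (h0 : ε 0 = 1) (hsq : ∀ z, ε z = 1 ∨ ε z = -1)
    (hprod : ∏ z, ε z = 1) : ∃ u : V2, ∀ z, ε z = sgn F (dotV u z) := by
  rw [prod_V2] at hprod
  have h00 : ε (0, 0) = 1 := h0
  rw [h00, one_mul] at hprod
  have hs1 := hsq (0, 1)
  have hs2 := hsq (1, 0)
  have hs3 : ε (1, 1) = ε (0, 1) * ε (1, 0) := by
    have h1 : ε (0, 1) * ε (0, 1) = 1 := by rcases hs1 with h | h <;> rw [h] <;> ring
    have h2' : ε (1, 0) * ε (1, 0) = 1 := by rcases hs2 with h | h <;> rw [h] <;> ring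
    calc ε (1, 1) = (ε (0, 1) * ε (0, 1)) * (ε (1, 0) * ε (1, 0)) * ε (1, 1) := by rw [h1, h2']; ring
      _ = ε (0, 1) * ε (1, 0) * (ε (0, 1) * ε (1, 0) * ε (1, 1)) := by ring
      _ = ε (0, 1) * ε (1, 0) := by rw [hprod, mul_one]
  have key : ∀ a b : ZMod 2, ε (0, 1) = sgn F a → ε (1, 0) = sgn F b → ∀ z, ε z = sgn F (dotV (b, a) z) := by
    intro a b ha hb z
    rcases V2_cases z with rfl | rfl | rfl | rfl
    · rw [h00]; simp [dotV, sgn_zero]
    · rw [ha]; simp [dotV]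
    · rw [hb]; simp [dotV]
    · rw [hs3, ha, hb, ← sgn_add]; simp [dotV, add_comm]
  rcases hs1 with h1 | h1 <;> rcases hs2 with h2' | h2'
  · exact ⟨(0, 0), key 0 0 (by rw [h1, sgn_zero]) (by rw [h2', sgn_zero])⟩
  · exact ⟨(1, 0), key 0 1 (by rw [h1, sgn_zero]) (by rw [h2', sgn_one])⟩
  · exact ⟨(0, 1), key 1 0 (by rw [h1, sgn_one]) (by rw [h2', sgn_zero])⟩
  · exact ⟨(1, 1), key 1 1 (by rw [h1, sgn_one]) (by rw [h2', sgn_one])⟩

/-- the diagonal parts of the elements of the image: nowhere zero, constant squares, product one -/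
def IsD (d : V2 → F) : Prop := (∀ z, d z ≠ 0) ∧ (∀ z z', d z ^ 2 = d z' ^ 2) ∧ ∏ z, d z = 1

section five

variable {ζ : F} (hζ : ζ ^ 2 = -1) (h2 : (2 : F) ≠ 0) (hgen : ∀ x : F, x ≠ 0 → ∃ a : ZMod 4, x = ζ ^ a.val)

include hζ in
theorem pw_pow_four (a : ZMod 4) : (ζ ^ a.val) ^ 4 = 1 := by
  rw [← pow_mul, mul_comm, pow_mul, zeta_pow_four hζ, one_pow]

include hζ hgen in
theorem pow_four_eq_one (x : F) (hx : x ≠ 0) : x ^ 4 = 1 := by
  obtain ⟨a, rfl⟩ := hgen x hx
  exact pw_pow_four hζ a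

include hζ in
theorem isD_char (a : ZMod 4) (u : V2) : IsD (fun z => ζ ^ a.val * sgn F (dotV u z)) := by
  refine ⟨fun z => mul_ne_zero (pow_ne_zero _ (zeta_ne_zero hζ)) (sgn_ne_zero _), fun z z' => ?_, ?_⟩
  · simp only [mul_pow, sgn_sq]
  · rw [Finset.prod_mul_distrib, Finset.prod_const, Finset.card_univ, card_V2, prod_sgn_dotV, mul_one,
      pw_pow_four hζ]

include hζ h2 hgen in
theorem isD_exists {d : V2 → F} (hd : IsD d) : ∃ (a : ZMod 4) (u : V2), ∀ z, d z = ζ ^ a.val * sgn F (dotV u z) := by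
  obtain ⟨hne, hsq, hprod⟩ := hd
  obtain ⟨a, ha⟩ := hgen (d 0) (hne 0)
  have h04 : d 0 ^ 4 = 1 := pow_four_eq_one hζ hgen _ (hne 0)
  obtain ⟨u, hu⟩ := exists_char h2 (fun z => d z / d 0) (div_self (hne 0))
    (fun z => by
      have : (d z / d 0) ^ 2 = 1 := by rw [div_pow, hsq z 0, div_self (pow_ne_zero _ (hne 0))]
      exact sq_eq_one_iff.1 this)
    (by
      rw [Finset.prod_div_distrib, hprod, Finset.prod_const, Finset.card_univ, card_V2, h04, div_one])
  refine ⟨a, u, fun z => ?_⟩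
  rw [← ha, ← hu z]
  field_simp [hne 0]

theorem isD_comp {d : V2 → F} (hd : IsD d) (σ : Equiv.Perm V2) : IsD (fun z => d (σ z)) := by
  obtain ⟨hne, hsq, hprod⟩ := hd
  refine ⟨fun z => hne _, fun z z' => hsq _ _, ?_⟩
  rw [Equiv.prod_comp σ d, hprod]

theorem isD_mul {d d' : V2 → F} (hd : IsD d) (hd' : IsD d') : IsD (fun z => d z * d' z) := by
  obtain ⟨hne, hsq, hprod⟩ := hd
  obtain ⟨hne', hsq', hprod'⟩ := hd'
  refine ⟨fun z => mul_ne_zero (hne z) (hne' z), fun z z' => ?_, ?_⟩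
  · rw [mul_pow, mul_pow, hsq z z', hsq' z z']
  · rw [Finset.prod_mul_distrib, hprod, hprod', mul_one]

include hζ h2 hgen in
theorem isD_ratio (c : V2 → F) (hc : ∀ z, c z ≠ 0) (hprod : (∏ z, c z) ^ 2 = 1) (t : V2) :
    IsD (fun y => c (y + t) / c y) := by
  have hs : IsD (fun z => c z ^ 2) := by
    refine ⟨fun z => pow_ne_zero _ (hc z), fun z z' => ?_, ?_⟩
    · rw [← pow_mul, ← pow_mul]
      show c z ^ 4 = c z' ^ 4
      rw [pow_four_eq_one hζ hgen _ (hc z), pow_four_eq_one hζ hgen _ (hc z')]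
    · rw [Finset.prod_pow, hprod]
  obtain ⟨a, v, hv⟩ := isD_exists hζ h2 hgen hs
  have hza : ζ ^ a.val ≠ 0 := pow_ne_zero _ (zeta_ne_zero hζ)
  have hconst : ∀ y, (c (y + t) / c y) ^ 2 = sgn F (dotV v t) := by
    intro y
    have h1 := hv (y + t)
    have h2' := hv y
    rw [div_pow, h1, h2', dotV_add_right, sgn_add]
    have := sgn_ne_zero (F := F) (dotV v y)
    field_simp
  refine ⟨fun z => div_ne_zero (hc _) (hc _), fun z z' => ?_, ?_⟩
  · rw [hconst z, hconst z']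
  · rw [Finset.prod_div_distrib]
    have : ∏ y, c (y + t) = ∏ y, c y := Equiv.prod_comp (Equiv.addRight t) c
    rw [this, div_self]
    intro h0
    rw [h0] at hprod
    simp at hprod

include hζ h2 hgen in
/-- a monomial matrix of determinant one normalises the image of `HW` -/
theorem mon_normalizes (σ : Equiv.Perm V2) (c : V2 → F) (hc : ∀ z, c z ≠ 0) (hdet : (mon σ c).det = 1) (x : HW) :
    ∃ x' : HW, mon σ c * rhoMat ζ x = rhoMat ζ x' * mon σ c := by
  have hprod : (∏ z, c z) ^ 2 = 1 := by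
    rw [det_mon] at hdet
    have hs : ((Equiv.Perm.sign σ : ℤ) : F) ^ 2 = 1 := by
      rcases Int.units_eq_one_or (Equiv.Perm.sign σ) with h | h <;> rw [h] <;> simp
    calc (∏ z, c z) ^ 2 = (((Equiv.Perm.sign σ : ℤ) : F) * ∏ z, c z) ^ 2 := by rw [mul_pow, hs, one_mul]
      _ = 1 := by rw [hdet, one_pow]
  set d : V2 → F := fun y => ζ ^ x.a.val * sgn F (dotV x.u y) with hd
  have hdD : IsD d := isD_char hζ x.a x.u
  have hD' : IsD (fun z => (c (σ.symm z + x.t) / c (σ.symm z)) * d (σ.symm z)) :=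
    isD_comp (isD_mul (isD_ratio hζ h2 hgen c hc hprod x.t) hdD) σ.symm
  obtain ⟨a', u', hau⟩ := isD_exists hζ h2 hgen hD'
  refine ⟨⟨a', σ x.t + σ 0, u'⟩, ?_⟩
  rw [rhoMat_eq_mon, rhoMat_eq_mon, mon_mul, mon_mul]
  simp only
  congr 1
  · funext y
    simp only [Function.comp_apply]
    exact perm_affine σ y x.t
  · funext y
    have := hau (σ y)
    simp only [Equiv.symm_apply_apply] at this
    rw [← this, hd]
    field_simp [hc y]

end five

end Cfsg.Agent.Helper9.AschPP
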