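import Mathlib
import Cfsg.Prelude.Def_GeometricClasses
import Cfsg.Agent.Helper9.AschPPT7C
import Cfsg.Agent.Helper9.AschCompTensor

/-!
# ASCH-PP piece T7, part D (helper9): generic lemmas for the assembly

* a set of matrices spanning the matrix algebra acts absolutely irreducibly;
* "every characteristic abelian subgroup is cyclic" is invariant under isomorphism;
* the field with five elements: a generator `ζ` of the multiplicative group, `ζ² = -1`;
* conjugation of matrices by a linear equivalence `(V2 → F) ≃ (Fin 4 → F)`.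
-/

set_option autoImplicit false
set_option linter.unusedVariables false

namespace Cfsg.Agent.Helper9.AschPP

open Cfsg Cfsg.Geo
open scoped MatrixGroups Matrix

variable {F : Type*} [Field F]

/-- a set of matrices spanning the matrix algebra acts absolutely irreducibly -/
theorem absIrred_of_span_eq_top {n : ℕ} {S : Set (Matrix (Fin n) (Fin n) F)}
    (hS : Submodule.span F S = ⊤) : ActsAbsolutelyIrreducibly S := by
  have huniv := Cfsg.Agent.Helper9.AschComp.absIrred_univ (F := F) n
  constructor
  · intro W hW
    apply huniv.1 W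
    intro M _
    let A : Submodule F (Matrix (Fin n) (Fin n) F) :=
      { carrier := {M | ∀ v ∈ W, M *ᵥ v ∈ W}
        add_mem' := by
          intro M N hM hN v hv
          rw [Matrix.add_mulVec]
          exact W.add_mem (hM v hv) (hN v hv)
        zero_mem' := by
          intro v hv
          rw [Matrix.zero_mulVec]
          exact W.zero_mem
        smul_mem' := by
          intro c M hM v hv
          rw [Matrix.smul_mulVec]
          exact W.smul_mem c (hM v hv) }
    have hSA : S ⊆ A := by
      intro s hs v hv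
      have := hW s hs (Submodule.mem_map_of_mem hv)
      rwa [Matrix.toLin'_apply] at this
    have h := Submodule.span_le.2 hSA
    rw [hS] at h
    have hM : M ∈ A := h Submodule.mem_top
    rintro _ ⟨v, hv, rfl⟩
    rw [Matrix.toLin'_apply]
    exact hM v hv
  · intro M hM
    apply huniv.2 M
    intro N _
    let A : Submodule F (Matrix (Fin n) (Fin n) F) :=
      { carrier := {N | M * N = N * M}
        add_mem' := by
          intro N N' hN hN'
          show M * (N + N') = (N + N') * M
          rw [mul_add, add_mul, hN, hN']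
        zero_mem' := by
          show M * 0 = 0 * M
          rw [mul_zero, zero_mul]
        smul_mem' := by
          intro c N hN
          show M * (c • N) = (c • N) * M
          rw [Matrix.mul_smul, Matrix.smul_mul, hN] }
    have hSA : S ⊆ A := fun s hs => hM s hs
    have h := Submodule.span_le.2 hSA
    rw [hS] at h
    exact h Submodule.mem_top

/-- "every characteristic abelian subgroup is cyclic" is invariant under isomorphism -/
theorem cyclic_of_characteristic_of_mulEquiv {G H : Type*} [Group G] [Group H] (e : G ≃* H)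
    (hG : ∀ A : Subgroup G, A.Characteristic → IsMulCommutative A → IsCyclic A)
    (B : Subgroup H) (hB : B.Characteristic) (hBc : IsMulCommutative B) : IsCyclic B := by
  set A : Subgroup G := B.comap e.toMonoidHom with hA
  have hAchar : A.Characteristic := by
    rw [Subgroup.characteristic_iff_comap_eq]
    intro ϕ
    have h := Subgroup.characteristic_iff_comap_eq.1 hB ((e.symm.trans ϕ).trans e)
    ext x
    have h' : e x ∈ B.comap ((e.symm.trans ϕ).trans e).toMonoidHom ↔ e x ∈ B := by rw [h]
    simp only [Subgroup.mem_comap, MulEquiv.coe_toMonoidHom, MulEquiv.trans_apply,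
      MulEquiv.symm_apply_apply] at h'
    simp only [hA, Subgroup.mem_comap, MulEquiv.coe_toMonoidHom]
    exact h'
  have hAc : IsMulCommutative A := by
    refine ⟨⟨fun x y => ?_⟩⟩
    apply Subtype.ext
    apply e.injective
    have := hBc.is_comm.comm (⟨e x.1, x.2⟩ : B) ⟨e y.1, y.2⟩
    have := congrArg Subtype.val this
    simpa using this
  haveI := hG A hAchar hAc
  let f : A →* B :=
    { toFun := fun x => ⟨e x.1, x.2⟩
      map_one' := by apply Subtype.ext; simp
      map_mul' := by intro x y; apply Subtype.ext; simp }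
  have hf : Function.Surjective f := by
    rintro ⟨y, hy⟩
    refine ⟨⟨e.symm y, ?_⟩, ?_⟩
    · show e (e.symm y) ∈ B
      rw [MulEquiv.apply_symm_apply]; exact hy
    · apply Subtype.ext
      show e (e.symm y) = y
      rw [MulEquiv.apply_symm_apply]
  exact isCyclic_of_surjective f hf

/-- the field with five elements -/
theorem exists_zeta [Fintype F] (hq : Fintype.card F = 5) :
    CharP F 5 ∧ ∃ ζ : F, ζ ^ 2 = -1 ∧ (2 : F) ≠ 0 ∧ ∀ x : F, x ≠ 0 → ∃ a : ZMod 4, x = ζ ^ a.val := by
  classical
  haveI : Fact (Nat.Prime 5) := ⟨by norm_num⟩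
  haveI hch : CharP F 5 := charP_of_card_eq_prime hq
  refine ⟨hch, ?_⟩
  have h2 : (2 : F) ≠ 0 := by
    intro h
    have h' : ((2 : ℕ) : F) = 0 := by exact_mod_cast h
    rw [CharP.cast_eq_zero_iff F 5] at h'
    omega
  obtain ⟨g, hg⟩ := IsCyclic.exists_generator (α := Fˣ)
  have hord : orderOf g = 4 := by
    rw [orderOf_eq_card_of_forall_mem_zpowers hg, Nat.card_eq_fintype_card, Fintype.card_units, hq]
  have hg4 : g ^ 4 = 1 := by rw [← hord]; exact pow_orderOf_eq_one g
  have hg2 : g ^ 2 ≠ 1 := by
    intro h
    have := orderOf_dvd_of_pow_eq_one h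
    rw [hord] at this
    omega
  refine ⟨(g : F), ?_, h2, ?_⟩
  · have h1 : ((g : F) ^ 2) ^ 2 = 1 := by
      rw [← pow_mul]
      have := congrArg Units.val hg4
      simpa using this
    rcases sq_eq_one_iff.1 h1 with h | h
    · exfalso
      apply hg2
      apply Units.ext
      simpa using h
    · exact h
  · intro x hx
    obtain ⟨k, hk⟩ := hg (Units.mk0 x hx)
    refine ⟨(k : ZMod 4), ?_⟩
    have h1 : g ^ (k % 4) = g ^ k := by
      have := zpow_mod_orderOf g k
      rwa [hord] at this
    have h3 : (((k : ZMod 4)).val : ℤ) = k % 4 := ZMod.val_intCast k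
    have h4 : g ^ ((k : ZMod 4)).val = Units.mk0 x hx := by
      have hk' : g ^ k = Units.mk0 x hx := hk
      rw [← hk', ← h1, ← zpow_natCast, h3]
    have := congrArg Units.val h4
    simpa using this.symm

section transport

variable (Φ : (V2 → F) ≃ₗ[F] (Fin 4 → F))

/-- conjugation of matrices by a linear equivalence -/
noncomputable def alphaT : Matrix V2 V2 F ≃ₐ[F] Matrix (Fin 4) (Fin 4) F :=
  (Matrix.toLinAlgEquiv').trans ((Φ.conjAlgEquiv F).trans Matrix.toLinAlgEquiv'.symm)

theorem alphaT_eq (M : Matrix V2 V2 F) :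
    alphaT Φ M = LinearMap.toMatrix' ((Φ : (V2 → F) →ₗ[F] (Fin 4 → F)) ∘ₗ Matrix.toLin' M ∘ₗ
      (Φ.symm : (Fin 4 → F) →ₗ[F] (V2 → F))) := rfl

theorem alphaT_mulVec (M : Matrix V2 V2 F) (x : Fin 4 → F) :
    alphaT Φ M *ᵥ x = Φ (M *ᵥ Φ.symm x) := by
  rw [alphaT_eq, ← Matrix.toLin'_apply, Matrix.toLin'_toMatrix']
  simp [Matrix.toLin'_apply]

theorem det_alphaT (M : Matrix V2 V2 F) : (alphaT Φ M).det = M.det := by
  rw [alphaT_eq, LinearMap.det_toMatrix', LinearMap.det_conj, LinearMap.det_toLin']

theorem eq_alphaT_of_mulVec (g : Matrix (Fin 4) (Fin 4) F) (M : Matrix V2 V2 F)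
    (h : ∀ x, Φ.symm (g *ᵥ x) = M *ᵥ Φ.symm x) : g = alphaT Φ M := by
  apply Matrix.toLin'.injective
  apply LinearMap.ext
  intro x
  rw [Matrix.toLin'_apply, Matrix.toLin'_apply, alphaT_mulVec, ← h x, LinearEquiv.apply_symm_apply]

end transport

theorem mon_mulVec_apply (σ : Equiv.Perm V2) (d v : V2 → F) (y : V2) :
    (mon σ d *ᵥ v) (σ y) = d y * v y := by
  rw [Matrix.mulVec, dotProduct, Finset.sum_eq_single y]
  · rw [mon_apply, if_pos rfl]
  · intro z _ hz
    rw [mon_apply, if_neg, zero_mul]
    intro h
    exact hz (σ.injective h).symm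
  · intro h; exact absurd (Finset.mem_univ _) h

end Cfsg.Agent.Helper9.AschPP
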