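import Mathlib
import Cfsg.Prelude.Def_GeometricClasses
import Cfsg.Agent.Helper9.AschPPT7D
import Cfsg.Agent.Helper7.AschC2

/-!
# ASCH-PP piece T7 (helper9): over the field with five elements the stabiliser in `SL_4` of a decomposition into four
lines normalises a group `4 ∘ 2^{1+4}` of symplectic type
-/

set_option autoImplicit false
set_option linter.unusedVariables false

namespace Cfsg.Agent.Helper9.AschPP

open Cfsg Cfsg.Geo
open scoped MatrixGroups Matrix

variable {F : Type*} [Field F]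

section rep

variable (Φ : (V2 → F) ≃ₗ[F] (Fin 4 → F)) {ζ : F} (hζ : ζ ^ 2 = -1)

/-- the representation of `HW` in `GL_4(F)` -/
noncomputable def rhoGL : HW →* GL (Fin 4) F :=
  ((alphaT Φ).toMulEquiv.toMonoidHom.comp (rhoHom ζ hζ)).toHomUnits

theorem rhoGL_val (x : HW) :
    ((rhoGL Φ hζ x : GL (Fin 4) F) : Matrix (Fin 4) (Fin 4) F) = alphaT Φ (rhoMat ζ x) := by
  rw [rhoGL, MonoidHom.coe_toHomUnits]
  rfl

theorem rhoGL_injective (h2 : (2 : F) ≠ 0) : Function.Injective (rhoGL Φ hζ) := by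
  intro x y hxy
  have h := congrArg (fun g : GL (Fin 4) F => (g : Matrix (Fin 4) (Fin 4) F)) hxy
  simp only [rhoGL_val] at h
  exact rhoMat_injective hζ h2 ((alphaT Φ).injective h)

theorem matrixSet_range :
    matrixSet (rhoGL Φ hζ).range = (alphaT Φ) '' Set.range (rhoMat (F := F) ζ) := by
  ext M
  constructor
  · rintro ⟨g, ⟨x, rfl⟩, rfl⟩
    exact ⟨rhoMat ζ x, ⟨x, rfl⟩, (rhoGL_val Φ hζ x).symm⟩
  · rintro ⟨_, ⟨x, rfl⟩, rfl⟩
    exact ⟨rhoGL Φ hζ x, ⟨x, rfl⟩, rhoGL_val Φ hζ x⟩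

theorem absIrred_range (h2 : (2 : F) ≠ 0) : ActsAbsolutelyIrreducibly (matrixSet (rhoGL Φ hζ).range) := by
  apply absIrred_of_span_eq_top
  rw [matrixSet_range]
  have h1 : Submodule.span F ((alphaT Φ) '' Set.range (rhoMat (F := F) ζ)) =
      (Submodule.span F (Set.range (rhoMat (F := F) ζ))).map (alphaT Φ).toLinearMap := by
    rw [Submodule.map_span]
    rfl
  rw [h1, span_range_rhoMat h2, Submodule.map_top, LinearMap.range_eq_top]
  exact (alphaT Φ).surjective

theorem range_le_specialLinear : (rhoGL Φ hζ).range ≤ specialLinear (Fin 4) F := by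
  rintro _ ⟨x, rfl⟩
  show rhoGL Φ hζ x ∈ (Matrix.GeneralLinearGroup.det : GL (Fin 4) F →* Fˣ).ker
  rw [MonoidHom.mem_ker]
  apply Units.ext
  rw [Matrix.GeneralLinearGroup.val_det_apply, rhoGL_val, det_alphaT, det_rhoMat hζ, Units.val_one]

theorem card_range (h2 : (2 : F) ≠ 0) : Nat.card (rhoGL Φ hζ).range = 64 := by
  rw [← Nat.card_congr (MonoidHom.ofInjective (rhoGL_injective Φ hζ h2)).toEquiv, HW.card_eq]

theorem card_center_range (h2 : (2 : F) ≠ 0) : Nat.card (Subgroup.center (rhoGL Φ hζ).range) = 4 := by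
  rw [← Nat.card_congr (Subgroup.centerCongr (MonoidHom.ofInjective (rhoGL_injective Φ hζ h2))).toEquiv,
    HW.card_center]

theorem symplecticType_range (h2 : (2 : F) ≠ 0) : IsSymplecticTypeGroup 2 (rhoGL Φ hζ).range where
  prime := Nat.prime_two
  pGroup := IsPGroup.of_card (n := 6) (by rw [card_range Φ hζ h2]; norm_num)
  cyclic_of_characteristic :=
    cyclic_of_characteristic_of_mulEquiv (MonoidHom.ofInjective (rhoGL_injective Φ hζ h2))
      HW.cyclic_of_characteristic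
  exponent_eq := by
    rw [← Monoid.exponent_eq_of_mulEquiv (MonoidHom.ofInjective (rhoGL_injective Φ hζ h2)), HW.exponent_eq]
    norm_num

variable (h2 : (2 : F) ≠ 0) (hgen : ∀ x : F, x ≠ 0 → ∃ a : ZMod 4, x = ζ ^ a.val)

include h2 hgen in
/-- conjugation by the image of a monomial matrix of determinant one preserves the image of `HW` -/
theorem conj_mem_range (g : GL (Fin 4) F) (σ : Equiv.Perm V2) (c : V2 → F) (hc : ∀ z, c z ≠ 0)
    (hg : (g : Matrix (Fin 4) (Fin 4) F) = alphaT Φ (mon σ c))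
    (hdet : (g : Matrix (Fin 4) (Fin 4) F).det = 1) (h : GL (Fin 4) F) (hh : h ∈ (rhoGL Φ hζ).range) :
    g * h * g⁻¹ ∈ (rhoGL Φ hζ).range := by
  obtain ⟨x, rfl⟩ := hh
  have hdet' : (mon σ c).det = 1 := by rw [← det_alphaT Φ, ← hg, hdet]
  obtain ⟨x', hx'⟩ := mon_normalizes hζ h2 hgen σ c hc hdet' x
  refine ⟨x', ?_⟩
  have : g * rhoGL Φ hζ x = rhoGL Φ hζ x' * g := by
    apply Units.ext
    rw [Units.val_mul, Units.val_mul, rhoGL_val, rhoGL_val, hg, ← map_mul, ← map_mul, hx']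
  rw [this, mul_assoc, mul_inv_cancel, mul_one]

end rep

/-- **T7** -/
theorem c2_lines_five [Fintype F] (hq : Fintype.card F = 5) (D : Fin 4 → Submodule F (Fin 4 → F))
    (hD : IsMDecomposition 1 D) :
    ∃ R : Subgroup (GL (Fin 4) F), IsLinearSymplecticTypeData 2 R ∧ R ≤ specialLinear (Fin 4) F ∧
      decompositionStabilizer D ⊓ specialLinear (Fin 4) F ≤ subgroupNormalizer R := by
  classical
  obtain ⟨hch, ζ, hζ, h2, hgen⟩ := exists_zeta hq
  obtain ⟨b, hb1, hb2⟩ := Cfsg.Agent.Helper7.Asch.exists_line_basis D hD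
  let e : Fin 4 ≃ V2 := Fintype.equivOfCardEq (by rw [card_V2, Fintype.card_fin])
  set Φ : (V2 → F) ≃ₗ[F] (Fin 4 → F) := (LinearEquiv.funCongrLeft F F e).trans b.equivFun.symm with hΦ
  have hΦsymm : ∀ (x : Fin 4 → F) (y : V2), Φ.symm x y = b.equivFun x (e.symm y) := by
    intro x y
    rw [hΦ]
    simp [LinearEquiv.funCongrLeft]
  refine ⟨(rhoGL Φ hζ).range, ⟨symplecticType_range Φ hζ h2, absIrred_range Φ hζ h2, ?_⟩,
    range_le_specialLinear Φ hζ, ?_⟩
  · refine ⟨5, 1, by norm_num, ?_, Or.inr (Or.inl ⟨rfl, rfl, card_center_range Φ hζ h2, ?_, 2, ?_⟩)⟩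
    · rw [card_center_range Φ hζ h2]
      exact ⟨by norm_num, hch, by rw [hq]; norm_num, by norm_num, fun d hd1 hd2 => by omega⟩
    · rw [Fintype.card_fin]
    · rw [card_range Φ hζ h2]; norm_num
  · -- the normaliser
    have key : ∀ g : GL (Fin 4) F, g ∈ decompositionStabilizer D ⊓ specialLinear (Fin 4) F →
        ∀ h ∈ (rhoGL Φ hζ).range, g * h * g⁻¹ ∈ (rhoGL Φ hζ).range := by
      rintro g ⟨hgD, hg1⟩ h hh
      obtain ⟨σ₀, c₀, hc₀, hmon⟩ := Cfsg.Agent.Helper7.Asch.exists_monomial b hb1 hb2 hgD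
      have hdet : (g : Matrix (Fin 4) (Fin 4) F).det = 1 := by
        have h1 : Matrix.GeneralLinearGroup.det g = 1 := MonoidHom.mem_ker.1 hg1
        have := congrArg Units.val h1
        simpa using this
      set σ : Equiv.Perm V2 := (e.symm.trans σ₀).trans e with hσ
      set c : V2 → F := fun y => c₀ (e.symm y) with hc
      have hgα : (g : Matrix (Fin 4) (Fin 4) F) = alphaT Φ (mon σ c) := by
        apply eq_alphaT_of_mulVec
        intro x
        funext z
        obtain ⟨y, rfl⟩ := σ.surjective z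
        rw [mon_mulVec_apply, hΦsymm, hΦsymm]
        have h1 : e.symm (σ y) = σ₀ (e.symm y) := by
          rw [hσ]
          simp
        rw [h1, hmon x (e.symm y)]
      exact conj_mem_range Φ hζ h2 hgen g σ c (fun z => hc₀ _) hgα hdet h hh
    intro g hg
    show g ∈ Subgroup.normalizer ((rhoGL Φ hζ).range : Set (GL (Fin 4) F))
    rw [Subgroup.mem_normalizer_iff]
    intro h
    constructor
    · exact key g hg h
    · intro hh
      have := key g⁻¹ (Subgroup.inv_mem _ hg) _ hh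
      have e1 : g⁻¹ * (g * h * g⁻¹) * g⁻¹⁻¹ = h := by group
      rwa [e1] at this

end Cfsg.Agent.Helper9.AschPP
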