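import Mathlib

/-!
# ASCH-PP-U piece U23, part A (helper9): the abstract extraspecial group `3^{1+4}` of order 243

`HW3` is the set of quintuples `(a, t₁, t₂, u₁, u₂)` over `ℤ/3` with the multiplication
`(a, t, u) (a', t', u') = (a + a' + u · t', t + t', u + u')`.  It has order `243`, exponent `3`, a centre of order `3`,
and every characteristic abelian subgroup is cyclic (the two partial Fourier automorphisms move every non-central
element to an element that does not commute with it).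
-/

set_option autoImplicit false
set_option linter.unusedVariables false

namespace Cfsg.Agent.Helper9.U23

/-- the group `3^{1+4}` as a set of quintuples -/
@[ext] structure HW3 where
  a : ZMod 3
  t₁ : ZMod 3
  t₂ : ZMod 3
  u₁ : ZMod 3
  u₂ : ZMod 3
deriving DecidableEq

namespace HW3

/-- quintuples as a product -/
def equivProd : HW3 ≃ ZMod 3 × ZMod 3 × ZMod 3 × ZMod 3 × ZMod 3 where
  toFun x := (x.a, x.t₁, x.t₂, x.u₁, x.u₂)
  invFun p := ⟨p.1, p.2.1, p.2.2.1, p.2.2.2.1, p.2.2.2.2⟩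
  left_inv x := rfl
  right_inv p := rfl

instance : Fintype HW3 := Fintype.ofEquiv _ equivProd.symm

instance : Mul HW3 :=
  ⟨fun x y => ⟨x.a + y.a + x.u₁ * y.t₁ + x.u₂ * y.t₂, x.t₁ + y.t₁, x.t₂ + y.t₂, x.u₁ + y.u₁, x.u₂ + y.u₂⟩⟩
instance : One HW3 := ⟨⟨0, 0, 0, 0, 0⟩⟩
instance : Inv HW3 := ⟨fun x => ⟨-x.a + x.u₁ * x.t₁ + x.u₂ * x.t₂, -x.t₁, -x.t₂, -x.u₁, -x.u₂⟩⟩

theorem mul_def (x y : HW3) : x * y =
    ⟨x.a + y.a + x.u₁ * y.t₁ + x.u₂ * y.t₂, x.t₁ + y.t₁, x.t₂ + y.t₂, x.u₁ + y.u₁, x.u₂ + y.u₂⟩ := rfl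
theorem one_def : (1 : HW3) = ⟨0, 0, 0, 0, 0⟩ := rfl
theorem inv_def (x : HW3) :
    x⁻¹ = ⟨-x.a + x.u₁ * x.t₁ + x.u₂ * x.t₂, -x.t₁, -x.t₂, -x.u₁, -x.u₂⟩ := rfl

instance : Group HW3 :=
  Group.ofLeftAxioms
    (by
      intro x y z
      simp only [mul_def]
      ext <;> ring)
    (by
      intro x
      simp only [mul_def, one_def]
      ext <;> ring)
    (by
      intro x
      simp only [mul_def, one_def, inv_def]
      ext <;> ring)

theorem card_eq : Nat.card HW3 = 243 := by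
  rw [Nat.card_eq_fintype_card, Fintype.card_congr equivProd]
  simp [ZMod.card]

theorem pow_three (x : HW3) : x ^ 3 = 1 := by
  revert x; decide +kernel

/-- the central element of order three -/
def zeta : HW3 := ⟨1, 0, 0, 0, 0⟩

theorem zeta_ne : zeta ≠ 1 := by decide

theorem exponent_eq : Monoid.exponent HW3 = 3 := by
  have h3 : Monoid.exponent HW3 ∣ 3 := Monoid.exponent_dvd_of_forall_pow_eq_one pow_three
  rcases (Nat.dvd_prime Nat.prime_three).1 h3 with h | h
  · exfalso
    apply zeta_ne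
    have := Monoid.pow_exponent_eq_one zeta
    rwa [h, pow_one] at this
  · exact h

theorem mem_center_iff (x : HW3) :
    x ∈ Subgroup.center HW3 ↔ x.t₁ = 0 ∧ x.t₂ = 0 ∧ x.u₁ = 0 ∧ x.u₂ = 0 := by
  rw [Subgroup.mem_center_iff]
  constructor
  · intro h
    have h1 := congrArg HW3.a (h ⟨0, 1, 0, 0, 0⟩)
    have h2 := congrArg HW3.a (h ⟨0, 0, 1, 0, 0⟩)
    have h3 := congrArg HW3.a (h ⟨0, 0, 0, 1, 0⟩)
    have h4 := congrArg HW3.a (h ⟨0, 0, 0, 0, 1⟩)
    simp only [mul_def] at h1 h2 h3 h4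
    refine ⟨?_, ?_, ?_, ?_⟩
    · linear_combination h3
    · linear_combination h4
    · linear_combination -h1
    · linear_combination -h2
  · rintro ⟨h1, h2, h3, h4⟩ y
    simp only [mul_def, h1, h2, h3, h4]
    ext <;> ring

/-- the centre is `ℤ/3` -/
def centerEquiv : ZMod 3 ≃ Subgroup.center HW3 where
  toFun a := ⟨⟨a, 0, 0, 0, 0⟩, (mem_center_iff _).2 ⟨rfl, rfl, rfl, rfl⟩⟩
  invFun x := x.1.a
  left_inv a := rfl
  right_inv x := by
    obtain ⟨h1, h2, h3, h4⟩ := (mem_center_iff x.1).1 x.2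
    apply Subtype.ext
    ext1
    · rfl
    · exact h1.symm
    · exact h2.symm
    · exact h3.symm
    · exact h4.symm

theorem card_center : Nat.card (Subgroup.center HW3) = 3 := by
  rw [← Nat.card_congr centerEquiv, Nat.card_eq_fintype_card, ZMod.card]

/-- the partial Fourier automorphism on the first coordinate -/
def four₁ : HW3 ≃* HW3 where
  toFun x := ⟨x.a - x.t₁ * x.u₁, x.u₁, x.t₂, -x.t₁, x.u₂⟩
  invFun x := ⟨x.a - x.u₁ * x.t₁, -x.u₁, x.t₂, x.t₁, x.u₂⟩
  left_inv x := by ext <;> simp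
  right_inv x := by ext <;> simp
  map_mul' x y := by
    simp only [mul_def]
    ext <;> ring

/-- the partial Fourier automorphism on the second coordinate -/
def four₂ : HW3 ≃* HW3 where
  toFun x := ⟨x.a - x.t₂ * x.u₂, x.t₁, x.u₂, x.u₁, -x.t₂⟩
  invFun x := ⟨x.a - x.u₂ * x.t₂, x.t₁, -x.u₂, x.u₁, x.t₂⟩
  left_inv x := by ext <;> simp
  right_inv x := by ext <;> simp
  map_mul' x y := by
    simp only [mul_def]
    ext <;> ring

theorem four₁_apply (x : HW3) : four₁ x = ⟨x.a - x.t₁ * x.u₁, x.u₁, x.t₂, -x.t₁, x.u₂⟩ := rfl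
theorem four₂_apply (x : HW3) : four₂ x = ⟨x.a - x.t₂ * x.u₂, x.t₁, x.u₂, x.u₁, -x.t₂⟩ := rfl

/-- every non-central element is moved by one of the two automorphisms to an element not commuting with it -/
theorem exists_not_commute (x : HW3) (hx : ¬ (x.t₁ = 0 ∧ x.t₂ = 0 ∧ x.u₁ = 0 ∧ x.u₂ = 0)) :
    x * four₁ x ≠ four₁ x * x ∨ x * four₂ x ≠ four₂ x * x := by
  revert x; decide +kernel

/-- a characteristic abelian subgroup is central -/
theorem le_center_of_characteristic (A : Subgroup HW3) (hA : A.Characteristic) (hc : IsMulCommutative A) :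
    A ≤ Subgroup.center HW3 := by
  intro x hx
  rw [mem_center_iff]
  by_contra hne
  have hmem : ∀ ϕ : HW3 ≃* HW3, ϕ x ∈ A := by
    intro ϕ
    have h := Subgroup.characteristic_iff_comap_eq.1 hA ϕ
    have : x ∈ A.comap ϕ.toMonoidHom := by rw [h]; exact hx
    exact this
  have hcomm : ∀ y ∈ A, x * y = y * x := by
    intro y hy
    have := hc.is_comm.comm (⟨x, hx⟩ : A) ⟨y, hy⟩
    exact congrArg Subtype.val this
  rcases exists_not_commute x hne with h | h
  · exact h (hcomm _ (hmem four₁))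
  · exact h (hcomm _ (hmem four₂))

/-- every characteristic abelian subgroup is cyclic -/
theorem cyclic_of_characteristic (A : Subgroup HW3) (hA : A.Characteristic) (hc : IsMulCommutative A) :
    IsCyclic A := by
  have hle := le_center_of_characteristic A hA hc
  haveI : Fact (Nat.Prime 3) := ⟨Nat.prime_three⟩
  have hdvd : Nat.card A ∣ 3 := by
    rw [← card_center]
    exact Subgroup.card_dvd_of_le hle
  rcases (Nat.dvd_prime Nat.prime_three).1 hdvd with h | h
  · haveI : Subsingleton A := (Nat.card_eq_one_iff_unique.1 h).1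
    infer_instance
  · exact isCyclic_of_prime_card h

end HW3

end Cfsg.Agent.Helper9.U23
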