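import Mathlib
import Cfsg.Agent.Helper9.AschPPU23A
import Cfsg.Agent.Helper9.AschPPT7B

/-!
# ASCH-PP-U piece U23, part B (helper9): the Weyl–Heisenberg representation of `3^{1+4}` on `F^(Fin 2 → ℤ/3)`

`ρ (a, t, u) = ω^a • X^t Z^u` where `X^t` is the translation by `t` and `Z^u` the diagonal matrix of the character
`y ↦ ω^(u · y)`.  It is an injective homomorphism, its image spans the matrix algebra (if `3 ≠ 0`), all its values
have determinant one and preserve the standard Hermitian form `∑ x_c y_c^2`.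
-/

set_option autoImplicit false
set_option linter.unusedVariables false

namespace Cfsg.Agent.Helper9.U23

open Cfsg.Agent.Helper9.AschPP
open scoped Matrix

variable {F : Type*} [Field F]

/-- the index set -/
abbrev J : Type := Fin 2 → ZMod 3

/-- the standard pairing -/
def dot (u y : J) : ZMod 3 := u 0 * y 0 + u 1 * y 1

theorem dot_add_left (u u' y : J) : dot (u + u') y = dot u y + dot u' y := by
  simp only [dot, Pi.add_apply]; ring

theorem dot_add_right (u y y' : J) : dot u (y + y') = dot u y + dot u y' := by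
  simp only [dot, Pi.add_apply]; ring

theorem dot_zero_left (y : J) : dot 0 y = 0 := by simp [dot]

theorem dot_zero_right (u : J) : dot u 0 = 0 := by simp [dot]

theorem dot_neg_right (u y : J) : dot u (-y) = - dot u y := by
  simp only [dot, Pi.neg_apply]; ring

theorem dot_sub_right (u y y' : J) : dot u (y - y') = dot u y - dot u y' := by
  simp only [dot, Pi.sub_apply]; ring

/-- sums over `J` -/
theorem sum_J {M : Type*} [AddCommMonoid M] (f : J → M) :
    ∑ y, f y = ∑ a : ZMod 3, ∑ b : ZMod 3, f ![a, b] := by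
  rw [← Fintype.sum_prod_type']
  exact Fintype.sum_equiv (piFinTwoEquiv fun _ => ZMod 3) _ _ (fun y => by
    congr 1
    funext i
    fin_cases i <;> rfl)

theorem sum_Z3 {M : Type*} [AddCommMonoid M] (g : ZMod 3 → M) : ∑ x, g x = g 0 + g 1 + g 2 :=
  Fin.sum_univ_three g

theorem Z3_cases (c : ZMod 3) : c = 0 ∨ c = 1 ∨ c = 2 := by revert c; decide

section pw

variable (ω : F)

/-- powers of `ω` indexed by `ℤ/3` -/
def pw (c : ZMod 3) : F := ω ^ c.val

variable {ω}

theorem pw_zero : pw ω 0 = 1 := by rw [pw, ZMod.val_zero, pow_zero]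

theorem pw_one : pw ω 1 = ω := by
  have : (1 : ZMod 3).val = 1 := by decide
  rw [pw, this, pow_one]

theorem pw_two : pw ω 2 = ω ^ 2 := by
  have : (2 : ZMod 3).val = 2 := by decide
  rw [pw, this]

theorem pw_add (hω : ω ^ 3 = 1) (a b : ZMod 3) : pw ω (a + b) = pw ω a * pw ω b := by
  rw [pw, pw, pw, ZMod.val_add, ← pow_add]
  exact (pow_eq_pow_mod _ hω).symm

theorem pw_ne_zero (hω : ω ^ 3 = 1) (a : ZMod 3) : pw ω a ≠ 0 := by
  rw [pw]
  apply pow_ne_zero
  intro h
  rw [h] at hω
  norm_num at hω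

theorem pw_pow_three (hω : ω ^ 3 = 1) (a : ZMod 3) : pw ω a ^ 3 = 1 := by
  rw [pw, ← pow_mul, mul_comm, pow_mul, hω, one_pow]

theorem pw_neg (hω : ω ^ 3 = 1) (a : ZMod 3) : pw ω (-a) = (pw ω a)⁻¹ := by
  apply eq_inv_of_mul_eq_one_left
  rw [← pw_add hω, neg_add_cancel, pw_zero]

theorem pw_sum (hω : ω ^ 3 = 1) {ι : Type*} (s : Finset ι) (f : ι → ZMod 3) :
    pw ω (∑ i ∈ s, f i) = ∏ i ∈ s, pw ω (f i) := by
  classical
  induction s using Finset.induction_on with
  | empty => simp [pw_zero]
  | insert a s ha ih => rw [Finset.sum_insert ha, Finset.prod_insert ha, pw_add hω, ih]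

theorem pw_eq_one (hω : ω ^ 2 + ω + 1 = 0) (h3 : (3 : F) ≠ 0) (a : ZMod 3) (h : pw ω a = 1) : a = 0 := by
  have hne : ω ≠ 1 := by
    intro h1
    rw [h1] at hω
    apply h3
    linear_combination hω
  rcases Z3_cases a with rfl | rfl | rfl
  · rfl
  · rw [pw_one] at h
    exact absurd h hne
  · rw [pw_two] at h
    exfalso
    apply hne
    have : ω * (ω ^ 2) = 1 := by linear_combination (ω - 1) * hω
    rw [h, mul_one] at this
    exact this

theorem omega_cube (hω : ω ^ 2 + ω + 1 = 0) : ω ^ 3 = 1 := by linear_combination (ω - 1) * hω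

theorem pw_inj (hω : ω ^ 2 + ω + 1 = 0) (h3 : (3 : F) ≠ 0) (a b : ZMod 3) (h : pw ω a = pw ω b) : a = b := by
  have hω3 := omega_cube hω
  have h1 : pw ω (a - b) * pw ω b = pw ω a := by
    rw [← pw_add hω3, sub_add_cancel]
  rw [h] at h1
  have h2 : pw ω (a - b) = 1 := by
    have hb := pw_ne_zero hω3 b
    field_simp at h1
    exact h1
  exact sub_eq_zero.1 (pw_eq_one hω h3 _ h2)

/-- character sums over `ℤ/3` -/
theorem sum_pw_mul (hω : ω ^ 2 + ω + 1 = 0) (c : ZMod 3) :
    ∑ a : ZMod 3, pw ω (a * c) = if c = 0 then 3 else 0 := by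
  rw [sum_Z3]
  rcases Z3_cases c with rfl | rfl | rfl
  · rw [if_pos rfl, mul_zero, mul_zero, mul_zero, pw_zero]; norm_num
  · rw [if_neg (by decide), mul_one, mul_one, mul_one, pw_zero, pw_one, pw_two]
    linear_combination hω
  · have e : (2 : ZMod 3) * 2 = 1 := by decide
    rw [if_neg (by decide), zero_mul, one_mul, e, pw_zero, pw_one, pw_two]
    linear_combination hω

/-- character orthogonality on `J` -/
theorem sum_pw_dot (hω : ω ^ 2 + ω + 1 = 0) (z : J) :
    ∑ u : J, pw ω (dot u z) = if z = 0 then 9 else 0 := by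
  have hω3 := omega_cube hω
  rw [sum_J]
  have h1 : ∀ a b : ZMod 3, pw ω (dot ![a, b] z) = pw ω (a * z 0) * pw ω (b * z 1) := by
    intro a b
    rw [← pw_add hω3]
    rfl
  simp only [h1]
  rw [← Finset.sum_mul_sum, sum_pw_mul hω, sum_pw_mul hω]
  by_cases h0 : z 0 = 0
  · by_cases h1' : z 1 = 0
    · have hz : z = 0 := by
        funext i
        fin_cases i
        · exact h0
        · exact h1'
      rw [if_pos h0, if_pos h1', if_pos hz]; norm_num
    · have hz : z ≠ 0 := fun h => h1' (by rw [h]; rfl)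
      rw [if_neg h1', if_neg hz, mul_zero]
  · have hz : z ≠ 0 := fun h => h0 (by rw [h]; rfl)
    rw [if_neg h0, if_neg hz, zero_mul]

end pw

/-! ### the Weyl–Heisenberg matrices -/

/-- the Weyl–Heisenberg matrix `X^t Z^u` -/
def wmat3 (ω : F) (t u : J) : Matrix J J F :=
  mon (fun y => y + t) (fun y => pw ω (dot u y))

variable {ω : F}

theorem wmat3_apply (t u x y : J) : wmat3 ω t u x y = if x = y + t then pw ω (dot u y) else 0 := rfl

theorem wmat3_mul (hω : ω ^ 3 = 1) (t u t' u' : J) :
    wmat3 ω t u * wmat3 ω t' u' = pw ω (dot u t') • wmat3 ω (t + t') (u + u') := by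
  rw [wmat3, wmat3, mon_mul, wmat3, mon_smul]
  congr 1
  · funext y
    simp only [Function.comp_apply]
    abel
  · funext y
    rw [dot_add_right, pw_add hω, dot_add_left, pw_add hω]
    ring

theorem wmat3_zero : wmat3 ω 0 0 = 1 := by
  rw [← mon_id_one]
  rw [wmat3]
  congr 1
  · funext y; simp
  · funext y; rw [dot_zero_left, pw_zero]

theorem three_nsmul_J (t : J) : 3 • t = 0 := by
  funext i
  have : ∀ c : ZMod 3, 3 • c = 0 := by decide
  exact this (t i)

theorem sign_addRight_J (t : J) : Equiv.Perm.sign (Equiv.addRight t) = 1 := by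
  have h3 : Equiv.addRight t ^ 3 = 1 := by
    rw [Equiv.nsmul_addRight, three_nsmul_J]
    ext y
    simp
  have h := congrArg Equiv.Perm.sign h3
  rw [map_pow, map_one] at h
  rcases Int.units_eq_one_or (Equiv.Perm.sign (Equiv.addRight t)) with h1 | h1
  · exact h1
  · rw [h1] at h
    exact absurd h (by decide)

theorem sum_dot_J : ∀ u : J, ∑ y : J, dot u y = 0 := by
  decide +kernel

theorem card_J : Fintype.card J = 9 := by
  simp [ZMod.card]

theorem det_wmat3 (hω : ω ^ 3 = 1) (t u : J) : (wmat3 ω t u).det = 1 := by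
  have h : wmat3 ω t u = mon (Equiv.addRight t) (fun y => pw ω (dot u y)) := rfl
  rw [h, det_mon, sign_addRight_J, ← pw_sum hω, sum_dot_J, pw_zero]
  simp

/-! ### the representation -/

/-- the translation part of an element of `HW3` -/
def tv (x : HW3) : J := ![x.t₁, x.t₂]

/-- the character part of an element of `HW3` -/
def uv (x : HW3) : J := ![x.u₁, x.u₂]

variable (ω)

/-- the representation of `HW3` -/
def rhoMat3 (x : HW3) : Matrix J J F := pw ω x.a • wmat3 ω (tv x) (uv x)

variable {ω}

theorem tv_mul (x y : HW3) : tv (x * y) = tv x + tv y := by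
  funext i
  fin_cases i <;> rfl

theorem uv_mul (x y : HW3) : uv (x * y) = uv x + uv y := by
  funext i
  fin_cases i <;> rfl

theorem a_mul (x y : HW3) : (x * y).a = x.a + y.a + dot (uv x) (tv y) := by
  rw [HW3.mul_def]
  simp only [dot, uv, tv, Matrix.cons_val_zero, Matrix.cons_val_one]
  ring

theorem rhoMat3_mul (hω : ω ^ 3 = 1) (x y : HW3) : rhoMat3 ω (x * y) = rhoMat3 ω x * rhoMat3 ω y := by
  rw [rhoMat3, rhoMat3, rhoMat3, Matrix.smul_mul, Matrix.mul_smul, wmat3_mul hω, smul_smul, smul_smul, tv_mul,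
    uv_mul, a_mul, pw_add hω, pw_add hω]

theorem rhoMat3_one : rhoMat3 ω (1 : HW3) = 1 := by
  have ht : tv 1 = 0 := by
    funext i
    fin_cases i <;> rfl
  have hu : uv 1 = 0 := by
    funext i
    fin_cases i <;> rfl
  have ha : (1 : HW3).a = 0 := rfl
  rw [rhoMat3, ht, hu, ha, pw_zero, one_smul, wmat3_zero]

/-- the representation as a monoid homomorphism -/
def rhoHom3 (ω : F) (hω : ω ^ 3 = 1) : HW3 →* Matrix J J F where
  toFun := rhoMat3 ω
  map_one' := rhoMat3_one
  map_mul' := rhoMat3_mul hω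

theorem rhoMat3_eq_mon (x : HW3) :
    rhoMat3 ω x = mon (fun y => y + tv x) (fun y => pw ω x.a * pw ω (dot (uv x) y)) := by
  rw [rhoMat3, wmat3, mon_smul]

theorem rhoMat3_injective (hω : ω ^ 2 + ω + 1 = 0) (h3 : (3 : F) ≠ 0) :
    Function.Injective (rhoMat3 (F := F) ω) := by
  intro x y hxy
  have hω3 := omega_cube hω
  have hent : ∀ i j : J, rhoMat3 ω x i j = rhoMat3 ω y i j := fun i j => by rw [hxy]
  simp only [rhoMat3, Matrix.smul_apply, wmat3_apply, smul_eq_mul] at hent
  have ht : tv x = tv y := by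
    have h := hent (tv x) 0
    rw [if_pos (zero_add _).symm, dot_zero_right, pw_zero, mul_one] at h
    by_contra hne
    rw [if_neg (by rw [zero_add]; exact hne), mul_zero] at h
    exact pw_ne_zero hω3 _ h
  have ha : x.a = y.a := by
    have h := hent (tv x) 0
    rw [if_pos (zero_add _).symm, if_pos (by rw [zero_add]; exact ht), dot_zero_right, pw_zero, mul_one,
      dot_zero_right, pw_zero, mul_one] at h
    exact pw_inj hω h3 _ _ h
  have hu : ∀ z : J, dot (uv x) z = dot (uv y) z := by
    intro z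
    have h := hent (z + tv x) z
    rw [if_pos rfl, if_pos (by rw [ht]), ha] at h
    have h' := mul_left_cancel₀ (pw_ne_zero hω3 _) h
    exact pw_inj hω h3 _ _ h'
  have h1 := hu ![1, 0]
  have h2 := hu ![0, 1]
  simp only [dot, uv, Matrix.cons_val_zero, Matrix.cons_val_one, mul_one, mul_zero, add_zero,
    zero_add] at h1 h2
  have ht1 := congrFun ht 0
  have ht2 := congrFun ht 1
  simp only [tv, Matrix.cons_val_zero, Matrix.cons_val_one] at ht1 ht2
  exact HW3.ext ha ht1 ht2 h1 h2

/-- the image of `HW3` spans the matrix algebra -/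
theorem span_range_rhoMat3 (hω : ω ^ 2 + ω + 1 = 0) (h3 : (3 : F) ≠ 0) :
    Submodule.span F (Set.range (rhoMat3 (F := F) ω)) = ⊤ := by
  have hω3 := omega_cube hω
  have h9 : (9 : F) ≠ 0 := by
    have : (9 : F) = 3 * 3 := by norm_num
    rw [this]; exact mul_ne_zero h3 h3
  have hw : ∀ t u : J, wmat3 ω t u ∈ Submodule.span F (Set.range (rhoMat3 (F := F) ω)) := by
    intro t u
    apply Submodule.subset_span
    refine ⟨⟨0, t 0, t 1, u 0, u 1⟩, ?_⟩
    have ht : tv ⟨0, t 0, t 1, u 0, u 1⟩ = t := by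
      funext i
      fin_cases i <;> rfl
    have hu : uv ⟨0, t 0, t 1, u 0, u 1⟩ = u := by
      funext i
      fin_cases i <;> rfl
    rw [rhoMat3, ht, hu]
    simp only
    rw [pw_zero, one_smul]
  have hsingle : ∀ x y : J, Matrix.single x y (1 : F) ∈ Submodule.span F (Set.range (rhoMat3 (F := F) ω)) := by
    intro x y
    have : Matrix.single x y (1 : F) = (9 : F)⁻¹ • ∑ u : J, pw ω (- dot u y) • wmat3 ω (x - y) u := by
      ext x' y'
      rw [Matrix.smul_apply, Matrix.sum_apply, Matrix.single_apply]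
      have h1 : ∀ u : J, (pw ω (- dot u y) • wmat3 ω (x - y) u) x' y' =
          if x' = y' + (x - y) then pw ω (dot u (y' - y)) else 0 := by
        intro u
        rw [Matrix.smul_apply, wmat3_apply, smul_eq_mul]
        split_ifs
        · rw [← pw_add hω3, dot_sub_right]
          congr 1
          ring
        · rw [mul_zero]
      rw [Finset.sum_congr rfl (fun u _ => h1 u)]
      by_cases hx : x' = y' + (x - y)
      · simp only [if_pos hx]
        rw [sum_pw_dot hω]
        by_cases hy : y = y'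
        · subst hy
          have hx' : x = x' := by
            rw [hx]; abel
          rw [if_pos ⟨hx', rfl⟩, if_pos (sub_self y), smul_eq_mul, inv_mul_cancel₀ h9]
        · have : ¬ (x = x' ∧ y = y') := fun h => hy h.2
          rw [if_neg this, if_neg, smul_zero]
          intro h0
          exact hy (sub_eq_zero.1 h0).symm
      · simp only [if_neg hx, Finset.sum_const_zero, smul_zero]
        rw [if_neg]
        rintro ⟨rfl, rfl⟩
        apply hx
        abel
    rw [this]
    apply Submodule.smul_mem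
    apply Submodule.sum_mem
    intro u _
    exact Submodule.smul_mem _ _ (hw _ _)
  rw [eq_top_iff]
  intro M _
  rw [Matrix.matrix_eq_sum_single M]
  apply Submodule.sum_mem
  intro i _
  apply Submodule.sum_mem
  intro j _
  have : Matrix.single i j (M i j) = M i j • Matrix.single i j (1 : F) := by
    rw [Matrix.smul_single, smul_eq_mul, mul_one]
  rw [this]
  exact Submodule.smul_mem _ _ (hsingle i j)

theorem det_rhoMat3 (hω : ω ^ 3 = 1) (x : HW3) : (rhoMat3 ω x).det = 1 := by
  rw [rhoMat3, Matrix.det_smul, card_J, det_wmat3 hω, mul_one]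
  have : (9 : ℕ) = 3 * 3 := by norm_num
  rw [this, pow_mul, pw_pow_three hω, one_pow]

/-- the values of the representation preserve the standard Hermitian form over `F_4` -/
theorem rhoMat3_herm (hω : ω ^ 3 = 1) (x : HW3) (v w : J → F) :
    ∑ c, (rhoMat3 ω x *ᵥ v) c * (rhoMat3 ω x *ᵥ w) c ^ 2 = ∑ c, v c * w c ^ 2 := by
  have hmv : ∀ (v : J → F) (c : J), (rhoMat3 ω x *ᵥ v) (c + tv x) =
      pw ω x.a * pw ω (dot (uv x) c) * v c := by
    intro v c
    rw [rhoMat3_eq_mon, Matrix.mulVec, dotProduct, Finset.sum_eq_single c]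
    · rw [mon_apply, if_pos rfl]
    · intro b _ hb
      rw [mon_apply, if_neg, zero_mul]
      intro h
      exact hb (add_right_cancel h).symm
    · intro h; exact absurd (Finset.mem_univ _) h
  rw [← Equiv.sum_comp (Equiv.addRight (tv x))]
  apply Finset.sum_congr rfl
  intro c _
  rw [Equiv.coe_addRight, hmv, hmv]
  have h1 := pw_pow_three hω x.a
  have h2 := pw_pow_three hω (dot (uv x) c)
  calc pw ω x.a * pw ω (dot (uv x) c) * v c * (pw ω x.a * pw ω (dot (uv x) c) * w c) ^ 2
      = (pw ω x.a ^ 3 * pw ω (dot (uv x) c) ^ 3) * (v c * w c ^ 2) := by ring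
    _ = v c * w c ^ 2 := by rw [h1, h2, one_mul, one_mul]

end Cfsg.Agent.Helper9.U23
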