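import Mathlib
import Cfsg.Prelude.Def_GeometricClasses
import Cfsg.Agent.Helper9.AschPPU23B
import Cfsg.Agent.Helper7.Ex27B

/-!
# ASCH-PP-U piece U23, part C (helper9): the Weyl–Heisenberg matrices as pure tensors; normalisation

Everything here is indexed by `ℤ/3` resp. `J = Fin 2 → ℤ/3`; `castM` is the identity cast from matrices indexed by `Fin 3`.
-/

set_option autoImplicit false
set_option linter.unusedVariables false

namespace Cfsg.Agent.Helper9.U23

open Cfsg Cfsg.Geo Cfsg.Agent.Helper7.Ex27 Cfsg.Agent.Helper9.AschPP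
open scoped Matrix

variable {F : Type*} [Field F]

/-- the identity cast from matrices indexed by `Fin 3` to matrices indexed by `ℤ/3` -/
def castM (M : Matrix (Fin 3) (Fin 3) F) : Matrix (ZMod 3) (ZMod 3) F := M

theorem castM_mul (M N : Matrix (Fin 3) (Fin 3) F) : castM (M * N) = castM M * castM N := rfl

theorem castM_one : castM (1 : Matrix (Fin 3) (Fin 3) F) = 1 := rfl

theorem castM_smul (c : F) (M : Matrix (Fin 3) (Fin 3) F) : castM (c • M) = c • castM M := rfl

theorem castM_pow (M : Matrix (Fin 3) (Fin 3) F) (n : ℕ) : castM (M ^ n) = castM M ^ n := by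
  induction n with
  | zero => rw [pow_zero, pow_zero, castM_one]
  | succ n ih => rw [pow_succ, pow_succ, castM_mul, ih]

theorem castM_Ym_apply (i j : ZMod 3) :
    castM (Ym : Matrix (Fin 3) (Fin 3) F) i j = if i = j + 1 then 1 else 0 := by
  rcases Z3_cases i with rfl | rfl | rfl <;> rcases Z3_cases j with rfl | rfl | rfl
  all_goals first | (rw [if_pos (by decide)]; rfl) | (rw [if_neg (by decide)]; rfl)

theorem castM_Xm_apply (a : F) (i j : ZMod 3) :
    castM (Xm a) i j = if i = j then a ^ j.val else 0 := by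
  rcases Z3_cases i with rfl | rfl | rfl <;> rcases Z3_cases j with rfl | rfl | rfl
  · rw [if_pos rfl, ZMod.val_zero, pow_zero]; rfl
  · rw [if_neg (by decide)]; rfl
  · rw [if_neg (by decide)]; rfl
  · rw [if_neg (by decide)]; rfl
  · have : (1 : ZMod 3).val = 1 := by decide
    rw [if_pos rfl, this, pow_one]; rfl
  · rw [if_neg (by decide)]; rfl
  · rw [if_neg (by decide)]; rfl
  · rw [if_neg (by decide)]; rfl
  · have : (2 : ZMod 3).val = 2 := by decide
    rw [if_pos rfl, this]; rfl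

/-- the one-qutrit Weyl–Heisenberg matrix -/
def w1 (ω : F) (t u : ZMod 3) : Matrix (ZMod 3) (ZMod 3) F :=
  mon (fun j => j + t) (fun j => pw ω (u * j))

theorem w1_apply (ω : F) (t u i j : ZMod 3) : w1 ω t u i j = if i = j + t then pw ω (u * j) else 0 := rfl

theorem castM_Ym : castM (Ym : Matrix (Fin 3) (Fin 3) F) = mon (fun j : ZMod 3 => j + 1) (fun _ => (1 : F)) := by
  ext i j
  exact castM_Ym_apply i j

theorem castM_Ym_pow (n : ℕ) :
    castM ((Ym : Matrix (Fin 3) (Fin 3) F) ^ n) = mon (fun j : ZMod 3 => j + (n : ZMod 3)) (fun _ => (1 : F)) := by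
  induction n with
  | zero =>
    rw [pow_zero, castM_one]
    ext i j
    rw [Matrix.one_apply, mon_apply, Nat.cast_zero, add_zero]
  | succ n ih =>
    rw [pow_succ, castM_mul, ih, castM_Ym, mon_mul]
    congr 1
    · funext j
      simp only [Function.comp_apply, Nat.cast_succ]
      ring
    · funext j
      rw [mul_one]

theorem castM_Xm_pow {ω : F} (hω : ω ^ 3 = 1) (n : ℕ) :
    castM (Xm ω ^ n) = mon (fun j : ZMod 3 => j) (fun j => pw ω ((n : ZMod 3) * j)) := by
  ext i j
  rw [Xm_pow, castM_Xm_apply, mon_apply]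
  congr 1
  rw [pw, ZMod.val_mul, ZMod.val_natCast, ← pow_mul]
  rw [pow_eq_pow_mod (n * j.val) hω, pow_eq_pow_mod (n % 3 * j.val % 3) hω]
  congr 1
  rw [Nat.mod_mod, Nat.mod_mul_mod]

theorem castM_YX {ω : F} (hω : ω ^ 3 = 1) (m n : ℕ) :
    castM ((Ym : Matrix (Fin 3) (Fin 3) F) ^ m * Xm ω ^ n) = w1 ω (m : ZMod 3) (n : ZMod 3) := by
  rw [castM_mul, castM_Ym_pow, castM_Xm_pow hω, mon_mul]
  unfold w1
  congr 1
  funext j
  rw [one_mul]

/-- pure tensors of matrices indexed by `ℤ/3` -/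
def ptensJ (M : Fin 2 → Matrix (ZMod 3) (ZMod 3) F) : Matrix J J F :=
  fun x y => M 0 (x 0) (y 0) * M 1 (x 1) (y 1)

theorem ptensJ_apply (M : Fin 2 → Matrix (ZMod 3) (ZMod 3) F) (x y : J) :
    ptensJ M x y = M 0 (x 0) (y 0) * M 1 (x 1) (y 1) := rfl

theorem ptensJ_mul (M M' : Fin 2 → Matrix (ZMod 3) (ZMod 3) F) :
    ptensJ M * ptensJ M' = ptensJ (fun i => M i * M' i) := by
  ext x z
  rw [Matrix.mul_apply, ptensJ_apply, Matrix.mul_apply, Matrix.mul_apply, sum_J, Finset.sum_mul_sum]
  apply Finset.sum_congr rfl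
  intro a _
  apply Finset.sum_congr rfl
  intro b _
  rw [ptensJ_apply, ptensJ_apply]
  simp only [Matrix.cons_val_zero, Matrix.cons_val_one]
  ring

theorem ptensJ_smul (c : Fin 2 → F) (M : Fin 2 → Matrix (ZMod 3) (ZMod 3) F) :
    ptensJ (fun i => c i • M i) = (c 0 * c 1) • ptensJ M := by
  ext x y
  rw [Matrix.smul_apply, ptensJ_apply, ptensJ_apply, Matrix.smul_apply, Matrix.smul_apply]
  simp only [smul_eq_mul]
  ring

/-- the Weyl–Heisenberg matrices on two qutrits are pure tensors -/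
theorem wmat3_eq_ptensJ {ω : F} (hω : ω ^ 3 = 1) (t u : J) :
    wmat3 ω t u = ptensJ (fun i => w1 ω (t i) (u i)) := by
  ext x y
  rw [wmat3_apply, ptensJ_apply, w1_apply, w1_apply]
  by_cases h0 : x 0 = y 0 + t 0
  · by_cases h1 : x 1 = y 1 + t 1
    · have hx : x = y + t := by
        funext i
        fin_cases i
        · exact h0
        · exact h1
      rw [if_pos h0, if_pos h1, if_pos hx, ← pw_add hω]
      rfl
    · have hx : ¬ x = y + t := fun h => h1 (by rw [h]; rfl)
      rw [if_neg h1, if_neg hx, mul_zero]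
  · have hx : ¬ x = y + t := fun h => h0 (by rw [h]; rfl)
    rw [if_neg h0, if_neg hx, zero_mul]

/-- the element of `HW3` with given parts -/
def mk3 (a : ZMod 3) (t u : J) : HW3 := ⟨a, t 0, t 1, u 0, u 1⟩

theorem tv_mk3 (a : ZMod 3) (t u : J) : tv (mk3 a t u) = t := by
  funext i
  fin_cases i <;> rfl

theorem uv_mk3 (a : ZMod 3) (t u : J) : uv (mk3 a t u) = u := by
  funext i
  fin_cases i <;> rfl

theorem rhoMat3_mk3 (ω : F) (a : ZMod 3) (t u : J) : rhoMat3 ω (mk3 a t u) = pw ω a • wmat3 ω t u := by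
  rw [rhoMat3, tv_mk3, uv_mk3]
  rfl

/-- a pure tensor whose factors normalise the one-qutrit Weyl–Heisenberg matrices up to cube roots of unity
normalises the image of `HW3` -/
theorem ptensJ_normalizes {ω : F} (hω : ω ^ 3 = 1) (A : Fin 2 → Matrix (ZMod 3) (ZMod 3) F)
    (hA : ∀ i, ∀ t u : ZMod 3, ∃ a' t' u' : ZMod 3, A i * w1 ω t u = pw ω a' • (w1 ω t' u' * A i)) (x : HW3) :
    ∃ x' : HW3, ptensJ A * rhoMat3 ω x = rhoMat3 ω x' * ptensJ A := by
  choose a' t' u' h using hA
  refine ⟨mk3 (x.a + a' 0 (tv x 0) (uv x 0) + a' 1 (tv x 1) (uv x 1))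
    (fun i => t' i (tv x i) (uv x i)) (fun i => u' i (tv x i) (uv x i)), ?_⟩
  rw [rhoMat3_mk3, rhoMat3, wmat3_eq_ptensJ hω, wmat3_eq_ptensJ hω, Matrix.mul_smul, Matrix.smul_mul,
    ptensJ_mul, ptensJ_mul]
  have e1 : (fun i => A i * w1 ω (tv x i) (uv x i)) =
      fun i => pw ω (a' i (tv x i) (uv x i)) • (w1 ω (t' i (tv x i) (uv x i)) (u' i (tv x i) (uv x i)) * A i) := by
    funext i
    exact h i _ _
  rw [e1, ptensJ_smul, smul_smul, pw_add hω, pw_add hω]
  congr 1
  ring

/-- the swap of the two tensor factors -/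
def swJ : Matrix J J F := fun x y => if y = x ∘ Equiv.swap 0 1 then 1 else 0

/-- the swap automorphism of `HW3` -/
def sw3 (x : HW3) : HW3 := ⟨x.a, x.t₂, x.t₁, x.u₂, x.u₁⟩

theorem swJ_mul_apply (A : Matrix J J F) (x y : J) : ((swJ : Matrix J J F) * A) x y = A (x ∘ Equiv.swap 0 1) y := by
  rw [Matrix.mul_apply, Finset.sum_eq_single (x ∘ Equiv.swap 0 1)]
  · unfold swJ
    rw [if_pos rfl, one_mul]
  · intro z _ hz
    unfold swJ
    rw [if_neg hz, zero_mul]
  · intro h
    exact absurd (Finset.mem_univ _) h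

theorem comp_swap_swap (y : J) : (y ∘ Equiv.swap 0 1) ∘ Equiv.swap 0 1 = y := by
  funext i
  simp

theorem mul_swJ_apply (A : Matrix J J F) (x y : J) : (A * (swJ : Matrix J J F)) x y = A x (y ∘ Equiv.swap 0 1) := by
  rw [Matrix.mul_apply, Finset.sum_eq_single (y ∘ Equiv.swap 0 1)]
  · unfold swJ
    rw [if_pos (comp_swap_swap y).symm, mul_one]
  · intro z _ hz
    unfold swJ
    rw [if_neg, mul_zero]
    intro h
    apply hz
    rw [h, comp_swap_swap]
  · intro h
    exact absurd (Finset.mem_univ _) h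

theorem swJ_normalizes (ω : F) (x : HW3) : swJ * rhoMat3 ω x = rhoMat3 ω (sw3 x) * swJ := by
  ext p q
  rw [swJ_mul_apply, mul_swJ_apply, rhoMat3, rhoMat3, Matrix.smul_apply, Matrix.smul_apply, wmat3_apply,
    wmat3_apply]
  have ha : (sw3 x).a = x.a := rfl
  have hd : dot (uv (sw3 x)) (q ∘ Equiv.swap 0 1) = dot (uv x) q := by
    simp only [dot, uv, sw3, Function.comp_apply, Equiv.swap_apply_left, Equiv.swap_apply_right,
      Matrix.cons_val_zero, Matrix.cons_val_one]
    ring
  have hc : (p ∘ Equiv.swap 0 1 = q + tv x) ↔ (p = q ∘ Equiv.swap 0 1 + tv (sw3 x)) := by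
    constructor
    · intro h
      funext i
      fin_cases i
      · have := congrFun h 1
        simpa [tv, sw3] using this
      · have := congrFun h 0
        simpa [tv, sw3] using this
    · intro h
      funext i
      fin_cases i
      · have := congrFun h 1
        simpa [tv, sw3] using this
      · have := congrFun h 0
        simpa [tv, sw3] using this
  rw [ha, hd]
  by_cases h : p ∘ Equiv.swap 0 1 = q + tv x
  · rw [if_pos h, if_pos (hc.1 h)]
  · rw [if_neg h, if_neg (fun h' => h (hc.2 h'))]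

/-- the swap preserves the standard Hermitian form -/
theorem swJ_herm (v w : J → F) :
    ∑ c, ((swJ : Matrix J J F) *ᵥ v) c * ((swJ : Matrix J J F) *ᵥ w) c ^ 2 = ∑ c, v c * w c ^ 2 := by
  have hmv : ∀ (v : J → F) (c : J), ((swJ : Matrix J J F) *ᵥ v) c = v (c ∘ Equiv.swap 0 1) := by
    intro v c
    rw [Matrix.mulVec, dotProduct, Finset.sum_eq_single (c ∘ Equiv.swap 0 1)]
    · unfold swJ
      rw [if_pos rfl, one_mul]
    · intro b _ hb
      unfold swJ
      rw [if_neg hb, zero_mul]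
    · intro h; exact absurd (Finset.mem_univ _) h
  simp only [hmv]
  let σ : J ≃ J :=
    { toFun := fun c => c ∘ Equiv.swap 0 1
      invFun := fun c => c ∘ Equiv.swap 0 1
      left_inv := comp_swap_swap
      right_inv := comp_swap_swap }
  exact Equiv.sum_comp σ (fun c => v c * w c ^ 2)

end Cfsg.Agent.Helper9.U23
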