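import Mathlib
import Cfsg.Prelude.Def_GeometricClasses
import Cfsg.Prelude.Def_LieClassical
import Cfsg.Agent.Helper9.AschPPU23C
import Cfsg.Agent.Helper4.AschTIE
import Cfsg.Agent.Helper7.AschWreathTwo
import Cfsg.Agent.Helper7.Ex27NF
import Cfsg.Agent.Helper1.AschPPUGU3
import Cfsg.Agent.Helper1.AschPPUB

/-!
# ASCH-PP-U piece U23, part D (helper9): the unitary elements of the standard tensor-wreath group `GL_3(4) ≀ S_2`
normalise the Weyl–Heisenberg group `3^{1+4}`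

`rhoI` is the representation `rhoMat3` read with indices in `Fin 2 → Fin 3`.
-/

set_option autoImplicit false
set_option linter.unusedVariables false

namespace Cfsg.Agent.Helper9.U23

open Cfsg Cfsg.Geo Cfsg.Agent.Helper4.AschTI Cfsg.Agent.Helper7.Ex27 Cfsg.Agent.Helper7.AschWr
  Cfsg.Agent.Helper9.AschPP
open scoped MatrixGroups Matrix

variable {F : Type*} [Field F]

/-- the index set in the `Fin 3` world -/
abbrev I3 : Type := Fin 2 → Fin 3

/-- the identity cast of matrices -/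
def castI (M : Matrix I3 I3 F) : Matrix J J F := M

theorem castI_mul (M N : Matrix I3 I3 F) : castI (M * N) = castI M * castI N := rfl

theorem castI_injective : Function.Injective (castI (F := F)) := fun _ _ h => h

theorem castI_ptens (M : Fin 2 → Matrix (Fin 3) (Fin 3) F) :
    castI (ptens M) = ptensJ (fun i => castM (M i)) := by
  ext x y
  show ∏ i, M i (x i) (y i) = M 0 (x 0) (y 0) * M 1 (x 1) (y 1)
  exact Fin.prod_univ_two (fun i => M i (x i) (y i))

theorem castI_fperm : castI (fperm (Equiv.swap 0 1) : Matrix I3 I3 F) = swJ := rfl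

/-- the representation with indices in `Fin 2 → Fin 3` -/
def rhoI (ω : F) (x : HW3) : Matrix I3 I3 F := rhoMat3 ω x

theorem castI_rhoI (ω : F) (x : HW3) : castI (rhoI ω x) = rhoMat3 ω x := rfl

variable {ω : F}

theorem rhoI_mul (hω : ω ^ 3 = 1) (x y : HW3) : rhoI ω (x * y) = rhoI ω x * rhoI ω y :=
  rhoMat3_mul hω x y

theorem rhoI_one : rhoI ω (1 : HW3) = 1 := rhoMat3_one

/-- the representation as a monoid homomorphism -/
def rhoHomI (ω : F) (hω : ω ^ 3 = 1) : HW3 →* Matrix I3 I3 F where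
  toFun := rhoI ω
  map_one' := rhoI_one
  map_mul' := rhoI_mul hω

theorem rhoI_injective (hω : ω ^ 2 + ω + 1 = 0) (h3 : (3 : F) ≠ 0) : Function.Injective (rhoI (F := F) ω) :=
  rhoMat3_injective hω h3

theorem span_range_rhoI (hω : ω ^ 2 + ω + 1 = 0) (h3 : (3 : F) ≠ 0) :
    Submodule.span F (Set.range (rhoI (F := F) ω)) = ⊤ :=
  span_range_rhoMat3 hω h3

theorem det_rhoI (hω : ω ^ 3 = 1) (x : HW3) : (rhoI ω x).det = 1 := det_rhoMat3 hω x

theorem rhoI_herm (hω : ω ^ 3 = 1) (x : HW3) (v w : I3 → F) :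
    ∑ c, (rhoI ω x *ᵥ v) c * (rhoI ω x *ᵥ w) c ^ 2 = ∑ c, v c * w c ^ 2 :=
  rhoMat3_herm hω x v w

/-- a unitary `3 × 3` matrix over `F_4` normalises the one-qutrit Weyl–Heisenberg matrices -/
theorem GU3_normalizes [Fintype F] (hF : Fintype.card F = 2 ^ 2) (hω : ω ^ 2 + ω + 1 = 0) (g : GL (Fin 3) F)
    (hg : g ∈ GU 3 F 2) (t u : ZMod 3) :
    ∃ a' t' u' : ZMod 3, castM (g : Matrix (Fin 3) (Fin 3) F) * w1 ω t u =
      pw ω a' • (w1 ω t' u' * castM (g : Matrix (Fin 3) (Fin 3) F)) := by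
  have hω3 := omega_cube hω
  have hgN := Cfsg.Agent.Helper1.AschPPU.GU3_two_le_normalizer_R0 hF ω hω hg
  have hr : Yg ^ t.val * Xg ω hω ^ u.val ∈ R0 ω hω :=
    Subgroup.mul_mem _ (Subgroup.pow_mem _ (Yg_mem ω hω) _) (Subgroup.pow_mem _ (Xg_mem ω hω) _)
  have hconj : g * (Yg ^ t.val * Xg ω hω ^ u.val) * g⁻¹ ∈ R0 ω hω :=
    (Subgroup.mem_normalizer_iff.1 hgN _).1 hr
  obtain ⟨a, m, n, hnf⟩ := R0_normal_form ω hω _ hconj
  have heq : g * (Yg ^ t.val * Xg ω hω ^ u.val) = sg (ωu ω hω) ^ a * Yg ^ m * Xg ω hω ^ n * g := by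
    rw [← hnf]; group
  have hval := congrArg (fun x : GL (Fin 3) F => castM (x : Matrix (Fin 3) (Fin 3) F)) heq
  simp only [Units.val_mul, Units.val_pow_eq_pow_val, Yg_val, Xg_val, sg_val, ωu_val] at hval
  refine ⟨(a : ZMod 3), (m : ZMod 3), (n : ZMod 3), ?_⟩
  have hYX : castM ((Ym : Matrix (Fin 3) (Fin 3) F) ^ t.val * Xm ω ^ u.val) = w1 ω t u := by
    rw [castM_YX hω3, ZMod.natCast_zmod_val, ZMod.natCast_zmod_val]
  have hpw : pw ω (a : ZMod 3) = ω ^ a := by
    rw [pw, ZMod.val_natCast]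
    exact (pow_eq_pow_mod a hω3).symm
  rw [castM_mul, hYX] at hval
  rw [hval, hpw]
  have h1 : ((ω • (1 : Matrix (Fin 3) (Fin 3) F)) ^ a * Ym ^ m * Xm ω ^ n * (g : Matrix (Fin 3) (Fin 3) F)) =
      ω ^ a • ((Ym ^ m * Xm ω ^ n) * (g : Matrix (Fin 3) (Fin 3) F)) := by
    rw [smul_pow, one_pow, Matrix.smul_mul, Matrix.one_mul, Matrix.smul_mul, Matrix.smul_mul, mul_assoc]
  rw [h1, castM_smul, castM_mul, castM_YX hω3]

/-- the unitary elements of the standard tensor-wreath group normalise the Weyl–Heisenberg group -/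
theorem tw_normalizes [Fintype F] (hF : Fintype.card F = 2 ^ 2) (hω : ω ^ 2 + ω + 1 = 0) (k : GL I3 F)
    (hk : k ∈ tensorWreathStandard 3 2 F)
    (hherm : ∀ v w : I3 → F, ∑ c, ((k : Matrix I3 I3 F) *ᵥ v) c * ((k : Matrix I3 I3 F) *ᵥ w) c ^ 2 =
      ∑ c, v c * w c ^ 2) (x : HW3) :
    ∃ x' : HW3, (k : Matrix I3 I3 F) * rhoI ω x = rhoI ω x' * (k : Matrix I3 I3 F) := by
  have hω3 := omega_cube hω
  rcases mem_or_mul_swap_mem hk with ⟨a, ha⟩ | ⟨a, ha⟩
  · -- a pure tensor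
    have hGU : ∀ i, a i ∈ GU 3 F 2 := by
      apply Cfsg.Agent.Helper1.AschPPU.ptens_mem_GU_two hF a
      rw [← ha]
      exact hherm
    obtain ⟨x', hx'⟩ := ptensJ_normalizes hω3 (fun i => castM ((a i : GL (Fin 3) F) : Matrix (Fin 3) (Fin 3) F))
      (fun i t u => GU3_normalizes hF hω (a i) (hGU i) t u) x
    refine ⟨x', ?_⟩
    apply castI_injective
    rw [castI_mul, castI_mul, castI_rhoI, castI_rhoI, ha, ptensGL_val, castI_ptens]
    exact hx'
  · -- a pure tensor times the swap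
    have hk' : k = ptensGL a * swapGL 3 F := by
      rw [← ha, mul_assoc, swapGL_mul_self, mul_one]
    have hsw : ((swapGL 3 F : GL I3 F) : Matrix I3 I3 F) = fperm (Equiv.swap 0 1) := rfl
    have hswherm : ∀ v w : I3 → F,
        ∑ c, ((fperm (Equiv.swap 0 1) : Matrix I3 I3 F) *ᵥ v) c *
          ((fperm (Equiv.swap 0 1) : Matrix I3 I3 F) *ᵥ w) c ^ 2 = ∑ c, v c * w c ^ 2 :=
      fun v w => swJ_herm v w
    have hGU : ∀ i, a i ∈ GU 3 F 2 := by
      apply Cfsg.Agent.Helper1.AschPPU.ptens_mem_GU_two hF a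
      intro v w
      have e : ((ptensGL a : GL I3 F) : Matrix I3 I3 F) = (k : Matrix I3 I3 F) * fperm (Equiv.swap 0 1) := by
        rw [← ha, Units.val_mul, hsw]
      rw [e]
      simp only [← Matrix.mulVec_mulVec]
      rw [hherm, hswherm]
    obtain ⟨x', hx'⟩ := ptensJ_normalizes hω3 (fun i => castM ((a i : GL (Fin 3) F) : Matrix (Fin 3) (Fin 3) F))
      (fun i t u => GU3_normalizes hF hω (a i) (hGU i) t u) (sw3 x)
    refine ⟨x', ?_⟩
    apply castI_injective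
    rw [castI_mul, castI_mul, castI_rhoI, castI_rhoI, hk', Units.val_mul, hsw, ptensGL_val, castI_mul, castI_ptens,
      castI_fperm, mul_assoc, swJ_normalizes, ← mul_assoc, hx', mul_assoc]

end Cfsg.Agent.Helper9.U23
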