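import Mathlib
import Cfsg.Prelude.Def_GeometricClasses
import Cfsg.Prelude.Def_LieClassical
import Cfsg.Agent.Helper9.AschPPU23D
import Cfsg.Agent.Helper9.AschPPT7D
import Cfsg.Agent.Helper3.AschOmE1A
import Cfsg.Agent.Helper5.AschU2b

/-!
# ASCH-PP-U piece U23 (helper9): `(GU_3(2) ≀ S_2) ∩ GU_9(2)` normalises a group `3^{1+4}` of symplectic type

Modulo the normalisation statement `NormStmt` (piece U23-A, helper5).
-/

set_option autoImplicit false
set_option linter.unusedVariables false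

namespace Cfsg.Agent.Helper9.U23

open Cfsg Cfsg.Geo Cfsg.Agent.Helper9.AschPP Cfsg.Agent.Helper3.AschOm
open scoped MatrixGroups Matrix

variable {F : Type*} [Field F]

section transport

variable {κ ι : Type*} [Fintype κ] [DecidableEq κ] [Fintype ι] [DecidableEq ι]
variable (Φ : (κ → F) ≃ₗ[F] (ι → F))

/-- conjugation of matrices by a linear equivalence -/
noncomputable def alphaG : Matrix κ κ F ≃ₐ[F] Matrix ι ι F :=
  (Matrix.toLinAlgEquiv').trans ((Φ.conjAlgEquiv F).trans Matrix.toLinAlgEquiv'.symm)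

theorem alphaG_eq (M : Matrix κ κ F) :
    alphaG Φ M = LinearMap.toMatrix' ((Φ : (κ → F) →ₗ[F] (ι → F)) ∘ₗ Matrix.toLin' M ∘ₗ
      (Φ.symm : (ι → F) →ₗ[F] (κ → F))) := rfl

theorem alphaG_mulVec (M : Matrix κ κ F) (x : ι → F) :
    alphaG Φ M *ᵥ x = Φ (M *ᵥ Φ.symm x) := by
  rw [alphaG_eq, ← Matrix.toLin'_apply, Matrix.toLin'_toMatrix']
  simp [Matrix.toLin'_apply]

theorem det_alphaG (M : Matrix κ κ F) : (alphaG Φ M).det = M.det := by
  rw [alphaG_eq, LinearMap.det_toMatrix', LinearMap.det_conj, LinearMap.det_toLin']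

theorem eq_alphaG_of_mulVec (g : Matrix ι ι F) (M : Matrix κ κ F)
    (h : ∀ x, Φ.symm (g *ᵥ x) = M *ᵥ Φ.symm x) : g = alphaG Φ M := by
  apply Matrix.toLin'.injective
  apply LinearMap.ext
  intro x
  rw [Matrix.toLin'_apply, Matrix.toLin'_apply, alphaG_mulVec, ← h x, LinearEquiv.apply_symm_apply]

end transport

section rep

variable (Φ : (I3 → F) ≃ₗ[F] (Fin 9 → F)) {ω : F} (hω : ω ^ 2 + ω + 1 = 0)

/-- the representation of `HW3` in `GL_9(F)` -/
noncomputable def rhoGL9 : HW3 →* GL (Fin 9) F :=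
  ((alphaG Φ).toMulEquiv.toMonoidHom.comp (rhoHomI ω (omega_cube hω))).toHomUnits

theorem rhoGL9_val (x : HW3) :
    ((rhoGL9 Φ hω x : GL (Fin 9) F) : Matrix (Fin 9) (Fin 9) F) = alphaG Φ (rhoI ω x) := by
  rw [rhoGL9, MonoidHom.coe_toHomUnits]
  rfl

theorem rhoGL9_injective (h3 : (3 : F) ≠ 0) : Function.Injective (rhoGL9 Φ hω) := by
  intro x y hxy
  have h := congrArg (fun g : GL (Fin 9) F => (g : Matrix (Fin 9) (Fin 9) F)) hxy
  simp only [rhoGL9_val] at h
  exact rhoI_injective hω h3 ((alphaG Φ).injective h)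

theorem matrixSet_range9 :
    matrixSet (rhoGL9 Φ hω).range = (alphaG Φ) '' Set.range (rhoI (F := F) ω) := by
  ext M
  constructor
  · rintro ⟨g, ⟨x, rfl⟩, rfl⟩
    exact ⟨rhoI ω x, ⟨x, rfl⟩, (rhoGL9_val Φ hω x).symm⟩
  · rintro ⟨_, ⟨x, rfl⟩, rfl⟩
    exact ⟨rhoGL9 Φ hω x, ⟨x, rfl⟩, rhoGL9_val Φ hω x⟩

theorem absIrred_range9 (h3 : (3 : F) ≠ 0) : ActsAbsolutelyIrreducibly (matrixSet (rhoGL9 Φ hω).range) := by
  apply absIrred_of_span_eq_top
  rw [matrixSet_range9]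
  have h1 : Submodule.span F ((alphaG Φ) '' Set.range (rhoI (F := F) ω)) =
      (Submodule.span F (Set.range (rhoI (F := F) ω))).map (alphaG Φ).toLinearMap := by
    rw [Submodule.map_span]
    rfl
  rw [h1, span_range_rhoI hω h3, Submodule.map_top, LinearMap.range_eq_top]
  exact (alphaG Φ).surjective

theorem range9_le_specialLinear : (rhoGL9 Φ hω).range ≤ specialLinear (Fin 9) F := by
  rintro _ ⟨x, rfl⟩
  show rhoGL9 Φ hω x ∈ (Matrix.GeneralLinearGroup.det : GL (Fin 9) F →* Fˣ).ker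
  rw [MonoidHom.mem_ker]
  apply Units.ext
  rw [Matrix.GeneralLinearGroup.val_det_apply, rhoGL9_val, det_alphaG, det_rhoI (omega_cube hω), Units.val_one]

theorem card_range9 (h3 : (3 : F) ≠ 0) : Nat.card (rhoGL9 Φ hω).range = 243 := by
  rw [← Nat.card_congr (MonoidHom.ofInjective (rhoGL9_injective Φ hω h3)).toEquiv, HW3.card_eq]

theorem card_center_range9 (h3 : (3 : F) ≠ 0) : Nat.card (Subgroup.center (rhoGL9 Φ hω).range) = 3 := by
  rw [← Nat.card_congr (Subgroup.centerCongr (MonoidHom.ofInjective (rhoGL9_injective Φ hω h3))).toEquiv,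
    HW3.card_center]

theorem symplecticType_range9 (h3 : (3 : F) ≠ 0) : IsSymplecticTypeGroup 3 (rhoGL9 Φ hω).range where
  prime := Nat.prime_three
  pGroup := IsPGroup.of_card (n := 5) (by rw [card_range9 Φ hω h3]; norm_num)
  cyclic_of_characteristic :=
    cyclic_of_characteristic_of_mulEquiv (MonoidHom.ofInjective (rhoGL9_injective Φ hω h3))
      HW3.cyclic_of_characteristic
  exponent_eq := by
    rw [← Monoid.exponent_eq_of_mulEquiv (MonoidHom.ofInjective (rhoGL9_injective Φ hω h3)), HW3.exponent_eq]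
    norm_num

/-- conjugation by the image of a matrix normalising the Weyl–Heisenberg group preserves the image of `HW3` -/
theorem conj_mem_range9 (g : GL (Fin 9) F) (k : Matrix I3 I3 F)
    (hg : (g : Matrix (Fin 9) (Fin 9) F) = alphaG Φ k)
    (hk : ∀ x : HW3, ∃ x' : HW3, k * rhoI ω x = rhoI ω x' * k)
    (h : GL (Fin 9) F) (hh : h ∈ (rhoGL9 Φ hω).range) :
    g * h * g⁻¹ ∈ (rhoGL9 Φ hω).range := by
  obtain ⟨x, rfl⟩ := hh
  obtain ⟨x', hx'⟩ := hk x
  refine ⟨x', ?_⟩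
  have : g * rhoGL9 Φ hω x = rhoGL9 Φ hω x' * g := by
    apply Units.ext
    rw [Units.val_mul, Units.val_mul, rhoGL9_val, rhoGL9_val, hg, ← map_mul, ← map_mul, hx']
  rw [this, mul_assoc, mul_inv_cancel, mul_one]

end rep

/-- the statement of piece U23-A (for `n = 9`, `q = 2`) -/
def NormStmt (F : Type*) [Field F] [Fintype F] : Prop :=
  ∀ (e : Fin 9 ≃ (Fin 2 → Fin 3)) (P : GL (Fin 9) F) (f₁ : (Fin 3 → F) → (Fin 3 → F) → F),
    IsUnitaryFormPow 2 f₁ →
    IsTensorPowerFormStructure (fun x : F => x ^ 2) (hermForm 9 F 2) f₁ e P →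
    ∃ P' : GL (Fin 9) F, tensorWreathSubgroup 3 2 e P ≤ tensorWreathSubgroup 3 2 e P' ∧
      ∀ x y : (Fin 2 → Fin 3) → F,
        hermForm 9 F 2 ((P' : Matrix (Fin 9) (Fin 9) F) *ᵥ (x ∘ e)) ((P' : Matrix (Fin 9) (Fin 9) F) *ᵥ (y ∘ e)) =
          ∑ a, x a * y a ^ 2

/-- a primitive cube root of unity in the field with four elements -/
theorem exists_omega [Fintype F] (hF : Fintype.card F = 2 ^ 2) :
    ∃ ω : F, ω ^ 2 + ω + 1 = 0 ∧ (3 : F) ≠ 0 := by
  classical
  have h2 : (2 : F) = 0 := by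
    haveI : CharP F 2 := by
      obtain ⟨p, hp⟩ := CharP.exists F
      obtain ⟨n, hpp, hn⟩ := FiniteField.card F p
      have : p = 2 := by
        have h1 : p ∣ 2 ^ 2 := by
          rw [← hF, hn]
          exact dvd_pow_self p n.ne_zero
        exact (Nat.prime_dvd_prime_iff_eq hpp Nat.prime_two).1 (hpp.dvd_of_dvd_pow h1)
      rw [← this]; exact hp
    exact CharP.cast_eq_zero F 2
  have h3 : (3 : F) ≠ 0 := by
    have : (3 : F) = 2 + 1 := by norm_num
    rw [this, h2, zero_add]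
    exact one_ne_zero
  -- an element different from 0 and 1
  have hcard : 2 < Fintype.card F := by rw [hF]; norm_num
  obtain ⟨ω, hω0, hω1⟩ : ∃ ω : F, ω ≠ 0 ∧ ω ≠ 1 := by
    by_contra hcon
    push Not at hcon
    have hsub : (Finset.univ : Finset F) ⊆ {0, 1} := by
      intro x _
      by_cases hx : x = 0
      · simp [hx]
      · simp [hcon x hx]
    have := Finset.card_le_card hsub
    rw [Finset.card_univ] at this
    have h2' : ({0, 1} : Finset F).card ≤ 2 := Finset.card_le_two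
    omega
  refine ⟨ω, ?_, h3⟩
  have hpow : ω ^ 3 = 1 := by
    have := FiniteField.pow_card_sub_one_eq_one ω hω0
    rw [hF] at this
    norm_num at this
    exact this
  have hfac : (ω - 1) * (ω ^ 2 + ω + 1) = 0 := by linear_combination hpow
  rcases mul_eq_zero.1 hfac with h | h
  · exact absurd (sub_eq_zero.1 h) hω1
  · exact h

/-- **U23** modulo the normalisation piece -/
theorem tensor_three_three_two_of [Fintype F] (hA : NormStmt F) (hF : Fintype.card F = 2 ^ 2)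
    (e : Fin 9 ≃ (Fin 2 → Fin 3)) (P : GL (Fin 9) F) (f₁ : (Fin 3 → F) → (Fin 3 → F) → F)
    (h₁ : IsUnitaryFormPow 2 f₁)
    (hT : IsTensorPowerFormStructure (fun x : F => x ^ 2) (hermForm 9 F 2) f₁ e P) :
    ∃ R : Subgroup (GL (Fin 9) F), IsSymplecticTypeGroup 3 R ∧ ActsAbsolutelyIrreducibly (matrixSet R) ∧
      R ≤ GU 9 F 2 ⊓ specialLinear (Fin 9) F ∧ Nat.card R = 243 ∧ Nat.card (Subgroup.center R) = 3 ∧
      tensorWreathSubgroup 3 2 e P ⊓ GU 9 F 2 ≤ subgroupNormalizer R := by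
  classical
  obtain ⟨ω, hω, h3⟩ := exists_omega hF
  have hω3 := omega_cube hω
  obtain ⟨P', hle, hstd⟩ := hA e P f₁ h₁ hT
  set A : Matrix (Fin 9) I3 F := Rg e P' with hAdef
  set B : Matrix I3 (Fin 9) F := Rg' e P' with hBdef
  have hAB : A * B = 1 := Rg_mul_Rg' e P'
  have hBA : B * A = 1 := Rg'_mul_Rg e P'
  have hstdA : ∀ x y : I3 → F, hermForm 9 F 2 (A *ᵥ x) (A *ᵥ y) = ∑ a, x a * y a ^ 2 := by
    intro x y
    rw [hAdef, ← mulVec_comp_g, ← mulVec_comp_g]
    exact hstd x y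
  let Φ : (I3 → F) ≃ₗ[F] (Fin 9 → F) :=
    { toFun := fun x => A *ᵥ x
      invFun := fun u => B *ᵥ u
      map_add' := fun x y => Matrix.mulVec_add A x y
      map_smul' := fun c x => Matrix.mulVec_smul A c x
      left_inv := fun x => by
        show B *ᵥ (A *ᵥ x) = x
        rw [Matrix.mulVec_mulVec, hBA, Matrix.one_mulVec]
      right_inv := fun u => by
        show A *ᵥ (B *ᵥ u) = u
        rw [Matrix.mulVec_mulVec, hAB, Matrix.one_mulVec] }
  have hΦ : ∀ x, Φ x = A *ᵥ x := fun x => rfl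
  have hΦs : ∀ u, Φ.symm u = B *ᵥ u := fun u => rfl
  refine ⟨(rhoGL9 Φ hω).range, symplecticType_range9 Φ hω h3, absIrred_range9 Φ hω h3,
    le_inf ?_ (range9_le_specialLinear Φ hω), card_range9 Φ hω h3, card_center_range9 Φ hω h3, ?_⟩
  · -- unitary
    rintro _ ⟨x, rfl⟩
    rw [Cfsg.Agent.Helper5.Asch.mem_GU_iff]
    intro u v
    rw [rhoGL9_val, alphaG_mulVec, alphaG_mulVec, hΦ, hΦ, hΦs, hΦs, hstdA, rhoI_herm hω3, ← hstdA,
      Matrix.mulVec_mulVec, Matrix.mulVec_mulVec, hAB, Matrix.one_mulVec, Matrix.one_mulVec]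
  · -- the normaliser
    have key : ∀ g : GL (Fin 9) F, g ∈ tensorWreathSubgroup 3 2 e P ⊓ GU 9 F 2 →
        ∀ h ∈ (rhoGL9 Φ hω).range, g * h * g⁻¹ ∈ (rhoGL9 Φ hω).range := by
      rintro g ⟨hgT, hgU⟩ h hh
      obtain ⟨k, hk, hgk⟩ := mem_tensorWreath (hle hgT)
      rw [← hAdef, ← hBdef] at hgk
      have hgα : (g : Matrix (Fin 9) (Fin 9) F) = alphaG Φ (k : Matrix I3 I3 F) := by
        apply eq_alphaG_of_mulVec
        intro u
        rw [hΦs, hΦs, hgk, Matrix.mulVec_mulVec, ← Matrix.mul_assoc, ← Matrix.mul_assoc, hBA, Matrix.one_mul,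
          ← Matrix.mulVec_mulVec]
      have hgA : ∀ x : I3 → F, (g : Matrix (Fin 9) (Fin 9) F) *ᵥ (A *ᵥ x) = A *ᵥ ((k : Matrix I3 I3 F) *ᵥ x) := by
        intro x
        rw [hgk, Matrix.mulVec_mulVec, Matrix.mul_assoc, Matrix.mul_assoc, hBA, Matrix.mul_one,
          ← Matrix.mulVec_mulVec]
      have hherm : ∀ v w : I3 → F, ∑ c, ((k : Matrix I3 I3 F) *ᵥ v) c * ((k : Matrix I3 I3 F) *ᵥ w) c ^ 2 =
          ∑ c, v c * w c ^ 2 := by
        intro v w
        rw [← hstdA, ← hgA, ← hgA, (Cfsg.Agent.Helper5.Asch.mem_GU_iff.1 hgU), hstdA]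
      exact conj_mem_range9 Φ hω g k hgα (tw_normalizes hF hω k hk hherm) h hh
    intro g hg
    show g ∈ Subgroup.normalizer ((rhoGL9 Φ hω).range : Set (GL (Fin 9) F))
    rw [Subgroup.mem_normalizer_iff]
    intro h
    constructor
    · exact key g hg h
    · intro hh
      have := key g⁻¹ (Subgroup.inv_mem _ hg) _ hh
      have e1 : g⁻¹ * (g * h * g⁻¹) * g⁻¹⁻¹ = h := by group
      rwa [e1] at this

end Cfsg.Agent.Helper9.U23
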