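import Mathlib
import Cfsg.Prelude.Def_GeometricClasses
import Cfsg.Prelude.Def_LieClassical
import Cfsg.Agent.Helper9.AschPPU23
import Cfsg.Agent.Helper5.AschU23A

/-!
# ASCH-PP-U piece U23 (helper9, with pieces by helper1, helper5, helper7): final statement
-/

set_option autoImplicit false
set_option linter.unusedVariables false

namespace Cfsg.Agent.Helper9.AschPPU

open Cfsg Cfsg.Geo
open scoped MatrixGroups Matrix

variable {F : Type*} [Field F]

/-- **U23**: `(GU_3(2) ≀ S_2) ∩ GU_9(2)` normalises a group `3^{1+4}` of symplectic type (exact stub of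
`notes/helper9_aschPPU_stubs.lean.txt`) -/
theorem tensor_three_three_two [Fintype F] (hF : Fintype.card F = 2 ^ 2) (e : Fin 9 ≃ (Fin 2 → Fin 3))
    (P : GL (Fin 9) F) (f₁ : (Fin 3 → F) → (Fin 3 → F) → F) (h₁ : IsUnitaryFormPow 2 f₁)
    (hT : IsTensorPowerFormStructure (fun x : F => x ^ 2) (hermForm 9 F 2) f₁ e P) :
    ∃ R : Subgroup (GL (Fin 9) F), IsSymplecticTypeGroup 3 R ∧ ActsAbsolutelyIrreducibly (matrixSet R) ∧
      R ≤ GU 9 F 2 ⊓ specialLinear (Fin 9) F ∧ Nat.card R = 243 ∧ Nat.card (Subgroup.center R) = 3 ∧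
      tensorWreathSubgroup 3 2 e P ⊓ GU 9 F 2 ≤ subgroupNormalizer R :=
  Cfsg.Agent.Helper9.U23.tensor_three_three_two_of
    (fun e P f₁ h₁ hT => Cfsg.Agent.Helper5.U23.tensorSquare_normalize 2 hF 3 e P f₁ h₁ hT) hF e P f₁ h₁ hT

end Cfsg.Agent.Helper9.AschPPU
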