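import Mathlib
import Cfsg.Agent.Helper9.AschPPT7C

/-!
# ASCH-PP-U piece U41, part A (helper9): monomial matrices with entries fourth roots of unity normalise the image of `HW`

Copy of `AschPPT7C` where the hypothesis "every non-zero element of `F` is a power of `ζ`" is replaced by the
hypothesis that the entries of the monomial matrix are fourth roots of unity.
-/

set_option autoImplicit false
set_option linter.unusedVariables false

namespace Cfsg.Agent.Helper9.AschPPU

open Cfsg.Agent.Helper9.AschPP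
open scoped Matrix

variable {F : Type*} [Field F]

variable {ζ : F} (hζ : ζ ^ 2 = -1) (h2 : (2 : F) ≠ 0)

include hζ in
/-- the fourth roots of unity are the powers of `ζ` -/
theorem exists_pw_of_pow_four (x : F) (hx : x ^ 4 = 1) : ∃ a : ZMod 4, x = ζ ^ a.val := by
  have hfac : (x - 1) * ((x + 1) * ((x - ζ) * (x + ζ))) = 0 := by
    linear_combination hx - (x ^ 2 - 1) * hζ
  rcases mul_eq_zero.1 hfac with h | h
  · exact ⟨0, by rw [ZMod.val_zero, pow_zero]; exact sub_eq_zero.1 h⟩
  rcases mul_eq_zero.1 h with h | h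
  · refine ⟨2, ?_⟩
    have hv : (2 : ZMod 4).val = 2 := by decide
    rw [hv, hζ]
    linear_combination h
  rcases mul_eq_zero.1 h with h | h
  · refine ⟨1, ?_⟩
    have hv : (1 : ZMod 4).val = 1 := by decide
    rw [hv, pow_one]
    exact sub_eq_zero.1 h
  · refine ⟨3, ?_⟩
    have hv : (3 : ZMod 4).val = 3 := by decide
    have h3 : ζ ^ 3 = -ζ := by
      have : ζ ^ 3 = ζ ^ 2 * ζ := by ring
      rw [this, hζ]; ring
    rw [hv, h3]
    linear_combination h

include hζ h2 in
theorem isD_exists' {d : V2 → F} (hd : IsD d) (h04 : d 0 ^ 4 = 1) :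
    ∃ (a : ZMod 4) (u : V2), ∀ z, d z = ζ ^ a.val * sgn F (dotV u z) := by
  obtain ⟨hne, hsq, hprod⟩ := hd
  obtain ⟨a, ha⟩ := exists_pw_of_pow_four hζ (d 0) h04
  obtain ⟨u, hu⟩ := exists_char h2 (fun z => d z / d 0) (div_self (hne 0))
    (fun z => by
      have : (d z / d 0) ^ 2 = 1 := by rw [div_pow, hsq z 0, div_self (pow_ne_zero _ (hne 0))]
      exact sq_eq_one_iff.1 this)
    (by
      rw [Finset.prod_div_distrib, hprod, Finset.prod_const, Finset.card_univ, card_V2, h04, div_one])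
  refine ⟨a, u, fun z => ?_⟩
  rw [← ha, ← hu z]
  field_simp [hne 0]

include hζ h2 in
theorem isD_ratio' (c : V2 → F) (hc : ∀ z, c z ≠ 0) (hc4 : ∀ z, c z ^ 4 = 1) (hprod : (∏ z, c z) ^ 2 = 1) (t : V2) :
    IsD (fun y => c (y + t) / c y) := by
  have hs : IsD (fun z => c z ^ 2) := by
    refine ⟨fun z => pow_ne_zero _ (hc z), fun z z' => ?_, ?_⟩
    · rw [← pow_mul, ← pow_mul]
      show c z ^ 4 = c z' ^ 4
      rw [hc4 z, hc4 z']
    · rw [Finset.prod_pow, hprod]
  obtain ⟨a, v, hv⟩ := isD_exists' hζ h2 hs (by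
    show (c 0 ^ 2) ^ 4 = 1
    rw [← pow_mul, mul_comm, pow_mul, hc4, one_pow])
  have hza : ζ ^ a.val ≠ 0 := pow_ne_zero _ (zeta_ne_zero hζ)
  have hconst : ∀ y, (c (y + t) / c y) ^ 2 = sgn F (dotV v t) := by
    intro y
    have h1 := hv (y + t)
    have h2' := hv y
    rw [div_pow, h1, h2', dotV_add_right, sgn_add]
    have := sgn_ne_zero (F := F) (dotV v y)
    field_simp
  refine ⟨fun z => div_ne_zero (hc _) (hc _), fun z z' => ?_, ?_⟩
  · rw [hconst z, hconst z']
  · rw [Finset.prod_div_distrib]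
    have : ∏ y, c (y + t) = ∏ y, c y := Equiv.prod_comp (Equiv.addRight t) c
    rw [this, div_self]
    intro h0
    rw [h0] at hprod
    simp at hprod

include hζ h2 in
/-- a monomial matrix of determinant one whose entries are fourth roots of unity normalises the image of `HW` -/
theorem mon_normalizes' (σ : Equiv.Perm V2) (c : V2 → F) (hc4 : ∀ z, c z ^ 4 = 1) (hdet : (mon σ c).det = 1)
    (x : HW) : ∃ x' : HW, mon σ c * rhoMat ζ x = rhoMat ζ x' * mon σ c := by
  have hc : ∀ z, c z ≠ 0 := by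
    intro z h0
    have := hc4 z
    rw [h0] at this
    norm_num at this
  have hprod : (∏ z, c z) ^ 2 = 1 := by
    rw [det_mon] at hdet
    have hs : ((Equiv.Perm.sign σ : ℤ) : F) ^ 2 = 1 := by
      rcases Int.units_eq_one_or (Equiv.Perm.sign σ) with h | h <;> rw [h] <;> simp
    calc (∏ z, c z) ^ 2 = (((Equiv.Perm.sign σ : ℤ) : F) * ∏ z, c z) ^ 2 := by rw [mul_pow, hs, one_mul]
      _ = 1 := by rw [hdet, one_pow]
  set d : V2 → F := fun y => ζ ^ x.a.val * sgn F (dotV x.u y) with hd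
  have hdD : IsD d := isD_char hζ x.a x.u
  have hd4 : ∀ y, d y ^ 4 = 1 := by
    intro y
    rw [hd]
    simp only
    rw [mul_pow, pw_pow_four hζ, one_mul]
    have : sgn F (dotV x.u y) ^ 4 = (sgn F (dotV x.u y) ^ 2) ^ 2 := by ring
    rw [this, sgn_sq, one_pow]
  have hD' : IsD (fun z => (c (σ.symm z + x.t) / c (σ.symm z)) * d (σ.symm z)) :=
    isD_comp (isD_mul (isD_ratio' hζ h2 c hc hc4 hprod x.t) hdD) σ.symm
  obtain ⟨a', u', hau⟩ := isD_exists' hζ h2 hD' (by
    show ((c (σ.symm 0 + x.t) / c (σ.symm 0)) * d (σ.symm 0)) ^ 4 = 1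
    rw [mul_pow, div_pow, hc4, hc4, hd4, div_one, one_mul])
  refine ⟨⟨a', σ x.t + σ 0, u'⟩, ?_⟩
  rw [rhoMat_eq_mon, rhoMat_eq_mon, mon_mul, mon_mul]
  simp only
  congr 1
  · funext y
    simp only [Function.comp_apply]
    exact perm_affine σ y x.t
  · funext y
    have := hau (σ y)
    simp only [Equiv.symm_apply_apply] at this
    rw [← this, hd]
    field_simp [hc y]

end Cfsg.Agent.Helper9.AschPPU
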