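import Mathlib
import Cfsg.Prelude.Def_GeometricClasses
import Cfsg.Prelude.Def_LieClassical
import Cfsg.Agent.Helper9.AschPPT7
import Cfsg.Agent.Helper9.AschPPU41A
import Cfsg.Agent.Helper9.AschPPU41B
import Cfsg.Agent.Helper5.AschU2b

/-!
# ASCH-PP-U piece U41 (helper9): the stabiliser in `SU_4(3)` of an orthogonal decomposition into four non-degenerate
lines normalises a group `4 ∘ 2^{1+4}` of symplectic type
-/

set_option autoImplicit false
set_option linter.unusedVariables false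

namespace Cfsg.Agent.Helper9.AschPPU

open Cfsg Cfsg.Geo Cfsg.Agent.Helper9.AschPP
open scoped MatrixGroups Matrix

variable {F : Type*} [Field F]

/-- a square root of `-1` in the field with nine elements -/
theorem exists_zeta_nine [Fintype F] (hF : Fintype.card F = 3 ^ 2) : ∃ ζ : F, ζ ^ 2 = -1 ∧ (2 : F) ≠ 0 := by
  classical
  have h3 : (3 : F) = 0 := by
    haveI : CharP F 3 := by
      obtain ⟨p, hp⟩ := CharP.exists F
      obtain ⟨n, hpp, hn⟩ := FiniteField.card F p
      have : p = 3 := by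
        have h1 : p ∣ 3 ^ 2 := by
          rw [← hF, hn]
          exact dvd_pow_self p n.ne_zero
        exact (Nat.prime_dvd_prime_iff_eq hpp Nat.prime_three).1 (hpp.dvd_of_dvd_pow h1)
      rw [← this]; exact hp
    exact CharP.cast_eq_zero F 3
  have h2 : (2 : F) ≠ 0 := by
    intro h
    have : (1 : F) = 3 - 2 := by norm_num
    rw [h3, h, sub_zero] at this
    exact one_ne_zero this
  obtain ⟨b, hb⟩ := Cfsg.Agent.Helper5.AschU.exists_norm_eq hF (-1 : F) (by
    rw [Odd.neg_one_pow (by decide)]) (neg_ne_zero.2 one_ne_zero)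
  refine ⟨b ^ 2, ?_, h2⟩
  rw [← pow_mul]
  exact hb

section rep

variable (Φ : (V2 → F) ≃ₗ[F] (Fin 4 → F)) {ζ : F} (hζ : ζ ^ 2 = -1)

theorem mon_add_mulVec (t : V2) (d v : V2 → F) (y : V2) :
    (mon (fun y => y + t) d *ᵥ v) (y + t) = d y * v y :=
  mon_mulVec_apply (Equiv.addRight t) d v y

include hζ in
/-- the image of `HW` consists of unitary matrices (for `q = 3`) when `Φ` carries the standard form to the
standard form -/
theorem range_le_GU_three
    (hΦ : ∀ a a' : V2 → F, hermForm 4 F 3 (Φ a) (Φ a') = ∑ z, a z * a' z ^ 3) :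
    (rhoGL Φ hζ).range ≤ GU 4 F 3 := by
  rintro _ ⟨x, rfl⟩
  rw [Cfsg.Agent.Helper5.Asch.mem_GU_iff]
  intro u v
  rw [rhoGL_val, alphaT_mulVec, alphaT_mulVec, hΦ]
  have huv : hermForm 4 F 3 u v = ∑ z, Φ.symm u z * Φ.symm v z ^ 3 := by
    rw [← hΦ, LinearEquiv.apply_symm_apply, LinearEquiv.apply_symm_apply]
  rw [huv, ← Equiv.sum_comp (Equiv.addRight x.t)]
  apply Finset.sum_congr rfl
  intro y _
  rw [Equiv.coe_addRight, rhoMat_eq_mon, mon_add_mulVec, mon_add_mulVec]
  have h4 : (ζ ^ x.a.val * sgn F (dotV x.u y)) ^ 4 = 1 := by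
    rw [mul_pow, pw_pow_four hζ, one_mul]
    have : sgn F (dotV x.u y) ^ 4 = (sgn F (dotV x.u y) ^ 2) ^ 2 := by ring
    rw [this, sgn_sq, one_pow]
  calc ζ ^ x.a.val * sgn F (dotV x.u y) * Φ.symm u y * (ζ ^ x.a.val * sgn F (dotV x.u y) * Φ.symm v y) ^ 3
      = (ζ ^ x.a.val * sgn F (dotV x.u y)) ^ 4 * (Φ.symm u y * Φ.symm v y ^ 3) := by ring
    _ = Φ.symm u y * Φ.symm v y ^ 3 := by rw [h4, one_mul]

variable (h2 : (2 : F) ≠ 0)

include h2 in
/-- conjugation by the image of a monomial matrix of determinant one with entries fourth roots of unity preserves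
the image of `HW` -/
theorem conj_mem_range' (g : GL (Fin 4) F) (σ : Equiv.Perm V2) (c : V2 → F) (hc4 : ∀ z, c z ^ 4 = 1)
    (hg : (g : Matrix (Fin 4) (Fin 4) F) = alphaT Φ (mon σ c))
    (hdet : (g : Matrix (Fin 4) (Fin 4) F).det = 1) (h : GL (Fin 4) F) (hh : h ∈ (rhoGL Φ hζ).range) :
    g * h * g⁻¹ ∈ (rhoGL Φ hζ).range := by
  obtain ⟨x, rfl⟩ := hh
  have hdet' : (mon σ c).det = 1 := by rw [← det_alphaT Φ, ← hg, hdet]
  obtain ⟨x', hx'⟩ := mon_normalizes' hζ h2 σ c hc4 hdet' x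
  refine ⟨x', ?_⟩
  have : g * rhoGL Φ hζ x = rhoGL Φ hζ x' * g := by
    apply Units.ext
    rw [Units.val_mul, Units.val_mul, rhoGL_val, rhoGL_val, hg, ← map_mul, ← map_mul, hx']
  rw [this, mul_assoc, mul_inv_cancel, mul_one]

end rep

/-- **U41** (exact stub of `notes/helper9_su4_stubs.lean.txt`) -/
theorem c2_lines_three_unitary [Fintype F] (hF : Fintype.card F = 3 ^ 2) (D : Fin 4 → Submodule F (Fin 4 → F))
    (hD : IsNondegenerateMDecomposition (hermForm 4 F 3) 1 D) :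
    ∃ R : Subgroup (GL (Fin 4) F), IsSymplecticTypeGroup 2 R ∧ ActsAbsolutelyIrreducibly (matrixSet R) ∧
      R ≤ GU 4 F 3 ⊓ specialLinear (Fin 4) F ∧ Nat.card R = 64 ∧ Nat.card (Subgroup.center R) = 4 ∧
      decompositionStabilizer D ⊓ (GU 4 F 3 ⊓ specialLinear (Fin 4) F) ≤ subgroupNormalizer R := by
  classical
  obtain ⟨ζ, hζ, h2⟩ := exists_zeta_nine hF
  obtain ⟨b, hb1, hb2, hON⟩ := exists_orthonormal_line_basis hF D hD
  let e : Fin 4 ≃ V2 := Fintype.equivOfCardEq (by rw [card_V2, Fintype.card_fin])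
  set Φ : (V2 → F) ≃ₗ[F] (Fin 4 → F) := (LinearEquiv.funCongrLeft F F e).trans b.equivFun.symm with hΦ
  have hΦsymm : ∀ (x : Fin 4 → F) (y : V2), Φ.symm x y = b.equivFun x (e.symm y) := by
    intro x y
    rw [hΦ]
    simp [LinearEquiv.funCongrLeft]
  have hΦherm : ∀ a a' : V2 → F, hermForm 4 F 3 (Φ a) (Φ a') = ∑ z, a z * a' z ^ 3 := by
    intro a a'
    rw [hermForm_of_orthonormal hF b hON, ← Equiv.sum_comp e.symm]
    apply Finset.sum_congr rfl
    intro z _
    rw [← hΦsymm, ← hΦsymm, LinearEquiv.symm_apply_apply, LinearEquiv.symm_apply_apply]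
  refine ⟨(rhoGL Φ hζ).range, symplecticType_range Φ hζ h2, absIrred_range Φ hζ h2,
    le_inf (range_le_GU_three Φ hζ hΦherm) (range_le_specialLinear Φ hζ), card_range Φ hζ h2,
    card_center_range Φ hζ h2, ?_⟩
  -- the normaliser
  have key : ∀ g : GL (Fin 4) F, g ∈ decompositionStabilizer D ⊓ (GU 4 F 3 ⊓ specialLinear (Fin 4) F) →
      ∀ h ∈ (rhoGL Φ hζ).range, g * h * g⁻¹ ∈ (rhoGL Φ hζ).range := by
    rintro g ⟨hgD, hgU, hg1⟩ h hh
    obtain ⟨σ₀, c₀, hc₀, hmon⟩ := Cfsg.Agent.Helper7.Asch.exists_monomial b hb1 hb2 hgD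
    have hdet : (g : Matrix (Fin 4) (Fin 4) F).det = 1 := by
      have h1 : Matrix.GeneralLinearGroup.det g = 1 := MonoidHom.mem_ker.1 hg1
      have := congrArg Units.val h1
      simpa using this
    -- the entries are fourth roots of unity
    have hc4 : ∀ i, c₀ i ^ 4 = 1 := by
      intro i
      have h1 := (Cfsg.Agent.Helper5.Asch.mem_GU_iff.1 hgU) (b i) (b i)
      rw [hON, if_pos rfl, hermForm_of_orthonormal hF b hON, ← Equiv.sum_comp σ₀, Finset.sum_eq_single i] at h1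
      · rw [hmon, Module.Basis.equivFun_self, if_pos rfl, mul_one] at h1
        rw [← h1]; ring
      · intro j _ hj
        rw [hmon, Module.Basis.equivFun_self, if_neg (fun h => hj h.symm), mul_zero, zero_mul]
      · intro h; exact absurd (Finset.mem_univ _) h
    set σ : Equiv.Perm V2 := (e.symm.trans σ₀).trans e with hσ
    set c : V2 → F := fun y => c₀ (e.symm y) with hc
    have hgα : (g : Matrix (Fin 4) (Fin 4) F) = alphaT Φ (mon σ c) := by
      apply eq_alphaT_of_mulVec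
      intro x
      funext z
      obtain ⟨y, rfl⟩ := σ.surjective z
      rw [mon_mulVec_apply, hΦsymm, hΦsymm]
      have h1 : e.symm (σ y) = σ₀ (e.symm y) := by
        rw [hσ]
        simp
      rw [h1, hmon x (e.symm y)]
    exact conj_mem_range' Φ hζ h2 g σ c (fun z => hc4 _) hgα hdet h hh
  intro g hg
  show g ∈ Subgroup.normalizer ((rhoGL Φ hζ).range : Set (GL (Fin 4) F))
  rw [Subgroup.mem_normalizer_iff]
  intro h
  constructor
  · exact key g hg h
  · intro hh
    have := key g⁻¹ (Subgroup.inv_mem _ hg) _ hh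
    have e1 : g⁻¹ * (g * h * g⁻¹) * g⁻¹⁻¹ = h := by group
    rwa [e1] at this

end Cfsg.Agent.Helper9.AschPPU
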