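import Mathlib
import Cfsg.Prelude.Def_GeometricClasses
import Cfsg.Prelude.Def_LieClassical
import Cfsg.Agent.Helper4.AschPPUD2B
import Cfsg.Agent.Helper8.GUOrder
import Cfsg.Agent.Helper9.AschPPT6
import Cfsg.Agent.Helper9.AschPPU42A
import Cfsg.Agent.Helper9.AschPPU42B

set_option autoImplicit false
set_option linter.unusedVariables false
set_option linter.unusedSectionVars false

namespace Cfsg.Agent.Helper9.AschPPU42

open Cfsg Cfsg.Geo Cfsg.Agent.Helper3.AschU Cfsg.Agent.Helper7.Herm Cfsg.Agent.Helper9.AschPP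
open scoped MatrixGroups Matrix

variable {F : Type*} [Field F] [Fintype F] {q : ℕ}

theorem exists_not_fixed (hF : Fintype.card F = q ^ 2) : ∃ μ : F, μ ^ q ≠ μ := by
  by_contra hcon
  push Not at hcon
  have h1 := Cfsg.Agent.Helper8.UnitaryLines.card_fixed hF
  have h2 : Nat.card {c : F // c ^ q = c} = Nat.card F :=
    Nat.card_congr (Equiv.subtypeUnivEquiv hcon)
  rw [h1, Nat.card_eq_fintype_card, hF] at h2
  have h3 := two_le_q hF
  nlinarith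

/-- the form in the rational basis, divided by `μ - μ ^ q` -/
def Omb (t : F) : Matrix (Fin 4) (Fin 4) F := !![0, 0, 0, 1; 0, 0, -1, 0; 0, 1, 0, t; -1, 0, -t, 0]

theorem Smat_gram (hF : Fintype.card F = q ^ 2) (μ : F) :
    (Smat μ (μ ^ q))ᵀ * Om0 F * (Smat μ (μ ^ q)).map (sigq hF : F →+* F) =
      (μ - μ ^ q) • Omb (μ + μ ^ q) := by
  have hqq : (μ ^ q) ^ q = μ := pow_q_pow_q hF μ
  have h0 : (0 : F) ^ q = 0 := zero_pow (by have := two_le_q hF; omega)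
  ext i j
  rw [uni_entry]
  fin_cases i <;> fin_cases j <;> simp [Smat, Omb, hqq, h0] <;> ring

omit [Fintype F] in
theorem Omb_skew (t : F) : (Omb t)ᵀ = -Omb t := by
  ext i j
  fin_cases i <;> fin_cases j <;> simp [Omb]

omit [Fintype F] in
theorem Omb_diag (t : F) (i : Fin 4) : Omb t i i = 0 := by
  fin_cases i <;> simp [Omb]

omit [Fintype F] in
theorem Omb_mem (F₁ : Subfield F) {t : F} (ht : t ∈ F₁) (i j : Fin 4) : Omb t i j ∈ F₁ := by
  fin_cases i <;> fin_cases j <;> simp [Omb, ht]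

/-- **U42** (exact stub of `notes/helper9_su4_stubs.lean.txt`) -/
theorem ts_pair_small (q : ℕ) (hF : Fintype.card F = q ^ 2) (hq : q ≤ 3)
    (D : Fin 2 → Submodule F (Fin 4 → F)) (hD : IsMDecomposition 2 D)
    (hts : ∀ i, IsTotallySingularFor (hermForm 4 F q) (D i)) :
    ∃ (F₀ : Subfield F) (P : GL (Fin 4) F) (ζ : F), Fintype.card F = Nat.card F₀ ^ 2 ∧ ζ ≠ 0 ∧ ζ + ζ ^ q = 0 ∧
      IsFormRationalStructure (hermForm 4 F q) F₀ ζ P ∧
      (∀ u : Fin 4 → F, (∀ i, u i ∈ F₀) → hermForm 4 F q ((P : Matrix (Fin 4) (Fin 4) F) *ᵥ u)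
        ((P : Matrix (Fin 4) (Fin 4) F) *ᵥ u) = 0) ∧
      decompositionStabilizer D ⊓ (GU 4 F q ⊓ specialLinear (Fin 4) F) ≤ subfieldSubgroup F₀ P := by
  classical
  obtain ⟨p, hpmem, hpz, hpG⟩ := exists_normal_basis hF D hD hts
  obtain ⟨Pp, hPp, hPpinv⟩ := exists_GL_of_basis p
  obtain ⟨μ, hμ⟩ := exists_not_fixed hF
  set σ : F →+* F := (sigq hF : F →+* F) with hσ
  have hσa : ∀ x : F, σ x = x ^ q := fun x => rfl
  have hΓp : (Pp : Matrix (Fin 4) (Fin 4) F)ᵀ * (Pp : Matrix (Fin 4) (Fin 4) F).map σ = Om0 F := by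
    ext k l
    rw [← hpG k l]
    simp [Matrix.mul_apply, hermForm, hPp, hσa]
  have hSdet : (Smat μ (μ ^ q)).det ≠ 0 := by
    rw [Smat_det]
    exact mul_ne_zero (sub_ne_zero.2 hμ) (sub_ne_zero.2 hμ)
  set Sg : GL (Fin 4) F := Matrix.GeneralLinearGroup.mkOfDetNeZero (Smat μ (μ ^ q)) hSdet with hSg
  have hSgv : (Sg : Matrix (Fin 4) (Fin 4) F) = Smat μ (μ ^ q) := rfl
  set P : GL (Fin 4) F := Pp * Sg with hP
  set F₁ := Cfsg.Agent.Helper4.AschPPU.fixq hF with hF₁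
  set ζ' := μ - μ ^ q with hζ'
  set t := μ + μ ^ q with ht
  have hζ'0 : ζ' ≠ 0 := sub_ne_zero.2 (Ne.symm hμ)
  have hζ'q : ζ' ^ q = -ζ' := by
    rw [hζ']
    have := map_sub (sigq hF) μ (μ ^ q)
    simp only [sigq_apply] at this
    rw [this, pow_q_pow_q hF]
    ring
  have htq : t ∈ F₁ := by
    show t ^ q = t
    rw [ht, add_pow_q hF, pow_q_pow_q hF]
    ring
  have hPgram : (P : Matrix (Fin 4) (Fin 4) F)ᵀ * (P : Matrix (Fin 4) (Fin 4) F).map σ = ζ' • Omb t := by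
    rw [hP, Units.val_mul, Matrix.transpose_mul, Matrix.map_mul, hSgv]
    calc (Smat μ (μ ^ q))ᵀ * (Pp : Matrix (Fin 4) (Fin 4) F)ᵀ *
          ((Pp : Matrix (Fin 4) (Fin 4) F).map σ * (Smat μ (μ ^ q)).map σ)
        = (Smat μ (μ ^ q))ᵀ * ((Pp : Matrix (Fin 4) (Fin 4) F)ᵀ * (Pp : Matrix (Fin 4) (Fin 4) F).map σ) *
          (Smat μ (μ ^ q)).map σ := by simp only [Matrix.mul_assoc]
      _ = _ := by rw [hΓp, Smat_gram hF μ]
  have hform : ∀ u v : Fin 4 → F, hermForm 4 F q ((P : Matrix (Fin 4) (Fin 4) F) *ᵥ u)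
      ((P : Matrix (Fin 4) (Fin 4) F) *ᵥ v) = ζ' * (u ⬝ᵥ (Omb t *ᵥ fun i => v i ^ q)) := by
    intro u v
    rw [Cfsg.Agent.Helper8.GUOrder.hermForm_mulVec_mulVec hF]
    have : (P : Matrix (Fin 4) (Fin 4) F).map (· ^ q) = (P : Matrix (Fin 4) (Fin 4) F).map σ := rfl
    rw [this, hPgram, Matrix.smul_mulVec, dotProduct_smul, smul_eq_mul]
  have hcard : Fintype.card F = Nat.card F₁ ^ 2 := by
    rw [Cfsg.Agent.Helper4.AschPPU.card_fixq hF, hF]
  refine ⟨F₁, P, ζ'⁻¹, hcard, inv_ne_zero hζ'0, ?_, ?_, ?_, ?_⟩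
  · rw [inv_pow, hζ'q, inv_neg, add_neg_cancel]
  · intro u v hu hv
    rw [hform, ← mul_assoc, inv_mul_cancel₀ hζ'0, one_mul]
    have hv' : (fun i => v i ^ q) = v := funext fun i => hv i
    rw [hv']
    simp only [dotProduct, Matrix.mulVec]
    exact Subfield.sum_mem _ fun i _ => F₁.mul_mem (hu i)
      (Subfield.sum_mem _ fun j _ => F₁.mul_mem (Omb_mem F₁ htq i j) (hv j))
  · intro u hu
    rw [hform]
    have hu' : (fun i => u i ^ q) = u := funext fun i => hu i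
    rw [hu']
    have := Cfsg.Agent.Helper4.AschTI.bform_self_eq_zero (Omb t) (Omb_skew t) (Omb_diag t) u
    unfold Cfsg.Agent.Helper4.AschTI.bform at this
    rw [this, mul_zero]
  · -- the group
    rintro g ⟨⟨ρ, hρ⟩, hgU, hg1⟩
    set g' : GL (Fin 4) F := Pp⁻¹ * g * Pp with hg'
    set h' : GL (Fin 4) F := P⁻¹ * g * P with hh'
    have hg'ent : ∀ i k, (g' : Matrix (Fin 4) (Fin 4) F) i k =
        p.repr ((g : Matrix (Fin 4) (Fin 4) F) *ᵥ p k) i := by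
      intro i k
      have h1 : (g' : Matrix (Fin 4) (Fin 4) F) = ((Pp⁻¹ : GL (Fin 4) F) : Matrix (Fin 4) (Fin 4) F) *
          ((g : Matrix (Fin 4) (Fin 4) F) * (Pp : Matrix (Fin 4) (Fin 4) F)) := by
        rw [hg', Units.val_mul, Units.val_mul, Matrix.mul_assoc]
      have h2 : (fun j => ((g : Matrix (Fin 4) (Fin 4) F) * (Pp : Matrix (Fin 4) (Fin 4) F)) j k) =
          (g : Matrix (Fin 4) (Fin 4) F) *ᵥ p k := by
        funext j
        simp [Matrix.mul_apply, Matrix.mulVec, dotProduct, hPp]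
      rw [h1, Matrix.mul_apply, ← hPpinv, ← h2]
      rfl
    have hgmem : ∀ k : Fin 4, (g : Matrix (Fin 4) (Fin 4) F) *ᵥ p k ∈ D (ρ (e4.symm k).1) := by
      intro k
      rw [← hρ]
      exact ⟨p k, hpmem k, by rw [Matrix.toLin'_apply]⟩
    have hzp : ∀ i k : Fin 4, ρ (e4.symm k).1 ≠ (e4.symm i).1 → (g' : Matrix (Fin 4) (Fin 4) F) i k = 0 := by
      intro i k hne
      rw [hg'ent]
      exact hpz _ _ i (hgmem k) hne
    have hρ01 : (ρ 0 = 0 ∧ ρ 1 = 1) ∨ (ρ 0 = 1 ∧ ρ 1 = 0) := by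
      have h1 : ρ 0 ≠ ρ 1 := fun h => by simpa using ρ.injective h
      have h2 : ∀ i : Fin 2, i = 0 ∨ i = 1 := by decide
      rcases h2 (ρ 0) with h | h <;> rcases h2 (ρ 1) with h' | h'
      · exact absurd (h.trans h'.symm) h1
      · exact Or.inl ⟨h, h'⟩
      · exact Or.inr ⟨h, h'⟩
      · exact absurd (h.trans h'.symm) h1
    have e0 : (e4.symm 0).1 = 0 := rfl
    have e1 : (e4.symm 1).1 = 0 := rfl
    have e2 : (e4.symm 2).1 = 1 := rfl
    have e3 : (e4.symm 3).1 = 1 := rfl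
    have hpat : ((g' : Matrix (Fin 4) (Fin 4) F) 0 2 = 0 ∧ (g' : Matrix (Fin 4) (Fin 4) F) 0 3 = 0 ∧
        (g' : Matrix (Fin 4) (Fin 4) F) 1 2 = 0 ∧ (g' : Matrix (Fin 4) (Fin 4) F) 1 3 = 0 ∧
        (g' : Matrix (Fin 4) (Fin 4) F) 2 0 = 0 ∧ (g' : Matrix (Fin 4) (Fin 4) F) 2 1 = 0 ∧
        (g' : Matrix (Fin 4) (Fin 4) F) 3 0 = 0 ∧ (g' : Matrix (Fin 4) (Fin 4) F) 3 1 = 0) ∨
        ((g' : Matrix (Fin 4) (Fin 4) F) 0 0 = 0 ∧ (g' : Matrix (Fin 4) (Fin 4) F) 0 1 = 0 ∧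
        (g' : Matrix (Fin 4) (Fin 4) F) 1 0 = 0 ∧ (g' : Matrix (Fin 4) (Fin 4) F) 1 1 = 0 ∧
        (g' : Matrix (Fin 4) (Fin 4) F) 2 2 = 0 ∧ (g' : Matrix (Fin 4) (Fin 4) F) 2 3 = 0 ∧
        (g' : Matrix (Fin 4) (Fin 4) F) 3 2 = 0 ∧ (g' : Matrix (Fin 4) (Fin 4) F) 3 3 = 0) := by
      rcases hρ01 with ⟨s0, s1⟩ | ⟨s0, s1⟩
      · left
        refine ⟨hzp 0 2 ?_, hzp 0 3 ?_, hzp 1 2 ?_, hzp 1 3 ?_, hzp 2 0 ?_, hzp 2 1 ?_, hzp 3 0 ?_, hzp 3 1 ?_⟩ <;>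
          simp only [e0, e1, e2, e3, s0, s1] <;> decide
      · right
        refine ⟨hzp 0 0 ?_, hzp 0 1 ?_, hzp 1 0 ?_, hzp 1 1 ?_, hzp 2 2 ?_, hzp 2 3 ?_, hzp 3 2 ?_, hzp 3 3 ?_⟩ <;>
          simp only [e0, e1, e2, e3, s0, s1] <;> decide
    -- unitarity
    have hgU' : (g : Matrix (Fin 4) (Fin 4) F)ᵀ * (g : Matrix (Fin 4) (Fin 4) F).map σ = 1 :=
      (Cfsg.Agent.Helper8.GUOrder.mem_GU_iff hF g).1 hgU
    have hPg : (Pp : Matrix (Fin 4) (Fin 4) F) * (g' : Matrix (Fin 4) (Fin 4) F) =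
        (g : Matrix (Fin 4) (Fin 4) F) * (Pp : Matrix (Fin 4) (Fin 4) F) := by
      rw [← Units.val_mul, ← Units.val_mul, hg']
      congr 1
      group
    have huni : (g' : Matrix (Fin 4) (Fin 4) F)ᵀ * Om0 F * (g' : Matrix (Fin 4) (Fin 4) F).map σ = Om0 F := by
      calc (g' : Matrix (Fin 4) (Fin 4) F)ᵀ * Om0 F * (g' : Matrix (Fin 4) (Fin 4) F).map σ
          = ((Pp : Matrix (Fin 4) (Fin 4) F) * (g' : Matrix (Fin 4) (Fin 4) F))ᵀ *
            ((Pp : Matrix (Fin 4) (Fin 4) F) * (g' : Matrix (Fin 4) (Fin 4) F)).map σ := by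
            rw [← hΓp, Matrix.transpose_mul, Matrix.map_mul]
            simp only [Matrix.mul_assoc]
        _ = (Pp : Matrix (Fin 4) (Fin 4) F)ᵀ * ((g : Matrix (Fin 4) (Fin 4) F)ᵀ *
            (g : Matrix (Fin 4) (Fin 4) F).map σ) * (Pp : Matrix (Fin 4) (Fin 4) F).map σ := by
            rw [hPg, Matrix.transpose_mul, Matrix.map_mul]
            simp only [Matrix.mul_assoc]
        _ = Om0 F := by rw [hgU', Matrix.mul_one, hΓp]
    have hdet : (g' : Matrix (Fin 4) (Fin 4) F).det = 1 := by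
      have h1 : (g : Matrix (Fin 4) (Fin 4) F).det = 1 := by
        have h1 : Matrix.GeneralLinearGroup.det g = 1 := MonoidHom.mem_ker.1 hg1
        have := congrArg Units.val h1
        simpa using this
      have h2 := congrArg Matrix.det hPg
      rw [Matrix.det_mul, Matrix.det_mul, h1, one_mul] at h2
      have hPpdet : (Pp : Matrix (Fin 4) (Fin 4) F).det ≠ 0 :=
        ((Matrix.isUnit_iff_isUnit_det _).1 Pp.isUnit).ne_zero
      exact mul_left_cancel₀ hPpdet (by rw [h2, mul_one])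
    obtain ⟨c, hc⟩ := core_twisted hF hq (g' : Matrix (Fin 4) (Fin 4) F) hpat huni hdet
    have hSh : Smat μ (μ ^ q) * (h' : Matrix (Fin 4) (Fin 4) F) =
        (g' : Matrix (Fin 4) (Fin 4) F) * Smat μ (μ ^ q) := by
      rw [← hSgv, ← Units.val_mul, ← Units.val_mul, hh', hg', hP]
      congr 1
      group
    have htw := transfer hF hμ (g' : Matrix (Fin 4) (Fin 4) F) (h' : Matrix (Fin 4) (Fin 4) F) hSh c hc
    have hmem : ∀ x, σ x = x → x ∈ F₁ := fun x hx => hx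
    have hre : h' ∈ (Matrix.GeneralLinearGroup.map (F₁.subtype : F₁ →+* F)).range ⊔ scalars (Fin 4) F :=
      Cfsg.Agent.Helper4.AschPPU.mem_sup_of_twisted (by norm_num) σ F₁ hmem h' c (fun i j => htw i j)
    unfold subfieldSubgroup
    rw [Subgroup.mem_map]
    refine ⟨h', hre, ?_⟩
    show P * h' * P⁻¹ = g
    rw [hh']
    group

end Cfsg.Agent.Helper9.AschPPU42
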