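import Mathlib
import Cfsg.Prelude.Def_GeometricClasses
import Cfsg.Agent.Helper9.AschPPUMain
import Cfsg.Agent.Helper9.AschPPFinalA

/-!
# ASCH-PP-U final (helper9): `SU_8` (S5820), modulo the piece UD2
-/

set_option autoImplicit false
set_option linter.unusedVariables false

namespace Cfsg.Agent.Helper9.AschPPU

open Cfsg Cfsg.Geo Cfsg.Agent.Lead.Asch Cfsg.Agent.Helper3.AschCU Cfsg.Agent.Helper9.AschPP
open scoped MatrixGroups Matrix Kronecker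

/-- the statement of piece UD2 -/
def UD2Stmt (n : ℕ) (F : Type*) [Field F] [Fintype F] (q : ℕ) : Prop :=
  ∀ (k : ℕ), 1 ≤ k → ∀ (e : Fin n ≃ (Fin k → Fin 2)) (Pm : GL (Fin n) F) (f₁ : (Fin 2 → F) → (Fin 2 → F) → F),
    IsUnitaryFormPow q f₁ → IsTensorPowerFormStructure (fun x : F => x ^ q) (hermForm n F q) f₁ e Pm →
    (∃ (F₁ : Subfield F) (P : GL (Fin n) F) (ζ : F), Fintype.card F = Nat.card F₁ ^ 2 ∧ ζ ≠ 0 ∧ ζ + ζ ^ q = 0 ∧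
      IsFormRationalStructure (hermForm n F q) F₁ ζ P ∧
      (∀ u : Fin n → F, (∀ i, u i ∈ F₁) → hermForm n F q ((P : Matrix (Fin n) (Fin n) F) *ᵥ u)
        ((P : Matrix (Fin n) (Fin n) F) *ᵥ u) = 0) ∧
      tensorWreathSubgroup 2 k e Pm ⊓ GU n F q ≤ subfieldSubgroup F₁ P) ∨
    (Odd q ∧ Even k ∧ ∃ (F₁ : Subfield F) (P : GL (Fin n) F), Fintype.card F = Nat.card F₁ ^ 2 ∧
      IsFormRationalStructure (hermForm n F q) F₁ 1 P ∧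
      tensorWreathSubgroup 2 k e Pm ⊓ GU n F q ≤ subfieldSubgroup F₁ P)

theorem final8U {F : Type*} [Field F] [Fintype F] (q : ℕ) (hF : Fintype.card F = q ^ 2) (hUD2 : UD2Stmt 8 F q) (H : Subgroup (Matrix.GeneralLinearGroup (Fin 8) F)) (hH : Cfsg.Geo.IsMaximalIn (Cfsg.GU 8 F q ⊓ Cfsg.Geo.specialLinear (Fin 8) F) H) :
    (∃ W : Submodule F (Fin 8 → F), W ≠ ⊥ ∧ Cfsg.Geo.IsTotallySingularFor (Cfsg.hermForm 8 F q) W ∧ H = Cfsg.Geo.subspaceStabilizer W ⊓ (Cfsg.GU 8 F q ⊓ Cfsg.Geo.specialLinear (Fin 8) F)) ∨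
    (∃ W : Submodule F (Fin 8 → F), W ≠ ⊥ ∧ Cfsg.Geo.IsNondegenerateOn (Cfsg.hermForm 8 F q) W ∧ 2 * Module.finrank F W < 8 ∧ H = Cfsg.Geo.subspaceStabilizer W ⊓ (Cfsg.GU 8 F q ⊓ Cfsg.Geo.specialLinear (Fin 8) F)) ∨
    (∃ D : Fin 8 → Submodule F (Fin 8 → F), Cfsg.Geo.IsNondegenerateMDecomposition (Cfsg.hermForm 8 F q) 1 D ∧ H = Cfsg.Geo.decompositionStabilizer D ⊓ (Cfsg.GU 8 F q ⊓ Cfsg.Geo.specialLinear (Fin 8) F)) ∨
    (3 ≤ q ∧ ∃ D : Fin 4 → Submodule F (Fin 8 → F), Cfsg.Geo.IsNondegenerateMDecomposition (Cfsg.hermForm 8 F q) 2 D ∧ H = Cfsg.Geo.decompositionStabilizer D ⊓ (Cfsg.GU 8 F q ⊓ Cfsg.Geo.specialLinear (Fin 8) F)) ∨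
    (∃ D : Fin 2 → Submodule F (Fin 8 → F), Cfsg.Geo.IsNondegenerateMDecomposition (Cfsg.hermForm 8 F q) 4 D ∧ H = Cfsg.Geo.decompositionStabilizer D ⊓ (Cfsg.GU 8 F q ⊓ Cfsg.Geo.specialLinear (Fin 8) F)) ∨
    (∃ D : Fin 2 → Submodule F (Fin 8 → F), Cfsg.Geo.IsMDecomposition 4 D ∧ (∀ i, Cfsg.Geo.IsTotallySingularFor (Cfsg.hermForm 8 F q) (D i)) ∧ H = Cfsg.Geo.decompositionStabilizer D ⊓ (Cfsg.GU 8 F q ⊓ Cfsg.Geo.specialLinear (Fin 8) F)) ∨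
    (3 ≤ q ∧ ∃ (e : Fin 8 ≃ Fin 2 × Fin 4) (P : Matrix.GeneralLinearGroup (Fin 8) F) (f₁ : (Fin 2 → F) → (Fin 2 → F) → F) (f₂ : (Fin 4 → F) → (Fin 4 → F) → F), Cfsg.Geo.IsUnitaryFormPow q f₁ ∧ Cfsg.Geo.IsUnitaryFormPow q f₂ ∧ Cfsg.Geo.IsTensorFormStructure (fun x : F => x ^ q) (Cfsg.hermForm 8 F q) f₁ f₂ e P ∧ H = Cfsg.Geo.tensorProductSubgroup 2 4 e P ⊓ (Cfsg.GU 8 F q ⊓ Cfsg.Geo.specialLinear (Fin 8) F)) ∨
    (∃ (F₀ : Subfield F) (r : ℕ) (P : Matrix.GeneralLinearGroup (Fin 8) F), r.Prime ∧ Odd r ∧ Fintype.card F = Nat.card F₀ ^ r ∧ Cfsg.Geo.IsFormRationalStructure (Cfsg.hermForm 8 F q) F₀ 1 P ∧ H = Cfsg.Geo.subfieldSubgroup F₀ P ⊓ (Cfsg.GU 8 F q ⊓ Cfsg.Geo.specialLinear (Fin 8) F)) ∨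
    (∃ (F₀ : Subfield F) (P : Matrix.GeneralLinearGroup (Fin 8) F) (ζ : F), Fintype.card F = Nat.card F₀ ^ 2 ∧ ζ ≠ 0 ∧ ζ + ζ ^ q = 0 ∧ Cfsg.Geo.IsFormRationalStructure (Cfsg.hermForm 8 F q) F₀ ζ P ∧ (∀ u : Fin 8 → F, (∀ i, u i ∈ F₀) → (Cfsg.hermForm 8 F q) (Matrix.mulVec (P : Matrix (Fin 8) (Fin 8) F) u) (Matrix.mulVec (P : Matrix (Fin 8) (Fin 8) F) u) = 0) ∧ H = Cfsg.Geo.subfieldSubgroup F₀ P ⊓ (Cfsg.GU 8 F q ⊓ Cfsg.Geo.specialLinear (Fin 8) F)) ∨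
    (Odd q ∧ ∃ (F₀ : Subfield F) (P : Matrix.GeneralLinearGroup (Fin 8) F), Fintype.card F = Nat.card F₀ ^ 2 ∧ Cfsg.Geo.IsFormRationalStructure (Cfsg.hermForm 8 F q) F₀ 1 P ∧ H = Cfsg.Geo.subfieldSubgroup F₀ P ⊓ (Cfsg.GU 8 F q ⊓ Cfsg.Geo.specialLinear (Fin 8) F)) ∨
    (∃ (p : ℕ) (R : Subgroup (Matrix.GeneralLinearGroup (Fin 8) F)), p.Prime ∧ q = p ∧ p % 4 = 3 ∧ Cfsg.Geo.IsSymplecticTypeGroup 2 R ∧ Cfsg.Geo.ActsAbsolutelyIrreducibly (Cfsg.Geo.matrixSet R) ∧ R ≤ Cfsg.Geo.similarityGroup (Cfsg.hermForm 8 F q) ∧ Nat.card R = 256 ∧ Nat.card (Subgroup.center R) = 4 ∧ H = Cfsg.Geo.subgroupNormalizer R ⊓ (Cfsg.GU 8 F q ⊓ Cfsg.Geo.specialLinear (Fin 8) F)) ∨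
    Cfsg.Geo.InUnitaryResidualClass H := by
  have hq2 : 2 ≤ q := Cfsg.Agent.Helper3.AschU.two_le_q hF
  have hHG : H ≤ SUg 8 F q := hH.1.le
  have hHI : H ≤ GU 8 F q := hHG.trans inf_le_left
  rcases asch_gen_max_unitary (n := 8) (by norm_num) q hF H hH with
    h | h | h | h | h | h | h | h | h | h | h | h
  · exact Or.inl h
  · exact Or.inr (Or.inl h)
  · obtain ⟨t, m, D, hD, htm, hnot, hHeq⟩ := h
    obtain ⟨rfl, rfl⟩ | ⟨rfl, rfl⟩ | ⟨rfl, rfl⟩ : (t = 8 ∧ m = 1) ∨ (t = 4 ∧ m = 2) ∨ (t = 2 ∧ m = 4) := by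
      have h2 := hD.decomp.two_le
      have h3 := hD.decomp.pos
      have ht : t ≤ 8 := by nlinarith
      interval_cases t <;> omega
    · exact Or.inr (Or.inr (Or.inl ⟨D, hD, hHeq⟩))
    · exact Or.inr (Or.inr (Or.inr (Or.inl ⟨by
        by_contra hc
        exact hnot ⟨rfl, by omega⟩, D, hD, hHeq⟩)))
    · exact Or.inr (Or.inr (Or.inr (Or.inr (Or.inl ⟨D, hD, hHeq⟩))))
  · obtain ⟨m, D, hD, hm, hts, hHeq⟩ := h
    obtain rfl : m = 4 := by omega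
    exact Or.inr (Or.inr (Or.inr (Or.inr (Or.inr (Or.inl ⟨D, hD, hts, hHeq⟩)))))
  · obtain ⟨r, K, hr, hro, hrn, hK, hadj, hHeq⟩ := h
    exfalso
    have hle := Nat.le_of_dvd (by norm_num) hrn
    have h2 := hr.two_le
    interval_cases r <;>
      first | (revert hro; decide) | (revert hrn; decide) | (revert hr; decide)
  · obtain ⟨n₁, n₂, e, P, f₁, f₂, h1, h2, hq, hf₁, hf₂, hT, hHeq⟩ := h
    have hcard : n₁ * n₂ = 8 := card_of_equiv_prod e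
    obtain ⟨rfl, rfl⟩ | ⟨rfl, rfl⟩ : (n₁ = 2 ∧ n₂ = 4) ∨ (n₁ = 4 ∧ n₂ = 2) := by
      have ht : n₁ ≤ 8 := by nlinarith
      interval_cases n₁ <;> omega
    · exact Or.inr (Or.inr (Or.inr (Or.inr (Or.inr (Or.inr (Or.inl ⟨by
        by_contra hc
        exact hq ⟨Or.inl rfl, by omega⟩, e, P, f₁, f₂, hf₁, hf₂, hT, hHeq⟩))))))
    · rw [Cfsg.Agent.Helper9.AschCompK.tensorProductSubgroup_swap] at hHeq
      exact Or.inr (Or.inr (Or.inr (Or.inr (Or.inr (Or.inr (Or.inl ⟨by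
        by_contra hc
        exact hq ⟨Or.inr rfl, by omega⟩, _, P, f₂, f₁, hf₂, hf₁, tensorForm_swap _ _ f₁ f₂ e P hT, hHeq⟩))))))
  · exact Or.inr (Or.inr (Or.inr (Or.inr (Or.inr (Or.inr (Or.inr (Or.inl h)))))))
  · exact Or.inr (Or.inr (Or.inr (Or.inr (Or.inr (Or.inr (Or.inr (Or.inr (Or.inl h))))))))
  · exact Or.inr (Or.inr (Or.inr (Or.inr (Or.inr (Or.inr (Or.inr (Or.inr (Or.inr (Or.inl h)))))))))
  · -- class 6
    obtain ⟨r, p, e, k, R, hsym, habs, hsim, hrp, hmf, hcards, hnrk, hHeq⟩ := h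
    have hr := hsym.prime
    have hk1 : 1 ≤ k := by
      rcases Nat.eq_zero_or_pos k with h0 | h0
      · subst h0; simp at hnrk
      · exact h0
    have hr2 : r = 2 := by
      have h2 : 2 ∣ r ^ k := ⟨4, by omega⟩
      exact ((Nat.prime_dvd_prime_iff_eq Nat.prime_two hr).1 (Nat.prime_two.dvd_of_dvd_pow h2)).symm
    subst hr2
    have hk3 : k = 3 := by
      have : (2 : ℕ) ^ k = 2 ^ 3 := by rw [← hnrk]; norm_num
      exact Nat.pow_right_injective (le_refl 2) this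
    subst hk3
    rcases hcards with ⟨hodd, -⟩ | ⟨-, he2, hz4, hcard⟩
    · exact absurd hodd (by decide)
    subst he2
    rw [hz4] at hmf
    obtain ⟨hp, hch, hcF, hdvd, hmin⟩ := hmf
    have hqp : q = p := by
      have : q ^ 2 = p ^ 2 := by rw [← hF, hcF]
      exact Nat.pow_left_injective (by norm_num) this
    have hp43 : p % 4 = 3 := by
      have hnd : ¬ 4 ∣ p ^ 1 - 1 := hmin 1 (by norm_num) (by norm_num)
      rw [pow_one] at hnd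
      have hpodd : p % 2 = 1 := by
        rcases hp.eq_two_or_odd with h | h
        · exact absurd h.symm hrp
        · exact h
      have h2p := hp.two_le
      by_contra hne
      apply hnd
      have : p % 4 = 1 := by omega
      omega
    exact Or.inr (Or.inr (Or.inr (Or.inr (Or.inr (Or.inr (Or.inr (Or.inr (Or.inr (Or.inr (Or.inl
      ⟨p, R, hp, hqp, hp43, hsym, habs, hsim, by rw [hcard]; norm_num, hz4, hHeq⟩))))))))))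
  · -- tensor power: d = 2, k = 3
    obtain ⟨d, k, e, Pm, f₁, P₁, hd, hk, hf₁, hT, -, -, -, hle⟩ := h
    obtain ⟨rfl, rfl⟩ := pow_eq_eight hd hk (card_of_equiv_pi e)
    have hnotsub : ∀ (F₁ : Subfield F) (r : ℕ), r.Prime → Fintype.card F = Nat.card F₁ ^ r →
        ∀ Pm : GL (Fin 8) F, ¬ SUg 8 F q ≤ subfieldSubgroup F₁ Pm := fun F₁ r hr hc Pm =>
      Cfsg.Agent.Helper7.AschU.not_le_subfieldSubgroup_SU q hF (by omega) F₁ (subfield_ne_top_of_card F₁ r hr hc) Pm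
    rcases hUD2 3 (by norm_num) e Pm f₁ hf₁ hT with ⟨F₁, P, ζ, hc, hζ0, hζ, hfr, halt, hsub⟩ | ⟨-, hev, -⟩
    · exact Or.inr (Or.inr (Or.inr (Or.inr (Or.inr (Or.inr (Or.inr (Or.inr (Or.inl
        ⟨F₁, P, ζ, hc, hζ0, hζ, hfr, halt,
          eq_inf_of_le hH (fun h hh => hsub ⟨hle hh, hHI hh⟩) (hnotsub F₁ 2 Nat.prime_two hc P)⟩))))))))
    · exact absurd hev (by decide)
  · exact Or.inr (Or.inr (Or.inr (Or.inr (Or.inr (Or.inr (Or.inr (Or.inr (Or.inr (Or.inr (Or.inr h))))))))))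

end Cfsg.Agent.Helper9.AschPPU
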