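import Mathlib
import Cfsg.Prelude.Def_GeometricClasses
import Cfsg.Agent.Helper9.AschPPUMain
import Cfsg.Agent.Helper9.AschPPFinalA
import Cfsg.Agent.Helper9.AschPPUFinal8
import Cfsg.Agent.Helper9.AschPPU41
import Cfsg.Agent.Helper5.AschCUT3

/-!
# ASCH-PP-U final (helper9): `SU_4` (S5784), modulo the pieces UD2 and U42
-/

set_option autoImplicit false
set_option linter.unusedVariables false

namespace Cfsg.Agent.Helper9.AschPPU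

open Cfsg Cfsg.Geo Cfsg.Agent.Lead.Asch Cfsg.Agent.Helper3.AschCU Cfsg.Agent.Helper9.AschPP
open scoped MatrixGroups Matrix Kronecker

/-- the statement of piece U42 -/
def U42Stmt (F : Type*) [Field F] [Fintype F] (q : ℕ) : Prop :=
  q ≤ 3 → ∀ (D : Fin 2 → Submodule F (Fin 4 → F)), IsMDecomposition 2 D →
    (∀ i, IsTotallySingularFor (hermForm 4 F q) (D i)) →
    ∃ (F₀ : Subfield F) (P : GL (Fin 4) F) (ζ : F), Fintype.card F = Nat.card F₀ ^ 2 ∧ ζ ≠ 0 ∧ ζ + ζ ^ q = 0 ∧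
      IsFormRationalStructure (hermForm 4 F q) F₀ ζ P ∧
      (∀ u : Fin 4 → F, (∀ i, u i ∈ F₀) → hermForm 4 F q ((P : Matrix (Fin 4) (Fin 4) F) *ᵥ u)
        ((P : Matrix (Fin 4) (Fin 4) F) *ᵥ u) = 0) ∧
      decompositionStabilizer D ⊓ (GU 4 F q ⊓ specialLinear (Fin 4) F) ≤ subfieldSubgroup F₀ P

theorem final4U {F : Type*} [Field F] [Fintype F] (q : ℕ) (hF : Fintype.card F = q ^ 2) (hUD2 : UD2Stmt 4 F q) (hU42 : U42Stmt F q) (H : Subgroup (Matrix.GeneralLinearGroup (Fin 4) F)) (hH : Cfsg.Geo.IsMaximalIn (Cfsg.GU 4 F q ⊓ Cfsg.Geo.specialLinear (Fin 4) F) H) :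
    (∃ W : Submodule F (Fin 4 → F), W ≠ ⊥ ∧ Cfsg.Geo.IsTotallySingularFor (Cfsg.hermForm 4 F q) W ∧ H = Cfsg.Geo.subspaceStabilizer W ⊓ (Cfsg.GU 4 F q ⊓ Cfsg.Geo.specialLinear (Fin 4) F)) ∨
    (∃ W : Submodule F (Fin 4 → F), W ≠ ⊥ ∧ Cfsg.Geo.IsNondegenerateOn (Cfsg.hermForm 4 F q) W ∧ 2 * Module.finrank F W < 4 ∧ H = Cfsg.Geo.subspaceStabilizer W ⊓ (Cfsg.GU 4 F q ⊓ Cfsg.Geo.specialLinear (Fin 4) F)) ∨
    (q ≠ 3 ∧ ∃ D : Fin 4 → Submodule F (Fin 4 → F), Cfsg.Geo.IsNondegenerateMDecomposition (Cfsg.hermForm 4 F q) 1 D ∧ H = Cfsg.Geo.decompositionStabilizer D ⊓ (Cfsg.GU 4 F q ⊓ Cfsg.Geo.specialLinear (Fin 4) F)) ∨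
    (3 ≤ q ∧ ∃ D : Fin 2 → Submodule F (Fin 4 → F), Cfsg.Geo.IsNondegenerateMDecomposition (Cfsg.hermForm 4 F q) 2 D ∧ H = Cfsg.Geo.decompositionStabilizer D ⊓ (Cfsg.GU 4 F q ⊓ Cfsg.Geo.specialLinear (Fin 4) F)) ∨
    (4 ≤ q ∧ ∃ D : Fin 2 → Submodule F (Fin 4 → F), Cfsg.Geo.IsMDecomposition 2 D ∧ (∀ i, Cfsg.Geo.IsTotallySingularFor (Cfsg.hermForm 4 F q) (D i)) ∧ H = Cfsg.Geo.decompositionStabilizer D ⊓ (Cfsg.GU 4 F q ⊓ Cfsg.Geo.specialLinear (Fin 4) F)) ∨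
    (∃ (F₀ : Subfield F) (r : ℕ) (P : Matrix.GeneralLinearGroup (Fin 4) F), r.Prime ∧ Odd r ∧ Fintype.card F = Nat.card F₀ ^ r ∧ Cfsg.Geo.IsFormRationalStructure (Cfsg.hermForm 4 F q) F₀ 1 P ∧ H = Cfsg.Geo.subfieldSubgroup F₀ P ⊓ (Cfsg.GU 4 F q ⊓ Cfsg.Geo.specialLinear (Fin 4) F)) ∨
    (∃ (F₀ : Subfield F) (P : Matrix.GeneralLinearGroup (Fin 4) F) (ζ : F), Fintype.card F = Nat.card F₀ ^ 2 ∧ ζ ≠ 0 ∧ ζ + ζ ^ q = 0 ∧ Cfsg.Geo.IsFormRationalStructure (Cfsg.hermForm 4 F q) F₀ ζ P ∧ (∀ u : Fin 4 → F, (∀ i, u i ∈ F₀) → (Cfsg.hermForm 4 F q) (Matrix.mulVec (P : Matrix (Fin 4) (Fin 4) F) u) (Matrix.mulVec (P : Matrix (Fin 4) (Fin 4) F) u) = 0) ∧ H = Cfsg.Geo.subfieldSubgroup F₀ P ⊓ (Cfsg.GU 4 F q ⊓ Cfsg.Geo.specialLinear (Fin 4) F)) ∨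
    (Odd q ∧ ∃ (F₀ : Subfield F) (P : Matrix.GeneralLinearGroup (Fin 4) F), Fintype.card F = Nat.card F₀ ^ 2 ∧ Cfsg.Geo.IsFormRationalStructure (Cfsg.hermForm 4 F q) F₀ 1 P ∧ H = Cfsg.Geo.subfieldSubgroup F₀ P ⊓ (Cfsg.GU 4 F q ⊓ Cfsg.Geo.specialLinear (Fin 4) F)) ∨
    (∃ (p : ℕ) (R : Subgroup (Matrix.GeneralLinearGroup (Fin 4) F)), p.Prime ∧ q = p ∧ p % 4 = 3 ∧ Cfsg.Geo.IsSymplecticTypeGroup 2 R ∧ Cfsg.Geo.ActsAbsolutelyIrreducibly (Cfsg.Geo.matrixSet R) ∧ R ≤ Cfsg.Geo.similarityGroup (Cfsg.hermForm 4 F q) ∧ Nat.card R = 64 ∧ Nat.card (Subgroup.center R) = 4 ∧ H = Cfsg.Geo.subgroupNormalizer R ⊓ (Cfsg.GU 4 F q ⊓ Cfsg.Geo.specialLinear (Fin 4) F)) ∨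
    Cfsg.Geo.InUnitaryResidualClass H := by
  have hq2 : 2 ≤ q := Cfsg.Agent.Helper3.AschU.two_le_q hF
  have hHG : H ≤ SUg 4 F q := hH.1.le
  have hHI : H ≤ GU 4 F q := hHG.trans inf_le_left
  have hnotsub : ∀ (F₁ : Subfield F) (r : ℕ), r.Prime → Fintype.card F = Nat.card F₁ ^ r →
      ∀ Pm : GL (Fin 4) F, ¬ SUg 4 F q ≤ subfieldSubgroup F₁ Pm := fun F₁ r hr hc Pm =>
    Cfsg.Agent.Helper7.AschU.not_le_subfieldSubgroup_SU q hF (by omega) F₁ (subfield_ne_top_of_card F₁ r hr hc) Pm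
  -- exit for tensor squares of planes
  have exitT : ∀ (e : Fin 4 ≃ (Fin 2 → Fin 2)) (Pm : GL (Fin 4) F) (f₁ : (Fin 2 → F) → (Fin 2 → F) → F),
      IsUnitaryFormPow q f₁ → IsTensorPowerFormStructure (fun x : F => x ^ q) (hermForm 4 F q) f₁ e Pm →
      H ≤ tensorWreathSubgroup 2 2 e Pm →
      ((∃ (F₀ : Subfield F) (P : Matrix.GeneralLinearGroup (Fin 4) F) (ζ : F), Fintype.card F = Nat.card F₀ ^ 2 ∧ ζ ≠ 0 ∧ ζ + ζ ^ q = 0 ∧ Cfsg.Geo.IsFormRationalStructure (Cfsg.hermForm 4 F q) F₀ ζ P ∧ (∀ u : Fin 4 → F, (∀ i, u i ∈ F₀) → (Cfsg.hermForm 4 F q) (Matrix.mulVec (P : Matrix (Fin 4) (Fin 4) F) u) (Matrix.mulVec (P : Matrix (Fin 4) (Fin 4) F) u) = 0) ∧ H = Cfsg.Geo.subfieldSubgroup F₀ P ⊓ (Cfsg.GU 4 F q ⊓ Cfsg.Geo.specialLinear (Fin 4) F)) ∨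
      (Odd q ∧ ∃ (F₀ : Subfield F) (P : Matrix.GeneralLinearGroup (Fin 4) F), Fintype.card F = Nat.card F₀ ^ 2 ∧ Cfsg.Geo.IsFormRationalStructure (Cfsg.hermForm 4 F q) F₀ 1 P ∧ H = Cfsg.Geo.subfieldSubgroup F₀ P ⊓ (Cfsg.GU 4 F q ⊓ Cfsg.Geo.specialLinear (Fin 4) F))) := by
    intro e Pm f₁ hf₁ hT hle
    rcases hUD2 2 (by norm_num) e Pm f₁ hf₁ hT with ⟨F₁, P, ζ, hc, hζ0, hζ, hfr, halt, hsub⟩ | ⟨hodd, -, F₁, P, hc, hfr, hsub⟩
    · exact Or.inl ⟨F₁, P, ζ, hc, hζ0, hζ, hfr, halt,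
        eq_inf_of_le hH (fun h hh => hsub ⟨hle hh, hHI hh⟩) (hnotsub F₁ 2 Nat.prime_two hc P)⟩
    · exact Or.inr ⟨hodd, F₁, P, hc, hfr,
        eq_inf_of_le hH (fun h hh => hsub ⟨hle hh, hHI hh⟩) (hnotsub F₁ 2 Nat.prime_two hc P)⟩
  rcases asch_gen_max_unitary (n := 4) (by norm_num) q hF H hH with
    h | h | h | h | h | h | h | h | h | h | h | h
  · exact Or.inl h
  · exact Or.inr (Or.inl h)
  · obtain ⟨t, m, D, hD, htm, hnot, hHeq⟩ := h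
    obtain ⟨rfl, rfl⟩ | ⟨rfl, rfl⟩ : (t = 4 ∧ m = 1) ∨ (t = 2 ∧ m = 2) := by
      have h2 := hD.decomp.two_le
      have h3 := hD.decomp.pos
      have ht : t ≤ 4 := by nlinarith
      interval_cases t <;> omega
    · by_cases hq3 : q = 3
      · subst hq3
        obtain ⟨R, hsym, habs, hRle, hcard, hz, hN⟩ := c2_lines_three_unitary hF D hD
        have hle' : H ≤ subgroupNormalizer R := by
          rw [hHeq]; exact hN
        have hns : ¬ R ≤ scalars (Fin 4) F := not_le_scalars_of_irred (by norm_num) habs.1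
        haveI : Fact (2 : ℕ).Prime := ⟨Nat.prime_two⟩
        haveI : Finite (GL (Fin 4) F) := inferInstance
        haveI : Finite R := inferInstance
        have hnil : Group.IsNilpotent R := hsym.pGroup.isNilpotent
        have hsol : Group.IsSolvable R := inferInstance
        have hHeq' := eq_inf_of_le hH hle'
          (Cfsg.Agent.Helper7.AschU.not_le_normalizer_of_solvable_SU 3 hF (by norm_num) (by omega) R hRle hsol hns)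
        have h : (∃ (p : ℕ) (R : Subgroup (Matrix.GeneralLinearGroup (Fin 4) F)), p.Prime ∧ 3 = p ∧ p % 4 = 3 ∧ Cfsg.Geo.IsSymplecticTypeGroup 2 R ∧ Cfsg.Geo.ActsAbsolutelyIrreducibly (Cfsg.Geo.matrixSet R) ∧ R ≤ Cfsg.Geo.similarityGroup (Cfsg.hermForm 4 F 3) ∧ Nat.card R = 64 ∧ Nat.card (Subgroup.center R) = 4 ∧ H = Cfsg.Geo.subgroupNormalizer R ⊓ (Cfsg.GU 4 F 3 ⊓ Cfsg.Geo.specialLinear (Fin 4) F)) :=
          ⟨3, R, Nat.prime_three, rfl, by norm_num, hsym, habs,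
            Cfsg.Agent.Helper5.AschCU.le_similarityGroup_of_le_GU (hRle.trans inf_le_left), hcard, hz, hHeq'⟩
        exact Or.inr (Or.inr (Or.inr (Or.inr (Or.inr (Or.inr (Or.inr (Or.inr (Or.inl h))))))))
      · exact Or.inr (Or.inr (Or.inl (⟨hq3, D, hD, hHeq⟩)))
    · exact Or.inr (Or.inr (Or.inr (Or.inl (⟨by
        by_contra hc
        exact hnot ⟨rfl, by omega⟩, D, hD, hHeq⟩))))
  · obtain ⟨m, D, hD, hm, hts, hHeq⟩ := h
    obtain rfl : m = 2 := by omega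
    by_cases hq3 : q ≤ 3
    · obtain ⟨F₁, P, ζ, hc, hζ0, hζ, hfr, halt, hsub⟩ := hU42 hq3 D hD hts
      have h : (∃ (F₀ : Subfield F) (P : Matrix.GeneralLinearGroup (Fin 4) F) (ζ : F), Fintype.card F = Nat.card F₀ ^ 2 ∧ ζ ≠ 0 ∧ ζ + ζ ^ q = 0 ∧ Cfsg.Geo.IsFormRationalStructure (Cfsg.hermForm 4 F q) F₀ ζ P ∧ (∀ u : Fin 4 → F, (∀ i, u i ∈ F₀) → (Cfsg.hermForm 4 F q) (Matrix.mulVec (P : Matrix (Fin 4) (Fin 4) F) u) (Matrix.mulVec (P : Matrix (Fin 4) (Fin 4) F) u) = 0) ∧ H = Cfsg.Geo.subfieldSubgroup F₀ P ⊓ (Cfsg.GU 4 F q ⊓ Cfsg.Geo.specialLinear (Fin 4) F)) :=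
        ⟨F₁, P, ζ, hc, hζ0, hζ, hfr, halt,
          eq_inf_of_le hH (by rw [hHeq]; exact hsub) (hnotsub F₁ 2 Nat.prime_two hc P)⟩
      exact Or.inr (Or.inr (Or.inr (Or.inr (Or.inr (Or.inr (Or.inl h))))))
    · exact Or.inr (Or.inr (Or.inr (Or.inr (Or.inl (⟨by omega, D, hD, hts, hHeq⟩)))))
  · obtain ⟨r, K, hr, hro, hrn, hK, hadj, hHeq⟩ := h
    exfalso
    have hle := Nat.le_of_dvd (by norm_num) hrn
    have h2 := hr.two_le
    interval_cases r <;>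
      first | (revert hro; decide) | (revert hrn; decide) | (revert hr; decide)
  · obtain ⟨n₁, n₂, e, P, f₁, f₂, h1, h2, hq, hf₁, hf₂, hT, hHeq⟩ := h
    have hcard : n₁ * n₂ = 4 := card_of_equiv_prod e
    obtain ⟨rfl, rfl⟩ : n₁ = 2 ∧ n₂ = 2 := by
      have ht : n₁ ≤ 4 := by nlinarith
      interval_cases n₁ <;> omega
    obtain ⟨e', P', hT', hle'⟩ := Cfsg.Agent.Helper5.AschPPU.tensor_equal_to_power q hF 2 (by norm_num) e P f₁ f₂ hf₁ hf₂ hT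
    have hle : H ≤ tensorWreathSubgroup 2 2 e' P' := by
      rw [hHeq]; exact inf_le_left.trans hle'
    rcases exitT e' P' f₁ hf₁ hT' hle with h | h
    · exact Or.inr (Or.inr (Or.inr (Or.inr (Or.inr (Or.inr (Or.inl h))))))
    · exact Or.inr (Or.inr (Or.inr (Or.inr (Or.inr (Or.inr (Or.inr (Or.inl h)))))))
  · exact Or.inr (Or.inr (Or.inr (Or.inr (Or.inr (Or.inl h)))))
  · exact Or.inr (Or.inr (Or.inr (Or.inr (Or.inr (Or.inr (Or.inl h))))))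
  · exact Or.inr (Or.inr (Or.inr (Or.inr (Or.inr (Or.inr (Or.inr (Or.inl h)))))))
  · -- class 6
    obtain ⟨r, p, e, k, R, hsym, habs, hsim, hrp, hmf, hcards, hnrk, hHeq⟩ := h
    have hr := hsym.prime
    have hk1 : 1 ≤ k := by
      rcases Nat.eq_zero_or_pos k with h0 | h0
      · subst h0; simp at hnrk
      · exact h0
    have hr2 : r = 2 := by
      have h2 : 2 ∣ r ^ k := ⟨2, by omega⟩
      exact ((Nat.prime_dvd_prime_iff_eq Nat.prime_two hr).1 (Nat.prime_two.dvd_of_dvd_pow h2)).symm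
    subst hr2
    have hk2 : k = 2 := by
      have : (2 : ℕ) ^ k = 2 ^ 2 := by rw [← hnrk]; norm_num
      exact Nat.pow_right_injective (le_refl 2) this
    subst hk2
    rcases hcards with ⟨hodd, -⟩ | ⟨-, he2, hz4, hcard⟩
    · exact absurd hodd (by decide)
    subst he2
    rw [hz4] at hmf
    obtain ⟨hp, hch, hcF, hdvd, hmin⟩ := hmf
    have hqp : q = p := by
      have : q ^ 2 = p ^ 2 := by rw [← hF, hcF]
      exact Nat.pow_left_injective (by norm_num) this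
    have hp43 : p % 4 = 3 := by
      have hnd : ¬ 4 ∣ p ^ 1 - 1 := hmin 1 (by norm_num) (by norm_num)
      rw [pow_one] at hnd
      have hpodd : p % 2 = 1 := by
        rcases hp.eq_two_or_odd with h | h
        · exact absurd h.symm hrp
        · exact h
      have h2p := hp.two_le
      by_contra hne
      apply hnd
      have : p % 4 = 1 := by omega
      omega
    have h : (∃ (p : ℕ) (R : Subgroup (Matrix.GeneralLinearGroup (Fin 4) F)), p.Prime ∧ q = p ∧ p % 4 = 3 ∧ Cfsg.Geo.IsSymplecticTypeGroup 2 R ∧ Cfsg.Geo.ActsAbsolutelyIrreducibly (Cfsg.Geo.matrixSet R) ∧ R ≤ Cfsg.Geo.similarityGroup (Cfsg.hermForm 4 F q) ∧ Nat.card R = 64 ∧ Nat.card (Subgroup.center R) = 4 ∧ H = Cfsg.Geo.subgroupNormalizer R ⊓ (Cfsg.GU 4 F q ⊓ Cfsg.Geo.specialLinear (Fin 4) F)) :=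
      ⟨p, R, hp, hqp, hp43, hsym, habs, hsim, by rw [hcard]; norm_num, hz4, hHeq⟩
    exact Or.inr (Or.inr (Or.inr (Or.inr (Or.inr (Or.inr (Or.inr (Or.inr (Or.inl h))))))))
  · -- tensor power: d = 2, k = 2
    obtain ⟨d, k, e, Pm, f₁, P₁, hd, hk, hf₁, hT, -, -, -, hle⟩ := h
    obtain ⟨rfl, rfl⟩ := pow_eq_four hd hk (card_of_equiv_pi e)
    rcases exitT e Pm f₁ hf₁ hT hle with h | h
    · exact Or.inr (Or.inr (Or.inr (Or.inr (Or.inr (Or.inr (Or.inl h))))))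
    · exact Or.inr (Or.inr (Or.inr (Or.inr (Or.inr (Or.inr (Or.inr (Or.inl h)))))))
  · exact Or.inr (Or.inr (Or.inr (Or.inr (Or.inr (Or.inr (Or.inr (Or.inr (Or.inr (h)))))))))

end Cfsg.Agent.Helper9.AschPPU
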