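import Mathlib
import Cfsg.Prelude.Def_GeometricClasses
import Cfsg.Agent.Helper7.Hermitian

/-!
# ASCH-PP-U (helper9): no alternating rational structure in odd dimension

An alternating matrix of odd size over any commutative ring has determinant `0` (generic matrix `X - Xᵀ` over
`ℤ[x_ij]`, a domain of characteristic `0`); hence the "symplectic type" subfield alternative of the unitary
classification does not occur in odd dimension.
-/

set_option autoImplicit false
set_option linter.unusedVariables false

namespace Cfsg.Agent.Helper9.AschPPU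

open Cfsg Cfsg.Geo Cfsg.Agent.Helper7.Herm
open scoped Matrix

/-- an alternating matrix of odd size has determinant zero (any commutative ring) -/
theorem det_eq_zero_of_alternating_odd {R : Type*} [CommRing R] {n : ℕ} (hn : Odd n)
    (M : Matrix (Fin n) (Fin n) R) (hskew : ∀ i j, M i j = - M j i) (hdiag : ∀ i, M i i = 0) :
    M.det = 0 := by
  classical
  let X : Matrix (Fin n) (Fin n) (MvPolynomial (Fin n × Fin n) ℤ) :=
    Matrix.of fun i j => MvPolynomial.X (i, j)
  set A : Matrix (Fin n) (Fin n) (MvPolynomial (Fin n × Fin n) ℤ) := X - Xᵀ with hAdef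
  have hA : Aᵀ = -A := by
    rw [hAdef, Matrix.transpose_sub, Matrix.transpose_transpose, neg_sub]
  have hdet : A.det = 0 := by
    have h1 : A.det = - A.det := by
      conv_lhs => rw [← Matrix.det_transpose, hA, Matrix.det_neg, Fintype.card_fin, hn.neg_one_pow]
      ring
    have h2 : (2 : MvPolynomial (Fin n × Fin n) ℤ) * A.det = 0 := by linear_combination h1
    rcases mul_eq_zero.1 h2 with h | h
    · exact absurd h two_ne_zero
    · exact h
  let φ : MvPolynomial (Fin n × Fin n) ℤ →+* R :=
    MvPolynomial.eval₂Hom (Int.castRingHom R) (fun p => if p.1 < p.2 then M p.1 p.2 else 0)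
  have hM : M = φ.mapMatrix A := by
    ext i j
    have hX : ∀ a b, φ (X a b) = if a < b then M a b else 0 := by
      intro a b
      simp [X, φ]
    rw [RingHom.mapMatrix_apply, Matrix.map_apply, hAdef, Matrix.sub_apply, Matrix.transpose_apply, map_sub,
      hX, hX]
    rcases lt_trichotomy i j with h | h | h
    · rw [if_pos h, if_neg (not_lt.2 h.le), sub_zero]
    · subst h
      rw [if_neg (lt_irrefl _), sub_zero, hdiag]
    · rw [if_neg (not_lt.2 h.le), if_pos h, zero_sub, ← hskew]
  rw [hM, ← RingHom.map_det, hdet, map_zero]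

variable {F : Type*} [Field F] [Fintype F]

/-- the "symplectic type" subfield alternative does not occur in odd dimension: the Gram matrix of the standard
unitary form in the basis `P` would be an invertible alternating matrix -/
theorem not_alternating_rational_odd {n : ℕ} (hn : Odd n) (q : ℕ) (hF : Fintype.card F = q ^ 2)
    (F₀ : Subfield F) (P : GL (Fin n) F)
    (halt : ∀ u : Fin n → F, (∀ i, u i ∈ F₀) →
      hermForm n F q ((P : Matrix (Fin n) (Fin n) F) *ᵥ u) ((P : Matrix (Fin n) (Fin n) F) *ᵥ u) = 0) :
    False := by
  classical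
  set Pm : Matrix (Fin n) (Fin n) F := (P : Matrix (Fin n) (Fin n) F) with hPm
  have hq1 : 1 ≤ q := one_le_q hF
  let σ : F →+* F :=
    { toFun := fun x => x ^ q
      map_one' := one_pow q
      map_mul' := fun x y => mul_pow x y q
      map_zero' := zero_pow (by omega)
      map_add' := add_pow_q hF }
  set M : Matrix (Fin n) (Fin n) F := Pmᵀ * Pm.map σ with hMdef
  have hMij : ∀ i j, M i j = hermForm n F q (Pm *ᵥ Pi.single i 1) (Pm *ᵥ Pi.single j 1) := by
    intro i j
    rw [hMdef, Matrix.mul_apply]
    unfold hermForm
    apply Finset.sum_congr rfl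
    intro k _
    rw [Matrix.mulVec_single_one, Matrix.mulVec_single_one]
    rfl
  have hsingle : ∀ i : Fin n, ∀ k, (Pi.single i (1 : F) : Fin n → F) k ∈ F₀ := by
    intro i k
    by_cases h : k = i
    · subst h; rw [Pi.single_eq_same]; exact F₀.one_mem
    · rw [Pi.single_eq_of_ne h]; exact F₀.zero_mem
  have hdiag : ∀ i, M i i = 0 := by
    intro i
    rw [hMij]
    exact halt _ (hsingle i)
  have hskew : ∀ i j, M i j = - M j i := by
    intro i j
    have h := halt (Pi.single i 1 + Pi.single j 1) (fun k => by
      rw [Pi.add_apply]; exact F₀.add_mem (hsingle i k) (hsingle j k))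
    rw [Matrix.mulVec_add, hermForm_add_left, hermForm_add_right hF, hermForm_add_right hF,
      ← hMij, ← hMij, ← hMij, ← hMij, hdiag, hdiag] at h
    linear_combination h
  have hdet0 := det_eq_zero_of_alternating_odd hn M hskew hdiag
  have hdetP : Pm.det ≠ 0 := by
    have := (Matrix.isUnit_iff_isUnit_det Pm).1 ⟨P, rfl⟩
    exact this.ne_zero
  rw [hMdef, Matrix.det_mul, Matrix.det_transpose, ← RingHom.mapMatrix_apply, ← RingHom.map_det] at hdet0
  rcases mul_eq_zero.1 hdet0 with h | h
  · exact hdetP h
  · exact hdetP ((map_eq_zero σ).1 h)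

end Cfsg.Agent.Helper9.AschPPU
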