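import Mathlib
import Cfsg.Prelude.Def_GeometricClasses
import Cfsg.Agent.Helper9.AschPPUMain
import Cfsg.Agent.Helper9.AschPPFinalA
import Cfsg.Agent.Helper9.AschPPUOdd
import Cfsg.Agent.Helper5.AschCUT3
import Cfsg.Agent.Helper1.AschPPUP5

/-!
# ASCH-PP-U final (helper9): `SU_9` (S5832), modulo the pieces NOT7U and U23
-/

set_option autoImplicit false
set_option linter.unusedVariables false

namespace Cfsg.Agent.Helper9.AschPPU

open Cfsg Cfsg.Geo Cfsg.Agent.Lead.Asch Cfsg.Agent.Helper3.AschCU Cfsg.Agent.Helper9.AschPP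
open scoped MatrixGroups Matrix Kronecker

/-- the statement of piece NOT7U -/
def NOT7UStmt (n : ℕ) (F : Type*) [Field F] [Fintype F] (q : ℕ) : Prop :=
  ∀ (m t : ℕ), 2 ≤ m → 2 ≤ t → ∀ (e : Fin n ≃ (Fin t → Fin m)) (P : GL (Fin n) F),
    ¬ GU n F q ⊓ specialLinear (Fin n) F ≤ tensorWreathSubgroup m t e P

/-- the statement of piece U23 -/
def U23Stmt (F : Type*) [Field F] [Fintype F] : Prop :=
  Fintype.card F = 2 ^ 2 → ∀ (e : Fin 9 ≃ (Fin 2 → Fin 3)) (P : GL (Fin 9) F)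
    (f₁ : (Fin 3 → F) → (Fin 3 → F) → F), IsUnitaryFormPow 2 f₁ →
    IsTensorPowerFormStructure (fun x : F => x ^ 2) (hermForm 9 F 2) f₁ e P →
    ∃ R : Subgroup (GL (Fin 9) F), IsSymplecticTypeGroup 3 R ∧ ActsAbsolutelyIrreducibly (matrixSet R) ∧
      R ≤ GU 9 F 2 ⊓ specialLinear (Fin 9) F ∧ Nat.card R = 243 ∧ Nat.card (Subgroup.center R) = 3 ∧
      tensorWreathSubgroup 3 2 e P ⊓ GU 9 F 2 ≤ subgroupNormalizer R

theorem final9U {F : Type*} [Field F] [Fintype F] (q : ℕ) (hF : Fintype.card F = q ^ 2) (hNOT : NOT7UStmt 9 F q) (hU23 : U23Stmt F) (H : Subgroup (Matrix.GeneralLinearGroup (Fin 9) F)) (hH : Cfsg.Geo.IsMaximalIn (Cfsg.GU 9 F q ⊓ Cfsg.Geo.specialLinear (Fin 9) F) H) :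
    (∃ W : Submodule F (Fin 9 → F), W ≠ ⊥ ∧ Cfsg.Geo.IsTotallySingularFor (Cfsg.hermForm 9 F q) W ∧ H = Cfsg.Geo.subspaceStabilizer W ⊓ (Cfsg.GU 9 F q ⊓ Cfsg.Geo.specialLinear (Fin 9) F)) ∨
    (∃ W : Submodule F (Fin 9 → F), W ≠ ⊥ ∧ Cfsg.Geo.IsNondegenerateOn (Cfsg.hermForm 9 F q) W ∧ 2 * Module.finrank F W < 9 ∧ H = Cfsg.Geo.subspaceStabilizer W ⊓ (Cfsg.GU 9 F q ⊓ Cfsg.Geo.specialLinear (Fin 9) F)) ∨
    (∃ D : Fin 9 → Submodule F (Fin 9 → F), Cfsg.Geo.IsNondegenerateMDecomposition (Cfsg.hermForm 9 F q) 1 D ∧ H = Cfsg.Geo.decompositionStabilizer D ⊓ (Cfsg.GU 9 F q ⊓ Cfsg.Geo.specialLinear (Fin 9) F)) ∨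
    (∃ D : Fin 3 → Submodule F (Fin 9 → F), Cfsg.Geo.IsNondegenerateMDecomposition (Cfsg.hermForm 9 F q) 3 D ∧ H = Cfsg.Geo.decompositionStabilizer D ⊓ (Cfsg.GU 9 F q ⊓ Cfsg.Geo.specialLinear (Fin 9) F)) ∨
    (∃ K : Subalgebra F (Matrix (Fin 9) (Fin 9) F), Cfsg.Geo.IsFieldSubalgebra 3 K ∧ Cfsg.Geo.IsAdjointClosedFor (Cfsg.hermForm 9 F q) K ∧ H = Cfsg.Geo.subalgebraNormalizer K ⊓ (Cfsg.GU 9 F q ⊓ Cfsg.Geo.specialLinear (Fin 9) F)) ∨
    (∃ (F₀ : Subfield F) (r : ℕ) (P : Matrix.GeneralLinearGroup (Fin 9) F), r.Prime ∧ Odd r ∧ Fintype.card F = Nat.card F₀ ^ r ∧ Cfsg.Geo.IsFormRationalStructure (Cfsg.hermForm 9 F q) F₀ 1 P ∧ H = Cfsg.Geo.subfieldSubgroup F₀ P ⊓ (Cfsg.GU 9 F q ⊓ Cfsg.Geo.specialLinear (Fin 9) F)) ∨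
    (Odd q ∧ ∃ (F₀ : Subfield F) (P : Matrix.GeneralLinearGroup (Fin 9) F), Fintype.card F = Nat.card F₀ ^ 2 ∧ Cfsg.Geo.IsFormRationalStructure (Cfsg.hermForm 9 F q) F₀ 1 P ∧ H = Cfsg.Geo.subfieldSubgroup F₀ P ⊓ (Cfsg.GU 9 F q ⊓ Cfsg.Geo.specialLinear (Fin 9) F)) ∨
    (∃ (p : ℕ) (R : Subgroup (Matrix.GeneralLinearGroup (Fin 9) F)), p.Prime ∧ q = p ∧ p % 3 = 2 ∧ Cfsg.Geo.IsSymplecticTypeGroup 3 R ∧ Cfsg.Geo.ActsAbsolutelyIrreducibly (Cfsg.Geo.matrixSet R) ∧ R ≤ Cfsg.Geo.similarityGroup (Cfsg.hermForm 9 F q) ∧ Nat.card R = 243 ∧ Nat.card (Subgroup.center R) = 3 ∧ H = Cfsg.Geo.subgroupNormalizer R ⊓ (Cfsg.GU 9 F q ⊓ Cfsg.Geo.specialLinear (Fin 9) F)) ∨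
    (3 ≤ q ∧ ∃ (e : Fin 9 ≃ (Fin 2 → Fin 3)) (P : Matrix.GeneralLinearGroup (Fin 9) F) (f₁ : (Fin 3 → F) → (Fin 3 → F) → F), Cfsg.Geo.IsUnitaryFormPow q f₁ ∧ Cfsg.Geo.IsTensorPowerFormStructure (fun x : F => x ^ q) (Cfsg.hermForm 9 F q) f₁ e P ∧ H = Cfsg.Geo.tensorWreathSubgroup 3 2 e P ⊓ (Cfsg.GU 9 F q ⊓ Cfsg.Geo.specialLinear (Fin 9) F)) ∨
    Cfsg.Geo.InUnitaryResidualClass H := by
  have hq2 : 2 ≤ q := Cfsg.Agent.Helper3.AschU.two_le_q hF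
  have hHG : H ≤ SUg 9 F q := hH.1.le
  have hHI : H ≤ GU 9 F q := hHG.trans inf_le_left
  -- exit for tensor squares
  have exitT : ∀ (e : Fin 9 ≃ (Fin 2 → Fin 3)) (Pm : GL (Fin 9) F) (f₁ : (Fin 3 → F) → (Fin 3 → F) → F),
      IsUnitaryFormPow q f₁ → IsTensorPowerFormStructure (fun x : F => x ^ q) (hermForm 9 F q) f₁ e Pm →
      H ≤ tensorWreathSubgroup 3 2 e Pm →
      ((∃ (p : ℕ) (R : Subgroup (Matrix.GeneralLinearGroup (Fin 9) F)), p.Prime ∧ q = p ∧ p % 3 = 2 ∧ Cfsg.Geo.IsSymplecticTypeGroup 3 R ∧ Cfsg.Geo.ActsAbsolutelyIrreducibly (Cfsg.Geo.matrixSet R) ∧ R ≤ Cfsg.Geo.similarityGroup (Cfsg.hermForm 9 F q) ∧ Nat.card R = 243 ∧ Nat.card (Subgroup.center R) = 3 ∧ H = Cfsg.Geo.subgroupNormalizer R ⊓ (Cfsg.GU 9 F q ⊓ Cfsg.Geo.specialLinear (Fin 9) F)) ∨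
      (3 ≤ q ∧ ∃ (e : Fin 9 ≃ (Fin 2 → Fin 3)) (P : Matrix.GeneralLinearGroup (Fin 9) F) (f₁ : (Fin 3 → F) → (Fin 3 → F) → F), Cfsg.Geo.IsUnitaryFormPow q f₁ ∧ Cfsg.Geo.IsTensorPowerFormStructure (fun x : F => x ^ q) (Cfsg.hermForm 9 F q) f₁ e P ∧ H = Cfsg.Geo.tensorWreathSubgroup 3 2 e P ⊓ (Cfsg.GU 9 F q ⊓ Cfsg.Geo.specialLinear (Fin 9) F))) := by
    intro e Pm f₁ hf₁ hT hle
    by_cases hq : q = 2
    · subst hq
      obtain ⟨R, hsym, habs, hRle, hcard, hz, hN⟩ := hU23 hF e Pm f₁ hf₁ hT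
      have hle' : H ≤ subgroupNormalizer R := fun h hh => hN ⟨hle hh, hHI hh⟩
      have hns : ¬ R ≤ scalars (Fin 9) F := not_le_scalars_of_irred (by norm_num) habs.1
      haveI : Fact (3 : ℕ).Prime := ⟨Nat.prime_three⟩
      haveI : Finite (GL (Fin 9) F) := inferInstance
      haveI : Finite R := inferInstance
      have hnil : Group.IsNilpotent R := hsym.pGroup.isNilpotent
      have hsol : Group.IsSolvable R := inferInstance
      have hHeq := eq_inf_of_le hH hle'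
        (Cfsg.Agent.Helper7.AschU.not_le_normalizer_of_solvable_SU 2 hF (by norm_num) (by omega) R hRle hsol hns)
      exact Or.inl ⟨2, R, Nat.prime_two, rfl, by norm_num, hsym, habs,
        Cfsg.Agent.Helper5.AschCU.le_similarityGroup_of_le_GU (hRle.trans inf_le_left), hcard, hz, hHeq⟩
    · exact Or.inr ⟨by omega, e, Pm, f₁, hf₁, hT,
        eq_inf_of_le hH hle (hNOT 3 2 (by norm_num) (by norm_num) e Pm)⟩
  rcases asch_gen_max_unitary (n := 9) (by norm_num) q hF H hH with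
    h | h | h | h | h | h | h | h | h | h | h | h
  · exact Or.inl h
  · exact Or.inr (Or.inl h)
  · obtain ⟨t, m, D, hD, htm, hnot, hHeq⟩ := h
    obtain ⟨rfl, rfl⟩ | ⟨rfl, rfl⟩ : (t = 9 ∧ m = 1) ∨ (t = 3 ∧ m = 3) := by
      have h2 := hD.decomp.two_le
      have h3 := hD.decomp.pos
      have ht : t ≤ 9 := by nlinarith
      interval_cases t <;> omega
    · exact Or.inr (Or.inr (Or.inl (⟨D, hD, hHeq⟩)))
    · exact Or.inr (Or.inr (Or.inr (Or.inl (⟨D, hD, hHeq⟩))))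
  · obtain ⟨m, D, hD, hm, hts, hHeq⟩ := h
    omega
  · obtain ⟨r, K, hr, hro, hrn, hK, hadj, hHeq⟩ := h
    obtain rfl : r = 3 := by
      have hle := Nat.le_of_dvd (by norm_num) hrn
      have h2 := hr.two_le
      interval_cases r <;>
        first | rfl | (exfalso; revert hro; decide) | (exfalso; revert hrn; decide) | (exfalso; revert hr; decide)
    exact Or.inr (Or.inr (Or.inr (Or.inr (Or.inl (⟨K, hK, hadj, hHeq⟩)))))
  · obtain ⟨n₁, n₂, e, P, f₁, f₂, h1, h2, hq, hf₁, hf₂, hT, hHeq⟩ := h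
    have hcard : n₁ * n₂ = 9 := card_of_equiv_prod e
    obtain ⟨rfl, rfl⟩ : n₁ = 3 ∧ n₂ = 3 := by
      have ht : n₁ ≤ 9 := by nlinarith
      interval_cases n₁ <;> omega
    obtain ⟨e', P', hT', hle'⟩ := Cfsg.Agent.Helper5.AschPPU.tensor_equal_to_power q hF 3 (by norm_num) e P f₁ f₂ hf₁ hf₂ hT
    have hle : H ≤ tensorWreathSubgroup 3 2 e' P' := by
      rw [hHeq]; exact inf_le_left.trans hle'
    rcases exitT e' P' f₁ hf₁ hT' hle with h | h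
    · exact Or.inr (Or.inr (Or.inr (Or.inr (Or.inr (Or.inr (Or.inr (Or.inl h)))))))
    · exact Or.inr (Or.inr (Or.inr (Or.inr (Or.inr (Or.inr (Or.inr (Or.inr (Or.inl h))))))))
  · exact Or.inr (Or.inr (Or.inr (Or.inr (Or.inr (Or.inl h)))))
  · obtain ⟨F₀, P, ζ, hc, hζ0, hζ, hfr, halt, hHeq⟩ := h
    exact (not_alternating_rational_odd (by decide) q hF F₀ P halt).elim
  · exact Or.inr (Or.inr (Or.inr (Or.inr (Or.inr (Or.inr (Or.inl h))))))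
  · -- class 6
    obtain ⟨r, p, e, k, R, hsym, habs, hsim, hrp, hmf, hcards, hnrk, hHeq⟩ := h
    have hr := hsym.prime
    have hk1 : 1 ≤ k := by
      rcases Nat.eq_zero_or_pos k with h0 | h0
      · subst h0; simp at hnrk
      · exact h0
    have hr3 : r = 3 := by
      have h3 : 3 ∣ r ^ k := ⟨3, by omega⟩
      exact ((Nat.prime_dvd_prime_iff_eq Nat.prime_three hr).1 (Nat.prime_three.dvd_of_dvd_pow h3)).symm
    subst hr3
    have hk2 : k = 2 := by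
      have : (3 : ℕ) ^ k = 3 ^ 2 := by rw [← hnrk]; norm_num
      exact Nat.pow_right_injective (by norm_num) this
    subst hk2
    rcases hcards with ⟨-, hz3, -, hcard⟩ | ⟨h32, -⟩
    swap
    · exact absurd h32 (by decide)
    rw [hz3] at hmf
    obtain ⟨hp, hch, hcF, hdvd, hmin⟩ := hmf
    have hp3 : p % 3 ≠ 0 := by
      intro h0
      have : 3 ∣ p := Nat.dvd_of_mod_eq_zero h0
      exact hrp ((Nat.prime_dvd_prime_iff_eq Nat.prime_three hp).1 this)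
    have he2 : e ≤ 2 := by
      by_contra hgt
      apply hmin 2 (by norm_num) (by omega)
      have h1 : p % 3 = 1 ∨ p % 3 = 2 := by omega
      have h2 : p ^ 2 % 3 = 1 := by
        rw [Nat.pow_mod]
        rcases h1 with h | h <;> rw [h]
      have h3 : 1 ≤ p ^ 2 := Nat.one_le_pow _ _ hp.pos
      omega
    have he : e = 2 := by
      have heven := Cfsg.Agent.Helper5.AschCU.even_of_card_eq_sq hp (hcF.symm.trans hF)
      have he0 : e ≠ 0 := by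
        rintro rfl
        rw [pow_zero] at hcF
        have := Fintype.one_lt_card (α := F)
        omega
      rcases heven with ⟨c, hc⟩
      omega
    subst he
    have hqp : q = p := by
      have : q ^ 2 = p ^ 2 := by rw [← hF, hcF]
      exact Nat.pow_left_injective (by norm_num) this
    have hp32 : p % 3 = 2 := by
      have hnd : ¬ 3 ∣ p ^ 1 - 1 := hmin 1 (by norm_num) (by norm_num)
      rw [pow_one] at hnd
      have h2p := hp.two_le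
      by_contra hne
      apply hnd
      have : p % 3 = 1 := by omega
      omega
    have hA7 : (∃ (p : ℕ) (R : Subgroup (Matrix.GeneralLinearGroup (Fin 9) F)), p.Prime ∧ q = p ∧ p % 3 = 2 ∧ Cfsg.Geo.IsSymplecticTypeGroup 3 R ∧ Cfsg.Geo.ActsAbsolutelyIrreducibly (Cfsg.Geo.matrixSet R) ∧ R ≤ Cfsg.Geo.similarityGroup (Cfsg.hermForm 9 F q) ∧ Nat.card R = 243 ∧ Nat.card (Subgroup.center R) = 3 ∧ H = Cfsg.Geo.subgroupNormalizer R ⊓ (Cfsg.GU 9 F q ⊓ Cfsg.Geo.specialLinear (Fin 9) F)) :=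
      ⟨p, R, hp, hqp, hp32, hsym, habs, hsim, by rw [hcard]; norm_num, hz3, hHeq⟩
    have h := hA7
    exact Or.inr (Or.inr (Or.inr (Or.inr (Or.inr (Or.inr (Or.inr (Or.inl h)))))))
  · -- tensor power: d = 3, k = 2
    obtain ⟨d, k, e, Pm, f₁, P₁, hd, hk, hf₁, hT, hperf, hP₁abs, hfix, hle⟩ := h
    obtain ⟨rfl, rfl⟩ := pow_eq_nine hd hk (card_of_equiv_pi e)
    rcases exitT e Pm f₁ hf₁ hT hle with h | h
    · exact Or.inr (Or.inr (Or.inr (Or.inr (Or.inr (Or.inr (Or.inr (Or.inl h)))))))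
    · exact Or.inr (Or.inr (Or.inr (Or.inr (Or.inr (Or.inr (Or.inr (Or.inr (Or.inl h))))))))
  · exact Or.inr (Or.inr (Or.inr (Or.inr (Or.inr (Or.inr (Or.inr (Or.inr (Or.inr (h)))))))))

end Cfsg.Agent.Helper9.AschPPU
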