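import Mathlib
import Cfsg.Prelude.Def_KGroupFacts

set_option autoImplicit false

/-!
# Groups with a self-centralising centreless normal subgroup embed in its automorphism group

For `N ⊴ G` with `C_G(N) ≤ N`, `e : N ≃* T` and `Z(T) = 1`, the conjugation map
`aePhi : G →* MulAut T` is injective, `N` goes onto `Inn T`, and the range is the full
preimage of the range of `aePsi : G →* Out T`.  Two such groups whose images in `Out T`
are conjugate are isomorphic.  In `Sym 4` any two subgroups of order `6` are conjugate.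
-/

namespace Cfsg.Agent.Helper9.AutEmb

open Cfsg

section General

variable {G : Type*} [Group G] {T : Type*} [Group T]

/-- conjugation action of `G` on the normal subgroup `N`, transported along `e : N ≃* T`. -/
noncomputable def aePhi (N : Subgroup G) [N.Normal] (e : N ≃* T) : G →* MulAut T :=
  (MulAut.congr e).toMonoidHom.comp (MulAut.conjNormal (H := N))

theorem aePhi_apply (N : Subgroup G) [N.Normal] (e : N ≃* T) (g : G) (t : T) :
    aePhi N e g t = e (MulAut.conjNormal g (e.symm t)) := rfl

theorem aePhi_coe (N : Subgroup G) [N.Normal] (e : N ≃* T) (n : N) :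
    aePhi N e (n : G) = MulAut.conj (e n) := by
  apply MulEquiv.ext
  intro t
  rw [aePhi_apply, MulAut.conj_apply]
  have h : MulAut.conjNormal (n : G) (e.symm t) = n * e.symm t * n⁻¹ := by
    apply Subtype.ext
    rw [MulAut.conjNormal_apply]
    simp
  rw [h, map_mul, map_mul, map_inv, MulEquiv.apply_symm_apply]

theorem aePhi_injective (N : Subgroup G) [N.Normal] (e : N ≃* T)
    (hZ : Subgroup.center T = ⊥) (hC : Subgroup.centralizer (N : Set G) ≤ N) :
    Function.Injective (aePhi N e) := by
  rw [injective_iff_map_eq_one]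
  intro g hg
  have h1 : ∀ n : N, g * (n : G) * g⁻¹ = n := by
    intro n
    have h2 := congrArg (fun f : MulAut T => f (e n)) hg
    simp only [aePhi_apply, MulEquiv.symm_apply_apply, MulAut.one_apply] at h2
    have h3 := e.injective h2
    have h4 := congrArg Subtype.val h3
    rw [MulAut.conjNormal_apply] at h4
    exact h4
  have hgc : g ∈ Subgroup.centralizer (N : Set G) := by
    rw [Subgroup.mem_centralizer_iff]
    intro m hm
    have := h1 ⟨m, hm⟩
    simp only at this
    calc m * g = (g * m * g⁻¹) * g := by rw [this]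
      _ = g * m := by group
  have hgN : g ∈ N := hC hgc
  have hcen : e ⟨g, hgN⟩ ∈ Subgroup.center T := by
    rw [Subgroup.mem_center_iff]
    intro t
    have h5 := h1 (e.symm t)
    have h6 : (⟨g, hgN⟩ : N) * e.symm t * (⟨g, hgN⟩ : N)⁻¹ = e.symm t := Subtype.ext h5
    have h7 := congrArg e h6
    rw [map_mul, map_mul, map_inv, MulEquiv.apply_symm_apply] at h7
    calc t * e ⟨g, hgN⟩ = (e ⟨g, hgN⟩ * t * (e ⟨g, hgN⟩)⁻¹) * e ⟨g, hgN⟩ := by rw [h7]
      _ = e ⟨g, hgN⟩ * t := by group
  rw [hZ, Subgroup.mem_bot] at hcen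
  have h8 : (⟨g, hgN⟩ : N) = 1 := by
    apply e.injective
    rw [hcen, map_one]
  exact congrArg Subtype.val h8

/-- the induced map to the outer automorphism group. -/
noncomputable def aePsi (N : Subgroup G) [N.Normal] (e : N ≃* T) : G →* Out T :=
  (QuotientGroup.mk' (Inn T)).comp (aePhi N e)

theorem aePsi_apply (N : Subgroup G) [N.Normal] (e : N ≃* T) (g : G) :
    aePsi N e g = (QuotientGroup.mk (aePhi N e g) : Out T) := rfl

theorem aePsi_ker (N : Subgroup G) [N.Normal] (e : N ≃* T)
    (hZ : Subgroup.center T = ⊥) (hC : Subgroup.centralizer (N : Set G) ≤ N) :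
    (aePsi N e).ker = N := by
  ext g
  rw [MonoidHom.mem_ker, aePsi_apply, QuotientGroup.eq_one_iff]
  constructor
  · rintro ⟨t, ht⟩
    have h1 : aePhi N e ((e.symm t : N) : G) = aePhi N e g := by
      rw [aePhi_coe, MulEquiv.apply_symm_apply]; exact ht
    have h2 := aePhi_injective N e hZ hC h1
    rw [← h2]
    exact (e.symm t).2
  · intro hg
    exact ⟨e ⟨g, hg⟩, (aePhi_coe N e ⟨g, hg⟩).symm⟩

theorem aePhi_range_of_mk_mem (N : Subgroup G) [N.Normal] (e : N ≃* T) (β : MulAut T)
    (hβ : (QuotientGroup.mk β : Out T) ∈ (aePsi N e).range) : β ∈ (aePhi N e).range := by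
  obtain ⟨g, hg⟩ := hβ
  rw [aePsi_apply, QuotientGroup.eq] at hg
  obtain ⟨t, ht⟩ := hg
  refine ⟨g * ((e.symm t : N) : G), ?_⟩
  rw [map_mul, aePhi_coe, MulEquiv.apply_symm_apply]
  have : (MulAut.conj t : MulAut T) = (aePhi N e g)⁻¹ * β := ht
  rw [this]
  group

theorem card_aePsi_range (N : Subgroup G) [N.Normal] (e : N ≃* T)
    (hZ : Subgroup.center T = ⊥) (hC : Subgroup.centralizer (N : Set G) ≤ N) :
    Nat.card (aePsi N e).range = Nat.card (G ⧸ N) := by
  rw [← Subgroup.index_ker, aePsi_ker N e hZ hC]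
  rfl

end General

section Iso

variable {G : Type*} [Group G] {G' : Type*} [Group G'] {T : Type*} [Group T]

/-- two self-centralising extensions of `T` whose images in `Out T` are conjugate are
isomorphic. -/
theorem iso_of_conj (hZ : Subgroup.center T = ⊥)
    (N : Subgroup G) [N.Normal] (e : N ≃* T) (hC : Subgroup.centralizer (N : Set G) ≤ N)
    (N' : Subgroup G') [N'.Normal] (e' : N' ≃* T)
    (hC' : Subgroup.centralizer (N' : Set G') ≤ N')
    (x : Out T)
    (hx : ∀ y : Out T, y ∈ (aePsi N' e').range ↔ x⁻¹ * y * x ∈ (aePsi N e).range) :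
    Nonempty (G ≃* G') := by
  obtain ⟨α, rfl⟩ := QuotientGroup.mk_surjective x
  -- the twisted embedding of `G`
  let θ : G →* MulAut T := (MulAut.conj α).toMonoidHom.comp (aePhi N e)
  have hθ : ∀ g, θ g = α * aePhi N e g * α⁻¹ := fun g => rfl
  have hθinj : Function.Injective θ := by
    intro a b hab
    rw [hθ, hθ] at hab
    apply aePhi_injective N e hZ hC
    have := congrArg (fun z => α⁻¹ * z * α) hab
    simpa [mul_assoc] using this
  have hrange : θ.range = (aePhi N' e').range := by
    apply le_antisymm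
    · rintro _ ⟨g, rfl⟩
      apply aePhi_range_of_mk_mem
      rw [hx]
      refine ⟨g, ?_⟩
      rw [aePsi_apply, hθ]
      show _ = (QuotientGroup.mk α : Out T)⁻¹ * (QuotientGroup.mk (α * aePhi N e g * α⁻¹) : Out T)
        * (QuotientGroup.mk α : Out T)
      rw [← QuotientGroup.mk_inv, ← QuotientGroup.mk_mul, ← QuotientGroup.mk_mul]
      congr 1
      group
    · rintro _ ⟨g', rfl⟩
      have h1 : (QuotientGroup.mk α : Out T)⁻¹ * aePsi N' e' g' * (QuotientGroup.mk α : Out T)
          ∈ (aePsi N e).range := (hx _).1 ⟨g', rfl⟩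
      rw [aePsi_apply, ← QuotientGroup.mk_inv, ← QuotientGroup.mk_mul,
        ← QuotientGroup.mk_mul] at h1
      obtain ⟨g, hg⟩ := aePhi_range_of_mk_mem N e _ h1
      refine ⟨g, ?_⟩
      rw [hθ, hg]
      group
  exact ⟨(MonoidHom.ofInjective hθinj).trans ((MulEquiv.subgroupCongr hrange).trans
    (MonoidHom.ofInjective (aePhi_injective N' e' hZ hC')).symm)⟩

end Iso

end Cfsg.Agent.Helper9.AutEmb
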