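import Mathlib
import Cfsg.Prelude.Def_BaumannBlocks
import Cfsg.Agent.Helper9.BBC

set_option autoImplicit false

/-!
Helper9: sections on which a subgroup acts as a natural `SL₂(F)'`-module or as the even-weight permutation module of an
alternating group of odd degree are irreducible.
-/

namespace Cfsg.Agent.Helper9.BB

universe u

variable {G : Type u} [Group G]

/-- `E` acts irreducibly on the section `U / U₀`. -/
def IrredSec (E U U₀ : Subgroup G) : Prop :=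
  ∀ D : Subgroup G, U₀ ≤ D → D ≤ U → E ≤ Subgroup.normalizer (D : Set G) → D = U₀ ∨ D = U

theorem irredSec_of_sl2 {F : Type*} [Field F] {E U U₀ : Subgroup G}
    (h : Cfsg.ActsAsSL2OnSection F (commutator (Matrix.SpecialLinearGroup (Fin 2) F)) E U U₀) :
    IrredSec E U U₀ := by
  obtain ⟨hEU, hU₀U, ρ, ψ, hρ, hψs, hψk, heq⟩ := h
  intro D hU₀D hDU hED
  -- the image of `D` in `F²`
  let M : AddSubgroup (Fin 2 → F) :=
    { carrier := {x | ∃ u : ↥U, (u : G) ∈ D ∧ Multiplicative.toAdd (ψ u) = x}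
      zero_mem' := ⟨1, D.one_mem, by simp⟩
      add_mem' := by
        rintro _ _ ⟨u, hu, rfl⟩ ⟨u', hu', rfl⟩
        exact ⟨u * u', D.mul_mem hu hu', by simp⟩
      neg_mem' := by
        rintro _ ⟨u, hu, rfl⟩
        exact ⟨u⁻¹, D.inv_mem hu, by simp⟩ }
  have hM : ∀ g ∈ commutator (Matrix.SpecialLinearGroup (Fin 2) F), ∀ v ∈ M,
      (g : Matrix (Fin 2) (Fin 2) F).mulVec v ∈ M := by
    rintro g hg _ ⟨u, hu, rfl⟩
    rw [← hρ] at hg
    obtain ⟨e, rfl⟩ := hg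
    obtain ⟨w, hw1, hw2⟩ := heq e u
    refine ⟨w, ?_, hw2⟩
    rw [hw1]
    exact (Subgroup.mem_normalizer_iff.1 (hED e.2) _).1 hu
  rcases sl2_commutator_irred M hM with h0 | h1
  · left
    apply le_antisymm _ hU₀D
    intro d hd
    have hdM : Multiplicative.toAdd (ψ ⟨d, hDU hd⟩) ∈ M := ⟨⟨d, hDU hd⟩, hd, rfl⟩
    rw [h0, AddSubgroup.mem_bot] at hdM
    have : ψ ⟨d, hDU hd⟩ = 1 := by
      apply Multiplicative.toAdd.injective
      rw [hdM]; rfl
    exact (hψk _).1 this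
  · right
    apply le_antisymm hDU
    intro u hu
    have huM : Multiplicative.toAdd (ψ ⟨u, hu⟩) ∈ M := by rw [h1]; exact AddSubgroup.mem_top _
    obtain ⟨u', hu', he⟩ := huM
    have h2 : ψ (u'⁻¹ * ⟨u, hu⟩) = 1 := by
      rw [map_mul, map_inv]
      have : ψ u' = ψ ⟨u, hu⟩ := Multiplicative.toAdd.injective he
      rw [this, inv_mul_cancel]
    have h3 : ((u'⁻¹ * ⟨u, hu⟩ : ↥U) : G) ∈ U₀ := (hψk _).1 h2
    have h4 := D.mul_mem hu' (hU₀D h3)
    simpa using h4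

theorem irredSec_of_perm {m : ℕ} {E U U₀ : Subgroup G}
    (h : Cfsg.ActsAsOddPermModuleOnSection (2 * m + 1) (alternatingGroup (Fin (2 * m + 1))) E U U₀) :
    IrredSec E U U₀ := by
  obtain ⟨hEU, hU₀U, ρ, ψ, hρ, hψe, hψs, hψk, heq⟩ := h
  intro D hU₀D hDU hED
  let M : AddSubgroup (Fin (2 * m + 1) → ZMod 2) :=
    { carrier := {x | ∃ u : ↥U, (u : G) ∈ D ∧ Multiplicative.toAdd (ψ u) = x}
      zero_mem' := ⟨1, D.one_mem, by simp⟩
      add_mem' := by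
        rintro _ _ ⟨u, hu, rfl⟩ ⟨u', hu', rfl⟩
        exact ⟨u * u', D.mul_mem hu hu', by simp⟩
      neg_mem' := by
        rintro _ ⟨u, hu, rfl⟩
        exact ⟨u⁻¹, D.inv_mem hu, by simp⟩ }
  have hev : ∀ v ∈ M, ∑ i, v i = 0 := by
    rintro _ ⟨u, -, rfl⟩
    exact hψe u
  have hM : ∀ σ ∈ alternatingGroup (Fin (2 * m + 1)), ∀ v ∈ M, (fun i => v (σ⁻¹ i)) ∈ M := by
    rintro σ hσ _ ⟨u, hu, rfl⟩
    rw [← hρ] at hσ
    obtain ⟨e, rfl⟩ := hσ
    obtain ⟨w, hw1, hw2⟩ := heq e u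
    refine ⟨w, ?_, ?_⟩
    · rw [hw1]
      exact (Subgroup.mem_normalizer_iff.1 (hED e.2) _).1 hu
    · funext i
      exact hw2 i
  rcases alt_even_irred ⟨m, rfl⟩ M hev hM with h0 | h1
  · left
    apply le_antisymm _ hU₀D
    intro d hd
    have hdM : Multiplicative.toAdd (ψ ⟨d, hDU hd⟩) ∈ M := ⟨⟨d, hDU hd⟩, hd, rfl⟩
    rw [h0, AddSubgroup.mem_bot] at hdM
    have : ψ ⟨d, hDU hd⟩ = 1 := by
      apply Multiplicative.toAdd.injective
      rw [hdM]; rfl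
    exact (hψk _).1 this
  · right
    apply le_antisymm hDU
    intro u hu
    have huM : Multiplicative.toAdd (ψ ⟨u, hu⟩) ∈ M := h1 _ (hψe _)
    obtain ⟨u', hu', he⟩ := huM
    have h2 : ψ (u'⁻¹ * ⟨u, hu⟩) = 1 := by
      rw [map_mul, map_inv]
      have : ψ u' = ψ ⟨u, hu⟩ := Multiplicative.toAdd.injective he
      rw [this, inv_mul_cancel]
    have h3 : ((u'⁻¹ * ⟨u, hu⟩ : ↥U) : G) ∈ U₀ := (hψk _).1 h2
    have h4 := D.mul_mem hu' (hU₀D h3)
    simpa using h4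

end Cfsg.Agent.Helper9.BB
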