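import Mathlib
import Cfsg.Prelude.Def_BaumannBlocks
import Cfsg.Agent.Helper9.BBD
import Cfsg.Agent.Helper9.BBE

set_option autoImplicit false

/-!
Helper9: the structure of a `B(T)`-block `E` in a group of characteristic `p`: `O_p(G)` normalizes `E`,
`W_E = [Ω₁Z(O_p(E)), E] = [Ω₁Z(O_p(G)), E] ≤ Ω₁Z(O_p(G))`, `[W_E, E] = W_E ≠ 1`, `[W_E, J(T)] ≠ 1`.
-/

namespace Cfsg.Agent.Helper9.BB

open Cfsg.Agent.Helper1
open scoped commutatorElement

universe u

variable {G : Type u} [Group G]

theorem le_normalizer_sup {E A B : Subgroup G} (hA : E ≤ Subgroup.normalizer (A : Set G))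
    (hB : E ≤ Subgroup.normalizer (B : Set G)) : E ≤ Subgroup.normalizer ((A ⊔ B : Subgroup G) : Set G) := by
  intro g hg
  apply mem_normalizer_of_map_eq
  rw [Subgroup.map_sup, map_eq_of_mem_normalizer (hA hg), map_eq_of_mem_normalizer (hB hg)]

/-- irreducibility data extracted from the block definition. -/
theorem block_irred {p : ℕ} {T E : Subgroup G} (hE : Cfsg.IsBaumannBlock p T E) :
    IrredSec E (Cfsg.omegaOneCenter p (Cfsg.pCoreOf p E))
        (Cfsg.omegaOneCenter p (Cfsg.pCoreOf p E) ⊓ Subgroup.centralizer (E : Set G)) ∧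
      (Cfsg.pCoreOf p E = Cfsg.omegaOneCenter p (Cfsg.pCoreOf p E) ∨
        (IrredSec E (Cfsg.pCoreOf p E) (Cfsg.omegaOneCenter p (Cfsg.pCoreOf p E)) ∧
          ⁅Cfsg.pCoreOf p E, Cfsg.pCoreOf p E⁆ ≠ ⊥)) := by
  obtain ⟨-, -, -, -, h⟩ := hE
  rcases h with ⟨F, hF, hFt, n, hcard, -, hact, hcase⟩ | ⟨-, m, -, hact, hRW⟩
  · refine ⟨irredSec_of_sl2 hact, ?_⟩
    rcases hcase with h1 | ⟨-, hact2, hRR, -, hZE, hcardZ, -⟩
    · exact Or.inl h1
    · right
      refine ⟨irredSec_of_sl2 hact2, ?_⟩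
      rw [hRR, ← hZE]
      intro hbot
      rw [hbot] at hcardZ
      have hn : n ≠ 0 := by
        intro hn
        rw [hn, pow_zero] at hcard
        have := Fintype.one_lt_card (α := F)
        omega
      have h1 : Nat.card (⊥ : Subgroup G) = 1 := Subgroup.card_bot
      rw [h1] at hcardZ
      have : 1 < 3 ^ n := Nat.one_lt_pow hn (by norm_num)
      omega
  · exact ⟨irredSec_of_perm hact, Or.inl hRW⟩

/-- The main structural facts about a block in a group of characteristic `p`. -/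
theorem block_main [Finite G] {p : ℕ} [Fact p.Prime]
    (hG : Subgroup.centralizer (Cfsg.pCore p G : Set G) ≤ Cfsg.pCore p G) (T : Sylow p G)
    {E : Subgroup G} (hE : Cfsg.IsBaumannBlock p (T : Subgroup G) E) :
    Cfsg.pCore p G ≤ Subgroup.normalizer (E : Set G) ∧
      ⁅Cfsg.omegaOneCenter p (Cfsg.pCoreOf p E), E⁆ = ⁅Cfsg.omegaOneCenter p (Cfsg.pCore p G), E⁆ ∧
      ⁅Cfsg.omegaOneCenter p (Cfsg.pCoreOf p E), E⁆ ≠ ⊥ ∧
      ⁅⁅Cfsg.omegaOneCenter p (Cfsg.pCoreOf p E), E⁆, E⁆ = ⁅Cfsg.omegaOneCenter p (Cfsg.pCoreOf p E), E⁆ ∧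
      ⁅Cfsg.omegaOneCenter p (Cfsg.pCoreOf p E), E⁆ ≤ Cfsg.omegaOneCenter p (Cfsg.pCore p G) := by
  have hres := hE.1
  have hEB := hE.2.1
  have hET := hE.2.2.2.1
  obtain ⟨hirrW, hirrR⟩ := block_irred hE
  set Q := Cfsg.pCore p G with hQ
  haveI hQn : Q.Normal := Cfsg.Agent.Helper9.pCore_normal
  have hQp : IsPGroup p Q := Cfsg.Agent.Helper9.pCore_isPGroup
  have hQE : Q ≤ Subgroup.normalizer (E : Set G) :=
    normalizes_of_block T hres hEB hQp (le_normalizer_of_normal _ Q) (le_normalizer_of_normal E Q)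
  set V := Cfsg.omegaOneCenter p Q with hV
  have hVQ : V ≤ Q := omegaOneCenter_le_self p Q
  haveI hVn : V.Normal := by
    rw [← Subgroup.normalizer_eq_top_iff, eq_top_iff]
    intro g _
    exact normalizer_le_omegaOneCenter p Q (le_normalizer_of_normal ⊤ Q (Subgroup.mem_top g))
  have hVp : IsPGroup p V := hQp.to_le hVQ
  have hQT : Q ≤ (T : Subgroup G) := Cfsg.Agent.Helper9.pCore_le_sylow T
  -- Step A
  have hZTV : Cfsg.omegaOneCenter p (T : Subgroup G) ≤ V := by
    unfold Cfsg.omegaOneCenter Cfsg.omegaOne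
    rw [Subgroup.closure_le]
    rintro x ⟨hx, hxp⟩
    have hxc : x ∈ Subgroup.centralizer (Q : Set G) :=
      Subgroup.centralizer_le hQT (Subgroup.mem_inf.1 hx).2
    exact mem_omegaOneCenter (hG hxc) hxc hxp
  set D : Subgroup G := ⁅V, E⁆ with hD
  have hDne : D ≠ ⊥ := by
    intro h
    apply hET
    rw [eq_bot_iff, ← h, hD, Subgroup.commutator_comm V E]
    exact Subgroup.commutator_mono le_rfl hZTV
  have hEV : E ≤ Subgroup.normalizer (V : Set G) := le_normalizer_of_normal E V
  have hDE : D ≤ E := by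
    rw [hD, Subgroup.commutator_le]
    intro v hv e he
    have : ⁅v, e⁆ = (v * e * v⁻¹) * e⁻¹ := by simp only [commutatorElement_def]
    rw [this]
    exact mul_mem (conj_mem_of_mem_normalizer (hQE (hVQ hv)) he) (inv_mem he)
  have hDV : D ≤ V := Subgroup.commutator_le_left V E
  have hED : E ≤ Subgroup.normalizer (D : Set G) := le_normalizer_commutator_right V E
  have hDp : IsPGroup p D := hVp.to_le hDV
  set R := Cfsg.pCoreOf p E with hR
  have hDR : D ≤ R := Cfsg.Agent.Lead.LLem.le_pCoreOf hDE hDp hED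
  have hDD : ⁅D, E⁆ = D := comm_comm_eq hVp hEV hres
  set W := Cfsg.omegaOneCenter p R with hW
  have hWR : W ≤ R := omegaOneCenter_le_self p R
  have hRE : R ≤ E := Cfsg.Agent.Lead.LLem.pCoreOf_le E
  have hWcR : W ≤ Subgroup.centralizer (R : Set G) := omegaOneCenter_le_centralizer p R
  have hER : E ≤ Subgroup.normalizer (R : Set G) :=
    Subgroup.le_normalizer.trans (normalizer_le_pCoreOf p E)
  have hEW : E ≤ Subgroup.normalizer (W : Set G) := hER.trans (normalizer_le_omegaOneCenter p R)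
  set Z : Subgroup G := W ⊓ Subgroup.centralizer (E : Set G) with hZ
  have hEZ : E ≤ Subgroup.normalizer (Z : Set G) := by
    refine le_trans ?_ (normalizer_inf_le W _)
    exact le_inf hEW (Subgroup.le_normalizer.trans (normalizer_le_centralizer E))
  have hDab : D ≤ Subgroup.centralizer (D : Set G) := by
    intro x hx
    rw [Subgroup.mem_centralizer_iff]
    intro y hy
    exact (omegaOneCenter_commute (hDV hy) (hVQ (hDV hx)))
  -- (i) `D ≤ W`
  have hDW : D ≤ W := by
    rcases hirrR with h1 | ⟨hirr, hRR⟩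
    · rw [← h1]; exact hDR
    · rcases hirr (D ⊔ W) le_sup_right (sup_le hDR hWR) (le_normalizer_sup hED hEW) with h | h
      · rw [← h]; exact le_sup_left
      · exfalso
        apply hRR
        have hWcDW : W ≤ Subgroup.centralizer ((D ⊔ W : Subgroup G) : Set G) :=
          hWcR.trans (Subgroup.centralizer_le (sup_le hDR hWR))
        have hDcDW : D ≤ Subgroup.centralizer ((D ⊔ W : Subgroup G) : Set G) := by
          rw [Subgroup.le_centralizer_iff]
          exact sup_le hDab (hWcR.trans (Subgroup.centralizer_le hDR))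
        rw [← h, Subgroup.commutator_eq_bot_iff_le_centralizer]
        exact sup_le hDcDW hWcDW
  -- (ii) `D ⊔ Z = W`
  have hDZ : D ⊔ Z = W := by
    rcases hirrW (D ⊔ Z) le_sup_right (sup_le hDW inf_le_left) (le_normalizer_sup hED hEZ) with h | h
    · exfalso
      apply hDne
      have h1 : D ≤ Subgroup.centralizer (E : Set G) := by
        have : D ≤ Z := by rw [← h]; exact le_sup_left
        exact this.trans inf_le_right
      rw [← hDD, Subgroup.commutator_eq_bot_iff_le_centralizer]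
      exact h1
    · exact h
  -- (iii) `[W, E] ≤ D`
  have hDsec : D ≤ secCent E D := by
    intro d hd
    refine ⟨Subgroup.le_normalizer (hDE hd), Subgroup.le_normalizer hd, ?_⟩
    intro e he
    have : ⁅d, e⁆ ∈ ⁅D, E⁆ := Subgroup.commutator_mem_commutator hd he
    rwa [hDD] at this
  have hZsec : Z ≤ secCent E D := by
    intro z hz
    have hzW : z ∈ W := (Subgroup.mem_inf.1 hz).1
    have hzc : z ∈ Subgroup.centralizer (E : Set G) := (Subgroup.mem_inf.1 hz).2
    refine ⟨Subgroup.le_normalizer (hRE (hWR hzW)), ?_, ?_⟩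
    · apply Subgroup.centralizer_le_normalizer
      exact Subgroup.centralizer_le hDE hzc
    · intro e he
      have : ⁅z, e⁆ = 1 := by
        rw [commutatorElement_eq_one_iff_mul_comm]
        exact (Subgroup.mem_centralizer_iff.1 hzc e he).symm
      rw [this]; exact one_mem _
  have hWD : ⁅W, E⁆ ≤ D := by
    rw [Subgroup.commutator_le]
    intro w hw e he
    have hw' : w ∈ D ⊔ Z := by rw [hDZ]; exact hw
    exact ((sup_le hDsec hZsec) hw').2.2 e he
  have hWE : ⁅W, E⁆ = D := by
    apply le_antisymm hWD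
    conv_lhs => rw [← hDD]
    exact Subgroup.commutator_mono hDW le_rfl
  exact ⟨hQE, hWE, by rw [hWE]; exact hDne, by rw [hWE]; exact hDD, by rw [hWE]; exact hDV⟩

/-- `[W_E, J(T)] ≠ 1`. -/
theorem block_thompson [Finite G] {p : ℕ} [Fact p.Prime]
    (hG : Subgroup.centralizer (Cfsg.pCore p G : Set G) ≤ Cfsg.pCore p G) (T : Sylow p G)
    {E : Subgroup G} (hE : Cfsg.IsBaumannBlock p (T : Subgroup G) E) :
    ⁅⁅Cfsg.omegaOneCenter p (Cfsg.pCoreOf p E), E⁆, Cfsg.thompsonSubgroupOf p (T : Subgroup G)⁆ ≠ ⊥ := by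
  obtain ⟨hQE, hWE, hne, hDD, hDV⟩ := block_main hG T hE
  set D : Subgroup G := ⁅Cfsg.omegaOneCenter p (Cfsg.pCoreOf p E), E⁆ with hD
  intro hbot
  rw [Subgroup.commutator_eq_bot_iff_le_centralizer] at hbot
  have hVQ : Cfsg.omegaOneCenter p (Cfsg.pCore p G) ≤ Cfsg.pCore p G := omegaOneCenter_le_self p _
  have hDT : D ≤ (T : Subgroup G) := (hDV.trans hVQ).trans (Cfsg.Agent.Helper9.pCore_le_sylow T)
  have hDea : Cfsg.IsElementaryAbelian p D :=
    IsElementaryAbelian_of_le (isElementaryAbelian_omegaOneCenter p _) hDV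
  -- `D` lies in every maximal elementary abelian subgroup
  have hDA : ∀ A, MaxEA p (T : Subgroup G) A → D ≤ A := by
    intro A hA
    have hDcA : D ≤ Subgroup.centralizer (A : Set G) :=
      hbot.trans (Subgroup.centralizer_le hA.le_thompson)
    have hea := IsElementaryAbelian_sup hA.2.1 hDea hDcA
    have hcard := hA.2.2 (A ⊔ D) (sup_le hA.1 hDT) hea
    have : A = A ⊔ D := Subgroup.eq_of_le_of_card_ge le_sup_left hcard
    rw [this]; exact le_sup_right
  obtain ⟨A, hA⟩ := exists_maxEA p (T : Subgroup G)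
  have hDJ : D ≤ Cfsg.thompsonSubgroupOf p (T : Subgroup G) := (hDA A hA).trans hA.le_thompson
  have hDZJ : D ≤ Cfsg.omegaOne p (Cfsg.centerThompsonOf p (T : Subgroup G)) := by
    intro d hd
    unfold Cfsg.omegaOne
    apply Subgroup.subset_closure
    refine ⟨?_, omegaOneCenter_pow (hDV hd)⟩
    unfold Cfsg.centerThompsonOf
    exact Subgroup.mem_inf.2 ⟨hDJ hd, hbot hd⟩
  have hBD : Cfsg.baumannSubgroupOf p (T : Subgroup G) ≤ Subgroup.centralizer (D : Set G) := by
    unfold Cfsg.baumannSubgroupOf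
    exact inf_le_right.trans (Subgroup.centralizer_le hDZJ)
  have hED : E ≤ Subgroup.normalizer (D : Set G) := le_normalizer_commutator_right _ E
  have h1 := commutator_le_of_le_normalizer hBD (hED.trans (normalizer_le_centralizer D))
  rw [hE.2.1] at h1
  apply hne
  rw [← hDD, Subgroup.commutator_eq_bot_iff_le_centralizer, Subgroup.le_centralizer_iff]
  exact h1

end Cfsg.Agent.Helper9.BB
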