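import Mathlib
import Cfsg.Agent.Helper9.ClassCount

set_option autoImplicit false

/-!
Covering a finite group by the conjugates of the generators of given cyclic subgroups: when the
lower bounds `|G| φ(o) / ν` for their numbers add up to the order of the group and the sets are
pairwise disjoint, every element is conjugate to a generator of one of the cyclic subgroups.
-/

namespace Cfsg.Agent.Helper9.ClassCount

open Classical

variable {G : Type*} [Group G]

/-- the conjugates of the generators of the cyclic subgroup generated by `y`. -/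
def conjGens (y : G) : Set G :=
  {g | ∃ x : G, ∃ k : ℕ, Nat.Coprime k (orderOf y) ∧ g = x * y ^ k * x⁻¹}

theorem self_mem_conjGens (y : G) : y ∈ conjGens y :=
  ⟨1, 1, Nat.coprime_one_left _, by rw [pow_one, one_mul, inv_one, mul_one]⟩

theorem pow_mem_conjGens (y : G) {k : ℕ} (hk : Nat.Coprime k (orderOf y)) : y ^ k ∈ conjGens y :=
  ⟨1, k, hk, by rw [one_mul, inv_one, mul_one]⟩

theorem conj_mem_conjGens {y g : G} (x : G) (hg : g ∈ conjGens y) : x * g * x⁻¹ ∈ conjGens y := by
  obtain ⟨x', k, hk, rfl⟩ := hg
  exact ⟨x * x', k, hk, by group⟩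

theorem conj_mem_conjGens_iff {y g : G} (x : G) : x * g * x⁻¹ ∈ conjGens y ↔ g ∈ conjGens y := by
  constructor
  · intro hg
    have := conj_mem_conjGens x⁻¹ hg
    have e : x⁻¹ * (x * g * x⁻¹) * x⁻¹⁻¹ = g := by group
    rwa [e] at this
  · exact conj_mem_conjGens x

/-- an invariant of conjugacy and of the generators of a cyclic subgroup is constant on the
conjugates of the generators. -/
theorem eq_of_mem_conjGens {γ : Type*} (c : G → γ) (hconj : ∀ x g : G, c (x * g * x⁻¹) = c g)
    {y g : G} (hpow : ∀ k : ℕ, Nat.Coprime k (orderOf y) → c (y ^ k) = c y) (hg : g ∈ conjGens y) :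
    c g = c y := by
  obtain ⟨x, k, hk, rfl⟩ := hg
  rw [hconj, hpow k hk]

theorem conjGens_one : conjGens (1 : G) = {1} := by
  ext g
  constructor
  · rintro ⟨x, k, -, rfl⟩
    rw [one_pow, mul_one, mul_inv_cancel]
    rfl
  · intro hg
    rw [Set.mem_singleton_iff] at hg
    rw [hg]
    exact self_mem_conjGens 1

variable [Finite G]

/-- the conjugates of the generators of `⟨y⟩` are many when few elements normalize `⟨y⟩`. -/
theorem card_mul_totient_le_conjGens (y : G) (ν : ℕ) (ho : 1 < orderOf y)
    (hν : {h : G | ∃ j : ℕ, j < orderOf y ∧ h * y = y ^ j * h}.ncard ≤ ν) :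
    Nat.card G * Nat.totient (orderOf y) ≤ ν * (conjGens y).ncard := by
  have h := card_mul_totient_le (fun g => g ∈ conjGens y) y ν ho
    (fun x g => propext (conj_mem_conjGens_iff x))
    (fun k hk => propext ⟨fun _ => self_mem_conjGens y, fun _ => pow_mem_conjGens y hk⟩) hν
  have e : {g : G | (fun g => g ∈ conjGens y) g = (fun g => g ∈ conjGens y) y} = conjGens y := by
    ext g
    constructor
    · intro hg
      have hg' : (g ∈ conjGens y) = (y ∈ conjGens y) := hg
      rw [hg']
      exact self_mem_conjGens y
    · intro hg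
      exact propext ⟨fun _ => self_mem_conjGens y, fun _ => hg⟩
  rwa [e] at h

/-- when the lower bounds add up to the order of the group and the sets are pairwise disjoint,
every element is a conjugate of a generator of one of the cyclic subgroups. -/
theorem cover_of_sum_eq {ι : Type*} (s : Finset ι) (y : ι → G) (m : ι → ℕ)
    (hm : ∀ i ∈ s, m i ≤ (conjGens (y i)).ncard)
    (hdisj : ∀ i ∈ s, ∀ j ∈ s, i ≠ j → Disjoint (conjGens (y i)) (conjGens (y j)))
    (hsum : ∑ i ∈ s, m i = Nat.card G) (g : G) : ∃ i ∈ s, g ∈ conjGens (y i) := by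
  have : Fintype G := Fintype.ofFinite G
  let A : ι → Finset G := fun i => (conjGens (y i)).toFinset
  have hA : ∀ i, (A i).card = (conjGens (y i)).ncard := by
    intro i
    rw [Set.ncard_eq_toFinset_card']
  have hd : (s : Set ι).PairwiseDisjoint A := by
    intro i hi j hj hij
    have := hdisj i hi j hj hij
    rw [Function.onFun, Finset.disjoint_left]
    intro a ha hb
    rw [Set.mem_toFinset] at ha hb
    exact Set.disjoint_left.mp this ha hb
  have hcard : (s.biUnion A).card = ∑ i ∈ s, (A i).card := Finset.card_biUnion hd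
  have hge : Nat.card G ≤ (s.biUnion A).card := by
    rw [hcard, ← hsum]
    apply Finset.sum_le_sum
    intro i hi
    rw [hA]
    exact hm i hi
  have huniv : s.biUnion A = Finset.univ := by
    apply Finset.eq_univ_of_card
    apply le_antisymm (Finset.card_le_univ _)
    rw [← Nat.card_eq_fintype_card]
    exact hge
  have hg : g ∈ s.biUnion A := by
    rw [huniv]
    exact Finset.mem_univ _
  rw [Finset.mem_biUnion] at hg
  obtain ⟨i, hi, hgi⟩ := hg
  exact ⟨i, hi, Set.mem_toFinset.mp hgi⟩

end Cfsg.Agent.Helper9.ClassCount
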