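import Mathlib

set_option autoImplicit false

namespace Cfsg.Agent.Helper9

/-- `x` fixes the coset `gH` iff `g⁻¹ x g ∈ H`. -/
theorem fix_coset_iff' {G : Type*} [Group G] (H : Subgroup G) (g x : G) :
    x • (QuotientGroup.mk g : G ⧸ H) = QuotientGroup.mk g ↔ g⁻¹ * x * g ∈ H := by
  rw [MulAction.Quotient.smul_mk, QuotientGroup.eq, smul_eq_mul]
  constructor
  · intro h
    have := H.inv_mem h
    have e : ((x * g)⁻¹ * g)⁻¹ = g⁻¹ * x * g := by group
    rwa [e] at this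
  · intro h
    have := H.inv_mem h
    have e : (g⁻¹ * x * g)⁻¹ = (x * g)⁻¹ * g := by group
    rwa [e] at this

/-- If `x ∈ H` fixes a unique coset of `H`, then `g⁻¹ x g ∈ H` forces `g ∈ H`. -/
theorem mem_of_unique_fix {G : Type*} [Group G] {H : Subgroup G} {x : G} (hxH : x ∈ H)
    (hu : ∃! c : G ⧸ H, x • c = c) {g : G} (hg : g⁻¹ * x * g ∈ H) : g ∈ H := by
  obtain ⟨c, _, hc⟩ := hu
  have h1 : (QuotientGroup.mk g : G ⧸ H) = c := hc _ ((fix_coset_iff' H g x).mpr hg)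
  have h2 : (QuotientGroup.mk (1 : G) : G ⧸ H) = c :=
    hc _ ((fix_coset_iff' H 1 x).mpr (by simpa using hxH))
  have h3 : (QuotientGroup.mk (1 : G) : G ⧸ H) = QuotientGroup.mk g := h2.trans h1.symm
  rw [QuotientGroup.eq] at h3
  simpa using h3

/-- If `x` fixes some coset of `H` then some conjugate of `x` lies in `H`. -/
theorem exists_conj_mem_of_fix {G : Type*} [Group G] {H : Subgroup G} {x : G}
    (hu : ∃ c : G ⧸ H, x • c = c) : ∃ g : G, g⁻¹ * x * g ∈ H := by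
  obtain ⟨c, hc⟩ := hu
  obtain ⟨g, rfl⟩ := QuotientGroup.mk_surjective c
  exact ⟨g, (fix_coset_iff' H g x).mp hc⟩

end Cfsg.Agent.Helper9
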