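import Mathlib

set_option autoImplicit false

namespace Cfsg.Agent.Helper9

variable {G : Type*} [Group G]

/-- For involutions `a`, `b`: `a` inverts the powers of `a * b`. -/
theorem invol_left_conj_pow {a b : G} (ha : a * a = 1) (hb : b * b = 1) (k : ℕ) :
    a * (a * b) ^ k * a = ((a * b) ^ k)⁻¹ := by
  have hai : a⁻¹ = a := inv_eq_of_mul_eq_one_left ha
  have hbi : b⁻¹ = b := inv_eq_of_mul_eq_one_left hb
  have h1 : a * (a * b) * a = (a * b)⁻¹ := by
    rw [mul_inv_rev, hai, hbi]
    calc a * (a * b) * a = (a * a) * b * a := by simp only [mul_assoc]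
      _ = b * a := by rw [ha, one_mul]
  have h2 : a * (a * b) ^ k * a⁻¹ = (a * (a * b) * a⁻¹) ^ k := (conj_pow).symm
  rw [hai] at h2
  rw [h2, h1, _root_.inv_pow]

/-- For involutions `a`, `b`: `b` inverts the powers of `a * b`. -/
theorem invol_right_conj_pow {a b : G} (ha : a * a = 1) (hb : b * b = 1) (k : ℕ) :
    b * (a * b) ^ k * b = ((a * b) ^ k)⁻¹ := by
  have hai : a⁻¹ = a := inv_eq_of_mul_eq_one_left ha
  have hbi : b⁻¹ = b := inv_eq_of_mul_eq_one_left hb
  have h1 : b * (a * b) * b = (a * b)⁻¹ := by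
    rw [mul_inv_rev, hai, hbi]
    calc b * (a * b) * b = b * a * (b * b) := by simp only [mul_assoc]
      _ = b * a := by rw [hb, mul_one]
  have h2 : b * (a * b) ^ k * b⁻¹ = (b * (a * b) * b⁻¹) ^ k := (conj_pow).symm
  rw [hbi] at h2
  rw [h2, h1, _root_.inv_pow]

/-- An element squaring to one, raised to an odd power, is itself. -/
theorem pow_odd_of_mul_self {t : G} (ht : t * t = 1) {n : ℕ} (hn : Odd n) : t ^ n = t := by
  obtain ⟨j, rfl⟩ := hn
  rw [pow_succ, pow_mul, pow_two, ht, one_pow, one_mul]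

/-- An element of odd order squaring to one is trivial. -/
theorem eq_one_of_mul_self_of_odd {t : G} (ht : t * t = 1) (hodd : Odd (orderOf t)) : t = 1 := by
  have := pow_odd_of_mul_self ht hodd
  rw [pow_orderOf_eq_one] at this
  exact this.symm

/-- Conjugation preserves the order. -/
theorem orderOf_conj_eq' (g x : G) : orderOf (g * x * g⁻¹) = orderOf x := by
  have := MulEquiv.orderOf_eq (MulAut.conj g) x
  rwa [MulAut.conj_apply] at this

/-- A conjugate of an involution squares to one. -/
theorem conj_mul_self {d : G} (hd : d * d = 1) (g : G) : (g * d * g⁻¹) * (g * d * g⁻¹) = 1 := by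
  calc (g * d * g⁻¹) * (g * d * g⁻¹) = g * (d * d) * g⁻¹ := by group
    _ = 1 := by rw [hd]; group

end Cfsg.Agent.Helper9
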