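import Mathlib
import Cfsg.Agent.Helper7.FHDefs
import Cfsg.Agent.Helper9.Fh_L1a

/-!
# S1142 piece L1b: spectral projections of a real symmetric matrix are polynomials in it
-/

set_option autoImplicit false
set_option linter.unusedVariables false
set_option linter.unusedSectionVars false

namespace Cfsg.Agent.Helper7.FH

open Matrix Finset

section h9L1b

variable {F : Type*} [Fintype F] [DecidableEq F]

theorem h9_transpose_aeval (M : Matrix F F ℝ) (g : Polynomial ℝ) :
    (Polynomial.aeval M g).transpose = Polynomial.aeval M.transpose g := by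
  induction g using Polynomial.induction_on' with
  | add p q hp hq => rw [map_add, map_add, Matrix.transpose_add, hp, hq]
  | monomial k c =>
    rw [Polynomial.aeval_monomial, Polynomial.aeval_monomial, Algebra.algebraMap_eq_smul_one,
      Matrix.smul_mul, Matrix.smul_mul, Matrix.one_mul,
      Matrix.one_mul, Matrix.transpose_smul, Matrix.transpose_pow]

theorem h9_eig_iff (M : Matrix F F ℝ) (ν : ℝ) :
    (∃ v : F → ℝ, v ≠ 0 ∧ M.mulVec v = ν • v) ↔ Module.End.HasEigenvalue (Matrix.toLin' M) ν := by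
  constructor
  · rintro ⟨v, hv, h⟩
    apply Module.End.hasEigenvalue_of_hasEigenvector (x := v)
    refine ⟨?_, hv⟩
    rw [Module.End.mem_eigenspace_iff, Matrix.toLin'_apply]
    exact h
  · intro h
    obtain ⟨v, hv⟩ := h.exists_hasEigenvector
    refine ⟨v, hv.2, ?_⟩
    have := hv.1
    rw [Module.End.mem_eigenspace_iff, Matrix.toLin'_apply] at this
    exact this

theorem spec_proj_of (M : Matrix F F ℝ) (hM : M.transpose = M)
    (hann : ∀ h : Polynomial ℝ,
      (∀ μ : ℝ, (∃ v : F → ℝ, v ≠ 0 ∧ M.mulVec v = μ • v) → h.eval μ = 0) →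
        Polynomial.aeval M h = 0) (μ : ℝ)
    (hμ : ∃ v : F → ℝ, v ≠ 0 ∧ M.mulVec v = μ • v) :
    ∃ g : Polynomial ℝ, (Polynomial.aeval M g) * (Polynomial.aeval M g) = Polynomial.aeval M g ∧
      (Polynomial.aeval M g).transpose = Polynomial.aeval M g ∧ Polynomial.aeval M g ≠ 0 ∧
      M * Polynomial.aeval M g = μ • Polynomial.aeval M g := by
  classical
  have hfin : Set.Finite {ν : ℝ | Module.End.HasEigenvalue (Matrix.toLin' M) ν} :=
    Module.End.finite_hasEigenvalue _
  set S : Finset ℝ := hfin.toFinset with hS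
  have hmemS : ∀ ν : ℝ, (∃ v : F → ℝ, v ≠ 0 ∧ M.mulVec v = ν • v) → ν ∈ S := by
    intro ν hν
    rw [hS, Set.Finite.mem_toFinset, Set.mem_setOf_eq]
    exact (h9_eig_iff M ν).1 hν
  have hμS : μ ∈ S := hmemS μ hμ
  set g : Polynomial ℝ := Lagrange.basis S id μ with hg
  have hinj : Set.InjOn (id : ℝ → ℝ) S := Function.injective_id.injOn
  have hgμ : g.eval μ = 1 := Lagrange.eval_basis_self hinj hμS
  have hgν : ∀ ν ∈ S, ν ≠ μ → g.eval ν = 0 := by
    intro ν hν hne
    exact Lagrange.eval_basis_of_ne (v := id) (s := S) (i := μ) (j := ν) (Ne.symm hne) hν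
  have h01 : ∀ ν ∈ S, g.eval ν = 0 ∨ g.eval ν = 1 := by
    intro ν hν
    by_cases h : ν = μ
    · right; rw [h]; exact hgμ
    · left; exact hgν ν hν h
  refine ⟨g, ?_, ?_, ?_, ?_⟩
  · have := hann (g * g - g) (by
      intro ν hν
      rcases h01 ν (hmemS ν hν) with h | h <;> simp [h])
    rw [map_sub, map_mul, sub_eq_zero] at this
    exact this
  · rw [h9_transpose_aeval, hM]
  · obtain ⟨v, hv, hMv⟩ := hμ
    intro h0
    have := h9_aeval_mulVec_eigen M g hMv
    rw [h0, hgμ, one_smul, Matrix.zero_mulVec] at this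
    exact hv this.symm
  · have := hann ((Polynomial.X - Polynomial.C μ) * g) (by
      intro ν hν
      by_cases h : ν = μ
      · simp [h]
      · simp [hgν ν (hmemS ν hν) h])
    rw [map_mul, map_sub, Polynomial.aeval_X, Polynomial.aeval_C, sub_mul, sub_eq_zero,
      Algebra.algebraMap_eq_smul_one, Matrix.smul_mul, Matrix.one_mul] at this
    exact this

end h9L1b

end Cfsg.Agent.Helper7.FH
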