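import Mathlib

set_option autoImplicit false

/-!
A permutation of prime power order that maps a finite set of size prime to `p` to itself has a
fixed point in it.
-/

namespace Cfsg.Agent.Helper9

theorem exists_fixed_of_invariant {α : Type*} [DecidableEq α] (x : Equiv.Perm α)
    (p : ℕ) [Fact p.Prime] (n : ℕ) (hx : x ^ p ^ n = 1) (O : Finset α) (hO : ∀ a ∈ O, x a ∈ O)
    (hcard : ¬ p ∣ O.card) : ∃ a ∈ O, x a = a := by
  classical
  let f : Function.End ↥O := fun a => ⟨x a.1, hO a.1 a.2⟩
  have hpow : ∀ k : ℕ, ∀ a : ↥O, ((f ^ k) a).1 = (x ^ k) a.1 := by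
    intro k
    induction k with
    | zero => intro a; rfl
    | succ k ih =>
      intro a
      rw [pow_succ', pow_succ']
      change (f ((f ^ k) a)).1 = _
      rw [Equiv.Perm.mul_apply, ← ih a]
  have hf : f ^ p ^ n = 1 := by
    funext a
    apply Subtype.ext
    rw [hpow, hx]
    rfl
  have h := Equiv.Perm.card_fixedPoints_modEq (p := p) (n := n) hf
  by_contra hne
  push Not at hne
  have hempty : IsEmpty (Function.fixedPoints f) := by
    constructor
    rintro ⟨a, ha⟩
    apply hne a.1 a.2
    have := congrArg Subtype.val ha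
    exact this
  have h0 : Fintype.card (Function.fixedPoints f) = 0 := Fintype.card_eq_zero
  rw [h0, Fintype.card_coe] at h
  exact hcard ((Nat.modEq_zero_iff_dvd).mp h)

end Cfsg.Agent.Helper9
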