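import Mathlib
import Cfsg.Agent.Helper4.P4A

set_option autoImplicit false

/-!
PIECE G3 (part A): automorphisms of an elementary abelian group `V` of order `p³` stabilizing a
flag `ℓ < π < V`; fixed cosets of `p`-groups of automorphisms; existence of a stable flag.
-/

namespace Cfsg.Agent.Helper9.G3

variable {V : Type*} [CommGroup V]

/-- `v ↦ α v / v`, a homomorphism since `V` is commutative. -/
def dd (α : MulAut V) : V →* V where
  toFun v := α v / v
  map_one' := by simp
  map_mul' a b := by rw [map_mul, mul_div_mul_comm]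

theorem dd_apply (α : MulAut V) (v : V) : dd α v = α v / v := rfl

/-- transvection-like automorphisms: `[V, α] ≤ ℓ` and `α` centralizes `π`. -/
def IsTv (ℓ π : Subgroup V) (α : MulAut V) : Prop :=
  (∀ v, α v / v ∈ ℓ) ∧ ∀ v ∈ π, α v = v

/-- automorphisms stabilizing the flag `ℓ ≤ π` and acting trivially on its factors. -/
def InU (ℓ π : Subgroup V) (α : MulAut V) : Prop :=
  (∀ v, α v / v ∈ π) ∧ (∀ v ∈ π, α v / v ∈ ℓ) ∧ ∀ v ∈ ℓ, α v = v

/-- the chain `⊥ ≤ ℓ ≤ π ≤ ⊤` as a function on `ℕ`. -/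
def flagK (ℓ π : Subgroup V) : ℕ → Subgroup V := fun i =>
  if i = 0 then ⊥ else if i = 1 then ℓ else if i = 2 then π else ⊤

theorem flagK_mono {ℓ π : Subgroup V} (h : ℓ ≤ π) : ∀ i < 3, flagK ℓ π i ≤ flagK ℓ π (i + 1) := by
  intro i hi
  interval_cases i
  · simp [flagK]
  · simpa [flagK] using h
  · simp [flagK]

theorem mem_chainStab_iff [Finite V] {ℓ π : Subgroup V} (h : ℓ ≤ π) (α : MulAut V) :
    α ∈ Cfsg.Agent.Helper4.P4A.chainStab 3 (flagK ℓ π) (flagK_mono h) ↔ InU ℓ π α := by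
  rw [Cfsg.Agent.Helper4.P4A.mem_chainStab]
  constructor
  · intro H
    refine ⟨fun v => ?_, fun v hv => ?_, fun v hv => ?_⟩
    · have := H 2 (by norm_num) v (by simp [flagK])
      rw [div_eq_mul_inv, mul_comm]
      simpa [flagK] using this
    · have := H 1 (by norm_num) v (by simpa [flagK] using hv)
      rw [div_eq_mul_inv, mul_comm]
      simpa [flagK] using this
    · have := H 0 (by norm_num) v (by simpa [flagK] using hv)
      have h2 : v⁻¹ * α v = 1 := by simpa [flagK] using this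
      exact (inv_mul_eq_one.1 h2).symm
  · rintro ⟨h1, h2, h3⟩ i hi x hx
    interval_cases i
    · have hx' : x ∈ ℓ := by simpa [flagK] using hx
      have : x⁻¹ * α x = 1 := by rw [h3 x hx']; simp
      rw [this]
      exact Subgroup.one_mem _
    · have hx' : x ∈ π := by simpa [flagK] using hx
      have := h2 x hx'
      rw [div_eq_mul_inv, mul_comm] at this
      simpa [flagK] using this
    · have := h1 x
      rw [div_eq_mul_inv, mul_comm] at this
      simpa [flagK] using this

/-- A group acting through `InU ℓ π` automorphisms is a `p`-group. -/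
theorem isPGroup_of_InU [Finite V] {p : ℕ} [hp : Fact p.Prime] {ℓ π : Subgroup V} (h : ℓ ≤ π)
    (hℓ : Nat.card ℓ = p) (hπ : Nat.card π = p ^ 2) (hV : Nat.card V = p ^ 3)
    {X : Type*} [Group X] (ρ : X →* MulAut V) (hρ : Function.Injective ρ) (Q : Subgroup X)
    (hQ : ∀ x ∈ Q, InU ℓ π (ρ x)) : IsPGroup p Q := by
  have h1 : IsPGroup p (Cfsg.Agent.Helper4.P4A.chainStab 3 (flagK ℓ π) (flagK_mono h)) := by
    apply Cfsg.Agent.Helper4.P4A.isPGroup_chainStab (p := p)
    · simp [flagK]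
    · simp [flagK]
    · intro i hi
      interval_cases i
      · simp [flagK]
      · simpa [flagK] using hℓ
      · simpa [flagK] using hπ
      · simpa [flagK] using hV
  have h2 : IsPGroup p ((Cfsg.Agent.Helper4.P4A.chainStab 3 (flagK ℓ π) (flagK_mono h)).comap ρ) :=
    h1.comap_of_injective ρ hρ
  apply h2.to_le
  intro x hx
  rw [Subgroup.mem_comap, mem_chainStab_iff h]
  exact hQ x hx

/-- the subgroup of `X` acting through `InU ℓ π`. -/
def stabIn [Finite V] {ℓ π : Subgroup V} (h : ℓ ≤ π) {X : Type*} [Group X] (ρ : X →* MulAut V) :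
    Subgroup X :=
  (Cfsg.Agent.Helper4.P4A.chainStab 3 (flagK ℓ π) (flagK_mono h)).comap ρ

theorem mem_stabIn [Finite V] {ℓ π : Subgroup V} (h : ℓ ≤ π) {X : Type*} [Group X]
    (ρ : X →* MulAut V) (x : X) : x ∈ stabIn h ρ ↔ InU ℓ π (ρ x) := by
  unfold stabIn
  rw [Subgroup.mem_comap, mem_chainStab_iff h]

theorem isPGroup_stabIn [Finite V] {p : ℕ} [hp : Fact p.Prime] {ℓ π : Subgroup V} (h : ℓ ≤ π)
    (hℓ : Nat.card ℓ = p) (hπ : Nat.card π = p ^ 2) (hV : Nat.card V = p ^ 3)
    {X : Type*} [Group X] (ρ : X →* MulAut V) (hρ : Function.Injective ρ) :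
    IsPGroup p (stabIn h ρ) :=
  isPGroup_of_InU h hℓ hπ hV ρ hρ _ (fun x hx => (mem_stabIn h ρ x).1 hx)

/-- a transvection-like automorphism stabilizes suitable flags. -/
theorem IsTv.inU {c H ℓ π : Subgroup V} {α : MulAut V} (hα : IsTv c H α) (h1 : c ≤ π) (h2 : ℓ ≤ H)
    (h3 : c ≤ ℓ ∨ π ≤ H) : InU ℓ π α := by
  refine ⟨fun v => h1 (hα.1 v), fun v hv => ?_, fun v hv => hα.2 v (h2 hv)⟩
  rcases h3 with h3 | h3
  · exact h3 (hα.1 v)
  · rw [hα.2 v (h3 hv), div_self']
    exact Subgroup.one_mem _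

/-- conjugation of transvection-like automorphisms. -/
theorem IsTv.conj {ℓ π : Subgroup V} {α : MulAut V} (hα : IsTv ℓ π α) (a : MulAut V) :
    IsTv (ℓ.map a.toMonoidHom) (π.map a.toMonoidHom) (a * α * a⁻¹) := by
  constructor
  · intro v
    refine ⟨α (a⁻¹ v) / a⁻¹ v, hα.1 _, ?_⟩
    simp [map_div]
  · rintro _ ⟨w, hw, rfl⟩
    simp [hα.2 w hw]

section FixedCoset

variable [Finite V] {p : ℕ} [hp : Fact p.Prime]

/-- A `p`-group of automorphisms stabilizing a subgroup `K` of index divisible by `p` fixes a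
nontrivial coset of `K`. -/
theorem exists_fixed_coset (T : Subgroup (MulAut V)) (hT : IsPGroup p T) (K : Subgroup V)
    (hK : ∀ α ∈ T, ∀ k ∈ K, α k ∈ K) (hpK : p ∣ K.index) :
    ∃ v, v ∉ K ∧ ∀ α ∈ T, α v / v ∈ K := by
  letI act : MulAction T (V ⧸ K) :=
    { smul := fun α q => QuotientGroup.map K K (α : MulAut V).toMonoidHom
        (fun k hk => hK α α.2 k hk) q
      one_smul := by
        intro q
        induction q using QuotientGroup.induction_on
        rfl
      mul_smul := by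
        intro α β q
        induction q using QuotientGroup.induction_on
        rfl }
  have hsmul : ∀ (α : T) (v : V), α • (QuotientGroup.mk v : V ⧸ K) =
      QuotientGroup.mk ((α : MulAut V) v) := fun α v => rfl
  have hfix : ((1 : V) : V ⧸ K) ∈ MulAction.fixedPoints T (V ⧸ K) := by
    intro α
    rw [hsmul, map_one]
  have hdvd : p ∣ Nat.card (V ⧸ K) := by
    rwa [← Subgroup.index_eq_card]
  obtain ⟨b, hb, hb1⟩ := hT.exists_fixed_point_of_prime_dvd_card_of_fixed_point (V ⧸ K) hdvd hfix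
  obtain ⟨v, rfl⟩ := QuotientGroup.mk_surjective b
  refine ⟨v, ?_, ?_⟩
  · intro hv
    apply hb1
    exact ((QuotientGroup.eq_one_iff v).2 hv).symm
  · intro α hα
    have h1 := hb ⟨α, hα⟩
    rw [hsmul] at h1
    have h2 := QuotientGroup.eq.1 h1
    have h3 : α v / v = ((α v)⁻¹ * v)⁻¹ := by
      rw [mul_inv_rev, inv_inv, div_eq_mul_inv, mul_comm]
    rw [h3]
    exact K.inv_mem h2

end FixedCoset

end Cfsg.Agent.Helper9.G3
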