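import Mathlib
import Cfsg.Agent.Helper9.G3A

set_option autoImplicit false

/-!
PIECE G3 (part B): existence of a stable flag for a `p`-group of automorphisms of an elementary
abelian group of order `p³`; a `p`-group of order `≥ p²` stabilizing a flag contains a
transvection of that flag.
-/

namespace Cfsg.Agent.Helper9.G3

open scoped Pointwise

theorem card_lt_of_lt {G : Type*} [Group G] [Finite G] {K L : Subgroup G} (h : K < L) :
    Nat.card K < Nat.card L :=
  lt_of_not_ge (fun hge => h.ne (Subgroup.eq_of_le_of_card_ge h.le hge))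

/-- a subgroup of index `p` in `H` together with an element outside generates `H`. -/
theorem sup_zpowers_eq {G : Type*} [Group G] [Finite G] {p : ℕ} [hp : Fact p.Prime]
    {K H : Subgroup G} {m : ℕ} (hH : Nat.card H = p ^ (m + 1)) (hK : Nat.card K = p ^ m)
    (hKH : K ≤ H) {e : G} (heH : e ∈ H) (heK : e ∉ K) : K ⊔ Subgroup.zpowers e = H := by
  have hpp := hp.out
  set L := K ⊔ Subgroup.zpowers e with hL
  have hLH : L ≤ H := sup_le hKH (by rw [Subgroup.zpowers_le]; exact heH)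
  have hKL : K ≤ L := le_sup_left
  have heL : e ∈ L := (le_sup_right : Subgroup.zpowers e ≤ L) (Subgroup.mem_zpowers e)
  apply Subgroup.eq_of_le_of_card_ge hLH
  have h1 : Nat.card L ∣ p ^ (m + 1) := hH ▸ Subgroup.card_dvd_of_le hLH
  obtain ⟨j, hj, hj2⟩ := (Nat.dvd_prime_pow hpp).1 h1
  have h2 : Nat.card K < Nat.card L := by
    have hlt : K < L := lt_of_le_of_ne hKL (fun h => heK (h ▸ heL))
    exact card_lt_of_lt hlt
  rw [hK, hj2] at h2
  have h3 : m < j := (Nat.pow_lt_pow_iff_right hpp.one_lt).1 h2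
  have h4 : j = m + 1 := by omega
  rw [hH, hj2, h4]

variable {V : Type*} [CommGroup V] [Finite V] {p : ℕ} [hp : Fact p.Prime]

omit [Finite V] hp in
theorem InU.map_mem {ℓ π : Subgroup V} (h : ℓ ≤ π) {α : MulAut V} (hα : InU ℓ π α) {w : V}
    (hw : w ∈ π) : α w ∈ π := by
  have h1 : α w = α w / w * w := by rw [div_mul_cancel]
  rw [h1]
  exact π.mul_mem (h (hα.2.1 w hw)) hw

omit [Finite V] hp in
theorem le_ker_dd_iff (K : Subgroup V) (α : MulAut V) :
    K ≤ (dd α).ker ↔ ∀ w ∈ K, α w = w := by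
  constructor
  · intro h w hw
    have := h hw
    rw [MonoidHom.mem_ker, dd_apply, div_eq_one] at this
    exact this
  · intro h w hw
    rw [MonoidHom.mem_ker, dd_apply, div_eq_one]
    exact h w hw

omit [Finite V] hp in
theorem le_comap_dd_iff (K L : Subgroup V) (α : MulAut V) :
    K ≤ L.comap (dd α) ↔ ∀ w ∈ K, α w / w ∈ L := Iff.rfl

omit [Finite V] in
theorem card_zpowers_of_ne_one (hexp : ∀ v : V, v ^ p = 1) {v : V} (hv : v ≠ 1) :
    Nat.card (Subgroup.zpowers v) = p := by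
  rw [Nat.card_zpowers]
  exact orderOf_eq_prime (hexp v) hv

omit [Finite V] in
theorem card_sup_zpowers_le (K : Subgroup V) (hexp : ∀ v : V, v ^ p = 1) (v : V) :
    Nat.card ↥(K ⊔ Subgroup.zpowers v) ≤ Nat.card K * p := by
  have h1 : ((K ⊔ Subgroup.zpowers v : Subgroup V) : Set V) =
      (K : Set V) * (Subgroup.zpowers v : Set V) := Subgroup.mul_normal K (Subgroup.zpowers v)
  have h2 : Nat.card ↥(K ⊔ Subgroup.zpowers v) =
      Nat.card ((K : Set V) * (Subgroup.zpowers v : Set V) : Set V) := by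
    rw [← h1]; rfl
  rw [h2]
  refine le_trans (Set.natCard_mul_le) ?_
  have h3 : Nat.card (Subgroup.zpowers v : Set V) ≤ p := by
    show Nat.card (Subgroup.zpowers v) ≤ p
    rw [Nat.card_zpowers]
    exact Nat.le_of_dvd hp.out.pos (orderOf_dvd_of_pow_eq_one (hexp v))
  exact Nat.mul_le_mul_left _ h3

/-- A `p`-group of automorphisms of an elementary abelian group of order `p³` stabilizes a full
flag and acts trivially on its factors. -/
theorem exists_flag (hV : Nat.card V = p ^ 3) (hexp : ∀ v : V, v ^ p = 1)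
    (T : Subgroup (MulAut V)) (hT : IsPGroup p T) :
    ∃ ℓ π : Subgroup V, ℓ ≤ π ∧ Nat.card ℓ = p ∧ Nat.card π = p ^ 2 ∧ ∀ α ∈ T, InU ℓ π α := by
  have hpp := hp.out
  have hVp : IsPGroup p V := IsPGroup.of_card hV
  -- first step
  obtain ⟨v₁, hv₁, hfix₁⟩ := exists_fixed_coset T hT ⊥ (by
    intro α _ k hk
    rw [Subgroup.mem_bot] at hk ⊢
    rw [hk, map_one]) (by
    rw [Subgroup.index_bot, hV]
    exact dvd_pow_self p (by norm_num))
  have hv₁' : v₁ ≠ 1 := fun h => hv₁ (h ▸ Subgroup.one_mem _)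
  set ℓ := Subgroup.zpowers v₁ with hℓdef
  have hℓ : Nat.card ℓ = p := card_zpowers_of_ne_one hexp hv₁'
  have hTℓ : ∀ α ∈ T, ∀ w ∈ ℓ, α w = w := by
    intro α hα
    rw [← le_ker_dd_iff, hℓdef, Subgroup.zpowers_le, MonoidHom.mem_ker]
    exact Subgroup.mem_bot.1 (hfix₁ α hα)
  -- second step
  have hidxℓ : ℓ.index = p ^ 2 := by
    have h1 := Subgroup.card_mul_index ℓ
    rw [hℓ, hV] at h1
    have h2 : p * ℓ.index = p * p ^ 2 := by rw [h1]; ring
    exact Nat.eq_of_mul_eq_mul_left hpp.pos h2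
  obtain ⟨v₂, hv₂, hfix₂⟩ := exists_fixed_coset T hT ℓ (by
    intro α hα k hk
    rw [hTℓ α hα k hk]; exact hk) (by
    rw [hidxℓ]
    exact dvd_pow_self p (by norm_num))
  set π := ℓ ⊔ Subgroup.zpowers v₂ with hπdef
  have hℓπ : ℓ ≤ π := le_sup_left
  have hv₂π : v₂ ∈ π := (le_sup_right : Subgroup.zpowers v₂ ≤ π) (Subgroup.mem_zpowers v₂)
  have hπ : Nat.card π = p ^ 2 := by
    have h1 : Nat.card π ≤ p * p := by
      have := card_sup_zpowers_le ℓ hexp v₂
      rwa [hℓ] at this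
    have h2 : Nat.card ℓ < Nat.card π := by
      apply card_lt_of_lt
      exact lt_of_le_of_ne hℓπ (fun h => hv₂ (h ▸ hv₂π))
    rw [hℓ] at h2
    obtain ⟨j, hj⟩ := (IsPGroup.iff_card.1 (hVp.to_subgroup π))
    rw [hj] at h1 h2 ⊢
    have h3 : 1 < j := by
      have : p ^ 1 < p ^ j := by simpa using h2
      exact (Nat.pow_lt_pow_iff_right hpp.one_lt).1 this
    have h4 : j ≤ 2 := by
      have : p ^ j ≤ p ^ 2 := by rw [pow_two]; exact h1
      exact (Nat.pow_le_pow_iff_right hpp.one_lt).1 this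
    have : j = 2 := by omega
    rw [this]
  have hTπ : ∀ α ∈ T, ∀ w ∈ π, α w / w ∈ ℓ := by
    intro α hα
    rw [← le_comap_dd_iff, hπdef]
    apply sup_le
    · intro w hw
      rw [Subgroup.mem_comap, dd_apply, hTℓ α hα w hw, div_self']
      exact Subgroup.one_mem _
    · rw [Subgroup.zpowers_le, Subgroup.mem_comap]
      exact hfix₂ α hα
  -- third step
  have hidxπ : π.index = p := by
    have h1 := Subgroup.card_mul_index π
    rw [hπ, hV] at h1
    have h2 : p ^ 2 * π.index = p ^ 2 * p := by rw [h1]; ring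
    exact Nat.eq_of_mul_eq_mul_left (pow_pos hpp.pos 2) h2
  obtain ⟨v₃, hv₃, hfix₃⟩ := exists_fixed_coset T hT π (by
    intro α hα k hk
    have h1 : α k = α k / k * k := by rw [div_mul_cancel]
    rw [h1]
    exact π.mul_mem (hℓπ (hTπ α hα k hk)) hk) (by rw [hidxπ])
  have htop : π ⊔ Subgroup.zpowers v₃ = ⊤ :=
    sup_zpowers_eq (p := p) (m := 2) (by rw [Subgroup.card_top, hV]) hπ le_top
      (Subgroup.mem_top _) hv₃
  refine ⟨ℓ, π, hℓπ, hℓ, hπ, fun α hα => ⟨?_, hTπ α hα, hTℓ α hα⟩⟩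
  have h1 : (⊤ : Subgroup V) ≤ π.comap (dd α) := by
    rw [← htop]
    apply sup_le
    · intro w hw
      rw [Subgroup.mem_comap, dd_apply]
      exact hℓπ (hTπ α hα w hw)
    · rw [Subgroup.zpowers_le, Subgroup.mem_comap]
      exact hfix₃ α hα
  intro v
  exact h1 (Subgroup.mem_top v)

end Cfsg.Agent.Helper9.G3
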