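import Mathlib
import Cfsg.Agent.Helper9.G3B

set_option autoImplicit false

/-!
PIECE G3 (part C): a `p`-group of order `≥ p²` stabilizing a flag of an elementary abelian group of
order `p³` contains a nontrivial transvection of that flag, and an element which is not such a
transvection.
-/

namespace Cfsg.Agent.Helper9.G3

variable {V : Type*} [CommGroup V] [Finite V] {p : ℕ} [hp : Fact p.Prime]

/-- criterion for being a transvection of the flag -/
theorem isTv_of (hV : Nat.card V = p ^ 3) {ℓ π : Subgroup V} (h : ℓ ≤ π) (hℓ : Nat.card ℓ = p)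
    (hπ : Nat.card π = p ^ 2) {e₂ e₃ : V} (he₂π : e₂ ∈ π) (he₂ℓ : e₂ ∉ ℓ) (he₃ : e₃ ∉ π)
    {α : MulAut V} (hα : InU ℓ π α) (h2 : α e₂ = e₂) (h3 : α e₃ / e₃ ∈ ℓ) : IsTv ℓ π α := by
  have hπgen : ℓ ⊔ Subgroup.zpowers e₂ = π :=
    sup_zpowers_eq (p := p) (m := 1) hπ (by rw [hℓ, pow_one]) h he₂π he₂ℓ
  have htop : π ⊔ Subgroup.zpowers e₃ = ⊤ :=
    sup_zpowers_eq (p := p) (m := 2) (by rw [Subgroup.card_top, hV]) hπ le_top
      (Subgroup.mem_top _) he₃
  have hfixπ : π ≤ (dd α).ker := by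
    rw [← hπgen]
    apply sup_le
    · rw [le_ker_dd_iff]; exact hα.2.2
    · rw [Subgroup.zpowers_le, MonoidHom.mem_ker, dd_apply, h2, div_self']
  refine ⟨?_, (le_ker_dd_iff π α).1 hfixπ⟩
  have h1 : (⊤ : Subgroup V) ≤ ℓ.comap (dd α) := by
    rw [← htop]
    apply sup_le
    · intro w hw
      rw [Subgroup.mem_comap, (MonoidHom.mem_ker).1 (hfixπ hw)]
      exact Subgroup.one_mem _
    · rw [Subgroup.zpowers_le, Subgroup.mem_comap]
      exact h3
  intro v
  exact h1 (Subgroup.mem_top v)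

/-- a `p`-group of order `> p` acting through `InU ℓ π` contains a nontrivial transvection of the
flag. -/
theorem exists_tv (hV : Nat.card V = p ^ 3) {ℓ π : Subgroup V} (h : ℓ ≤ π) (hℓ : Nat.card ℓ = p)
    (hπ : Nat.card π = p ^ 2) {X : Type*} [Group X] (ρ : X →* MulAut V)
    (P : Subgroup X) [Finite P] (hP : ∀ x ∈ P, InU ℓ π (ρ x)) (hcard : p < Nat.card P) :
    ∃ x ∈ P, x ≠ 1 ∧ IsTv ℓ π (ρ x) := by
  have hpp := hp.out
  -- choose `e₂ ∈ π ∖ ℓ` and `e₃ ∉ π`
  have hlt : ℓ < π := by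
    refine lt_of_le_of_ne h (fun heq => ?_)
    rw [heq, hπ] at hℓ
    have : p ^ 2 = p ^ 1 := by rw [hℓ, pow_one]
    have := Nat.pow_right_injective hpp.two_le this
    omega
  obtain ⟨e₂, he₂π, he₂ℓ⟩ := SetLike.exists_of_lt hlt
  have hπtop : π ≠ ⊤ := by
    intro heq
    rw [heq, Subgroup.card_top, hV] at hπ
    have := Nat.pow_right_injective hpp.two_le hπ
    omega
  obtain ⟨e₃, he₃⟩ : ∃ e₃, e₃ ∉ π := by
    by_contra hcon
    push Not at hcon
    exact hπtop (eq_top_iff.2 fun v _ => hcon v)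
  have hπgen : ∀ {c : V}, c ∈ π → c ∉ ℓ → ℓ ⊔ Subgroup.zpowers c = π := fun hc hc' =>
    sup_zpowers_eq (p := p) (m := 1) hπ (by rw [hℓ, pow_one]) h hc hc'
  -- pigeonhole 1
  have hex₁ : ∃ β ∈ P, β ≠ 1 ∧ ρ β e₂ = e₂ := by
    by_contra hcon
    push Not at hcon
    have hinj : Function.Injective
        (fun x : P => (⟨ρ x e₂ / e₂, (hP x x.2).2.1 e₂ he₂π⟩ : ℓ)) := by
      intro x₁ x₂ h12
      have h1 : ρ x₁ e₂ / e₂ = ρ x₂ e₂ / e₂ := congrArg Subtype.val h12
      have h2 : ρ x₁ e₂ = ρ x₂ e₂ := by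
        have := congrArg (· * e₂) h1
        simpa using this
      by_contra hne
      have h3 : (x₂ : X)⁻¹ * x₁ ≠ 1 := by
        intro h4
        apply hne
        apply Subtype.ext
        have : (x₁ : X) = x₂ := by
          have := congrArg (fun t => (x₂ : X) * t) h4
          simpa using this
        exact this
      apply hcon _ (P.mul_mem (P.inv_mem x₂.2) x₁.2) h3
      rw [map_mul, map_inv, MulAut.mul_apply, h2, MulAut.inv_apply_self]
    have := Nat.card_le_card_of_injective _ hinj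
    rw [hℓ] at this
    omega
  obtain ⟨β, hβP, hβ1, hβe₂⟩ := hex₁
  by_cases hβ3 : ρ β e₃ / e₃ ∈ ℓ
  · exact ⟨β, hβP, hβ1, isTv_of hV h hℓ hπ he₂π he₂ℓ he₃ (hP β hβP) hβe₂ hβ3⟩
  -- `β` fixes `π` pointwise
  have hβπ : ∀ w ∈ π, ρ β w = w := by
    rw [← le_ker_dd_iff, ← hπgen he₂π he₂ℓ]
    apply sup_le
    · rw [le_ker_dd_iff]; exact (hP β hβP).2.2
    · rw [Subgroup.zpowers_le, MonoidHom.mem_ker, dd_apply, hβe₂, div_self']
  set c := ρ β e₃ / e₃ with hc
  have hcπ : c ∈ π := (hP β hβP).1 e₃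
  have hβe₃ : ρ β e₃ = e₃ * c := by rw [hc, mul_div_cancel]
  -- pigeonhole 2
  have hqcard : Nat.card (↥π ⧸ ℓ.subgroupOf π) = p := by
    have h1 := Subgroup.card_eq_card_quotient_mul_card_subgroup (ℓ.subgroupOf π)
    rw [hπ, Nat.card_congr (Subgroup.subgroupOfEquivOfLe h).toEquiv, hℓ] at h1
    have h2 : p * p = Nat.card (↥π ⧸ ℓ.subgroupOf π) * p := by rw [← h1]; ring
    exact (Nat.eq_of_mul_eq_mul_right hpp.pos h2).symm
  have hex₂ : ∃ α ∈ P, α ≠ 1 ∧ ρ α e₃ / e₃ ∈ ℓ := by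
    by_contra hcon
    push Not at hcon
    haveI : Finite (↥π ⧸ ℓ.subgroupOf π) := Nat.finite_of_card_ne_zero (by
      rw [hqcard]; exact hpp.ne_zero)
    have hinj : Function.Injective
        (fun x : P => (QuotientGroup.mk (⟨ρ x e₃ / e₃, (hP x x.2).1 e₃⟩ : π) :
          ↥π ⧸ ℓ.subgroupOf π)) := by
      intro x₁ x₂ h12
      have h1 := QuotientGroup.eq.1 h12
      rw [Subgroup.mem_subgroupOf] at h1
      have h1' : (ρ x₁ e₃ / e₃)⁻¹ * (ρ x₂ e₃ / e₃) ∈ ℓ := h1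
      by_contra hne
      have h3 : (x₂ : X)⁻¹ * x₁ ≠ 1 := by
        intro h4
        apply hne
        apply Subtype.ext
        have : (x₁ : X) = x₂ := by
          have := congrArg (fun t => (x₂ : X) * t) h4
          simpa using this
        exact this
      apply hcon _ (P.mul_mem (P.inv_mem x₂.2) x₁.2) h3
      set m := ρ x₁ e₃ / ρ x₂ e₃ with hm
      have hmℓ : m ∈ ℓ := by
        have : m = ((ρ x₁ e₃ / e₃)⁻¹ * (ρ x₂ e₃ / e₃))⁻¹ := by
          rw [hm, mul_inv_rev, inv_inv, inv_mul_eq_div, div_div_div_cancel_right]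
        rw [this]
        exact ℓ.inv_mem h1'
      have hm2 : ρ x₂ m = m := (hP x₂ x₂.2).2.2 m hmℓ
      have h5 : ρ x₁ e₃ = ρ x₂ (e₃ * m) := by
        rw [map_mul, hm2, hm, mul_div_cancel]
      rw [map_mul, map_inv, MulAut.mul_apply, h5, MulAut.inv_apply_self, mul_div_cancel_left]
      exact hmℓ
    have := Nat.card_le_card_of_injective _ hinj
    rw [hqcard] at this
    omega
  obtain ⟨α, hαP, hα1, hαe₃⟩ := hex₂
  by_cases hα2 : ρ α e₂ = e₂
  · exact ⟨α, hαP, hα1, isTv_of hV h hℓ hπ he₂π he₂ℓ he₃ (hP α hαP) hα2 hαe₃⟩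
  -- the commutator
  set A := ρ α with hA
  set B := ρ β with hB
  have hAU : InU ℓ π A := hP α hαP
  have hBU : InU ℓ π B := hP β hβP
  set u := A e₃ / e₃ with hu
  have hAe₃ : A e₃ = e₃ * u := by rw [hu, mul_div_cancel]
  set m := A c / c with hm
  have hmℓ : m ∈ ℓ := hAU.2.1 c hcπ
  have hAc : A c = c * m := by rw [hm, mul_div_cancel]
  have hcℓ : c ∉ ℓ := hβ3
  have hm1 : m ≠ 1 := by
    intro hm1
    apply hα2
    have hAcc : A c = c := by rw [hAc, hm1, mul_one]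
    have : π ≤ (dd A).ker := by
      rw [← hπgen hcπ hcℓ]
      apply sup_le
      · rw [le_ker_dd_iff]; exact hAU.2.2
      · rw [Subgroup.zpowers_le, MonoidHom.mem_ker, dd_apply, hAcc, div_self']
    exact (le_ker_dd_iff π A).1 this e₂ he₂π
  have hAB : (A * B) e₃ = (B * A) (e₃ * m) := by
    rw [MulAut.mul_apply, MulAut.mul_apply, hβe₃, map_mul, hAe₃, hAc, map_mul, map_mul, hAe₃,
      map_mul, hβe₃, hβπ u (h hαe₃), hAU.2.2 m hmℓ, hβπ m (h hmℓ)]
    simp only [mul_comm, mul_left_comm]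
  set γ := (β * α)⁻¹ * (α * β) with hγ
  have hγP : γ ∈ P := P.mul_mem (P.inv_mem (P.mul_mem hβP hαP)) (P.mul_mem hαP hβP)
  have hργ : ρ γ = (B * A)⁻¹ * (A * B) := by
    rw [hγ, map_mul, map_inv, map_mul, map_mul]
  have hγe₃ : ρ γ e₃ = e₃ * m := by
    rw [hργ, MulAut.mul_apply, hAB, MulAut.inv_apply_self]
  have hγπ : ∀ w ∈ π, ρ γ w = w := by
    intro w hw
    have hAw : A w ∈ π := hAU.map_mem h hw
    rw [hργ, MulAut.mul_apply, MulAut.mul_apply, hβπ w hw]
    have : A w = (B * A) w := by rw [MulAut.mul_apply, hβπ (A w) hAw]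
    rw [this, MulAut.inv_apply_self]
  refine ⟨γ, hγP, ?_, ?_⟩
  · intro h1
    apply hm1
    have : ρ γ e₃ = e₃ := by rw [h1, map_one]; rfl
    rw [hγe₃] at this
    exact mul_eq_left.1 this
  · apply isTv_of hV h hℓ hπ he₂π he₂ℓ he₃ (hP γ hγP) (hγπ e₂ he₂π)
    rw [hγe₃, mul_div_cancel_left]
    exact hmℓ

/-- a `p`-group of order `> p` acting faithfully through `InU ℓ π` contains a non-transvection -/
theorem exists_not_tv (hV : Nat.card V = p ^ 3) {ℓ π : Subgroup V} (hℓ : Nat.card ℓ = p)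
    (hπ : Nat.card π = p ^ 2) {X : Type*} [Group X] (ρ : X →* MulAut V)
    (hρ : Function.Injective ρ) (P : Subgroup X) [Finite P] (hcard : p < Nat.card P) :
    ∃ g ∈ P, ¬ IsTv ℓ π (ρ g) := by
  have hpp := hp.out
  by_contra hcon
  push Not at hcon
  have hπtop : π ≠ ⊤ := by
    intro heq
    rw [heq, Subgroup.card_top, hV] at hπ
    have := Nat.pow_right_injective hpp.two_le hπ
    omega
  obtain ⟨e₃, he₃⟩ : ∃ e₃, e₃ ∉ π := by
    by_contra hcon'
    push Not at hcon'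
    exact hπtop (eq_top_iff.2 fun v _ => hcon' v)
  have htop : π ⊔ Subgroup.zpowers e₃ = ⊤ :=
    sup_zpowers_eq (p := p) (m := 2) (by rw [Subgroup.card_top, hV]) hπ le_top
      (Subgroup.mem_top _) he₃
  have hinj : Function.Injective
      (fun x : P => (⟨ρ x e₃ / e₃, (hcon x x.2).1 e₃⟩ : ℓ)) := by
    intro x₁ x₂ h12
    have h1 : ρ x₁ e₃ / e₃ = ρ x₂ e₃ / e₃ := congrArg Subtype.val h12
    have h2 : ρ x₁ e₃ = ρ x₂ e₃ := by
      have := congrArg (· * e₃) h1
      simpa using this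
    apply Subtype.ext
    apply hρ
    -- the two automorphisms agree on `π` and on `e₃`
    have h3 : (⊤ : Subgroup V) ≤ (dd ((ρ x₂)⁻¹ * ρ x₁)).ker := by
      rw [← htop]
      apply sup_le
      · rw [le_ker_dd_iff]
        intro w hw
        rw [MulAut.mul_apply, (hcon x₁ x₁.2).2 w hw]
        have := (hcon x₂ x₂.2).2 w hw
        conv_lhs => rw [← this]
        rw [MulAut.inv_apply_self]
      · rw [Subgroup.zpowers_le, MonoidHom.mem_ker, dd_apply, MulAut.mul_apply, h2,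
          MulAut.inv_apply_self, div_self']
    have h4 : (ρ x₂)⁻¹ * ρ x₁ = 1 := by
      ext v
      exact (le_ker_dd_iff ⊤ _).1 h3 v (Subgroup.mem_top v)
    have h5 := congrArg (fun t => ρ x₂ * t) h4
    simpa using h5
  have := Nat.card_le_card_of_injective _ hinj
  rw [hℓ] at this
  omega

end Cfsg.Agent.Helper9.G3
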