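import Mathlib
import Cfsg.Agent.Helper9.G3C
import Cfsg.Agent.Helper5.SPE

set_option autoImplicit false

/-!
PIECE G3 (part D): a group acting faithfully on an elementary abelian group of order `p³` and
having a strongly `p`-embedded subgroup has Sylow `p`-subgroups of order `p`.
-/

namespace Cfsg.Agent.Helper9.G3

open Cfsg.Agent.Helper5

variable {V : Type*} [CommGroup V]

/-- the transvection-like automorphisms of a flag form a subgroup -/
def tvSub (ℓ π : Subgroup V) : Subgroup (MulAut V) where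
  carrier := {α | IsTv ℓ π α}
  one_mem' := ⟨fun v => by simp, fun v _ => rfl⟩
  mul_mem' := by
    rintro α β ⟨hα1, hα2⟩ ⟨hβ1, hβ2⟩
    refine ⟨fun v => ?_, fun v hv => ?_⟩
    · have : (α * β) v / v = α (β v) / β v * (β v / v) := by
        rw [MulAut.mul_apply, div_mul_div_cancel]
      rw [this]
      exact ℓ.mul_mem (hα1 _) (hβ1 _)
    · rw [MulAut.mul_apply, hβ2 v hv, hα2 v hv]
  inv_mem' := by
    rintro α ⟨hα1, hα2⟩
    refine ⟨fun v => ?_, fun v hv => ?_⟩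
    · have : α⁻¹ v / v = (α (α⁻¹ v) / α⁻¹ v)⁻¹ := by
        rw [MulAut.apply_inv_self, inv_div]
      rw [this]
      exact ℓ.inv_mem (hα1 _)
    · conv_lhs => rw [← hα2 v hv]
      rw [MulAut.inv_apply_self]

theorem mem_tvSub (ℓ π : Subgroup V) (α : MulAut V) : α ∈ tvSub ℓ π ↔ IsTv ℓ π α := Iff.rfl

/-- powers of a transvection -/
theorem IsTv.pow_apply {ℓ π : Subgroup V} (h : ℓ ≤ π) {α : MulAut V} (hα : IsTv ℓ π α) (e : V)
    (k : ℕ) : (α ^ k) e = e * (α e / e) ^ k := by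
  induction k with
  | zero => simp
  | succ k ih =>
    rw [pow_succ', MulAut.mul_apply, ih, map_mul,
      hα.2 _ (h (ℓ.pow_mem (hα.1 e) k)), pow_succ', ← mul_assoc, mul_div_cancel]

variable [Finite V] {p : ℕ} [hp : Fact p.Prime]

theorem card_sylow_le_of_locCtrl (hV : Nat.card V = p ^ 3) (hexp : ∀ v : V, v ^ p = 1)
    {X : Type*} [Group X] [Finite X] (ρ : X →* MulAut V) (hρ : Function.Injective ρ)
    (M : Subgroup X) (P : Sylow p X) (hM : LocCtrl M (P : Subgroup X)) (a : X) (ha : a ∉ M) :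
    Nat.card P ≤ p := by
  have hpp := hp.out
  by_contra hcard
  push Not at hcard
  obtain ⟨ℓ, π, hℓπ, hℓ, hπ, hflag⟩ :=
    exists_flag hV hexp ((P : Subgroup X).map ρ) (P.isPGroup'.map ρ)
  have hPU : ∀ x ∈ (P : Subgroup X), InU ℓ π (ρ x) := fun x hx => hflag _ ⟨x, hx, rfl⟩
  obtain ⟨x₀, hx₀P, hx₀1, hx₀⟩ := exists_tv hV hℓπ hℓ hπ ρ (P : Subgroup X) hPU hcard
  obtain ⟨g, hgP, hg⟩ := exists_not_tv hV hℓ hπ ρ hρ (P : Subgroup X) hcard
  set A := ρ a with hA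
  set ℓ' := ℓ.map A.toMonoidHom with hℓ'def
  set π' := π.map A.toMonoidHom with hπ'def
  have hℓ'π' : ℓ' ≤ π' := Subgroup.map_mono hℓπ
  have hAinj : Function.Injective A.toMonoidHom := A.injective
  have hℓ' : Nat.card ℓ' = p := by
    rw [hℓ'def, Subgroup.card_map_of_injective hAinj, hℓ]
  have hπ' : Nat.card π' = p ^ 2 := by
    rw [hπ'def, Subgroup.card_map_of_injective hAinj, hπ]
  set x₀' := a * x₀ * a⁻¹ with hx₀'def
  have hx₀' : IsTv ℓ' π' (ρ x₀') := by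
    rw [hx₀'def, map_mul, map_mul, map_inv]
    exact hx₀.conj A
  have hx₀M : x₀ ∈ M := hM.1 hx₀P
  have hx₀'1 : x₀' ≠ 1 := by
    intro h
    apply hx₀1
    have : x₀ = a⁻¹ * x₀' * a := by rw [hx₀'def]; group
    rw [this, h]; group
  have hZ1 : Subgroup.zpowers x₀ ≠ ⊥ := by
    rw [Ne, Subgroup.zpowers_eq_bot]; exact hx₀1
  have hZM : Subgroup.zpowers x₀ ≤ M := by
    rw [Subgroup.zpowers_le]; exact hx₀M
  -- a `p`-subgroup cannot contain both `x₀` and `x₀'`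
  have key1 : ∀ Q : Subgroup X, IsPGroup p Q → x₀ ∈ Q → x₀' ∈ Q → False := by
    intro Q hQ h1 h2
    have hQM : Q ≤ M := hM.le_of_le (Subgroup.zpowers x₀) Q hZM hZ1
      (by rw [Subgroup.zpowers_le]; exact h1) hQ
    apply ha
    apply hM.mem_of_inter a (Subgroup.zpowers x₀')
    · rw [Subgroup.zpowers_le]; exact hQM h2
    · rw [Subgroup.zpowers_le]; exact conj_mem_map_conj M a x₀ hx₀M
    · exact hQ.to_le (by rw [Subgroup.zpowers_le]; exact h2)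
    · rw [Ne, Subgroup.zpowers_eq_bot]; exact hx₀'1
  by_cases h1 : ℓ ≤ π'
  · apply key1 (stabIn h1 ρ) (isPGroup_stabIn h1 hℓ hπ' hV ρ hρ)
    · rw [mem_stabIn]
      exact hx₀.inU h1 hℓπ (Or.inl le_rfl)
    · rw [mem_stabIn]
      exact hx₀'.inU hℓ'π' h1 (Or.inr le_rfl)
  by_cases h2 : ℓ' ≤ π
  · apply key1 (stabIn h2 ρ) (isPGroup_stabIn h2 hℓ' hπ hV ρ hρ)
    · rw [mem_stabIn]
      exact hx₀.inU hℓπ h2 (Or.inr le_rfl)
    · rw [mem_stabIn]
      exact hx₀'.inU h2 hℓ'π' (Or.inl le_rfl)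
  -- opposite flags
  obtain ⟨e₃, he₃ℓ', he₃π⟩ := SetLike.not_le_iff_exists.1 h2
  have he₃1 : e₃ ≠ 1 := fun h => he₃π (h ▸ π.one_mem)
  have hℓ'gen : ℓ' = Subgroup.zpowers e₃ := by
    symm
    apply Subgroup.eq_of_le_of_card_ge
    · rw [Subgroup.zpowers_le]; exact he₃ℓ'
    · rw [hℓ', card_zpowers_of_ne_one hexp he₃1]
  -- `V = ℓ π'`
  obtain ⟨e₁, he₁ℓ, he₁π'⟩ := SetLike.not_le_iff_exists.1 h1
  have htop' : ℓ ⊔ π' = ⊤ := by
    rw [eq_top_iff]
    have h3 : π' ⊔ Subgroup.zpowers e₁ = ⊤ :=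
      sup_zpowers_eq (p := p) (m := 2) (by rw [Subgroup.card_top, hV]) hπ' le_top
        (Subgroup.mem_top _) he₁π'
    rw [← h3, sup_comm]
    exact sup_le_sup_right (by rw [Subgroup.zpowers_le]; exact he₁ℓ) _
  have htop : π ⊔ Subgroup.zpowers e₃ = ⊤ :=
    sup_zpowers_eq (p := p) (m := 2) (by rw [Subgroup.card_top, hV]) hπ le_top
      (Subgroup.mem_top _) he₃π
  obtain ⟨u, hu, w, hw, huw⟩ := Subgroup.mem_sup.1
    (htop' ▸ Subgroup.mem_top (ρ g e₃) : ρ g e₃ ∈ ℓ ⊔ π')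
  -- the value of `x₀` on `e₃`
  set w₀ := ρ x₀ e₃ / e₃ with hw₀
  have hw₀ℓ : w₀ ∈ ℓ := hx₀.1 e₃
  have hw₀1 : w₀ ≠ 1 := by
    intro h
    apply hx₀1
    apply hρ
    rw [map_one]
    have h3 : (⊤ : Subgroup V) ≤ (dd (ρ x₀)).ker := by
      rw [← htop]
      apply sup_le
      · rw [le_ker_dd_iff]; exact hx₀.2
      · rw [Subgroup.zpowers_le, MonoidHom.mem_ker, dd_apply, ← hw₀, h]
    ext v
    exact (le_ker_dd_iff ⊤ _).1 h3 v (Subgroup.mem_top v)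
  have hℓgen : Subgroup.zpowers w₀ = ℓ := by
    apply Subgroup.eq_of_le_of_card_ge
    · rw [Subgroup.zpowers_le]; exact hw₀ℓ
    · rw [hℓ, card_zpowers_of_ne_one hexp hw₀1]
  obtain ⟨k, hk⟩ : ∃ k : ℕ, w₀ ^ k = u⁻¹ := by
    have h3 : u⁻¹ ∈ Subgroup.zpowers w₀ := by rw [hℓgen]; exact ℓ.inv_mem hu
    rw [← mem_powers_iff_mem_zpowers, Submonoid.mem_powers_iff] at h3
    exact h3
  set x := x₀ ^ k with hx
  have hxP : x ∈ (P : Subgroup X) := Subgroup.pow_mem _ hx₀P k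
  have hxTv : IsTv ℓ π (ρ x) := by
    rw [hx, map_pow, ← mem_tvSub]
    exact Subgroup.pow_mem _ ((mem_tvSub ℓ π _).2 hx₀) k
  have hxe₃ : ρ x e₃ = e₃ * u⁻¹ := by
    rw [hx, map_pow, hx₀.pow_apply hℓπ e₃ k, ← hw₀, hk]
  set g' := x * g with hg'
  have hg'P : g' ∈ (P : Subgroup X) := Subgroup.mul_mem _ hxP hgP
  have hg'1 : g' ≠ 1 := by
    intro h
    apply hg
    have : g = x⁻¹ := by
      rw [hg'] at h
      exact eq_inv_of_mul_eq_one_right h
    rw [this, map_inv, ← mem_tvSub]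
    exact Subgroup.inv_mem _ ((mem_tvSub ℓ π _).2 hxTv)
  have hg'e₃ : ρ g' e₃ = w := by
    set d := ρ g e₃ / e₃ with hd
    have hdπ : d ∈ π := (hPU g hgP).1 e₃
    have h3 : ρ g e₃ = e₃ * d := by rw [hd, mul_div_cancel]
    rw [hg', map_mul, MulAut.mul_apply, h3, map_mul, hxTv.2 d hdπ, hxe₃]
    have h4 : e₃ * d = u * w := by rw [← h3, huw]
    calc e₃ * u⁻¹ * d = u⁻¹ * (e₃ * d) := by
          rw [mul_comm e₃ u⁻¹, mul_assoc]
      _ = w := by rw [h4, inv_mul_cancel_left]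
  set B := ρ g' with hB
  set ℓ'' := ℓ'.map B.toMonoidHom with hℓ''def
  set π'' := π'.map B.toMonoidHom with hπ''def
  have hBinj : Function.Injective B.toMonoidHom := B.injective
  have hℓ'' : Nat.card ℓ'' = p := by
    rw [hℓ''def, Subgroup.card_map_of_injective hBinj, hℓ']
  have hℓ''π'' : ℓ'' ≤ π'' := Subgroup.map_mono hℓ'π'
  have hℓ''π' : ℓ'' ≤ π' := by
    rw [hℓ''def, hℓ'gen, MonoidHom.map_zpowers, Subgroup.zpowers_le]
    show B e₃ ∈ π'
    rw [hg'e₃]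
    exact hw
  set x₀'' := g' * x₀' * g'⁻¹ with hx₀''def
  have hx₀'' : IsTv ℓ'' π'' (ρ x₀'') := by
    rw [hx₀''def, map_mul, map_mul, map_inv]
    exact hx₀'.conj B
  set Q := stabIn hℓ''π' ρ with hQdef
  have hQ : IsPGroup p Q := isPGroup_stabIn hℓ''π' hℓ'' hπ' hV ρ hρ
  have hQ1 : x₀' ∈ Q := by
    rw [hQdef, mem_stabIn]
    exact hx₀'.inU hℓ'π' hℓ''π' (Or.inr le_rfl)
  have hQ2 : x₀'' ∈ Q := by
    rw [hQdef, mem_stabIn]
    exact hx₀''.inU hℓ''π' hℓ''π'' (Or.inl le_rfl)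
  -- conjugate back by `a⁻¹`
  set Qa := Q.map (MulAut.conj a⁻¹).toMonoidHom with hQa
  have hQap : IsPGroup p Qa := hQ.map _
  have hx₀Qa : x₀ ∈ Qa := by
    rw [hQa, mem_map_conj_iff]
    simpa [hx₀'def] using hQ1
  set h := a⁻¹ * g' * a with hh
  set y := h * x₀ * h⁻¹ with hy
  have hyQa : y ∈ Qa := by
    rw [hQa, mem_map_conj_iff]
    have : a⁻¹⁻¹ * y * a⁻¹ = x₀'' := by
      rw [hy, hh, hx₀''def, hx₀'def]; group
    rw [this]
    exact hQ2
  have hQaM : Qa ≤ M := hM.le_of_le (Subgroup.zpowers x₀) Qa hZM hZ1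
    (by rw [Subgroup.zpowers_le]; exact hx₀Qa) hQap
  have hy1 : y ≠ 1 := by
    intro hy1
    apply hx₀1
    have : x₀ = h⁻¹ * y * h := by rw [hy]; group
    rw [this, hy1]; group
  have hhM : h ∈ M := by
    apply hM.mem_of_inter h (Subgroup.zpowers y)
    · rw [Subgroup.zpowers_le]; exact hQaM hyQa
    · rw [Subgroup.zpowers_le]; exact conj_mem_map_conj M h x₀ hx₀M
    · exact hQap.to_le (by rw [Subgroup.zpowers_le]; exact hyQa)
    · rw [Ne, Subgroup.zpowers_eq_bot]; exact hy1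
  apply ha
  apply hM.mem_of_inter a (Subgroup.zpowers g')
  · rw [Subgroup.zpowers_le]; exact hM.1 hg'P
  · rw [Subgroup.zpowers_le]
    have : g' = a * h * a⁻¹ := by rw [hh]; group
    rw [this]
    exact conj_mem_map_conj M a h hhM
  · exact P.isPGroup'.to_le (by rw [Subgroup.zpowers_le]; exact hg'P)
  · rw [Ne, Subgroup.zpowers_eq_bot]; exact hg'1

end Cfsg.Agent.Helper9.G3
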