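import Mathlib
import Cfsg.Prelude.Def_FusionSystem
import Cfsg.Agent.Helper9.G3D
import Cfsg.Agent.Helper4.RkV

set_option autoImplicit false

/-!
PIECE G3 (part E): statements in terms of `Cfsg.IsStronglyPEmbedded` and of fusion systems:
an essential elementary abelian subgroup of order `p³` has `|Aut_S(E)| = p`.
-/

namespace Cfsg.Agent.Helper9.G3

open Cfsg Cfsg.FusionSystem Cfsg.Agent.Lead Cfsg.Agent.Helper5

section Comm

variable {V : Type*} [CommGroup V] [Finite V] {p : ℕ} [hp : Fact p.Prime]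

/-- A finite group acting faithfully on an elementary abelian group of order `p³` and having a
strongly `p`-embedded subgroup has Sylow `p`-subgroups of order `p`. -/
theorem card_sylow_eq_of_stronglyPEmbedded (hV : Nat.card V = p ^ 3) (hexp : ∀ v : V, v ^ p = 1)
    {X : Type*} [Group X] [Finite X] (ρ : X →* MulAut V) (hρ : Function.Injective ρ)
    (Y : Subgroup X) (hY : Cfsg.IsStronglyPEmbedded p Y) (T : Sylow p X) : Nat.card T = p := by
  have hpp := hp.out
  obtain ⟨hdvd, hYtop, P, hP⟩ := (isStronglyPEmbedded_iff Y).1 hY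
  obtain ⟨a, ha⟩ : ∃ a, a ∉ Y := by
    by_contra hcon
    push Not at hcon
    exact hYtop (eq_top_iff.2 fun v _ => hcon v)
  have h1 := card_sylow_le_of_locCtrl hV hexp ρ hρ Y P hP a ha
  have h2 : Nat.card T = Nat.card P :=
    (Sylow.card_eq_multiplicity T).trans (Sylow.card_eq_multiplicity P).symm
  rw [h2]
  have h3 : (P : Subgroup X) ≠ ⊥ := P.ne_bot_of_dvd_card hdvd
  obtain ⟨k, hk⟩ := IsPGroup.iff_card.1 P.isPGroup'
  have hk' : Nat.card P = p ^ k := hk
  rw [hk'] at h1 ⊢
  have hk0 : k ≠ 0 := by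
    rintro rfl
    apply h3
    rw [pow_zero] at hk
    exact Subgroup.card_eq_one.1 hk
  have hk1 : k ≤ 1 := by
    have : p ^ k ≤ p ^ 1 := by rwa [pow_one]
    exact (Nat.pow_le_pow_iff_right hpp.one_lt).1 this
  have : k = 1 := by omega
  rw [this, pow_one]

/-- every `p`-subgroup then has order at most `p`. -/
theorem card_le_of_isPGroup_of_stronglyPEmbedded (hV : Nat.card V = p ^ 3)
    (hexp : ∀ v : V, v ^ p = 1)
    {X : Type*} [Group X] [Finite X] (ρ : X →* MulAut V) (hρ : Function.Injective ρ)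
    (Y : Subgroup X) (hY : Cfsg.IsStronglyPEmbedded p Y) (Q : Subgroup X) (hQ : IsPGroup p Q) :
    Nat.card Q ≤ p := by
  obtain ⟨T, hT⟩ := hQ.exists_le_sylow
  have := card_sylow_eq_of_stronglyPEmbedded hV hexp ρ hρ Y hY T
  rw [← this]
  exact Subgroup.card_le_of_le hT

end Comm

section NonComm

variable {V : Type*} [Group V] [Finite V] {p : ℕ} [hp : Fact p.Prime]

/-- version for a `Group` instance with commutativity as a hypothesis. -/
theorem card_sylow_eq_of_stronglyPEmbedded' (hcomm : ∀ a b : V, a * b = b * a)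
    (hV : Nat.card V = p ^ 3) (hexp : ∀ v : V, v ^ p = 1)
    {X : Type*} [Group X] [Finite X] (ρ : X →* MulAut V) (hρ : Function.Injective ρ)
    (Y : Subgroup X) (hY : Cfsg.IsStronglyPEmbedded p Y) (T : Sylow p X) : Nat.card T = p := by
  letI : CommGroup V := { (inferInstance : Group V) with mul_comm := hcomm }
  exact card_sylow_eq_of_stronglyPEmbedded hV hexp ρ hρ Y hY T

theorem card_le_of_isPGroup_of_stronglyPEmbedded' (hcomm : ∀ a b : V, a * b = b * a)
    (hV : Nat.card V = p ^ 3) (hexp : ∀ v : V, v ^ p = 1)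
    {X : Type*} [Group X] [Finite X] (ρ : X →* MulAut V) (hρ : Function.Injective ρ)
    (Y : Subgroup X) (hY : Cfsg.IsStronglyPEmbedded p Y) (Q : Subgroup X) (hQ : IsPGroup p Q) :
    Nat.card Q ≤ p := by
  letI : CommGroup V := { (inferInstance : Group V) with mul_comm := hcomm }
  exact card_le_of_isPGroup_of_stronglyPEmbedded hV hexp ρ hρ Y hY Q hQ

end NonComm

/-- An essential elementary abelian subgroup `E` of order `p³` of a saturated fusion system on a
finite `p`-group `S` has `|Aut_S(E)| = p`. -/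
theorem card_autInducedBy_of_essential {Ω : Type*} [Group Ω] {S : Subgroup Ω} [Finite S] (p : ℕ)
    [hp : Fact p.Prime] (hS : IsPGroup p S) (F : Cfsg.FusionSystem S) (hF : F.IsSaturated p)
    (E : Subgroup Ω) (hE : F.IsEssential p E) (hEA : Cfsg.IsElementaryAbelian p E)
    (hEc : Nat.card E = p ^ 3) : Nat.card (autInducedBy S E) = p := by
  have hpp := hp.out
  have hES : E ≤ S := hE.1.1
  haveI : Finite E := Fusion.finite_of_le hES
  have hcomm : ∀ a b : ↥E, a * b = b * a := fun a b => hEA.1.is_comm.comm a b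
  have hexp : ∀ v : ↥E, v ^ p = 1 := by
    intro v
    apply Subtype.ext
    have := hEA.2 v.1 v.2
    simpa using this
  obtain ⟨-, hnn, -, -⟩ := Cfsg.Agent.Helper4.Rk.essential_facts hS F hF hE
  obtain ⟨-, -, hn, Y, hY⟩ := hE
  haveI := hn
  have hInn : Cfsg.Inn ↥E = ⊥ := by
    rw [eq_bot_iff]
    rintro _ ⟨a, rfl⟩
    rw [Subgroup.mem_bot]
    ext x
    simp only [MulAut.conj_apply, MulAut.one_apply]
    rw [hcomm a x, mul_assoc, mul_inv_cancel, mul_one]
  have hN : (Cfsg.Inn ↥E).subgroupOf (F.autGroup E) = ⊥ := by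
    rw [hInn, Subgroup.bot_subgroupOf]
  let e : (↥(F.autGroup E) ⧸ (Cfsg.Inn ↥E).subgroupOf (F.autGroup E)) ≃* ↥(F.autGroup E) :=
    (QuotientGroup.quotientMulEquivOfEq hN).trans QuotientGroup.quotientBot
  haveI : Finite (↥(F.autGroup E) ⧸ (Cfsg.Inn ↥E).subgroupOf (F.autGroup E)) :=
    Finite.of_injective e e.injective
  let ρ : (↥(F.autGroup E) ⧸ (Cfsg.Inn ↥E).subgroupOf (F.autGroup E)) →* MulAut ↥E :=
    (F.autGroup E).subtype.comp e.toMonoidHom
  have hρ : Function.Injective ρ := by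
    intro a b hab
    apply e.injective
    exact Subtype.ext hab
  -- the preimage of `Aut_S(E)`
  have hTA := Fusion.autInducedBy_le_autGroup F hES
  have hTp := Fusion.isPGroup_autInducedBy p hS E
  set Q := ((autInducedBy S E).subgroupOf (F.autGroup E)).map e.symm.toMonoidHom with hQ
  have hQp : IsPGroup p Q := (hTp.comap_subtype).map _
  have hle := card_le_of_isPGroup_of_stronglyPEmbedded' hcomm hEc hexp ρ hρ Y hY Q hQp
  have hQc : Nat.card Q = Nat.card (autInducedBy S E) := by
    rw [hQ, Subgroup.card_map_of_injective e.symm.injective,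
      Nat.card_congr (Subgroup.subgroupOfEquivOfLe hTA).toEquiv]
  rw [hQc] at hle
  -- nontrivial
  obtain ⟨β, -, τ, hτ, hβτ⟩ := hnn
  have hne : autInducedBy S E ≠ ⊥ := by
    intro h
    apply hβτ
    rw [h] at hτ
    rw [Subgroup.mem_bot.1 hτ]
    simp
  obtain ⟨k, hk⟩ := IsPGroup.iff_card.1 hTp
  rw [hk] at hle ⊢
  have hk0 : k ≠ 0 := by
    rintro rfl
    apply hne
    rw [pow_zero] at hk
    exact Subgroup.card_eq_one.1 hk
  have hk1 : k ≤ 1 := by
    have : p ^ k ≤ p ^ 1 := by rwa [pow_one]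
    exact (Nat.pow_le_pow_iff_right hpp.one_lt).1 this
  have : k = 1 := by omega
  rw [this, pow_one]

end Cfsg.Agent.Helper9.G3
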