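import Mathlib
import Cfsg.Agent.S0016

set_option autoImplicit false

/-!
A group of order 72 in which the elements of order dividing 9 form a subgroup of order 9 and
exponent 3, the product of two involutions has order dividing 3, and there is no element of order
8: the Sylow 3-subgroup is normal and the Sylow 2-subgroups are quaternion.
-/

namespace Cfsg.Agent.Helper9

structure Is72 (G : Type*) [Group G] : Prop where
  card : Nat.card G = 72
  exN : ∃ N : Subgroup G, Nat.card N = 9 ∧ (∀ x ∈ N, x ^ 3 = 1) ∧ ∀ x : G, x ^ 9 = 1 → x ∈ N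
  inv : ∀ x y : G, x ≠ 1 → y ≠ 1 → x ^ 2 = 1 → y ^ 2 = 1 → (x * y) ^ 3 = 1
  no8 : ∀ x : G, x ^ 8 = 1 → x ^ 4 = 1

namespace Is72

variable {G G' : Type*} [Group G] [Group G']

theorem of_equiv (e : G ≃* G') (h : Is72 G) : Is72 G' where
  card := by rw [← h.card]; exact Nat.card_congr e.toEquiv.symm
  exN := by
    obtain ⟨N, h9, h3, hN⟩ := h.exN
    refine ⟨N.map e.toMonoidHom, ?_, ?_, ?_⟩
    · rw [← h9]
      exact Nat.card_congr (N.equivMapOfInjective e.toMonoidHom e.injective).toEquiv.symm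
    · rintro x ⟨x0, hx0, rfl⟩
      change (e x0) ^ 3 = 1
      rw [← map_pow, h3 x0 hx0, map_one]
    · intro x hx
      refine ⟨e.symm x, hN _ ?_, by simp⟩
      rw [← map_pow, hx, map_one]
  inv := by
    intro x y hx1 hy1 hx hy
    have := h.inv (e.symm x) (e.symm y)
      (fun h0 => hx1 ((MulEquiv.map_eq_one_iff e.symm).mp h0))
      (fun h0 => hy1 ((MulEquiv.map_eq_one_iff e.symm).mp h0))
      (by rw [← map_pow, hx, map_one])
      (by rw [← map_pow, hy, map_one])
    rw [← map_mul, ← map_pow] at this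
    exact (MulEquiv.map_eq_one_iff e.symm).mp this
  no8 := by
    intro x hx
    have := h.no8 (e.symm x) (by rw [← map_pow, hx, map_one])
    rw [← map_pow] at this
    exact (MulEquiv.map_eq_one_iff e.symm).mp this

theorem fact_three : (72 : ℕ).factorization 3 = 2 := by
  have hp : Nat.Prime 3 := by norm_num
  have h1 : 2 ≤ (72 : ℕ).factorization 3 :=
    (hp.pow_dvd_iff_le_factorization (by norm_num)).mp (by norm_num)
  have h2 : ¬ 3 ≤ (72 : ℕ).factorization 3 :=
    fun h => absurd ((hp.pow_dvd_iff_le_factorization (by norm_num)).mpr h) (by norm_num)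
  omega

theorem fact_two : (72 : ℕ).factorization 2 = 3 := by
  have hp : Nat.Prime 2 := by norm_num
  have h1 : 3 ≤ (72 : ℕ).factorization 2 :=
    (hp.pow_dvd_iff_le_factorization (by norm_num)).mp (by norm_num)
  have h2 : ¬ 4 ≤ (72 : ℕ).factorization 2 :=
    fun h => absurd ((hp.pow_dvd_iff_le_factorization (by norm_num)).mpr h) (by norm_num)
  omega

theorem sylow3 (h : Is72 G) (Q : Sylow 3 G) :
    (Q : Subgroup G).Normal ∧ Nat.card ↥Q = 9 ∧ ∀ x ∈ (Q : Subgroup G), x ^ 3 = 1 := by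
  have : Fact (Nat.Prime 3) := ⟨by norm_num⟩
  have : Finite G := Nat.finite_of_card_ne_zero (by rw [h.card]; norm_num)
  obtain ⟨N, h9, h3, hN⟩ := h.exN
  have hQ9 : Nat.card ↥(Q : Subgroup G) = 9 := by
    rw [Sylow.card_eq_multiplicity, h.card, fact_three]
    norm_num
  have hle : (Q : Subgroup G) ≤ N := by
    intro x hx
    apply hN
    have := pow_card_eq_one' (G := ↥(Q : Subgroup G)) (x := ⟨x, hx⟩)
    rw [hQ9] at this
    exact congrArg Subtype.val this
  have heq : (Q : Subgroup G) = N := Subgroup.eq_of_le_of_card_ge hle (by rw [h9, hQ9])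
  refine ⟨?_, hQ9, ?_⟩
  · rw [heq]
    constructor
    intro n hn g
    apply hN
    rw [conj_pow]
    have : n ^ 9 = 1 := by
      have e : n ^ 9 = (n ^ 3) ^ 3 := by rw [← pow_mul]
      rw [e, h3 n hn, one_pow]
    rw [this]
    group
  · rw [heq]
    exact h3

theorem sylow2 (h : Is72 G) (P : Sylow 2 G) : Nonempty (↥P ≃* QuaternionGroup 2) := by
  have : Fact (Nat.Prime 2) := ⟨by norm_num⟩
  have : Finite G := Nat.finite_of_card_ne_zero (by rw [h.card]; norm_num)
  have hP8 : Nat.card ↥(P : Subgroup G) = 8 := by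
    rw [Sylow.card_eq_multiplicity, h.card, fact_two]
    norm_num
  have hpow8 : ∀ x : ↥(P : Subgroup G), x ^ 8 = 1 := by
    intro x
    have := pow_card_eq_one' (G := ↥(P : Subgroup G)) (x := x)
    rw [hP8] at this
    exact this
  have huniq : ∀ H K : Subgroup ↥(P : Subgroup G), Nat.card H = 2 → Nat.card K = 2 → H = K := by
    have key : ∀ H : Subgroup ↥(P : Subgroup G), Nat.card H = 2 →
        ∃ x : ↥(P : Subgroup G), x ≠ 1 ∧ x ^ 2 = 1 ∧ H = Subgroup.zpowers x := by
      intro H hH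
      have hne : H ≠ ⊥ := by
        intro hb
        rw [hb, Subgroup.card_bot] at hH
        omega
      obtain ⟨x, hx, hx1⟩ := (Subgroup.ne_bot_iff_exists_ne_one).mp hne |>.imp
        (fun x hx => hx) |> fun ⟨x, hx⟩ => (⟨x.1, x.2, fun h => hx (Subtype.ext h)⟩ :
          ∃ x : ↥(P : Subgroup G), x ∈ H ∧ x ≠ 1)
      have hx2 : x ^ 2 = 1 := by
        have := pow_card_eq_one' (G := ↥H) (x := ⟨x, hx⟩)
        rw [hH] at this
        exact congrArg Subtype.val this
      refine ⟨x, hx1, hx2, ?_⟩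
      symm
      apply Subgroup.eq_of_le_of_card_ge
      · rw [Subgroup.zpowers_le]
        exact hx
      · rw [hH, Nat.card_zpowers, orderOf_eq_prime hx2 hx1]
    intro H K hH hK
    obtain ⟨x, hx1, hx2, rfl⟩ := key H hH
    obtain ⟨y, hy1, hy2, rfl⟩ := key K hK
    have hx2' : (x : G) ^ 2 = 1 := congrArg Subtype.val hx2
    have hy2' : (y : G) ^ 2 = 1 := congrArg Subtype.val hy2
    have h3 : (x * y) ^ 3 = 1 := Subtype.ext (h.inv _ _
      (fun h0 => hx1 (Subtype.ext h0)) (fun h0 => hy1 (Subtype.ext h0)) hx2' hy2')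
    have h8 := hpow8 (x * y)
    have hxy : x * y = 1 := by
      have e : x * y = ((x * y) ^ 3) ^ 3 * ((x * y) ^ 8)⁻¹ := by
        rw [← pow_mul]
        group
      rw [e, h3, h8]
      simp
    have hyx : y = x := by
      have h1 : y = x⁻¹ := (inv_eq_of_mul_eq_one_right hxy).symm ▸ rfl
      have h2 : x⁻¹ = x := by
        rw [inv_eq_iff_mul_eq_one, ← pow_two]
        exact hx2
      rw [h1, h2]
    rw [hyx]
  rcases Cfsg.Agent.S0016.result 2 (P.isPGroup') huniq with hc | ⟨-, n, ⟨φ⟩⟩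
  · exfalso
    obtain ⟨g, hg⟩ := hc.exists_generator
    have ho : orderOf g = 8 := by
      rw [orderOf_eq_card_of_forall_mem_zpowers hg, hP8]
    have h4 : g ^ 4 = 1 := Subtype.ext (h.no8 (g : G) (congrArg Subtype.val (hpow8 g)))
    have := orderOf_dvd_of_pow_eq_one h4
    rw [ho] at this
    omega
  · have hn : n = 1 := by
      have h1 := Nat.card_congr φ.toEquiv
      rw [hP8, Nat.card_eq_fintype_card, QuaternionGroup.card] at h1
      have h2 : 2 ^ n = 2 ^ 1 := by omega
      exact Nat.pow_right_injective (le_refl 2) h2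
    subst hn
    exact ⟨φ⟩

theorem main (h : Is72 G) :
    (∀ Q : Sylow 3 G, (Q : Subgroup G).Normal ∧ Nat.card ↥Q = 9 ∧
      ∀ x ∈ (Q : Subgroup G), x ^ 3 = 1) ∧
    ∀ P : Sylow 2 G, Nonempty (↥P ≃* QuaternionGroup 2) :=
  ⟨h.sylow3, h.sylow2⟩

end Is72

end Cfsg.Agent.Helper9
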