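import Mathlib
import Cfsg.Agent.Helper5.HupDefs

set_option autoImplicit false

/-!
S3360 (Huppert), piece K (helper9), part 1: general tools.
* `card_modEq_card_fixed`: `p`-group congruence for the action of a subgroup on an invariant submodule;
* `card_dvd_card_GL`: a faithful linear group on `V` of order `q ^ n` has order dividing `|GL_n(q)|`.
-/

namespace Cfsg.Agent.Helper9.Hup

open Cfsg.Agent.Helper5.Hup

universe u w

variable {q : ℕ} {V : Type u} [AddCommGroup V] [Module (ZMod q) V]
variable {G : Type w} [Group G]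

/-- The action of a subgroup `Q` on a `Q`-invariant submodule `W`. -/
@[instance_reducible]
def subAction (ι : G →* Module.End (ZMod q) V) (Q : Subgroup G) (W : Submodule (ZMod q) V)
    (hW : ∀ a ∈ Q, ∀ v ∈ W, ι a v ∈ W) : MulAction ↥Q ↥W where
  smul a v := ⟨ι (a : G) (v : V), hW a a.2 v v.2⟩
  one_smul v := by
    apply Subtype.ext
    show ι ((1 : ↥Q) : G) (v : V) = v
    rw [Subgroup.coe_one, map_one]; rfl
  mul_smul a b v := by
    apply Subtype.ext
    show ι ((a * b : ↥Q) : G) (v : V) = ι (a : G) (ι (b : G) (v : V))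
    rw [Subgroup.coe_mul, map_mul]; rfl

theorem card_modEq_card_fixed [Finite V] (ι : G →* Module.End (ZMod q) V) {r : ℕ} [Fact r.Prime]
    (Q : Subgroup G) (hQ : IsPGroup r Q) (W : Submodule (ZMod q) V)
    (hW : ∀ a ∈ Q, ∀ v ∈ W, ι a v ∈ W) :
    Nat.card W ≡ Nat.card {v : W // ∀ a ∈ Q, ι a (v : V) = v} [MOD r] := by
  letI := subAction ι Q W hW
  have h1 := hQ.card_modEq_card_fixedPoints ↥W
  have h2 : Nat.card (MulAction.fixedPoints ↥Q ↥W) =
      Nat.card {v : W // ∀ a ∈ Q, ι a (v : V) = v} := by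
    apply Nat.card_congr
    refine Equiv.subtypeEquivRight ?_
    intro v
    rw [MulAction.mem_fixedPoints]
    constructor
    · intro h a ha
      have := h ⟨a, ha⟩
      exact congrArg Subtype.val this
    · intro h a
      apply Subtype.ext
      exact h a a.2
  rw [← h2]
  exact h1

/-- If the only `Q`-fixed vector of the invariant submodule `W` is `0` then `|W| ≡ 1` mod `r`. -/
theorem card_modEq_one [Finite V] (ι : G →* Module.End (ZMod q) V) {r : ℕ} [Fact r.Prime]
    (Q : Subgroup G) (hQ : IsPGroup r Q) (W : Submodule (ZMod q) V)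
    (hW : ∀ a ∈ Q, ∀ v ∈ W, ι a v ∈ W) (hfix : ∀ v ∈ W, (∀ a ∈ Q, ι a v = v) → v = 0) :
    Nat.card W ≡ 1 [MOD r] := by
  have h1 := card_modEq_card_fixed ι Q hQ W hW
  have h2 : Nat.card {v : W // ∀ a ∈ Q, ι a (v : V) = v} = 1 := by
    rw [Nat.card_eq_one_iff_unique]
    refine ⟨⟨?_⟩, ⟨⟨0, fun a _ => by simp⟩⟩⟩
    rintro ⟨v, hv⟩ ⟨v', hv'⟩
    apply Subtype.ext
    apply Subtype.ext
    rw [hfix v v.2 hv, hfix v' v'.2 hv']
  rw [h2] at h1
  exact h1

/-- `|V| ≡ |Fix(t)|` mod `r` for an element `t` generating an `r`-group. -/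
theorem card_modEq_card_fix [Finite V] (ι : G →* Module.End (ZMod q) V) {r : ℕ} [Fact r.Prime]
    (t : G) (ht : IsPGroup r (Subgroup.zpowers t)) :
    Nat.card V ≡ Nat.card {v : V // ι t v = v} [MOD r] := by
  have h1 := card_modEq_card_fixed ι (Subgroup.zpowers t) ht ⊤ (fun _ _ _ _ => Submodule.mem_top)
  have h2 : Nat.card (⊤ : Submodule (ZMod q) V) = Nat.card V :=
    Nat.card_congr (Submodule.topEquiv (R := ZMod q) (M := V)).toEquiv
  have h3 : Nat.card {v : (⊤ : Submodule (ZMod q) V) // ∀ a ∈ Subgroup.zpowers t, ι a (v : V) = v} =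
      Nat.card {v : V // ι t v = v} := by
    apply Nat.card_congr
    refine
      { toFun := fun v => ⟨v.1.1, v.2 t (Subgroup.mem_zpowers t)⟩
        invFun := fun v => ⟨⟨v.1, Submodule.mem_top⟩, ?_⟩
        left_inv := fun v => rfl
        right_inv := fun v => rfl }
    intro a ha
    obtain ⟨k, rfl⟩ := Subgroup.mem_zpowers_iff.mp ha
    show ι (t ^ k) v.1 = v.1
    have hinv : ι t⁻¹ v.1 = v.1 := by
      conv_lhs => rw [← v.2]
      rw [← Module.End.mul_apply, ← map_mul, inv_mul_cancel, map_one]; rfl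
    induction k using Int.induction_on with
    | zero => simp
    | succ n ih =>
      rw [zpow_add_one, map_mul, Module.End.mul_apply, v.2]
      exact ih (Subgroup.zpow_mem _ (Subgroup.mem_zpowers t) _)
    | pred n ih =>
      rw [zpow_sub_one, map_mul, Module.End.mul_apply, hinv]
      exact ih (Subgroup.zpow_mem _ (Subgroup.mem_zpowers t) _)
  rw [h2, h3] at h1
  exact h1

/-- A faithful linear group on a space of order `q ^ n` has order dividing `|GL_n(q)|`. -/
theorem card_dvd_card_GL [hq : Fact q.Prime] [Finite V] [Finite G]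
    (ι : G →* Module.End (ZMod q) V) (hι : Function.Injective ι) {n : ℕ}
    (hV : Nat.card V = q ^ n) : Nat.card G ∣ Nat.card (GL (Fin n) (ZMod q)) := by
  classical
  have hfr : Module.finrank (ZMod q) V = n := by
    have h1 := Module.natCard_eq_pow_finrank (K := ZMod q) (V := V)
    rw [hV, Nat.card_zmod] at h1
    exact (Nat.pow_right_injective hq.out.two_le h1).symm
  let e : V ≃ₗ[ZMod q] (Fin n → ZMod q) :=
    LinearEquiv.ofFinrankEq _ _ (by rw [hfr, Module.finrank_fin_fun])
  let f1 : G →* LinearMap.GeneralLinearGroup (ZMod q) V := ι.toHomUnits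
  let f : G →* GL (Fin n) (ZMod q) :=
    (Matrix.GeneralLinearGroup.toLin.symm.toMonoidHom.comp
      (LinearMap.GeneralLinearGroup.congrLinearEquiv e).toMonoidHom).comp f1
  have hf : Function.Injective f := by
    intro a b h
    apply hι
    have h1 : f1 a = f1 b := by
      apply (LinearMap.GeneralLinearGroup.congrLinearEquiv e).injective
      apply Matrix.GeneralLinearGroup.toLin.symm.injective
      exact h
    have h2 := congrArg Units.val h1
    exact h2
  exact Subgroup.card_dvd_of_injective f hf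

theorem card_GL_six_two : Nat.card (GL (Fin 6) (ZMod 2)) = 20158709760 := by
  haveI : Fact (Nat.Prime 2) := ⟨Nat.prime_two⟩
  rw [Matrix.card_GL_field]
  simp [Fin.prod_univ_succ, ZMod.card]

end Cfsg.Agent.Helper9.Hup
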