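import Mathlib
import Cfsg.Agent.Helper5.HupDefs
import Cfsg.Agent.Helper1.Fitting2
import Cfsg.Agent.Helper9.HupK1
import Cfsg.Agent.Helper2.HupBase

set_option autoImplicit false

/-!
S3360 (Huppert), piece K (helper9), part 2: `(q, n) = (2, 6)`: `F(G) = O_3(G) O_7(G)`, orders of
`3`- and `7`-subgroups, and `O_7(G) ≠ 1`.
-/

namespace Cfsg.Agent.Helper9.Hup

open Cfsg.Agent.Helper5.Hup Cfsg.Agent.Helper2.Hup

universe u w

variable [hq : Fact (Nat.Prime 2)] {V : Type u} [AddCommGroup V] [Module (ZMod 2) V] [Finite V]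
variable {G : Type w} [Group G] [Finite G]

theorem card_dvd_big (ι : G →* Module.End (ZMod 2) V) (hι : Function.Injective ι)
    (hV : Nat.card V = 2 ^ 6) : Nat.card G ∣ 20158709760 := by
  have := card_dvd_card_GL ι hι hV
  rwa [card_GL_six_two] at this

/-- `3`-subgroups have order dividing `81`. -/
theorem card_dvd_of_three (ι : G →* Module.End (ZMod 2) V) (hι : Function.Injective ι)
    (hV : Nat.card V = 2 ^ 6) (N : Subgroup G) (hN : IsPGroup 3 N) : Nat.card N ∣ 81 := by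
  haveI : Fact (Nat.Prime 3) := ⟨by norm_num⟩
  obtain ⟨a, ha⟩ := IsPGroup.iff_card.mp hN
  have h1 : Nat.card N ∣ 81 * 248872960 :=
    (Subgroup.card_subgroup_dvd_card N).trans (card_dvd_big ι hι hV)
  apply Nat.Coprime.dvd_of_dvd_mul_right _ h1
  rw [ha]
  apply Nat.Coprime.pow_left
  norm_num

/-- `7`-subgroups have order dividing `49`. -/
theorem card_dvd_of_seven (ι : G →* Module.End (ZMod 2) V) (hι : Function.Injective ι)
    (hV : Nat.card V = 2 ^ 6) (N : Subgroup G) (hN : IsPGroup 7 N) : Nat.card N ∣ 49 := by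
  haveI : Fact (Nat.Prime 7) := ⟨by norm_num⟩
  obtain ⟨a, ha⟩ := IsPGroup.iff_card.mp hN
  have h1 : Nat.card N ∣ 49 * 411402240 :=
    (Subgroup.card_subgroup_dvd_card N).trans (card_dvd_big ι hι hV)
  apply Nat.Coprime.dvd_of_dvd_mul_right _ h1
  rw [ha]
  apply Nat.Coprime.pow_left
  norm_num

/-- `O_s(G) = 1` for primes `s ≠ 3, 7`. -/
theorem pCore_eq_bot (ι : G →* Module.End (ZMod 2) V) (hι : Function.Injective ι) (htr : Trans ι)
    (hV : Nat.card V = 2 ^ 6) (s : ℕ) (hs : s.Prime) (h3 : s ≠ 3) (h7 : s ≠ 7) :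
    Cfsg.pCore s G = ⊥ := by
  haveI : Fact s.Prime := ⟨hs⟩
  apply eq_bot_of_isPGroup ι hι htr hV (Cfsg.pCore s G) (Cfsg.Agent.Helper1.pCore_isPGroup s)
  intro hdvd
  have h63 : (2 : ℕ) ^ 6 - 1 = 3 * 3 * 7 := by norm_num
  rw [h63] at hdvd
  rcases (Nat.Prime.dvd_mul hs).mp hdvd with h | h
  · rcases (Nat.Prime.dvd_mul hs).mp h with h | h
    · exact h3 ((Nat.prime_dvd_prime_iff_eq hs (by norm_num)).mp h)
    · exact h3 ((Nat.prime_dvd_prime_iff_eq hs (by norm_num)).mp h)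
  · exact h7 ((Nat.prime_dvd_prime_iff_eq hs (by norm_num)).mp h)

theorem fitting_le (ι : G →* Module.End (ZMod 2) V) (hι : Function.Injective ι) (htr : Trans ι)
    (hV : Nat.card V = 2 ^ 6) :
    Cfsg.fittingSubgroup G ≤ Cfsg.pCore 3 G ⊔ Cfsg.pCore 7 G := by
  rw [Cfsg.Agent.Helper1.fittingSubgroup_eq_fitJoin]
  unfold Cfsg.Agent.Helper1.fitJoin
  apply iSup_le
  intro p
  by_cases h3 : (p : ℕ) = 3
  · rw [h3]; exact le_sup_left
  · by_cases h7 : (p : ℕ) = 7
    · rw [h7]; exact le_sup_right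
    · rw [pCore_eq_bot ι hι htr hV p p.2 h3 h7]
      exact bot_le

/-- An element centralizing `O_3(G)` and `O_7(G)` lies in `O_3(G) O_7(G)`. -/
theorem mem_of_centralizes (ι : G →* Module.End (ZMod 2) V) (hι : Function.Injective ι)
    (htr : Trans ι) (hsol : Group.IsSolvable G) (hV : Nat.card V = 2 ^ 6) (x : G)
    (h3 : ∀ y ∈ Cfsg.pCore 3 G, y * x = x * y) (h7 : ∀ y ∈ Cfsg.pCore 7 G, y * x = x * y) :
    x ∈ Cfsg.pCore 3 G ⊔ Cfsg.pCore 7 G := by
  apply fitting_le ι hι htr hV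
  apply Cfsg.Agent.Helper1.centralizer_fittingSubgroup_le
  have h1 : Cfsg.pCore 3 G ⊔ Cfsg.pCore 7 G ≤ Subgroup.centralizer ({x} : Set G) := by
    apply sup_le
    · intro y hy
      rw [Subgroup.mem_centralizer_singleton_iff]
      exact h3 y hy
    · intro y hy
      rw [Subgroup.mem_centralizer_singleton_iff]
      exact h7 y hy
  rw [Subgroup.mem_centralizer_iff]
  intro y hy
  have := h1 (fitting_le ι hι htr hV hy)
  rw [Subgroup.mem_centralizer_singleton_iff] at this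
  exact this

theorem num_three {a b : ℕ} (ha : a ≤ 4) (hb : b ≤ a) (h : 3 ^ a ≡ 3 ^ b [MOD 7]) : a = b := by
  interval_cases a <;> interval_cases b <;> first | rfl | (exfalso; revert h; decide)

/-- (K1) `O_7(G) ≠ 1`. -/
theorem pCore_seven_ne_bot (ι : G →* Module.End (ZMod 2) V) (hι : Function.Injective ι)
    (htr : Trans ι) (hsol : Group.IsSolvable G) (hV : Nat.card V = 2 ^ 6) :
    Cfsg.pCore 7 G ≠ ⊥ := by
  intro h7
  haveI : Fact (Nat.Prime 7) := ⟨by norm_num⟩
  haveI : Fact (Nat.Prime 3) := ⟨by norm_num⟩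
  have h63 : (2 : ℕ) ^ 6 - 1 ∣ Nat.card G := card_dvd_of_trans ι htr (by norm_num) hV
  have h7d : 7 ∣ Nat.card G := Dvd.dvd.trans (by norm_num) h63
  obtain ⟨x, hx⟩ := exists_prime_orderOf_dvd_card' 7 h7d
  set L := Cfsg.pCore 3 G with hL
  set Q := Subgroup.zpowers x with hQdef
  have hQ : IsPGroup 7 Q := by
    apply IsPGroup.of_card (n := 1)
    rw [Nat.card_zpowers, hx, pow_one]
  have hLn : L.Normal := inferInstance
  have hcnt := card_modEq_of_normalizes L Q hQ (fun y _ l hl => hLn.conj_mem l hl y)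
  have hL3 : IsPGroup 3 L := Cfsg.Agent.Helper1.pCore_isPGroup 3
  obtain ⟨a, ha⟩ := IsPGroup.iff_card.mp hL3
  obtain ⟨b, hb⟩ := IsPGroup.iff_card.mp (hL3.to_le (inf_le_left :
    L ⊓ Subgroup.centralizer (Q : Set G) ≤ L))
  have ha4 : a ≤ 4 := by
    have := card_dvd_of_three ι hι hV L hL3
    rw [ha, show (81 : ℕ) = 3 ^ 4 by norm_num] at this
    exact (Nat.pow_dvd_pow_iff_le_right (by norm_num)).mp this
  have hba : b ≤ a := by
    have := Subgroup.card_dvd_of_le (inf_le_left : L ⊓ Subgroup.centralizer (Q : Set G) ≤ L)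
    rw [ha, hb] at this
    exact (Nat.pow_dvd_pow_iff_le_right (by norm_num)).mp this
  rw [ha, hb] at hcnt
  have hab := num_three ha4 hba hcnt
  have hLC : L ≤ Subgroup.centralizer (Q : Set G) := by
    have h1 : L ⊓ Subgroup.centralizer (Q : Set G) = L := by
      apply Subgroup.eq_of_le_of_card_ge inf_le_left
      rw [ha, hb, hab]
    rw [← h1]
    exact inf_le_right
  have hxL : x ∈ L ⊔ Cfsg.pCore 7 G := by
    apply mem_of_centralizes ι hι htr hsol hV x
    · intro y hy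
      have := hLC hy
      rw [Subgroup.mem_centralizer_iff] at this
      exact (this x (Subgroup.mem_zpowers x)).symm
    · intro y hy
      rw [h7, Subgroup.mem_bot] at hy
      rw [hy, one_mul, mul_one]
  rw [h7, sup_bot_eq] at hxL
  have hdvd : orderOf x ∣ Nat.card L := Subgroup.orderOf_dvd_natCard L hxL
  rw [hx, ha] at hdvd
  have := (Nat.Prime.dvd_of_dvd_pow (by norm_num : Nat.Prime 7) hdvd)
  omega

end Cfsg.Agent.Helper9.Hup
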