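import Mathlib
import Cfsg.Agent.Helper9.HupK2
import Cfsg.Agent.Helper9.HupAut

set_option autoImplicit false

/-!
S3360 (Huppert), piece K (helper9), part 3: `(q, n) = (2, 6)`: `O_3(G) ≠ 1`, case `|O_7(G)| = 7`.
-/

namespace Cfsg.Agent.Helper9.Hup

open Cfsg.Agent.Helper5.Hup Cfsg.Agent.Helper2.Hup

universe u w

variable [hq : Fact (Nat.Prime 2)] {V : Type u} [AddCommGroup V] [Module (ZMod 2) V] [Finite V]
variable {G : Type w} [Group G] [Finite G]

omit hq in
theorem card_GL_one_seven : Nat.card (GL (Fin 1) (ZMod 7)) = 6 := by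
  haveI : Fact (Nat.Prime 7) := ⟨by norm_num⟩
  rw [Matrix.card_GL_field]
  simp [ZMod.card]

/-- (K2a) `O_3(G) = 1` and `|O_7(G)| = 7` is impossible. -/
theorem false_of_card_seven (ι : G →* Module.End (ZMod 2) V) (hι : Function.Injective ι)
    (htr : Trans ι) (hsol : Group.IsSolvable G) (hV : Nat.card V = 2 ^ 6)
    (h3 : Cfsg.pCore 3 G = ⊥) (hT : Nat.card (Cfsg.pCore 7 G) = 7) : False := by
  haveI : Fact (Nat.Prime 7) := ⟨by norm_num⟩
  set T := Cfsg.pCore 7 G with hTdef
  have hTn : T.Normal := inferInstance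
  -- `T` is abelian
  have hcyc : IsCyclic ↥T := isCyclic_of_prime_card hT
  have hcomm : ∀ a b : ↥T, a * b = b * a := fun a b =>
    (IsCyclic.isMulCommutative (α := ↥T)).is_comm.comm a b
  -- the conjugation action
  let φ : G →* MulAut ↥T := MulAut.conjNormal
  have hker : φ.ker ≤ T := by
    intro x hx
    have hx1 : ∀ t : ↥T, x * (t : G) * x⁻¹ = t := by
      intro t
      have := MonoidHom.mem_ker.mp hx
      have h2 := congrArg (fun e : MulAut ↥T => ((e t : ↥T) : G)) this
      simpa [φ, MulAut.conjNormal_apply] using h2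
    have hx2 := mem_of_centralizes ι hι htr hsol hV x
      (fun y hy => by
        rw [h3, Subgroup.mem_bot] at hy
        rw [hy, one_mul, mul_one])
      (fun y hy => by
        have := hx1 ⟨y, hy⟩
        simp only at this
        calc y * x = (x * y * x⁻¹) * x := by rw [this]
          _ = x * y := by group)
    rw [h3, bot_sup_eq] at hx2
    exact hx2
  -- `|G| ∣ 7 * 6`
  have h1 : Nat.card G = φ.ker.index * Nat.card φ.ker := (Subgroup.index_mul_card φ.ker).symm
  have h2 : Nat.card φ.ker ∣ 7 := by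
    rw [← hT]
    exact Subgroup.card_dvd_of_le hker
  have h3' : φ.ker.index ∣ 6 := by
    rw [Subgroup.index_ker, ← card_GL_one_seven]
    letI : CommGroup ↥T := { (inferInstance : Group ↥T) with mul_comm := hcomm }
    have h4 : Nat.card (MulAut ↥T) ∣ Nat.card (GL (Fin 1) (ZMod 7)) := by
      apply card_mulAut_dvd_of_card ↥T 7 1
      · rw [hT, pow_one]
      · intro x
        have := pow_card_eq_one' (G := ↥T) (x := x)
        rwa [hT] at this
    exact (Subgroup.card_subgroup_dvd_card φ.range).trans h4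
  have h5 : Nat.card G ∣ 42 := by
    rw [h1]
    exact Nat.mul_dvd_mul h3' h2
  have h63 : (2 : ℕ) ^ 6 - 1 ∣ Nat.card G := card_dvd_of_trans ι htr (by norm_num) hV
  have : (63 : ℕ) ∣ 42 := Dvd.dvd.trans (by norm_num) (h63.trans h5)
  omega

end Cfsg.Agent.Helper9.Hup
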