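import Mathlib
import Cfsg.Agent.Helper9.HupK2

set_option autoImplicit false

/-!
S3360 (Huppert), piece K (helper9), part 4: `(q, n) = (2, 6)`: `|O_7(G)| = 49` is impossible
(Burnside counting of fixed points).
-/

namespace Cfsg.Agent.Helper9.Hup

open Cfsg.Agent.Helper5.Hup Cfsg.Agent.Helper2.Hup

universe u w

variable [hq : Fact (Nat.Prime 2)] {V : Type u} [AddCommGroup V] [Module (ZMod 2) V] [Finite V]
variable {G : Type w} [Group G] [Finite G]

omit hq in
theorem num_fix {c : ℕ} (hc : c ≤ 5) (h : 2 ^ 6 ≡ 2 ^ c [MOD 7]) : 2 ^ c ≤ 8 := by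
  interval_cases c <;> first | (exfalso; revert h; decide) | norm_num

omit [Finite G] in
/-- A nontrivial `7`-element fixes at most `8` vectors. -/
theorem card_fix_le (ι : G →* Module.End (ZMod 2) V) (hι : Function.Injective ι)
    (hV : Nat.card V = 2 ^ 6) (t : G) (ht : IsPGroup 7 (Subgroup.zpowers t)) (ht1 : t ≠ 1) :
    Nat.card {v : V // ι t v = v} ≤ 8 := by
  haveI : Fact (Nat.Prime 7) := ⟨by norm_num⟩
  set W : Submodule (ZMod 2) V := LinearMap.ker (ι t - 1) with hW
  have hmem : ∀ v : V, v ∈ W ↔ ι t v = v := by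
    intro v
    rw [hW, LinearMap.mem_ker, LinearMap.sub_apply, sub_eq_zero]
    rfl
  have hcard : Nat.card {v : V // ι t v = v} = Nat.card W :=
    Nat.card_congr (Equiv.subtypeEquivRight (fun v => (hmem v).symm))
  have hdvd : Nat.card W ∣ 2 ^ 6 := by
    rw [← hV]
    exact AddSubgroup.card_addSubgroup_dvd_card W.toAddSubgroup
  obtain ⟨c, hc6, hc⟩ := (Nat.dvd_prime_pow Nat.prime_two).mp hdvd
  have hmod := card_modEq_card_fix ι t ht
  rw [hV, hcard, hc] at hmod
  rw [hcard, hc]
  have hc5 : c ≤ 5 := by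
    by_contra hcon
    have hc6' : c = 6 := by omega
    have htop : W.toAddSubgroup = ⊤ := by
      apply AddSubgroup.eq_top_of_card_eq
      show Nat.card W = Nat.card V
      rw [hc, hc6', hV]
    apply ht1
    apply hι
    rw [map_one]
    ext v
    have hv : v ∈ W.toAddSubgroup := by rw [htop]; trivial
    exact (hmem v).mp hv
  exact num_fix hc5 hmod

/-- (K2b) `|O_7(G)| = 49` is impossible. -/
theorem false_of_card_fortynine (ι : G →* Module.End (ZMod 2) V) (hι : Function.Injective ι)
    (htr : Trans ι) (hV : Nat.card V = 2 ^ 6) (hT : Nat.card (Cfsg.pCore 7 G) = 49) : False := by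
  classical
  haveI : Fact (Nat.Prime 7) := ⟨by norm_num⟩
  set T := Cfsg.pCore 7 G with hTdef
  have hTn : T.Normal := inferInstance
  have hT7 : IsPGroup 7 T := Cfsg.Agent.Helper1.pCore_isPGroup 7
  haveI : Fintype ↥T := Fintype.ofFinite _
  haveI : Fintype V := Fintype.ofFinite _
  have hcT : Fintype.card ↥T = 49 := by rw [← Nat.card_eq_fintype_card]; exact hT
  have hcV : Fintype.card V = 64 := by rw [← Nat.card_eq_fintype_card, hV]; norm_num
  -- a nonzero vector
  obtain ⟨v0, hv0⟩ : ∃ v0 : V, v0 ≠ 0 := by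
    by_contra hcon
    push Not at hcon
    have : Fintype.card V ≤ 1 := Fintype.card_le_one_iff.mpr (fun a b => by rw [hcon a, hcon b])
    omega
  -- indicator
  let χ : ↥T → V → ℕ := fun a v => if ι (a : G) v = v then 1 else 0
  set k := Nat.card {a : ↥T // ι (a : G) v0 = v0} with hk
  have hstab : ∀ v : V, Nat.card {a : ↥T // ι (a : G) v = v} = ∑ a : ↥T, χ a v := by
    intro v
    rw [Nat.card_eq_fintype_card, Fintype.card_subtype, Finset.card_filter]
  have hfix : ∀ a : ↥T, Nat.card {v : V // ι (a : G) v = v} = ∑ v : V, χ a v := by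
    intro a
    rw [Nat.card_eq_fintype_card, Fintype.card_subtype, Finset.card_filter]
  have hkv : ∀ v : V, v ≠ 0 → ∑ a : ↥T, χ a v = k := by
    intro v hv
    rw [← hstab, hk]
    exact card_stab_eq ι htr T v v0 hv hv0
  have hk1 : 1 ≤ k := by
    rw [hk]
    exact Nat.card_pos_iff.mpr ⟨⟨⟨1, by simp⟩⟩, inferInstance⟩
  -- the double sum
  have hsum1 : ∑ a : ↥T, ∑ v : V, χ a v = 49 + 63 * k := by
    rw [Finset.sum_comm, ← Finset.add_sum_erase Finset.univ _ (Finset.mem_univ (0 : V))]
    have h0 : ∑ a : ↥T, χ a 0 = 49 := by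
      have : ∀ a : ↥T, χ a 0 = 1 := fun a => by simp [χ]
      rw [Finset.sum_congr rfl (fun a _ => this a)]
      simp [hcT]
    have h1 : ∑ v ∈ Finset.univ.erase (0 : V), ∑ a : ↥T, χ a v = 63 * k := by
      rw [Finset.sum_congr rfl (fun v hv => hkv v (Finset.ne_of_mem_erase hv))]
      rw [Finset.sum_const, Finset.card_erase_of_mem (Finset.mem_univ _), Finset.card_univ, hcV]
      simp
    rw [h0, h1]
  -- upper bound
  have hsum2 : ∑ a : ↥T, ∑ v : V, χ a v ≤ 448 := by
    have hb : ∀ a : ↥T, ∑ v : V, χ a v ≤ 8 + (if a = 1 then 56 else 0) := by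
      intro a
      by_cases ha : a = 1
      · rw [ha, if_pos rfl]
        have : ∀ v : V, χ (1 : ↥T) v = 1 := fun v => by simp [χ]
        rw [Finset.sum_congr rfl (fun v _ => this v)]
        simp [hcV]
      · rw [if_neg ha, add_zero, ← hfix]
        apply card_fix_le ι hι hV
        · exact hT7.to_le (Subgroup.zpowers_le_of_mem a.2)
        · intro h
          exact ha (Subtype.ext h)
    calc ∑ a : ↥T, ∑ v : V, χ a v ≤ ∑ a : ↥T, (8 + (if a = 1 then 56 else 0)) :=
          Finset.sum_le_sum (fun a _ => hb a)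
      _ = 448 := by
          rw [Finset.sum_add_distrib, Finset.sum_const, Finset.card_univ, hcT,
            Finset.sum_ite_eq' Finset.univ (1 : ↥T) (fun _ => 56)]
          simp
  -- Burnside
  letI : MulAction ↥T V := MulAction.compHom V (ι.comp T.subtype)
  have hsmul : ∀ (a : ↥T) (v : V), a • v = ι (a : G) v := fun a v => rfl
  haveI : ∀ a : ↥T, Fintype (MulAction.fixedBy V a) := fun a => Fintype.ofFinite _
  haveI : Fintype (Quotient (MulAction.orbitRel ↥T V)) := Fintype.ofFinite _
  have hB := MulAction.sum_card_fixedBy_eq_card_orbits_mul_card_group ↥T V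
  have hB2 : ∀ a : ↥T, Fintype.card (MulAction.fixedBy V a) = ∑ v : V, χ a v := by
    intro a
    rw [← hfix, Nat.card_eq_fintype_card]
    apply Fintype.card_congr
    refine Equiv.subtypeEquivRight ?_
    intro v
    rw [MulAction.mem_fixedBy, hsmul]
  rw [Finset.sum_congr rfl (fun a _ => hB2 a), hsum1, hcT] at hB
  rw [hsum1] at hsum2
  omega

end Cfsg.Agent.Helper9.Hup
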