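import Mathlib
import Cfsg.Agent.Helper9.HupK3
import Cfsg.Agent.Helper9.HupK4

set_option autoImplicit false

/-!
S3360 (Huppert), piece K (helper9): the case `(q, n) = (2, 6)` (`case_two_six`).
-/

namespace Cfsg.Agent.Helper9.Hup

open Cfsg.Agent.Helper5.Hup Cfsg.Agent.Helper2.Hup

universe u w

section two

variable [hq : Fact (Nat.Prime 2)] {V : Type u} [AddCommGroup V] [Module (ZMod 2) V] [Finite V]
variable {G : Type w} [Group G] [Finite G]

/-- (K2) `O_3(G) ≠ 1`. -/
theorem pCore_three_ne_bot (ι : G →* Module.End (ZMod 2) V) (hι : Function.Injective ι)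
    (htr : Trans ι) (hsol : Group.IsSolvable G) (hV : Nat.card V = 2 ^ 6) :
    Cfsg.pCore 3 G ≠ ⊥ := by
  intro h3
  haveI : Fact (Nat.Prime 7) := ⟨by norm_num⟩
  have h7 := pCore_seven_ne_bot ι hι htr hsol hV
  have hT7 : IsPGroup 7 (Cfsg.pCore 7 G) := Cfsg.Agent.Helper1.pCore_isPGroup 7
  have hdvd := card_dvd_of_seven ι hι hV _ hT7
  rw [show (49 : ℕ) = 7 ^ 2 by norm_num] at hdvd
  obtain ⟨c, hc2, hc⟩ := (Nat.dvd_prime_pow (by norm_num : Nat.Prime 7)).mp hdvd
  interval_cases c
  · rw [pow_zero] at hc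
    exact h7 (Subgroup.card_eq_one.mp hc)
  · rw [pow_one] at hc
    exact false_of_card_seven ι hι htr hsol hV h3 hc
  · exact false_of_card_fortynine ι hι htr hV (by rw [hc]; norm_num)

omit hq in
theorem num_irr {w : ℕ} (hw : w ≤ 6) (h7 : 2 ^ w ≡ 1 [MOD 7]) (h3 : 2 ^ w ≡ 1 [MOD 3]) :
    w = 0 ∨ w = 6 := by
  interval_cases w <;> first | (left; rfl) | (right; rfl) | (exfalso; revert h7; decide) |
    (exfalso; revert h3; decide)

omit hq [Finite V] in
/-- the centre of a nontrivial `p`-subgroup is nontrivial -/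
theorem zc_ne_bot {p : ℕ} [Fact p.Prime] (D : Subgroup G) (hD : IsPGroup p D) (hne : D ≠ ⊥) :
    zc D ≠ ⊥ := by
  haveI : Nontrivial ↥D := (Subgroup.nontrivial_iff_ne_bot D).mpr hne
  have h1 := hD.bot_lt_center
  obtain ⟨z, hz, hz1⟩ := SetLike.exists_of_lt h1
  intro hbot
  apply hz1
  have hzc : (z : G) ∈ zc D := by
    rw [← subgroupOf_zc] at hz
    exact Subgroup.mem_subgroupOf.mp hz
  rw [hbot, Subgroup.mem_bot] at hzc
  rw [Subgroup.mem_bot]
  exact Subtype.ext hzc

theorem case_two_six_aux (ι : G →* Module.End (ZMod 2) V) (hι : Function.Injective ι)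
    (htr : Trans ι) (hsol : Group.IsSolvable G) (hV : Nat.card V = 2 ^ 6) :
    ∃ A : Subgroup G, A.Normal ∧ (∀ a ∈ A, ∀ b ∈ A, a * b = b * a) ∧ IrrOn ι A := by
  haveI : Fact (Nat.Prime 7) := ⟨by norm_num⟩
  haveI : Fact (Nat.Prime 3) := ⟨by norm_num⟩
  have h7 := pCore_seven_ne_bot ι hι htr hsol hV
  have h3 := pCore_three_ne_bot ι hι htr hsol hV
  have hT7 : IsPGroup 7 (Cfsg.pCore 7 G) := Cfsg.Agent.Helper1.pCore_isPGroup 7
  have hT3 : IsPGroup 3 (Cfsg.pCore 3 G) := Cfsg.Agent.Helper1.pCore_isPGroup 3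
  set A3 := zc (Cfsg.pCore 3 G) with hA3
  set A7 := zc (Cfsg.pCore 7 G) with hA7
  have hA3n : A3.Normal := inferInstance
  have hA7n : A7.Normal := inferInstance
  have hA3ne : A3 ≠ ⊥ := zc_ne_bot _ hT3 h3
  have hA7ne : A7 ≠ ⊥ := zc_ne_bot _ hT7 h7
  have hA3p : IsPGroup 3 A3 := hT3.to_le (zc_le _)
  have hA7p : IsPGroup 7 A7 := hT7.to_le (zc_le _)
  have hdis : Disjoint (Cfsg.pCore 3 G) (Cfsg.pCore 7 G) :=
    IsPGroup.disjoint_of_ne 3 7 (by norm_num) _ _ hT3 hT7
  have h37 : ∀ a ∈ A3, ∀ b ∈ A7, a * b = b * a := fun a ha b hb =>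
    Subgroup.commute_of_normal_of_disjoint _ _ inferInstance inferInstance hdis a b
      (zc_le _ ha) (zc_le _ hb)
  refine ⟨A3 ⊔ A7, Subgroup.sup_normal A3 A7, ?_, ?_⟩
  · -- abelian
    have hA3c : A3 ⊔ A7 ≤ Subgroup.centralizer (A3 : Set G) := by
      apply sup_le
      · intro a ha
        rw [Subgroup.mem_centralizer_iff]
        intro b hb
        exact zc_comm hb ha
      · intro a ha
        rw [Subgroup.mem_centralizer_iff]
        intro b hb
        exact h37 b hb a ha
    have hA7c : A3 ⊔ A7 ≤ Subgroup.centralizer (A7 : Set G) := by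
      apply sup_le
      · intro a ha
        rw [Subgroup.mem_centralizer_iff]
        intro b hb
        exact (h37 a ha b hb).symm
      · intro a ha
        rw [Subgroup.mem_centralizer_iff]
        intro b hb
        exact zc_comm hb ha
    have hcen : A3 ⊔ A7 ≤ Subgroup.centralizer ((A3 ⊔ A7 : Subgroup G) : Set G) := by
      rw [Subgroup.le_centralizer_iff] at hA3c hA7c
      rw [Subgroup.le_centralizer_iff]
      exact sup_le hA3c hA7c
    intro a ha b hb
    have := hcen hb
    rw [Subgroup.mem_centralizer_iff] at this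
    exact this a ha
  · -- irreducible
    intro W hW
    have hdvd : Nat.card W ∣ 2 ^ 6 := by
      rw [← hV]
      exact AddSubgroup.card_addSubgroup_dvd_card W.toAddSubgroup
    obtain ⟨w, hw6, hw⟩ := (Nat.dvd_prime_pow Nat.prime_two).mp hdvd
    have hm7 : Nat.card W ≡ 1 [MOD 7] := by
      apply card_modEq_one ι A7 hA7p W
      · intro a ha v hv
        exact hW a (le_sup_right (a := A3) ha) v hv
      · intro v _ hv
        exact fixed_eq_zero_of_normal ι hι htr A7 hA7ne v hv
    have hm3 : Nat.card W ≡ 1 [MOD 3] := by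
      apply card_modEq_one ι A3 hA3p W
      · intro a ha v hv
        exact hW a (le_sup_left (b := A7) ha) v hv
      · intro v _ hv
        exact fixed_eq_zero_of_normal ι hι htr A3 hA3ne v hv
    rw [hw] at hm7 hm3
    rcases num_irr hw6 hm7 hm3 with h0 | h6
    · left
      rw [h0, pow_zero] at hw
      have hbot : W.toAddSubgroup = ⊥ := AddSubgroup.card_eq_one.mp hw
      rw [Submodule.eq_bot_iff]
      intro v hv
      have : v ∈ W.toAddSubgroup := hv
      rw [hbot, AddSubgroup.mem_bot] at this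
      exact this
    · right
      have htop : W.toAddSubgroup = ⊤ := by
        apply AddSubgroup.eq_top_of_card_eq
        show Nat.card W = Nat.card V
        rw [hw, h6, hV]
      rw [Submodule.eq_top_iff']
      intro v
      have : v ∈ W.toAddSubgroup := by rw [htop]; trivial
      exact this

end two

section stub

variable {q : ℕ} [hq : Fact q.Prime] {V : Type u} [AddCommGroup V] [Module (ZMod q) V] [Finite V]
variable {G : Type w} [Group G] [Finite G]

/-- PIECE K of helper5's S3360 blueprint (exact stub): the case `(q, n) = (2, 6)`. -/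
theorem case_two_six (ι : G →* Module.End (ZMod q) V) (hι : Function.Injective ι) (htr : Trans ι)
    (hsol : Group.IsSolvable G) (hq2 : q = 2) (hV : Nat.card V = q ^ 6) :
    ∃ A : Subgroup G, A.Normal ∧ (∀ a ∈ A, ∀ b ∈ A, a * b = b * a) ∧ IrrOn ι A := by
  subst hq2
  exact case_two_six_aux ι hι htr hsol hV

end stub

end Cfsg.Agent.Helper9.Hup
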