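import Mathlib
import Cfsg.Agent.Helper6.KuDefs
import Cfsg.Agent.Helper6.CovPrim

/-!
# G5 of the S4607 blueprint (helper6): the residue field `Fres` is algebraically closed of char `p`
-/

set_option autoImplicit false

namespace Cfsg.Agent.Helper6.Ku

open Cfsg.Agent.Helper6 Cfsg.Agent.Helper6.Cov

variable {M : Ideal Cfsg.AlgInt}

theorem h9_one_notMem (hM : M.IsMaximal) : (1 : Cfsg.AlgInt) ∉ M :=
  (Ideal.ne_top_iff_one M).mp hM.ne_top

/-- the inclusion of the algebraic integers in the local ring -/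
noncomputable def h9_incl (hM : M.IsMaximal) : Cfsg.AlgInt →+* Rloc hM :=
  (algebraMap Cfsg.AlgInt ℂ).codRestrict (Rloc hM)
    (fun a => ⟨a, 1, h9_one_notMem hM, by simp⟩)

theorem h9_incl_coe (hM : M.IsMaximal) (a : Cfsg.AlgInt) : ((h9_incl hM a : Rloc hM) : ℂ) = a :=
  rfl

/-- the local ring is integrally closed in `ℂ` -/
theorem h9_mem_Rloc_of_isIntegral (hM : M.IsMaximal) (z : ℂ) (hz : IsIntegral (Rloc hM) z) :
    z ∈ Rloc hM := by
  letI : Algebra Cfsg.AlgInt (Rloc hM) := (h9_incl hM).toAlgebra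
  haveI : IsScalarTower Cfsg.AlgInt (Rloc hM) ℂ := IsScalarTower.of_algebraMap_eq (fun x => rfl)
  have hne : ∀ b : Cfsg.AlgInt, b ∉ M → (b : ℂ) ≠ 0 := by
    intro b hb h0
    apply hb
    have : b = 0 := Subtype.ext h0
    rw [this]
    exact M.zero_mem
  haveI : IsLocalization M.primeCompl (Rloc hM) := by
    rw [isLocalization_iff]
    refine ⟨?_, ?_, ?_⟩
    · rintro ⟨y, hy⟩
      have hy' : y ∉ M := hy
      have hinv : ((y : ℂ))⁻¹ ∈ Rloc hM := ⟨1, y, hy', by simp⟩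
      refine ⟨⟨h9_incl hM y, ⟨_, hinv⟩, ?_, ?_⟩, rfl⟩
      · apply Subtype.ext
        show (y : ℂ) * (y : ℂ)⁻¹ = 1
        exact mul_inv_cancel₀ (hne y hy')
      · apply Subtype.ext
        show (y : ℂ)⁻¹ * (y : ℂ) = 1
        exact inv_mul_cancel₀ (hne y hy')
    · intro w
      obtain ⟨a, b, hb, hab⟩ := w.2
      refine ⟨(a, ⟨b, hb⟩), ?_⟩
      apply Subtype.ext
      show (w : ℂ) * (b : ℂ) = (a : ℂ)
      rw [← hab, div_mul_cancel₀ _ (hne b hb)]
    · intro x y h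
      refine ⟨1, ?_⟩
      have h' : (x : ℂ) = (y : ℂ) := congrArg (fun t : Rloc hM => (t : ℂ)) h
      rw [Subtype.ext h']
  obtain ⟨m, hm⟩ := IsIntegral.exists_multiple_integral_of_isLocalization M.primeCompl z hz
  have h2 : IsIntegral ℤ (m • z) := isIntegral_trans _ hm
  have hm' : (m : Cfsg.AlgInt) ∉ M := m.2
  refine ⟨⟨m • z, h2⟩, m, hm', ?_⟩
  show (m • z) / ((m : Cfsg.AlgInt) : ℂ) = z
  have : m • z = ((m : Cfsg.AlgInt) : ℂ) * z := rfl
  rw [this, mul_div_cancel_left₀ _ (hne _ hm')]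

theorem isAlgClosed_Fres (hM : M.IsMaximal) : IsAlgClosed (Fres hM) := by
  apply IsAlgClosed.of_exists_root
  intro p hp hirr
  have hl : p ∈ Polynomial.lifts (Ideal.Quotient.mk (Mloc hM)) :=
    (Polynomial.mem_lifts p).mpr
      (Polynomial.map_surjective _ Ideal.Quotient.mk_surjective p)
  obtain ⟨P, hP1, hP2, hP3⟩ := Polynomial.lifts_and_natDegree_eq_and_monic hl hp
  have hdeg : (P.map (Rloc hM).subtype).degree ≠ 0 := by
    have h1 : 0 < p.natDegree := hirr.natDegree_pos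
    have h2 : (P.map (Rloc hM).subtype).natDegree = P.natDegree :=
      hP3.natDegree_map _
    intro h
    have h3 := Polynomial.natDegree_eq_of_degree_eq_some h
    rw [h2, hP2] at h3
    exact h1.ne' h3
  obtain ⟨z, hz⟩ := IsAlgClosed.exists_root (P.map (Rloc hM).subtype) hdeg
  have hzint : IsIntegral (Rloc hM) z := by
    refine ⟨P, hP3, ?_⟩
    rw [Polynomial.eval₂_eq_eval_map]
    exact hz
  have hzR := h9_mem_Rloc_of_isIntegral hM z hzint
  refine ⟨Ideal.Quotient.mk (Mloc hM) ⟨z, hzR⟩, ?_⟩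
  have h0 : P.eval (⟨z, hzR⟩ : Rloc hM) = 0 := by
    apply Subtype.val_injective
    show (Rloc hM).subtype (P.eval (⟨z, hzR⟩ : Rloc hM)) = 0
    rw [← Polynomial.eval₂_at_apply, ← Polynomial.eval_map]
    exact hz
  rw [← hP1, Polynomial.eval_map, Polynomial.eval₂_at_apply, h0, map_zero]

theorem charP_Fres {p : ℕ} (hM : Cfsg.IsPModular p M) : CharP (Fres hM.2.1) p := by
  rw [CharP.charP_iff_prime_eq_zero hM.1]
  have h1 : ((p : Rloc hM.2.1)) ∈ Mloc hM.2.1 := by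
    rw [mem_Mloc]
    refine ⟨(p : Cfsg.AlgInt), 1, hM.2.2, h9_one_notMem hM.2.1, ?_⟩
    simp
  have h2 : (Ideal.Quotient.mk (Mloc hM.2.1)) (p : Rloc hM.2.1) = 0 :=
    Ideal.Quotient.eq_zero_iff_mem.mpr h1
  rw [map_natCast] at h2
  exact h2

end Cfsg.Agent.Helper6.Ku
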