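import Mathlib
import Cfsg.Agent.Helper6.KuDefs

/-!
# K8 of the S4607 blueprint (helper6): from a unital algebra to `(A, central idempotent ε)`

`h9_under_of_K7` proves the statement of `ku_structure_under` from the statement of
`ku_structure` (K7), passed as a hypothesis.
-/

set_option autoImplicit false

namespace Cfsg.Agent.Helper6.Ku

universe uF uA
variable {F : Type uF} [Field F] {A : Type uA} [Ring A] [Algebra F A]

/-- the ideal `A(1-ε)` -/
def h9_I (ε : A) : Ideal A := Ideal.span {1 - ε}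

theorem h9_mem_I {ε : A} (hε : IsIdempotentElem ε) (x : A) : x ∈ h9_I ε ↔ x * ε = 0 := by
  unfold h9_I
  rw [Ideal.mem_span_singleton']
  constructor
  · rintro ⟨y, rfl⟩
    rw [mul_assoc, sub_mul, one_mul, hε.eq, sub_self, mul_zero]
  · intro h
    exact ⟨x, by rw [mul_sub, mul_one, h, sub_zero]⟩

theorem h9_I_twoSided {ε : A} (hε : IsIdempotentElem ε) (hεc : ∀ x : A, ε * x = x * ε) :
    (h9_I ε).IsTwoSided := by
  refine ⟨fun {a} b ha => ?_⟩
  rw [h9_mem_I hε] at ha ⊢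
  rw [mul_assoc, ← hεc, ← mul_assoc, ha, zero_mul]

theorem h9_under_of_K7
    (K7 : ∀ (B : Type uA) [Ring B] [Algebra F B] [FiniteDimensional F B] [Nontrivial B]
      (lam : B →ₗ[F] F), IsSymForm F lam →
      (∀ e : B, IsIdempotentElem e → (∀ x : B, e * x = x * e) → e = 0 ∨ e = 1) →
      Module.finrank F (Subalgebra.center F B) ≤ 2 →
      ∃ (n c : ℕ) (i : B), IsIdempotentElem i ∧ c ≤ 2 ∧ Module.finrank F B = n ^ 2 * c ∧
        Module.finrank F (leftIdeal F i) = n * c)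
    [FiniteDimensional F A]
    (lam : A →ₗ[F] F) (hlam : IsSymForm F lam)
    (ε : A) (hε : IsIdempotentElem ε) (hεc : ∀ x : A, ε * x = x * ε) (hε0 : ε ≠ 0)
    (hprim : ∀ f : A, IsIdempotentElem f → (∀ x : A, f * x = x * f) → f * ε = f →
      f = 0 ∨ f = ε)
    (hZ : Module.finrank F (centerUnder F ε) ≤ 2) :
    ∃ (n c : ℕ) (i : A), IsIdempotentElem i ∧ i * ε = i ∧ c ≤ 2 ∧
      Module.finrank F (leftIdeal F ε) = n ^ 2 * c ∧
      Module.finrank F (leftIdeal F i) = n * c := by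
  classical
  have : (h9_I ε).IsTwoSided := h9_I_twoSided hε hεc
  obtain ⟨π, hπ⟩ : ∃ π : A →ₐ[F] (A ⧸ h9_I ε), π = Ideal.Quotient.mkₐ F (h9_I ε) := ⟨_, rfl⟩
  have hπsurj : Function.Surjective π := hπ ▸ Ideal.Quotient.mkₐ_surjective F (h9_I ε)
  have hπ0 : ∀ x : A, π x = 0 ↔ x * ε = 0 := by
    intro x
    rw [hπ, Ideal.Quotient.mkₐ_eq_mk, Ideal.Quotient.eq_zero_iff_mem, h9_mem_I hε]
  have hπε : π ε = 1 := by
    have h1 : π (1 - ε) = 0 := by
      rw [hπ0, sub_mul, one_mul, hε.eq, sub_self]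
    rw [map_sub, map_one, sub_eq_zero] at h1
    exact h1.symm
  have hπxε : ∀ x : A, π (x * ε) = π x := by
    intro x
    rw [map_mul, hπε, mul_one]
  have hinj : ∀ x y : A, x * ε = x → y * ε = y → π x = π y → x = y := by
    intro x y hx hy hxy
    have h1 : π (x - y) = 0 := by rw [map_sub, hxy, sub_self]
    rw [hπ0, sub_mul, hx, hy, sub_eq_zero] at h1
    exact h1
  have hmemε : ∀ x : A, x ∈ leftIdeal F ε → x * ε = x := by
    intro x hx
    obtain ⟨y, rfl⟩ := (mem_leftIdeal F).mp hx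
    rw [mul_assoc, hε.eq]
  -- the linear equivalence `Aε ≃ A ⧸ I`
  obtain ⟨g, hg⟩ : ∃ g : leftIdeal F ε →ₗ[F] (A ⧸ h9_I ε),
      g = π.toLinearMap ∘ₗ (leftIdeal F ε).subtype := ⟨_, rfl⟩
  have hgapp : ∀ x : leftIdeal F ε, g x = π (x : A) := by
    intro x
    rw [hg]
    rfl
  have hgbij : Function.Bijective g := by
    constructor
    · intro x y hxy
    
      rw [hgapp, hgapp] at hxy
      exact Subtype.ext (hinj _ _ (hmemε _ x.2) (hmemε _ y.2) hxy)
    · intro b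
      obtain ⟨y, rfl⟩ := hπsurj b
      refine ⟨⟨y * ε, (mem_leftIdeal F).mpr ⟨y, rfl⟩⟩, ?_⟩
      rw [hgapp]
      exact hπxε y
  obtain ⟨θ, hθ⟩ : ∃ θ : leftIdeal F ε ≃ₗ[F] (A ⧸ h9_I ε), ∀ x, θ x = g x :=
    ⟨LinearEquiv.ofBijective g hgbij, fun x => rfl⟩
  obtain ⟨σ, hσ⟩ : ∃ σ : (A ⧸ h9_I ε) →ₗ[F] A, ∀ b, σ b = ((θ.symm b : leftIdeal F ε) : A) :=
    ⟨(leftIdeal F ε).subtype ∘ₗ θ.symm.toLinearMap, fun b => rfl⟩
  have hπσ : ∀ b, π (σ b) = b := by
    intro b
    rw [hσ, ← hgapp, ← hθ, LinearEquiv.apply_symm_apply]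
  have hσε : ∀ b, σ b * ε = σ b := by
    intro b
    rw [hσ]
    exact hmemε _ (θ.symm b).2
  have hσπ : ∀ x : A, σ (π x) = x * ε := by
    intro x
    apply hinj _ _ (hσε _) (by rw [mul_assoc, hε.eq])
    rw [hπσ, hπxε]
  have hσmul : ∀ b b', σ (b * b') = σ b * σ b' := by
    intro b b'
    apply hinj _ _ (hσε _) (by rw [mul_assoc, hσε])
    rw [hπσ, map_mul, hπσ, hπσ]
  have hσone : σ 1 = ε := by
    apply hinj _ _ (hσε _) hε.eq
    rw [hπσ, hπε]
  have hσx : ∀ b (x : A), σ b * x = σ (b * π x) := by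
    intro b x
    rw [hσmul, hσπ, ← hεc, ← mul_assoc, hσε]
  have hxσ : ∀ b (x : A), x * σ b = σ (π x * b) := by
    intro b x
    rw [hσmul, hσπ, mul_assoc, hεc, hσε]
  have hσinj : Function.Injective σ := by
    intro b b' h
    rw [← hπσ b, ← hπσ b', h]
  -- instances for the quotient
  have : Nontrivial (A ⧸ h9_I ε) := by
    refine nontrivial_of_ne (1 : A ⧸ h9_I ε) 0 ?_
    rw [← hπε]
    intro h
    rw [hπ0, hε.eq] at h
    exact hε0 h
  have : FiniteDimensional F (A ⧸ h9_I ε) :=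
    Module.Finite.of_surjective π.toLinearMap hπsurj
  -- the transported form
  have hlam' : IsSymForm F (lam ∘ₗ σ) := by
    refine ⟨?_, ?_⟩
    · intro a b
      show lam (σ (a * b)) = lam (σ (b * a))
      rw [hσmul, hσmul, hlam.symm]
    · intro a ha
      have h1 : σ a = 0 := by
        apply hlam.nondeg
        intro x
        rw [hσx]
        exact ha (π x)
      rw [← hπσ a, h1, map_zero]
  have hprim' : ∀ e : A ⧸ h9_I ε, IsIdempotentElem e → (∀ x, e * x = x * e) →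
      e = 0 ∨ e = 1 := by
    intro e he hec
    have h1 : IsIdempotentElem (σ e) := by
      show σ e * σ e = σ e
      rw [← hσmul, he.eq]
    have h2 : ∀ x : A, σ e * x = x * σ e := by
      intro x
      rw [hσx, hxσ, hec]
    rcases hprim (σ e) h1 h2 (hσε e) with h | h
    · left
      rw [← hπσ e, h, map_zero]
    · right
      rw [← hπσ e, h, hπε]
  have hZ' : Module.finrank F (Subalgebra.center F (A ⧸ h9_I ε)) ≤ 2 := by
    refine le_trans ?_ hZ
    have hmem : ∀ z : Subalgebra.center F (A ⧸ h9_I ε),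
        (σ ∘ₗ (Subalgebra.center F (A ⧸ h9_I ε)).val.toLinearMap) z ∈ centerUnder F ε := by
      intro z
      show σ (z : A ⧸ h9_I ε) ∈ centerUnder F ε
      refine (mem_centerUnder F).mpr ⟨?_, hσε _⟩
      intro x
      rw [hσx, hxσ]
      congr 1
      exact ((Subalgebra.mem_center_iff.mp z.2) (π x)).symm
    refine LinearMap.finrank_le_finrank_of_injective
      (f := LinearMap.codRestrict (centerUnder F ε)
        (σ ∘ₗ (Subalgebra.center F (A ⧸ h9_I ε)).val.toLinearMap) hmem) ?_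
    intro z z' h
    have h' := congrArg Subtype.val h
    exact Subtype.ext (hσinj h')
  obtain ⟨n, c, i', hi', hc, hdim, hleft⟩ := K7 (A ⧸ h9_I ε) (lam ∘ₗ σ) hlam' hprim' hZ'
  have hiε : σ i' * ε = σ i' := hσε i'
  refine ⟨n, c, σ i', ?_, hiε, hc, ?_, ?_⟩
  · show σ i' * σ i' = σ i'
    rw [← hσmul, hi'.eq]
  · rw [← hdim]
    exact θ.finrank_eq
  · rw [← hleft]
    -- `π` maps `A (σ i')` isomorphically onto `B i'`
    have hmemi : ∀ x : A, x ∈ leftIdeal F (σ i') → x * ε = x := by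
      intro x hx
      obtain ⟨y, rfl⟩ := (mem_leftIdeal F).mp hx
      rw [mul_assoc, hiε]
    obtain ⟨h, hh⟩ : ∃ h : leftIdeal F (σ i') →ₗ[F] (A ⧸ h9_I ε),
        ∀ x, h x = π (x : A) :=
      ⟨π.toLinearMap ∘ₗ (leftIdeal F (σ i')).subtype, fun x => rfl⟩
    have hhinj : Function.Injective h := by
      intro x y hxy
      rw [hh, hh] at hxy
      exact Subtype.ext (hinj _ _ (hmemi _ x.2) (hmemi _ y.2) hxy)
    have hrange : LinearMap.range h = leftIdeal F i' := by
      ext b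
      rw [LinearMap.mem_range, mem_leftIdeal]
      constructor
      · rintro ⟨x, rfl⟩
        obtain ⟨y, hy⟩ := (mem_leftIdeal F).mp x.2
        refine ⟨π y, ?_⟩
        rw [hh, ← hy, map_mul, hπσ]
      · rintro ⟨y, rfl⟩
        refine ⟨⟨σ y * σ i', (mem_leftIdeal F).mpr ⟨σ y, rfl⟩⟩, ?_⟩
        rw [hh]
        show π (σ y * σ i') = y * i'
        rw [map_mul, hπσ, hπσ]
    rw [← hrange]
    exact (LinearMap.finrank_range_of_inj hhinj).symm

end Cfsg.Agent.Helper6.Ku
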