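import Mathlib
import Cfsg.Agent.Helper4.MCDefs
import Cfsg.Agent.Helper4.RkV
import Cfsg.Agent.Lead.EssPSq4
import Cfsg.Agent.Lead.PCubeExtra

set_option autoImplicit false

/-!
PIECE N3 of the maximal-class project (fusion-system input for S5239): an essential subgroup of a
saturated fusion system is proper, and an essential subgroup of order `9` in a group of order `27`
forces the group to be extraspecial of exponent `3`.
-/

namespace Cfsg.Agent.Helper9.MC

open Cfsg Cfsg.FusionSystem Cfsg.Agent.Lead Cfsg.Agent.Lead.EssPSq Cfsg.Agent.Helper4.Rk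

/-- An essential subgroup of a saturated fusion system on a finite `p`-group `S` is proper in
`S`. -/
theorem essential_lt {Ω : Type*} [Group Ω] {S : Subgroup Ω} [Finite S] (p : ℕ) [Fact p.Prime]
    (hS : IsPGroup p S) (F : Cfsg.FusionSystem S) (hF : F.IsSaturated p) (E : Subgroup Ω)
    (hE : F.IsEssential p E) : E < S := by
  obtain ⟨-, -, -, hne⟩ := essential_facts hS F hF hE
  exact lt_of_le_of_ne hE.1.1 hne

/-- general form: an essential subgroup of order `p²` (`p` odd) has normalizer of order `p³` and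
exponent `p`. -/
theorem essential_sq_normalizer {Ω : Type*} [Group Ω] {S : Subgroup Ω} [Finite S] (p : ℕ)
    [hp : Fact p.Prime] (hp2 : p ≠ 2)
    (hS : IsPGroup p S) (F : Cfsg.FusionSystem S) (hF : F.IsSaturated p) (E : Subgroup Ω)
    (hE : F.IsEssential p E) (hEc : Nat.card E = p ^ 2) :
    Nat.card ↥(normalizerIn S E) = p ^ 3 ∧ (∀ g : ↥(normalizerIn S E), g ^ p = 1) ∧
      ∃ a b : ↥(normalizerIn S E), a * b ≠ b * a := by
  obtain ⟨hEA0, -⟩ := essential_sq p F E hE hEc
  have hEA : EA p ↥E := by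
    refine ⟨fun a b => ?_, fun a => ?_, hEc⟩
    · exact hEA0.1.is_comm.comm a b
    · apply Subtype.ext
      have := hEA0.2 a.1 a.2
      simpa using this
  obtain ⟨x, y, δ₀, γ₀, t, hx, hy, hγ₀A, hγ₀, hδ₀x, hδ₀y, hfix, htN, htP⟩ :=
    abelian_data hp2 hS F hF hE hEA
  have hc := hE.1
  have hPS := hc.1
  have hPN₀ : E ≤ normalizerIn S E := Fusion.le_normalizerIn hPS
  have hN₀S : normalizerIn S E ≤ S := inf_le_left
  haveI : Finite E := Fusion.finite_of_le hPS
  haveI : Finite ↥(normalizerIn S E) := Fusion.finite_of_le hN₀S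
  let e : ↥E ≃* ↥(E.subgroupOf (normalizerIn S E)) := (Subgroup.subgroupOfEquivOfLe hPN₀).symm
  let c₀ : N0C p ↥(normalizerIn S E) :=
    { P := E.subgroupOf (normalizerIn S E)
      nP := (Subgroup.normal_subgroupOf_iff_le_normalizer hPN₀).2 inf_le_right
      pg := hS.to_le hN₀S
      ea := EA_of_mulEquiv hEA e
      cent := by
        intro g hg
        rw [Subgroup.mem_subgroupOf]
        apply hc.2 E (Fusion.isConj_refl F hPS)
        refine Subgroup.mem_inf.2 ⟨(Subgroup.mem_inf.1 g.2).1, ?_⟩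
        rw [Subgroup.mem_centralizer_iff]
        intro q hq
        have := (Subgroup.mem_centralizer_iff.1 hg) ⟨q, hPN₀ hq⟩ (Subgroup.mem_subgroupOf.2 hq)
        exact congrArg Subtype.val this
      x := e x
      y := e y
      hx := fun h => hx (by simpa using h)
      hy := by
        intro hmem
        obtain ⟨n, hn⟩ := Subgroup.mem_zpowers_iff.1 hmem
        apply hy
        rw [Subgroup.mem_zpowers_iff]
        exact ⟨n, e.injective (by rw [map_zpow]; exact hn)⟩
      hfix := by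
        intro g
        apply Subtype.ext
        exact hfix g.1 g.2 }
  set t' : ↥(normalizerIn S E) := ⟨t, htN⟩ with ht'
  have ht'P : t' ∉ c₀.P := htP
  have hγP : ∀ q, γ₀ q ∈ c₀.P ↔ q ∈ c₀.P := fun q => ext_preserves hPS δ₀ γ₀ hγ₀ q
  have hDx : γ₀ ((c₀.x : c₀.P) : ↥(normalizerIn S E)) =
      ((c₀.x : c₀.P) : ↥(normalizerIn S E)) ^ 2 := by
    apply Subtype.ext
    have h1 := hγ₀ x
    rw [hδ₀x] at h1
    exact h1
  have hDy : γ₀ ((c₀.y : c₀.P) : ↥(normalizerIn S E)) =
      ((c₀.y : c₀.P) : ↥(normalizerIn S E)) ^ ((2 : ZMod p)⁻¹).val := by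
    apply Subtype.ext
    have h1 := hγ₀ y
    rw [hδ₀y] at h1
    exact h1
  have hexp := c₀.pow_p_eq_one hp2 γ₀ hγP hDx hDy
  have hcardN₀ := c₀.card_eq ht'P
  refine ⟨hcardN₀, hexp, ?_⟩
  -- `t'` does not centralize `E`
  by_contra hcon
  push Not at hcon
  apply ht'P
  apply c₀.cent
  rw [Subgroup.mem_centralizer_iff]
  intro q _
  exact hcon q t'

/-- The case `|S| = 27` of S5239: an essential subgroup of order 9 forces `S` extraspecial of
exponent 3. -/
theorem pearl_27 {Ω : Type*} [Group Ω] {S : Subgroup Ω} [Finite S] (hS : IsPGroup 3 S)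
    (F : Cfsg.FusionSystem S) (hF : F.IsSaturated 3) [Fact (Nat.Prime 3)] (E : Subgroup Ω)
    (hE : F.IsEssential 3 E) (hE9 : Nat.card E = 9) (hS27 : Nat.card S = 27) :
    Cfsg.IsExtraspecial 3 ↥S ∧ Monoid.exponent ↥S = 3 := by
  obtain ⟨hcard, hexp, a, b, hab⟩ :=
    essential_sq_normalizer 3 (by norm_num) hS F hF E hE (by rw [hE9]; norm_num)
  have hle : normalizerIn S E ≤ S := inf_le_left
  have hN : normalizerIn S E = S := by
    apply Subgroup.eq_of_le_of_card_ge hle
    rw [hcard, hS27]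
    norm_num
  have hexpS : ∀ g : ↥S, g ^ 3 = 1 := by
    intro g
    have hg : (g : Ω) ∈ normalizerIn S E := by rw [hN]; exact g.2
    have h1 := hexp ⟨g.1, hg⟩
    apply Subtype.ext
    have h2 := congrArg Subtype.val h1
    simpa using h2
  have hnc : ∃ a b : ↥S, a * b ≠ b * a := by
    refine ⟨⟨a.1, hle a.2⟩, ⟨b.1, hle b.2⟩, fun h => hab ?_⟩
    apply Subtype.ext
    have h2 := congrArg Subtype.val h
    exact h2
  refine ⟨Cfsg.Agent.Lead.PCubeExtra.isExtraspecial_of_card_cube
    (by rw [hS27]; norm_num) hnc, ?_⟩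
  have hdvd : Monoid.exponent ↥S ∣ 3 := Monoid.exponent_dvd_of_forall_pow_eq_one hexpS
  rcases (Nat.dvd_prime (by norm_num : Nat.Prime 3)).1 hdvd with h1 | h1
  · exfalso
    rw [Monoid.exp_eq_one_iff] at h1
    obtain ⟨a', b', hab'⟩ := hnc
    exact hab' (Subsingleton.elim _ _)
  · exact h1

end Cfsg.Agent.Helper9.MC
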