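import Cfsg.Agent.Helper9.McLAsmB

/-!
# McLaughlin's theorem: the global assembly

From "every center lies in the `S`-part of a complete structure" and the local range theorem,
build the decomposition `V = V₀ ⊕ V₁ ⊕ ⋯ ⊕ Vₙ`, `H = H₁ × ⋯ × Hₙ`.
-/

set_option autoImplicit false

namespace Cfsg.Agent.Helper9.McL

open Module Cfsg.Agent.Helper7.McL

variable {F V : Type*} [Field F] [AddCommGroup V] [Module F V]

/-- The local conclusion: `K` acts on `X` through a homomorphism whose range is `SL(X)` or a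
symplectic group of `X`. -/
def RhoSpec (K : Subgroup (V ≃ₗ[F] V)) (X : Submodule F V) : Prop :=
  ∃ ρ : ↥K →* (↥X ≃ₗ[F] ↥X),
    (∀ (h : ↥K) (v : ↥X), ((ρ h v : ↥X) : V) = (h : V ≃ₗ[F] V) (v : V)) ∧
    ((ρ.range : Set (↥X ≃ₗ[F] ↥X)) =
        {f : ↥X ≃ₗ[F] ↥X | LinearMap.det (f : ↥X →ₗ[F] ↥X) = 1} ∨
      ∃ B : LinearMap.BilinForm F ↥X, B.IsAlt ∧ B.Nondegenerate ∧
        (ρ.range : Set (↥X ≃ₗ[F] ↥X)) = {f : ↥X ≃ₗ[F] ↥X | ∀ x y, B (f x) (f y) = B x y})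

theorem assembly {F V : Type*} [Field F] [AddCommGroup V] [Module F V] [Finite V]
    {H : Subgroup (V ≃ₗ[F] V)} (hH : Hyp H)
    (hcs : ∀ u, IsC H u → ∃ S N, CS H S N ∧ u ∈ S)
    (hrho : ∀ S N, CS H S N → (∀ h ∈ KS H S, ∀ z ∈ N, h z = z) ∧
      (∀ h ∈ KS H S, ∀ s ∈ S, h s ∈ S) ∧
      ∃ ρ : ↥(KS H S) →* (↥S ≃ₗ[F] ↥S),
        (∀ (h : ↥(KS H S)) (v : ↥S), ((ρ h v : ↥S) : V) = (h : V ≃ₗ[F] V) (v : V)) ∧
        ((ρ.range : Set (↥S ≃ₗ[F] ↥S)) =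
            {f : ↥S ≃ₗ[F] ↥S | LinearMap.det (f : ↥S →ₗ[F] ↥S) = 1} ∨
          ∃ B : LinearMap.BilinForm F ↥S, B.IsAlt ∧ B.Nondegenerate ∧
            (ρ.range : Set (↥S ≃ₗ[F] ↥S)) = {f : ↥S ≃ₗ[F] ↥S | ∀ x y, B (f x) (f y) = B x y})) :
    ∃ (n : ℕ) (W : Fin (n + 1) → Submodule F V) (K : Fin n → Subgroup (V ≃ₗ[F] V)),
      1 ≤ n ∧ DirectSum.IsInternal W ∧
      (∀ h ∈ H, ∀ i, (W i).map (h : V →ₗ[F] V) = W i) ∧
      (∀ j, K j ≤ H ∧ ((K j).subgroupOf H).Normal) ∧ ⨆ j, K j = H ∧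
      (∀ j, K j ⊓ (⨆ j' ∈ {j' : Fin n | j' ≠ j}, K j') = ⊥) ∧
      (∀ j j', j ≠ j' → ∀ a ∈ K j, ∀ b ∈ K j', a * b = b * a) ∧
      (∀ j, ∀ h ∈ K j, ∀ i : Fin (n + 1), i ≠ j.succ → ∀ v ∈ W i, h v = v) ∧
      (∀ j, ∃ ρ : ↥(K j) →* (↥(W j.succ) ≃ₗ[F] ↥(W j.succ)),
        (∀ (h : ↥(K j)) (v : ↥(W j.succ)), ((ρ h v : ↥(W j.succ)) : V) = (h : V ≃ₗ[F] V) (v : V)) ∧
        ((ρ.range : Set (↥(W j.succ) ≃ₗ[F] ↥(W j.succ))) =
            {f : ↥(W j.succ) ≃ₗ[F] ↥(W j.succ) | LinearMap.det (f : ↥(W j.succ) →ₗ[F] ↥(W j.succ)) = 1} ∨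
          ∃ B : LinearMap.BilinForm F ↥(W j.succ), B.IsAlt ∧ B.Nondegenerate ∧
            (ρ.range : Set (↥(W j.succ) ≃ₗ[F] ↥(W j.succ))) = {f : ↥(W j.succ) ≃ₗ[F] ↥(W j.succ) | ∀ x y, B (f x) (f y) = B x y})) := by
  classical
  -- the index set
  let 𝒮 : Set (Submodule F V) := {S | ∃ N, CS H S N}
  haveI : Finite (Submodule F V) :=
    Finite.of_injective (fun S : Submodule F V => (S : Set V)) SetLike.coe_injective
  haveI : Finite ↥𝒮 := Subtype.finite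
  haveI : Nonempty ↥𝒮 := ⟨⟨⊥, ⊤, cs_bot H⟩⟩
  have hn : 1 ≤ Nat.card ↥𝒮 := Nat.card_pos
  let e : Fin (Nat.card ↥𝒮) ≃ ↥𝒮 := (Finite.equivFin ↥𝒮).symm
  let S : Fin (Nat.card ↥𝒮) → Submodule F V := fun j => (e j).1
  have hex : ∀ j, ∃ N, CS H (S j) N := fun j => (e j).2
  choose N hN using hex
  have hSne : ∀ j k, j ≠ k → S j ≠ S k := by
    intro j k hjk h
    apply hjk
    apply e.injective
    exact Subtype.ext h
  have hle : ∀ j k, j ≠ k → S j ≤ N k := fun j k hjk =>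
    cs_le_N_of_ne (hN j) (hN k) (hSne j k hjk)
  have hfixN : ∀ j, KS H (S j) ≤ fixer (N j) := fun j => cs_KS_le_fixer (hN j)
  refine ⟨Nat.card ↥𝒮, Fin.cons (⨅ j, N j) S, fun j => KS H (S j), hn,
    isInternal_family S N (fun j => (hN j).compl) hle, ?_, ?_, ?_, ?_, ?_, ?_, ?_⟩
  · -- H-invariance
    intro h hh i
    apply map_eq_of_mem_stab
    refine Fin.cases ?_ (fun j => ?_) i
    · rw [Fin.cons_zero]
      exact stab_iInf_le N (fun j => (cs_le_stab hH (hN j) hh).2)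
    · rw [Fin.cons_succ]
      exact (cs_le_stab hH (hN j) hh).1
  · -- K j ≤ H, normal
    intro j
    exact ⟨KS_le H (S j), cs_KS_normal hH (hN j)⟩
  · -- ⨆ K j = H
    apply le_antisymm
    · exact iSup_le fun j => KS_le H (S j)
    · refine hH.gen.le.trans ?_
      rw [Subgroup.closure_le]
      rintro g ⟨φ, v, hφv, rfl⟩
      by_cases hφ : φ = 0
      · rw [hφ, tv_zero_left]; exact Subgroup.one_mem _
      by_cases hv : v = 0
      · rw [hv, tv_zero_right]; exact Subgroup.one_mem _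
      obtain ⟨S', N', hcs', hvS'⟩ := hcs v (IsC.of_Rl hφv hφ hv)
      have hj : S (e.symm ⟨S', N', hcs'⟩) = S' := by
        change (e (e.symm ⟨S', N', hcs'⟩)).1 = S'
        rw [Equiv.apply_symm_apply]
      have h1 : tv φ v ∈ KS H (S (e.symm ⟨S', N', hcs'⟩)) := by
        rw [hj]
        exact tv_mem_KS hvS' hφv
      exact (le_iSup (fun j => KS H (S j)) (e.symm ⟨S', N', hcs'⟩)) h1
  · -- independence
    intro j
    rw [eq_bot_iff]
    rintro g ⟨hg1, hg2⟩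
    have h1 : (⨆ j' ∈ {j' : Fin (Nat.card ↥𝒮) | j' ≠ j}, KS H (S j')) ≤ fixer (S j) := by
      refine iSup_le fun j' => iSup_le fun hj' => ?_
      intro k hk s hs
      exact hfixN j' hk s (hle j j' (Ne.symm hj') hs)
    rw [Subgroup.mem_bot]
    exact eq_one_of_mem_fixer (hN j).compl (h1 hg2) (hfixN j hg1)
  · -- commuting
    intro j j' hjj'
    exact cs_KS_commute (hN j) (hN j') (hSne j j' hjj')
  · -- trivial action off `W j.succ`
    intro j h hh i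
    refine Fin.cases ?_ (fun k => ?_) i
    · intro _ v hv
      rw [Fin.cons_zero] at hv
      exact hfixN j hh v ((Submodule.mem_iInf N).1 hv j)
    · intro hk v hv
      rw [Fin.cons_succ] at hv
      have hkj : k ≠ j := by
        intro h0
        exact hk (by rw [h0])
      exact hfixN j hh v (hle k j hkj hv)
  · -- the local range theorem
    intro j
    have h1 : RhoSpec (KS H (S j)) (S j) := (hrho _ _ (hN j)).2.2
    have h2 : RhoSpec (KS H (S j))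
        ((Fin.cons (⨅ j, N j) S : Fin (Nat.card ↥𝒮 + 1) → Submodule F V) j.succ) := by
      rw [Fin.cons_succ]
      exact h1
    exact h2

end Cfsg.Agent.Helper9.McL
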