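import Cfsg.Agent.Helper7.McLK

/-!
# McLaughlin's theorem: linear algebra for the global assembly

A family of complemented pairs `(S j, N j)` with `S j ≤ N k` for `j ≠ k` gives an internal direct
sum decomposition `V = (⨅ N j) ⊕ ⨁ S j`.
-/

set_option autoImplicit false

namespace Cfsg.Agent.Helper9.McL

open Module

variable {F V : Type*} [Field F] [AddCommGroup V] [Module F V]

/-- The pointwise fixer of a submodule. -/
def fixer (S : Submodule F V) : Subgroup (V ≃ₗ[F] V) where
  carrier := {g | ∀ s ∈ S, g s = s}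
  mul_mem' := by
    intro a b ha hb s hs
    rw [LinearEquiv.mul_apply, hb s hs, ha s hs]
  one_mem' := by
    intro s _
    rfl
  inv_mem' := by
    intro a ha s hs
    have h1 : a s = s := ha s hs
    calc a⁻¹ s = a⁻¹ (a s) := by rw [h1]
      _ = (a⁻¹ * a) s := rfl
      _ = s := by rw [inv_mul_cancel]; rfl

theorem mem_fixer {S : Submodule F V} {g : V ≃ₗ[F] V} : g ∈ fixer S ↔ ∀ s ∈ S, g s = s := Iff.rfl

theorem eq_one_of_mem_fixer {S N : Submodule F V} (h : IsCompl S N) {g : V ≃ₗ[F] V}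
    (hS : g ∈ fixer S) (hN : g ∈ fixer N) : g = 1 := by
  ext x
  have hx : x ∈ S ⊔ N := by rw [h.sup_eq_top]; exact Submodule.mem_top
  obtain ⟨s, hs, z, hz, rfl⟩ := Submodule.mem_sup.1 hx
  rw [map_add, hS s hs, hN z hz]
  rfl

theorem sum_mem_of_le {n : ℕ} (S N : Fin n → Submodule F V)
    (hle : ∀ j k, j ≠ k → S j ≤ N k) (μ : ∀ j, S j) (k : Fin n) :
    (∑ j ∈ Finset.univ.erase k, (μ j : V)) ∈ N k := by
  apply Submodule.sum_mem
  intro j hj
  exact hle j k (Finset.ne_of_mem_erase hj) (μ j).2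

theorem iSupIndep_family {n : ℕ} (S N : Fin n → Submodule F V)
    (hc : ∀ j, IsCompl (S j) (N j)) (hle : ∀ j k, j ≠ k → S j ≤ N k) :
    iSupIndep (Fin.cons (⨅ j, N j) S : Fin (n + 1) → Submodule F V) := by
  intro i
  refine Fin.cases ?_ (fun j => ?_) i
  · -- i = 0
    rw [Submodule.disjoint_def]
    intro x hx0 hx1
    rw [Fin.cons_zero] at hx0
    have h1 : (⨆ (i' : Fin (n + 1)) (_ : i' ≠ 0),
        (Fin.cons (⨅ j, N j) S : Fin (n + 1) → Submodule F V) i') ≤ ⨆ j, S j := by
      refine iSup_le fun i' => iSup_le fun hi' => ?_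
      obtain ⟨j, rfl⟩ := Fin.exists_succ_eq.2 hi'
      rw [Fin.cons_succ]
      exact le_iSup S j
    have hx2 : x ∈ ⨆ j ∈ (Finset.univ : Finset (Fin n)), S j := by
      simpa using h1 hx1
    obtain ⟨μ, hμ⟩ := (Submodule.mem_iSup_finset_iff_exists_sum S x).1 hx2
    have hz : ∀ k, (μ k : V) = 0 := by
      intro k
      have hk : x ∈ N k := (Submodule.mem_iInf N).1 hx0 k
      have h2 : (μ k : V) = x - ∑ j ∈ Finset.univ.erase k, (μ j : V) := by
        rw [← hμ, ← Finset.add_sum_erase Finset.univ (fun j => (μ j : V)) (Finset.mem_univ k)]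
        abel
      have h3 : (μ k : V) ∈ N k := by
        rw [h2]
        exact Submodule.sub_mem _ hk (sum_mem_of_le S N hle μ k)
      have h4 : (μ k : V) ∈ S k ⊓ N k := ⟨(μ k).2, h3⟩
      rw [(hc k).inf_eq_bot] at h4
      exact (Submodule.mem_bot F).1 h4
    rw [← hμ]
    exact Finset.sum_eq_zero (fun k _ => hz k)
  · -- i = j.succ
    rw [Fin.cons_succ]
    have h1 : (⨆ (i' : Fin (n + 1)) (_ : i' ≠ j.succ),
        (Fin.cons (⨅ j, N j) S : Fin (n + 1) → Submodule F V) i') ≤ N j := by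
      refine iSup_le fun i' => iSup_le fun hi' => ?_
      revert hi'
      refine Fin.cases ?_ (fun k => ?_) i'
      · intro _
        rw [Fin.cons_zero]
        exact iInf_le N j
      · intro hk
        rw [Fin.cons_succ]
        apply hle
        intro hkj
        exact hk (by rw [hkj])
    exact (hc j).disjoint.mono_right h1

theorem iSup_family {n : ℕ} (S N : Fin n → Submodule F V)
    (hc : ∀ j, IsCompl (S j) (N j)) (hle : ∀ j k, j ≠ k → S j ≤ N k) :
    iSup (Fin.cons (⨅ j, N j) S : Fin (n + 1) → Submodule F V) = ⊤ := by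
  rw [eq_top_iff]
  intro x _
  -- decompose x along each pair
  have hdec : ∀ j, ∃ s : S j, x - (s : V) ∈ N j := by
    intro j
    have hx : x ∈ S j ⊔ N j := by rw [(hc j).sup_eq_top]; exact Submodule.mem_top
    obtain ⟨s, hs, z, hz, rfl⟩ := Submodule.mem_sup.1 hx
    exact ⟨⟨s, hs⟩, by simpa using hz⟩
  choose μ hμ using hdec
  have h0 : x - ∑ j, (μ j : V) ∈ ⨅ j, N j := by
    rw [Submodule.mem_iInf]
    intro k
    have h2 : x - ∑ j, (μ j : V) = (x - (μ k : V)) - ∑ j ∈ Finset.univ.erase k, (μ j : V) := by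
      rw [← Finset.add_sum_erase Finset.univ (fun j => (μ j : V)) (Finset.mem_univ k)]
      abel
    rw [h2]
    exact Submodule.sub_mem _ (hμ k) (sum_mem_of_le S N hle μ k)
  have h1 : x = (x - ∑ j, (μ j : V)) + ∑ j, (μ j : V) := by abel
  rw [h1]
  apply Submodule.add_mem
  · have := le_iSup (Fin.cons (⨅ j, N j) S : Fin (n + 1) → Submodule F V) 0
    rw [Fin.cons_zero] at this
    exact this h0
  · apply Submodule.sum_mem
    intro j _
    have := le_iSup (Fin.cons (⨅ j, N j) S : Fin (n + 1) → Submodule F V) j.succ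
    rw [Fin.cons_succ] at this
    exact this (μ j).2

theorem isInternal_family {n : ℕ} (S N : Fin n → Submodule F V)
    (hc : ∀ j, IsCompl (S j) (N j)) (hle : ∀ j k, j ≠ k → S j ≤ N k) :
    DirectSum.IsInternal (Fin.cons (⨅ j, N j) S : Fin (n + 1) → Submodule F V) :=
  DirectSum.isInternal_submodule_of_iSupIndep_of_iSup_eq_top (iSupIndep_family S N hc hle)
    (iSup_family S N hc hle)

end Cfsg.Agent.Helper9.McL
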