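import Cfsg.Agent.Helper9.McLAsmA

/-!
# McLaughlin's theorem: complete structures are permuted trivially, and the groups `KS H S`
-/

set_option autoImplicit false

namespace Cfsg.Agent.Helper9.McL

open Module Cfsg.Agent.Helper7.McL

variable {F V : Type*} [Field F] [AddCommGroup V] [Module F V]
variable {H : Subgroup (V ≃ₗ[F] V)} {S N S' N' : Submodule F V}

/-- The setwise stabilizer of a submodule. -/
def stab (W : Submodule F V) : Subgroup (V ≃ₗ[F] V) where
  carrier := {g | ∀ x, x ∈ W ↔ g x ∈ W}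
  mul_mem' := by
    intro a b ha hb x
    rw [LinearEquiv.mul_apply, hb x, ha (b x)]
  one_mem' := by
    intro x
    rfl
  inv_mem' := by
    intro a ha x
    have h1 : a (a⁻¹ x) = x := by
      change (a * a⁻¹) x = x
      rw [mul_inv_cancel]; rfl
    rw [ha (a⁻¹ x), h1]

theorem mem_stab {W : Submodule F V} {g : V ≃ₗ[F] V} : g ∈ stab W ↔ ∀ x, x ∈ W ↔ g x ∈ W :=
  Iff.rfl

theorem map_eq_of_mem_stab {W : Submodule F V} {g : V ≃ₗ[F] V} (hg : g ∈ stab W) :
    W.map (g : V →ₗ[F] V) = W := by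
  ext x
  constructor
  · rintro ⟨y, hy, rfl⟩
    exact (hg y).1 hy
  · intro hx
    have hg' : g⁻¹ ∈ stab W := (stab W).inv_mem hg
    refine ⟨g⁻¹ x, (hg' x).1 hx, ?_⟩
    change (g * g⁻¹) x = x
    rw [mul_inv_cancel]; rfl

theorem stab_iInf_le {ι : Type*} (W : ι → Submodule F V) {g : V ≃ₗ[F] V}
    (hg : ∀ i, g ∈ stab (W i)) : g ∈ stab (⨅ i, W i) := by
  intro x
  rw [Submodule.mem_iInf, Submodule.mem_iInf]
  exact forall_congr' fun i => hg i x

/-- A transvection with center in `W` stabilizes `W`. -/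
theorem tv_mem_stab_of_center {W : Submodule F V} {φ : Dual F V} {v : V} (h : φ v = 0)
    (hv : v ∈ W) : tv φ v ∈ stab W := by
  intro x
  rw [tv_apply h]
  constructor
  · intro hx
    exact W.add_mem hx (W.smul_mem _ hv)
  · intro hx
    have : x = (x + φ x • v) - φ x • v := by abel
    rw [this]
    exact W.sub_mem hx (W.smul_mem _ hv)

/-- A transvection whose axis contains `W` stabilizes `W` (and fixes it pointwise). -/
theorem tv_mem_stab_of_axis {W : Submodule F V} {φ : Dual F V} {v : V} (h : φ v = 0)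
    (hW : ∀ x ∈ W, φ x = 0) : tv φ v ∈ stab W := by
  intro x
  rw [tv_apply h]
  constructor
  · intro hx
    rw [hW x hx, zero_smul, add_zero]
    exact hx
  · intro hx
    have h1 : φ (x + φ x • v) = 0 := hW _ hx
    have h2 : φ x = 0 := by
      simpa [h] using h1
    rw [h2, zero_smul, add_zero] at hx
    exact hx

theorem tv_mem_fixer_of_axis {W : Submodule F V} {φ : Dual F V} {v : V} (h : φ v = 0)
    (hW : ∀ x ∈ W, φ x = 0) : tv φ v ∈ fixer W := by
  intro x hx
  rw [tv_apply h, hW x hx, zero_smul, add_zero]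

/-- The trivial complete structure. -/
theorem cs_bot (H : Subgroup (V ≃ₗ[F] V)) : CS H (⊥ : Submodule F V) ⊤ where
  compl := isCompl_bot_top
  cen := fun _ hs hs0 => absurd ((Submodule.mem_bot F).1 hs) hs0
  ax_N := fun _ hs hs0 => absurd ((Submodule.mem_bot F).1 hs) hs0
  all := fun _ _ => Or.inr Submodule.mem_top
  type := Or.inl (fun _ hs hs0 => absurd ((Submodule.mem_bot F).1 hs) hs0)

/-- (a) An axis at a center in `N` kills `S`. -/
theorem cs_ax_S [FiniteDimensional F V] (hH : Hyp H) (hcs : CS H S N) {z : V} (hz : z ∈ N)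
    (hz0 : z ≠ 0) {ψ : Dual F V} (hψ : Rl H ψ z) : ∀ s ∈ S, ψ s = 0 := by
  intro s hs
  by_contra hne
  have hs0 : s ≠ 0 := by
    rintro rfl
    exact hne (map_zero ψ)
  have hψ0 : ψ ≠ 0 := by
    rintro rfl
    exact hne rfl
  have hzc : IsC H z := IsC.of_Rl hψ hψ0 hz0
  have hsc : IsC H s := hcs.cen s hs hs0
  obtain ⟨φ, hφ, hφz⟩ := hH.arr_symm hzc hsc ⟨ψ, hψ, hne⟩
  exact hφz (hcs.ax_N s hs hs0 φ hφ z hz)

/-- (b) Two complete structures whose `S`-parts meet nontrivially have comparable `S`-parts. -/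
theorem cs_le_of_inter (hcs : CS H S N) (hcs' : CS H S' N') {x : V} (hx : x ∈ S) (hx' : x ∈ S')
    (hx0 : x ≠ 0) : S ≤ S' := by
  intro s hs
  by_contra hs'
  have hs0 : s ≠ 0 := by
    rintro rfl
    exact hs' S'.zero_mem
  have hsN : s ∈ N' := by
    rcases hcs'.all s (hcs.cen s hs hs0) with h | h
    · exact absurd h hs'
    · exact h
  have hsx : s + x ∈ S := S.add_mem hs hx
  have hsx0 : s + x ≠ 0 := by
    intro h0
    apply hs'
    have : s = -x := eq_neg_of_add_eq_zero_left h0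
    rw [this]
    exact S'.neg_mem hx'
  rcases hcs'.all (s + x) (hcs.cen _ hsx hsx0) with h | h
  · apply hs'
    have : s = (s + x) - x := by abel
    rw [this]
    exact S'.sub_mem h hx'
  · have h1 : x ∈ N' := by
      have : x = (s + x) - s := by abel
      rw [this]
      exact N'.sub_mem h hsN
    have h2 : x ∈ S' ⊓ N' := ⟨hx', h1⟩
    rw [hcs'.compl.inf_eq_bot] at h2
    exact hx0 ((Submodule.mem_bot F).1 h2)

/-- (c) Distinct `S`-parts lie in each other's `N`-parts. -/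
theorem cs_le_N_of_ne (hcs : CS H S N) (hcs' : CS H S' N') (hne : S ≠ S') : S ≤ N' := by
  intro s hs
  by_cases hs0 : s = 0
  · rw [hs0]; exact N'.zero_mem
  rcases hcs'.all s (hcs.cen s hs hs0) with h | h
  · exact absurd (le_antisymm (cs_le_of_inter hcs hcs' hs h hs0) (cs_le_of_inter hcs' hcs h hs hs0)) hne
  · exact h

/-- (d) `H` stabilizes `S` and `N`. -/
theorem cs_le_stab [FiniteDimensional F V] (hH : Hyp H) (hcs : CS H S N) :
    H ≤ stab S ⊓ stab N := by
  refine hH.gen.le.trans ?_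
  rw [Subgroup.closure_le]
  rintro g ⟨φ, v, hφv, rfl⟩
  by_cases hφ : φ = 0
  · rw [hφ, tv_zero_left]; exact Subgroup.one_mem _
  by_cases hv : v = 0
  · rw [hv, tv_zero_right]; exact Subgroup.one_mem _
  have hvc : IsC H v := IsC.of_Rl hφv hφ hv
  rcases hcs.all v hvc with h | h
  · exact ⟨tv_mem_stab_of_center hφv.1 h,
      tv_mem_stab_of_axis hφv.1 (hcs.ax_N v h hv φ hφv)⟩
  · exact ⟨tv_mem_stab_of_axis hφv.1 (cs_ax_S hH hcs h hv hφv), tv_mem_stab_of_center hφv.1 h⟩

/-- (e) `KS H S` fixes `N` pointwise. -/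
theorem cs_KS_le_fixer (hcs : CS H S N) : KS H S ≤ fixer N := by
  rw [KS, Subgroup.closure_le]
  rintro g ⟨φ, s, hs, hφ, rfl⟩
  by_cases hs0 : s = 0
  · rw [hs0, tv_zero_right]; exact Subgroup.one_mem _
  exact tv_mem_fixer_of_axis hφ.1 (hcs.ax_N s hs hs0 φ hφ)

/-- (f) `KS H S` is normal in `H`. -/
theorem cs_KS_normal [FiniteDimensional F V] (hH : Hyp H) (hcs : CS H S N) :
    ((KS H S).subgroupOf H).Normal := by
  constructor
  intro k hk h
  rw [Subgroup.mem_subgroupOf] at hk ⊢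
  have hh : (h : V ≃ₗ[F] V) ∈ H := h.2
  have key : KS H S ≤ (KS H S).comap (MulAut.conj (h : V ≃ₗ[F] V)).toMonoidHom := by
    rw [KS, Subgroup.closure_le]
    rintro g ⟨φ, s, hs, hφ, rfl⟩
    rw [SetLike.mem_coe, Subgroup.mem_comap]
    change (h : V ≃ₗ[F] V) * tv φ s * (h : V ≃ₗ[F] V)⁻¹ ∈ _
    rw [tv_conj _ hφ.1]
    have h1 : (h : V ≃ₗ[F] V) s ∈ S := ((cs_le_stab hH hcs hh).1 s).1 hs
    have h2 := hφ.conj hh
    exact Subgroup.subset_closure ⟨_, _, h1, h2, rfl⟩
  have := key hk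
  rw [Subgroup.mem_comap] at this
  simpa using this

/-- (g) `KS H S` and `KS H S'` commute for `S ≠ S'`. -/
theorem cs_KS_commute (hcs : CS H S N) (hcs' : CS H S' N') (hne : S ≠ S') :
    ∀ a ∈ KS H S, ∀ b ∈ KS H S', a * b = b * a := by
  have hSN' : S ≤ N' := cs_le_N_of_ne hcs hcs' hne
  have hS'N : S' ≤ N := cs_le_N_of_ne hcs' hcs (Ne.symm hne)
  have key : KS H S' ≤ Subgroup.centralizer (KS H S : Set (V ≃ₗ[F] V)) := by
    rw [KS, Subgroup.closure_le]
    rintro g' ⟨ψ, s', hs', hψ, rfl⟩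
    rw [SetLike.mem_coe, Subgroup.mem_centralizer_iff]
    intro a ha
    have h1 : KS H S ≤ Subgroup.centralizer ({tv ψ s'} : Set (V ≃ₗ[F] V)) := by
      rw [KS, Subgroup.closure_le]
      rintro g ⟨φ, s, hs, hφ, rfl⟩
      rw [SetLike.mem_coe, Subgroup.mem_centralizer_iff]
      intro y hy
      rw [Set.mem_singleton_iff] at hy
      subst hy
      by_cases hs0 : s = 0
      · rw [hs0, tv_zero_right, mul_one, one_mul]
      by_cases hs0' : s' = 0
      · rw [hs0', tv_zero_right, mul_one, one_mul]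
      have h2 : φ s' = 0 := hcs.ax_N s hs hs0 φ hφ s' (hS'N hs')
      have h3 : ψ s = 0 := hcs'.ax_N s' hs' hs0' ψ hψ s (hSN' hs)
      exact (tv_commute hφ.1 hψ.1 h2 h3).symm
    have := h1 ha
    rw [Subgroup.mem_centralizer_iff] at this
    exact (this _ rfl).symm
  intro a ha b hb
  have := key hb
  rw [Subgroup.mem_centralizer_iff] at this
  exact this a ha

end Cfsg.Agent.Helper9.McL
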