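import Mathlib

set_option autoImplicit false

namespace Cfsg.Agent.Helper9

/-- The cyclic group generated by an element of 2-power order is a 2-group. -/
theorem isPGroup_zpowers_of_orderOf {G : Type*} [Group G] (v : G) (hv : ∃ k : ℕ, orderOf v = 2 ^ k) :
    IsPGroup 2 (Subgroup.zpowers v) := by
  have : Fact (Nat.Prime 2) := ⟨Nat.prime_two⟩
  obtain ⟨k, hk⟩ := hv
  exact IsPGroup.of_card (n := k) (by rw [Nat.card_zpowers, hk])

/-- Inside a subgroup `C`, every 2-element is `C`-conjugate into a given Sylow 2-subgroup of `C`. -/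
theorem conj_into_sylow_of_subgroup {G : Type*} [Group G] [Finite G] (C : Subgroup G)
    (P : Sylow 2 C) (v : G) (hv : v ∈ C) (hv2 : ∃ k : ℕ, orderOf v = 2 ^ k) :
    ∃ c ∈ C, c * v * c⁻¹ ∈ (P : Subgroup C).map C.subtype := by
  have : Fact (Nat.Prime 2) := ⟨Nat.prime_two⟩
  have hv2' : ∃ k : ℕ, orderOf (⟨v, hv⟩ : C) = 2 ^ k := by
    obtain ⟨k, hk⟩ := hv2
    exact ⟨k, by rw [Subgroup.orderOf_mk, hk]⟩
  obtain ⟨P', hP'⟩ := IsPGroup.exists_le_sylow (isPGroup_zpowers_of_orderOf (⟨v, hv⟩ : C) hv2')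
  obtain ⟨c, hc⟩ := MulAction.exists_smul_eq C P' P
  refine ⟨c, c.2, ⟨c * ⟨v, hv⟩ * c⁻¹, ?_, rfl⟩⟩
  have hvP' : (⟨v, hv⟩ : C) ∈ (P' : Subgroup C) := hP' (Subgroup.mem_zpowers _)
  have : c * ⟨v, hv⟩ * c⁻¹ ∈ ((c • P' : Sylow 2 C) : Subgroup C) := by
    rw [Sylow.coe_subgroup_smul, Subgroup.mem_pointwise_smul_iff_inv_smul_mem]
    rw [MulAut.smul_def, ← map_inv, MulAut.conj_apply, inv_inv]
    have e : c⁻¹ * (c * ⟨v, hv⟩ * c⁻¹) * c = ⟨v, hv⟩ := by group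
    rw [e]; exact hvP'
  rw [hc] at this
  exact this

/-- Inside a subgroup `C`, any two 2-elements `u, v` of `C` can be brought into a common 2-subgroup
of `C` after conjugating `v` by an element of `C`. -/
theorem exists_common_two_subgroup {G : Type*} [Group G] [Finite G] (C : Subgroup G)
    (u v : G) (hu : u ∈ C) (hv : v ∈ C) (hu2 : ∃ k : ℕ, orderOf u = 2 ^ k)
    (hv2 : ∃ k : ℕ, orderOf v = 2 ^ k) :
    ∃ R : Subgroup G, R ≤ C ∧ IsPGroup 2 R ∧ u ∈ R ∧ ∃ c ∈ C, c * v * c⁻¹ ∈ R := by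
  have : Fact (Nat.Prime 2) := ⟨Nat.prime_two⟩
  have hu2' : ∃ k : ℕ, orderOf (⟨u, hu⟩ : C) = 2 ^ k := by
    obtain ⟨k, hk⟩ := hu2
    exact ⟨k, by rw [Subgroup.orderOf_mk, hk]⟩
  obtain ⟨P, hP⟩ := IsPGroup.exists_le_sylow (isPGroup_zpowers_of_orderOf (⟨u, hu⟩ : C) hu2')
  obtain ⟨c, hc, hcv⟩ := conj_into_sylow_of_subgroup C P v hv hv2
  refine ⟨(P : Subgroup C).map C.subtype, ?_, P.isPGroup'.map _, ?_, c, hc, hcv⟩
  · rintro _ ⟨y, _, rfl⟩
    exact y.2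
  · exact ⟨⟨u, hu⟩, hP (Subgroup.mem_zpowers _), rfl⟩

/-- Every 2-subgroup of a finite group is conjugate into a given Sylow 2-subgroup. -/
theorem exists_conj_le_sylow {G : Type*} [Group G] [Finite G] (S : Sylow 2 G) (R : Subgroup G)
    (hR : IsPGroup 2 R) : ∃ k : G, ∀ r ∈ R, k⁻¹ * r * k ∈ (S : Subgroup G) := by
  have : Fact (Nat.Prime 2) := ⟨Nat.prime_two⟩
  obtain ⟨P', hP'⟩ := IsPGroup.exists_le_sylow hR
  obtain ⟨k, hk⟩ := MulAction.exists_smul_eq G S P'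
  refine ⟨k, ?_⟩
  intro r hr
  have h1 : r ∈ ((k • S : Sylow 2 G) : Subgroup G) := by rw [hk]; exact hP' hr
  rw [Sylow.coe_subgroup_smul, Subgroup.mem_pointwise_smul_iff_inv_smul_mem] at h1
  rw [MulAut.smul_def, ← map_inv, MulAut.conj_apply, inv_inv] at h1
  exact h1

end Cfsg.Agent.Helper9
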