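import Mathlib

set_option autoImplicit false

/-!
# Subgroups of order six in `Sym 4` are conjugate
-/

namespace Cfsg.Agent.Helper9.S4Six

open Equiv

/-- the set of elements normalising `{σ, σ²}`. -/
def s6Set (σ : Perm (Fin 4)) : Finset (Perm (Fin 4)) :=
  Finset.univ.filter (fun g => g * σ * g⁻¹ = σ ∨ g * σ * g⁻¹ = σ ^ 2)

set_option maxRecDepth 100000 in
theorem s6Set_card : ∀ σ : Perm (Fin 4), σ ^ 3 = 1 → σ ≠ 1 → (s6Set σ).card = 6 := by
  decide

/-- a fixed three-cycle. -/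
def s6c : Perm (Fin 4) := c[0, 1, 2]

set_option maxRecDepth 100000 in
theorem s6_conj0 : ∀ σ : Perm (Fin 4), σ ^ 3 = 1 → σ ≠ 1 →
    ∃ g : Perm (Fin 4), g * s6c * g⁻¹ = σ := by
  decide

theorem s6_conj (σ σ' : Perm (Fin 4)) (h1 : σ ^ 3 = 1) (h2 : σ ≠ 1) (h3 : σ' ^ 3 = 1)
    (h4 : σ' ≠ 1) : ∃ g : Perm (Fin 4), g * σ * g⁻¹ = σ' := by
  obtain ⟨a, ha⟩ := s6_conj0 σ h1 h2
  obtain ⟨b, hb⟩ := s6_conj0 σ' h3 h4
  refine ⟨b * a⁻¹, ?_⟩
  rw [← ha, ← hb]
  group

theorem mem_s6Set (σ g : Perm (Fin 4)) :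
    g ∈ s6Set σ ↔ (g * σ * g⁻¹ = σ ∨ g * σ * g⁻¹ = σ ^ 2) := by
  simp [s6Set]

/-- a subgroup of order six is the normaliser of one of its three-cycles. -/
theorem exists_eq_s6Set (H : Subgroup (Perm (Fin 4))) (hH : Nat.card H = 6) :
    ∃ σ : Perm (Fin 4), σ ^ 3 = 1 ∧ σ ≠ 1 ∧ (H : Set (Perm (Fin 4))) = (s6Set σ : Set _) := by
  haveI : Fact (Nat.Prime 3) := ⟨by norm_num⟩
  obtain ⟨τ, hτ⟩ := exists_prime_orderOf_dvd_card' (G := H) 3 (by rw [hH]; norm_num)
  have hτ3 : τ ^ 3 = 1 := by rw [← hτ]; exact pow_orderOf_eq_one τ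
  have hτ1 : τ ≠ 1 := by
    intro h
    rw [h, orderOf_one] at hτ
    omega
  -- the cyclic subgroup has index two, so is normal
  have hZc : Nat.card (Subgroup.zpowers τ) = 3 := by rw [Nat.card_zpowers, hτ]
  have hidx : (Subgroup.zpowers τ).index = 2 := by
    have := Subgroup.card_mul_index (Subgroup.zpowers τ)
    rw [hZc, hH] at this
    omega
  haveI hnorm : (Subgroup.zpowers τ).Normal := Subgroup.normal_of_index_eq_two hidx
  refine ⟨(τ : Perm (Fin 4)), ?_, ?_, ?_⟩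
  · have := congrArg Subtype.val hτ3
    simpa using this
  · intro h
    apply hτ1
    exact Subtype.ext h
  · apply Set.eq_of_subset_of_ncard_le
    · intro h hh
      rw [Finset.mem_coe, mem_s6Set]
      have hc : (⟨h, hh⟩ : H) * τ * (⟨h, hh⟩ : H)⁻¹ ∈ Subgroup.zpowers τ :=
        hnorm.conj_mem τ (Subgroup.mem_zpowers τ) ⟨h, hh⟩
      rw [← mem_powers_iff_mem_zpowers, mem_powers_iff_mem_range_orderOf, hτ] at hc
      simp only [Finset.mem_image, Finset.mem_range] at hc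
      obtain ⟨k, hk, hke⟩ := hc
      have hke' := congrArg Subtype.val hke
      simp only [Subgroup.coe_mul, Subgroup.coe_pow, Subgroup.coe_inv] at hke'
      interval_cases k
      · exfalso
        apply hτ1
        rw [pow_zero] at hke
        have : τ = (⟨h, hh⟩ : H)⁻¹ * ((⟨h, hh⟩ : H) * τ * (⟨h, hh⟩ : H)⁻¹) * (⟨h, hh⟩ : H) := by
          group
        rw [this, ← hke]
        group
      · left
        rw [← hke', pow_one]
      · right
        rw [← hke']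
    · rw [Set.ncard_coe_finset, s6Set_card _ (by simpa using congrArg Subtype.val hτ3)
        (fun h => hτ1 (Subtype.ext h))]
      have : (H : Set (Perm (Fin 4))).ncard = Nat.card H := (Nat.card_coe_set_eq _).symm
      rw [this, hH]
    · exact Set.toFinite _

/-- any two subgroups of order six of `Sym 4` are conjugate. -/
theorem conj_of_card_six (H H' : Subgroup (Perm (Fin 4))) (hH : Nat.card H = 6)
    (hH' : Nat.card H' = 6) :
    ∃ x : Perm (Fin 4), ∀ y, y ∈ H' ↔ x⁻¹ * y * x ∈ H := by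
  obtain ⟨σ, h1, h2, h3⟩ := exists_eq_s6Set H hH
  obtain ⟨σ', h1', h2', h3'⟩ := exists_eq_s6Set H' hH'
  obtain ⟨g, hg⟩ := s6_conj σ σ' h1 h2 h1' h2'
  refine ⟨g, fun y => ?_⟩
  have e1 : y ∈ H' ↔ y ∈ s6Set σ' := by
    rw [← SetLike.mem_coe, h3', Finset.mem_coe]
  have e2 : g⁻¹ * y * g ∈ H ↔ g⁻¹ * y * g ∈ s6Set σ := by
    rw [← SetLike.mem_coe, h3, Finset.mem_coe]
  have e3 : g⁻¹ * y * g * σ * (g⁻¹ * y * g)⁻¹ = g⁻¹ * (y * (g * σ * g⁻¹) * y⁻¹) * g := by
    group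
  have e4 : ∀ a b : Perm (Fin 4), g⁻¹ * a * g = b ↔ a = g * b * g⁻¹ := by
    intro a b
    constructor
    · intro h
      rw [← h]; group
    · intro h
      rw [h]; group
  rw [e1, e2, mem_s6Set, mem_s6Set, e3, e4, e4, ← hg, conj_pow]

/-- the same in any group isomorphic to `Sym 4`. -/
theorem conj_of_card_six' {Q : Type*} [Group Q] (f : Q ≃* Perm (Fin 4)) (H H' : Subgroup Q)
    (hH : Nat.card H = 6) (hH' : Nat.card H' = 6) :
    ∃ x : Q, ∀ y, y ∈ H' ↔ x⁻¹ * y * x ∈ H := by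
  have h1 : Nat.card (H.map f.toMonoidHom) = 6 := by
    rw [Subgroup.card_map_of_injective f.injective]; exact hH
  have h2 : Nat.card (H'.map f.toMonoidHom) = 6 := by
    rw [Subgroup.card_map_of_injective f.injective]; exact hH'
  obtain ⟨g, hg⟩ := conj_of_card_six _ _ h1 h2
  refine ⟨f.symm g, fun y => ?_⟩
  have := hg (f y)
  rw [Subgroup.mem_map_equiv, Subgroup.mem_map_equiv, MulEquiv.symm_apply_apply, map_mul,
    map_mul, map_inv, MulEquiv.symm_apply_apply] at this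
  exact this

end Cfsg.Agent.Helper9.S4Six
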