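import Mathlib

set_option autoImplicit false

/-!
The orders of the permutations of eight points are `1, 2, 3, 4, 5, 6, 7, 8, 10, 12, 15`.
-/

namespace Cfsg.Agent.Helper9.S8

/-- the least common multiples of numbers, each at least two, with sum at most a bound. -/
def lcmSet (B : ℕ) : Finset ℕ :=
  if B < 2 then {1} else if B = 2 then {1, 2} else if B = 3 then {1, 2, 3}
  else if B = 4 then {1, 2, 3, 4} else if B = 5 then {1, 2, 3, 4, 5, 6}
  else if B = 6 then {1, 2, 3, 4, 5, 6} else if B = 7 then {1, 2, 3, 4, 5, 6, 7, 10, 12}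
  else {1, 2, 3, 4, 5, 6, 7, 8, 10, 12, 15}

theorem one_mem : ∀ B : Fin 9, 1 ∈ lcmSet B.val := by decide

theorem lcm_mem : ∀ B : Fin 9, ∀ a : Fin 9, 2 ≤ a.val → a.val ≤ B.val →
    ∀ l ∈ lcmSet (B.val - a.val), Nat.lcm a.val l ∈ lcmSet B.val := by decide

theorem multiset_lcm_mem (m : Multiset ℕ) : ∀ B : ℕ, B ≤ 8 → (∀ n ∈ m, 2 ≤ n) → m.sum ≤ B →
    m.lcm ∈ lcmSet B := by
  induction m using Multiset.induction_on with
  | empty =>
    intro B hB _ _
    rw [Multiset.lcm_zero]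
    exact one_mem ⟨B, by omega⟩
  | cons a m ih =>
    intro B hB h2 hs
    rw [Multiset.sum_cons] at hs
    have ha : 2 ≤ a := h2 a (Multiset.mem_cons_self a m)
    have h3 := ih (B - a) (by omega) (fun n hn => h2 n (Multiset.mem_cons_of_mem hn)) (by omega)
    rw [Multiset.lcm_cons]
    have hab : a ≤ B := by omega
    exact lcm_mem ⟨B, by omega⟩ ⟨a, by omega⟩ ha hab _ h3

/-- the orders. -/
def ordSet : Finset ℕ := {1, 2, 3, 4, 5, 6, 7, 8, 10, 12, 15}

theorem orderOf_mem (σ : Equiv.Perm (Fin 8)) : orderOf σ ∈ ordSet := by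
  rw [← Equiv.Perm.lcm_cycleType]
  have h := multiset_lcm_mem σ.cycleType 8 le_rfl
    (fun n hn => Equiv.Perm.two_le_of_mem_cycleType hn) (by
      rw [Equiv.Perm.sum_cycleType]
      exact (Finset.card_le_univ _).trans (by rw [Fintype.card_fin]))
  exact h

theorem ord_of (σ : Equiv.Perm (Fin 8)) (n : ℕ) (hn : 0 < n) (h1 : σ ^ n = 1)
    (h2 : ∀ m < n, 0 < m → σ ^ m ≠ 1) : orderOf σ = n := (orderOf_eq_iff hn).2 ⟨h1, h2⟩

/-- a cycle on the first points. -/
def cyc (k : ℕ) : Equiv.Perm (Fin 8) :=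
  ((List.range k).map (fun i => Equiv.swap (Fin.ofNat 8 i) (Fin.ofNat 8 (i + 1)))).prod

/-- a cycle on the points from a given one. -/
def cycFrom (s k : ℕ) : Equiv.Perm (Fin 8) :=
  ((List.range k).map (fun i => Equiv.swap (Fin.ofNat 8 (s + i)) (Fin.ofNat 8 (s + i + 1)))).prod

set_option maxRecDepth 1000000 in
set_option maxHeartbeats 0 in
theorem exists_orderOf : ∀ n ∈ ordSet, ∃ σ : Equiv.Perm (Fin 8), orderOf σ = n := by
  intro n hn
  unfold ordSet at hn
  simp only [Finset.mem_insert, Finset.mem_singleton] at hn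
  rcases hn with rfl | rfl | rfl | rfl | rfl | rfl | rfl | rfl | rfl | rfl | rfl
  · exact ⟨1, orderOf_one⟩
  · exact ⟨cyc 1, ord_of _ 2 (by decide) (by decide +kernel) (by decide +kernel)⟩
  · exact ⟨cyc 2, ord_of _ 3 (by decide) (by decide +kernel) (by decide +kernel)⟩
  · exact ⟨cyc 3, ord_of _ 4 (by decide) (by decide +kernel) (by decide +kernel)⟩
  · exact ⟨cyc 4, ord_of _ 5 (by decide) (by decide +kernel) (by decide +kernel)⟩
  · exact ⟨cyc 5, ord_of _ 6 (by decide) (by decide +kernel) (by decide +kernel)⟩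
  · exact ⟨cyc 6, ord_of _ 7 (by decide) (by decide +kernel) (by decide +kernel)⟩
  · exact ⟨cyc 7, ord_of _ 8 (by decide) (by decide +kernel) (by decide +kernel)⟩
  · exact ⟨cyc 4 * cycFrom 5 1, ord_of _ 10 (by decide) (by decide +kernel) (by decide +kernel)⟩
  · exact ⟨cyc 3 * cycFrom 4 2, ord_of _ 12 (by decide) (by decide +kernel) (by decide +kernel)⟩
  · exact ⟨cyc 4 * cycFrom 5 2, ord_of _ 15 (by decide) (by decide +kernel) (by decide +kernel)⟩

theorem range_orderOf : Set.range (orderOf : Equiv.Perm (Fin 8) → ℕ) = (ordSet : Set ℕ) := by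
  ext n
  constructor
  · rintro ⟨σ, rfl⟩
    exact orderOf_mem σ
  · intro hn
    exact exists_orderOf n hn

end Cfsg.Agent.Helper9.S8
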