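import Mathlib
import Cfsg.Prelude.Def_BaumannBlocks
import Cfsg.Agent.Helper9.BBF
import Cfsg.Agent.Helper5.SBDef
import Cfsg.Agent.Helper4.SubnormalPRad

set_option autoImplicit false

/-!
Helper9, S2986 piece D2 (for helper5): instantiation of the abstract block interface `Helper5.SB.Blk` by a subnormal
`B(T)`-block of a group of characteristic `p`. Part A: the ambient data and generic lemmas on the map `E → E / O_p(E)`.
-/

namespace Cfsg.Agent.Helper9.SBD2

open Cfsg.Agent.Helper9.BB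
open Cfsg.Agent.Helper5.SB
open scoped commutatorElement

universe u

variable {G : Type u} [Group G]

/-- the ambient data of a group of characteristic `p`. -/
theorem amb_of_char [Finite G] {p : ℕ} [Fact p.Prime]
    (hG : Subgroup.centralizer (Cfsg.pCore p G : Set G) ≤ Cfsg.pCore p G) :
    Amb p (Cfsg.pCore p G) (Cfsg.omegaOneCenter p (Cfsg.pCore p G)) where
  Pn := Cfsg.Agent.Helper9.pCore_normal
  Pp := Cfsg.Agent.Helper9.pCore_isPGroup
  CP := hG
  Mn := by
    haveI : (Cfsg.pCore p G).Normal := Cfsg.Agent.Helper9.pCore_normal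
    rw [← Subgroup.normalizer_eq_top_iff, eq_top_iff]
    intro g _
    exact normalizer_le_omegaOneCenter p _ (le_normalizer_of_normal ⊤ (Cfsg.pCore p G) (Subgroup.mem_top g))
  MP := omegaOneCenter_le_self p _
  Mc := by
    rw [Subgroup.le_centralizer_iff]
    exact omegaOneCenter_le_centralizer p _
  Mexp := fun _ hx => omegaOneCenter_pow hx

theorem pCoreOf_le_self (p : ℕ) (E : Subgroup G) : Cfsg.pCoreOf p E ≤ E := by
  unfold Cfsg.pCoreOf
  rintro _ ⟨x, -, rfl⟩
  exact x.2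

theorem mem_pCoreOf_iff {p : ℕ} {E : Subgroup G} (e : ↥E) :
    (e : G) ∈ Cfsg.pCoreOf p E ↔ e ∈ Cfsg.pCore p ↥E := by
  unfold Cfsg.pCoreOf
  constructor
  · rintro ⟨x, hx, hxe⟩
    have : x = e := Subtype.ext hxe
    rwa [← this]
  · intro h
    exact ⟨e, h, rfl⟩

theorem pCoreOf_isPGroup {p : ℕ} [Fact p.Prime] (E : Subgroup G) : IsPGroup p (Cfsg.pCoreOf p E) := by
  unfold Cfsg.pCoreOf
  exact (Cfsg.Agent.Helper9.pCore_isPGroup).map _

theorem le_normalizer_pCoreOf (p : ℕ) (E : Subgroup G) :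
    E ≤ Subgroup.normalizer (Cfsg.pCoreOf p E : Set G) :=
  Subgroup.le_normalizer.trans (normalizer_le_pCoreOf p E)

/-- for a subnormal `E`: `E ∩ O_p(G) = O_p(E)`. -/
theorem inf_pCore_eq {p : ℕ} [Fact p.Prime] {E : Subgroup G} (hEs : E.IsSubnormal) :
    E ⊓ Cfsg.pCore p G = Cfsg.pCoreOf p E := by
  apply le_antisymm
  · -- `E ∩ P` is a normal `p`-subgroup of `E`
    intro x hx
    have hxE : x ∈ E := hx.1
    haveI : (Cfsg.pCore p G).Normal := Cfsg.Agent.Helper9.pCore_normal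
    have hn : ((Cfsg.pCore p G).subgroupOf E).Normal := Subgroup.Normal.subgroupOf inferInstance E
    have hpg : IsPGroup p ((Cfsg.pCore p G).subgroupOf E) := by
      have : IsPGroup p (Cfsg.pCore p G) := Cfsg.Agent.Helper9.pCore_isPGroup
      exact this.comap_of_injective E.subtype (Subgroup.subtype_injective E)
    have hle := Cfsg.Agent.Helper9.le_pCore _ hn hpg
    have : (⟨x, hxE⟩ : ↥E) ∈ Cfsg.pCore p ↥E := hle (Subgroup.mem_subgroupOf.2 hx.2)
    exact (mem_pCoreOf_iff ⟨x, hxE⟩).2 this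
  · apply le_inf (pCoreOf_le_self p E)
    apply Cfsg.Agent.Helper4.SubnormalPRad.le_pCore_of_isSubnormal p _ (pCoreOf_isPGroup E)
    refine Subgroup.IsSubnormal.step _ E (pCoreOf_le_self p E) hEs ?_
    rw [Subgroup.normal_subgroupOf_iff_le_normalizer (pCoreOf_le_self p E)]
    exact le_normalizer_pCoreOf p E

/-- a homomorphism from a finite group with range `R ≅ E / N` and `N ≤ ker` has kernel `N`. -/
theorem ker_eq_of_iso {E S' : Type*} [Group E] [Finite E] [Group S'] (ρ : E →* S') (N : Subgroup E) [N.Normal]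
    (R : Subgroup S') (hr : ρ.range = R) (iso : Nonempty (E ⧸ N ≃* ↥R)) (hle : N ≤ ρ.ker) : ρ.ker = N := by
  subst hr
  obtain ⟨iso⟩ := iso
  symm
  apply Subgroup.eq_of_le_of_card_ge hle
  have h1 := Subgroup.card_eq_card_quotient_mul_card_subgroup N
  have h2 := Subgroup.card_eq_card_quotient_mul_card_subgroup ρ.ker
  rw [Nat.card_congr iso.toEquiv] at h1
  rw [Nat.card_congr (QuotientGroup.quotientKerEquivRange ρ).toEquiv] at h2
  haveI : Finite ↥ρ.range := Finite.of_equiv _ (QuotientGroup.quotientKerEquivRange ρ).toEquiv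
  have hpos : 0 < Nat.card ↥ρ.range := Nat.card_pos
  have : Nat.card ↥ρ.range * Nat.card ↥N = Nat.card ↥ρ.range * Nat.card ↥ρ.ker := by rw [← h1, ← h2]
  exact le_of_eq (Nat.eq_of_mul_eq_mul_left hpos this).symm

/-- trivial action on a natural `SL₂`-section forces `ρ e = 1`. -/
theorem sl2_rho_eq_one {F : Type*} [Field F] {E U U₀ : Subgroup G}
    (ρ : ↥E →* Matrix.SpecialLinearGroup (Fin 2) F) (ψ : ↥U →* Multiplicative (Fin 2 → F))
    (hψs : Function.Surjective ψ) (hψk : ∀ u : ↥U, ψ u = 1 ↔ (u : G) ∈ U₀)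
    (heq : ∀ (e : ↥E) (u : ↥U), ∃ w : ↥U, (w : G) = (e : G) * (u : G) * (e : G)⁻¹ ∧
          Multiplicative.toAdd (ψ w) =
            ((ρ e : Matrix.SpecialLinearGroup (Fin 2) F) : Matrix (Fin 2) (Fin 2) F).mulVec
              (Multiplicative.toAdd (ψ u)))
    (e : ↥E) (he : ∀ u ∈ U, ⁅(e : G), u⁆ ∈ U₀) : ρ e = 1 := by
  have key : ∀ v : Fin 2 → F,
      ((ρ e : Matrix.SpecialLinearGroup (Fin 2) F) : Matrix (Fin 2) (Fin 2) F).mulVec v = v := by
    intro v
    obtain ⟨u, hu⟩ := hψs (Multiplicative.ofAdd v)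
    obtain ⟨w, hw1, hw2⟩ := heq e u
    have h1 : ((w * u⁻¹ : ↥U) : G) ∈ U₀ := by
      have := he u u.2
      rw [commutatorElement_def] at this
      rw [Subgroup.coe_mul, hw1, Subgroup.coe_inv]
      exact this
    have h2 : ψ (w * u⁻¹) = 1 := (hψk _).2 h1
    rw [map_mul, map_inv, mul_inv_eq_one] at h2
    rw [h2, hu] at hw2
    exact hw2.symm
  apply Subtype.ext
  apply Matrix.mulVec_injective
  funext v
  rw [key v]
  simp

/-- trivial action on an even-weight permutation section (degree `≥ 3`) forces `ρ e = 1`. -/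
theorem perm_rho_eq_one {n : ℕ} (hn : 3 ≤ n) {E U U₀ : Subgroup G}
    (ρ : ↥E →* Equiv.Perm (Fin n)) (ψ : ↥U →* Multiplicative (Fin n → ZMod 2))
    (hψs : ∀ v : Fin n → ZMod 2, ∑ i, v i = 0 → ∃ u : ↥U, Multiplicative.toAdd (ψ u) = v)
    (hψk : ∀ u : ↥U, ψ u = 1 ↔ (u : G) ∈ U₀)
    (heq : ∀ (e : ↥E) (u : ↥U), ∃ w : ↥U, (w : G) = (e : G) * (u : G) * (e : G)⁻¹ ∧
          ∀ i : Fin n, Multiplicative.toAdd (ψ w) i = Multiplicative.toAdd (ψ u) ((ρ e)⁻¹ i))
    (e : ↥E) (he : ∀ u ∈ U, ⁅(e : G), u⁆ ∈ U₀) : ρ e = 1 := by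
  have key : ∀ v : Fin n → ZMod 2, ∑ i, v i = 0 → ∀ i, v ((ρ e)⁻¹ i) = v i := by
    intro v hv i
    obtain ⟨u, hu⟩ := hψs v hv
    obtain ⟨w, hw1, hw2⟩ := heq e u
    have h1 : ((w * u⁻¹ : ↥U) : G) ∈ U₀ := by
      have := he u u.2
      rw [commutatorElement_def] at this
      rw [Subgroup.coe_mul, hw1, Subgroup.coe_inv]
      exact this
    have h2 : ψ (w * u⁻¹) = 1 := (hψk _).2 h1
    rw [map_mul, map_inv, mul_inv_eq_one] at h2
    have := hw2 i
    rw [h2, hu] at this
    exact this.symm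
  have hinv : (ρ e)⁻¹ = 1 := by
    ext j
    by_contra hne
    have hne' : (ρ e)⁻¹ j ≠ j := fun h => hne (by rw [h]; rfl)
    -- a third point
    obtain ⟨k, hk1, hk2⟩ : ∃ k : Fin n, k ≠ j ∧ k ≠ (ρ e)⁻¹ j := by
      by_contra hcon
      push Not at hcon
      have hsub : (Finset.univ : Finset (Fin n)) ⊆ {j, (ρ e)⁻¹ j} := by
        intro k _
        by_cases hkj : k = j
        · simp [hkj]
        · simp [hcon k hkj]
      have := Finset.card_le_card hsub
      have h2 : ({j, (ρ e)⁻¹ j} : Finset (Fin n)).card ≤ 2 := Finset.card_le_two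
      rw [Finset.card_univ, Fintype.card_fin] at this
      omega
    have hv : ∑ i, (Pi.single j (1 : ZMod 2) + Pi.single k (1 : ZMod 2) : Fin n → ZMod 2) i = 0 := by
      simp only [Pi.add_apply, Finset.sum_add_distrib, Finset.sum_pi_single', Finset.mem_univ, if_true]
      decide
    have := key _ hv j
    simp only [Pi.add_apply, Pi.single_eq_same, Pi.single_eq_of_ne hne', Pi.single_eq_of_ne hk2.symm,
      Pi.single_eq_of_ne hk1.symm] at this
    revert this
    decide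
  rw [inv_eq_one] at hinv
  exact hinv

end Cfsg.Agent.Helper9.SBD2
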