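import Mathlib
import Cfsg.Prelude.Def_BaumannBlocks
import Cfsg.Agent.Helper9.SBD2A

set_option autoImplicit false

/-!
Helper9, S2986 piece D2, part B: transport of the structure of `E / O_p(E)` (given through a surjection `π : E → S`
with kernel `E ∩ P`) to the abstract types `Perf`, `Small2`, `Small3` of `Helper5.SB`.
-/

namespace Cfsg.Agent.Helper9.SBD2

open Cfsg.Agent.Helper9.BB
open Cfsg.Agent.Helper5.SB
open scoped commutatorElement

universe u

variable {G : Type u} [Group G]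

theorem coe_commutatorElement {E : Subgroup G} (a b : ↥E) : ((⁅a, b⁆ : ↥E) : G) = ⁅(a : G), (b : G)⁆ := by
  simp [commutatorElement_def]

/-- `|E| = |S| · |E ∩ P|`. -/
theorem card_of_quot [Finite G] {P E : Subgroup G} {S : Type*} [Group S] (π : ↥E →* S)
    (hπs : Function.Surjective π) (hπk : ∀ e : ↥E, π e = 1 ↔ (e : G) ∈ P) :
    Nat.card E = Nat.card S * Nat.card (E ⊓ P : Subgroup G) := by
  have h1 := Subgroup.card_eq_card_quotient_mul_card_subgroup π.ker
  rw [Nat.card_congr (QuotientGroup.quotientKerEquivOfSurjective π hπs).toEquiv] at h1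
  have h2 : (π.ker).map E.subtype = E ⊓ P := by
    ext x
    constructor
    · rintro ⟨e, he, rfl⟩
      exact ⟨e.2, (hπk e).1 he⟩
    · rintro ⟨hxE, hxP⟩
      exact ⟨⟨x, hxE⟩, (hπk ⟨x, hxE⟩).2 hxP, rfl⟩
  rw [h1, ← h2, Subgroup.card_map_of_injective (Subgroup.subtype_injective E)]

/-- the "perfect type". -/
theorem perf_of_quot [Finite G] {p : ℕ} [Fact p.Prime] {P E : Subgroup G} (hPp : IsPGroup p P)
    (hres : Cfsg.pResidualOf p E = E) {S : Type*} [Group S] (π : ↥E →* S)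
    (hπs : Function.Surjective π) (hπk : ∀ e : ↥E, π e = 1 ↔ (e : G) ∈ P)
    (h1 : commutator S = ⊤) (h2 : ∀ N : Subgroup S, N.Normal → N = ⊤ ∨ N ≤ Subgroup.center S)
    (h3 : ∃ u : S, u ^ p = 1 ∧ u ∉ Subgroup.center S) : Perf p P E := by
  have hEE : ⁅E, E⁆ ≤ E := by
    rw [Subgroup.commutator_le]
    intro a ha b hb
    rw [commutatorElement_def]
    exact E.mul_mem (E.mul_mem (E.mul_mem ha hb) (E.inv_mem ha)) (E.inv_mem hb)
  have hnD : E ≤ Subgroup.normalizer ((⁅E, E⁆ : Subgroup G) : Set G) := le_normalizer_commutator_right E E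
  refine ⟨?_, ?_, ?_⟩
  · -- perfect
    apply le_antisymm hEE
    conv_lhs => rw [← hres]
    rw [pResidualOf_le_iff]
    intro g hg hc
    have hmap : Subgroup.map π (commutator ↥E) = ⊤ := by
      rw [commutator_def, Subgroup.map_commutator, Subgroup.map_top_of_surjective π hπs, ← commutator_def, h1]
    have : π ⟨g, hg⟩ ∈ Subgroup.map π (commutator ↥E) := by rw [hmap]; exact Subgroup.mem_top _
    obtain ⟨d, hd, hdg⟩ := this
    have hdD : (d : G) ∈ ⁅E, E⁆ := by
      rw [← Subgroup.map_subtype_commutator]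
      exact ⟨d, hd, rfl⟩
    -- `q = d⁻¹ g ∈ P`
    have hq : ((d⁻¹ * ⟨g, hg⟩ : ↥E) : G) ∈ P := by
      rw [← hπk, map_mul, map_inv, hdg, inv_mul_cancel]
    have hqE : (d : G)⁻¹ * g ∈ E := E.mul_mem (E.inv_mem d.2) hg
    have hq' : (d : G)⁻¹ * g ∈ P := by simpa using hq
    obtain ⟨k, hk⟩ := hPp ⟨_, hq'⟩
    have hk' : ((d : G)⁻¹ * g) ^ (p ^ k) = 1 := by
      have := congrArg Subtype.val hk
      simpa using this
    -- `g = q * (q⁻¹ d q)`
    have hy : ((d : G)⁻¹ * g)⁻¹ * (d : G) * ((d : G)⁻¹ * g) ∈ ⁅E, E⁆ :=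
      conj_inv_mem_of_mem_normalizer (hnD hqE) hdD
    have hg' : g = ((d : G)⁻¹ * g) * (((d : G)⁻¹ * g)⁻¹ * (d : G) * ((d : G)⁻¹ * g)) := by group
    have hqD : (d : G)⁻¹ * g ∈ ⁅E, E⁆ :=
      mem_of_coprime_mul (hnD hqE) hy hk' (by rw [← hg']; exact hc)
    have : g = (d : G) * ((d : G)⁻¹ * g) := by group
    rw [this]
    exact mul_mem hdD hqD
  · -- normal subgroups
    intro N hNE hEN
    have hNn : (N.subgroupOf E).Normal := (Subgroup.normal_subgroupOf_iff_le_normalizer hNE).2 hEN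
    have hmn : (Subgroup.map π (N.subgroupOf E)).Normal := hNn.map π hπs
    rcases h2 _ hmn with htop | hcen
    · left
      intro e he
      have : π ⟨e, he⟩ ∈ Subgroup.map π (N.subgroupOf E) := by rw [htop]; exact Subgroup.mem_top _
      obtain ⟨n, hn, hne⟩ := this
      have hq : ((n⁻¹ * ⟨e, he⟩ : ↥E) : G) ∈ P := by
        rw [← hπk, map_mul, map_inv, hne, inv_mul_cancel]
      have hq' : (n : G)⁻¹ * e ∈ E ⊓ P := ⟨E.mul_mem (E.inv_mem n.2) he, by simpa using hq⟩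
      have : e = (n : G) * ((n : G)⁻¹ * e) := by group
      rw [this]
      exact mul_mem (Subgroup.mem_sup_left (Subgroup.mem_subgroupOf.1 hn)) (Subgroup.mem_sup_right hq')
    · right
      rw [Subgroup.commutator_le]
      intro n hn e he
      have hc : π ⟨n, hNE hn⟩ ∈ Subgroup.center S :=
        hcen ⟨⟨n, hNE hn⟩, Subgroup.mem_subgroupOf.2 hn, rfl⟩
      have h : π ⁅(⟨n, hNE hn⟩ : ↥E), (⟨e, he⟩ : ↥E)⁆ = 1 := by
        rw [map_commutatorElement, commutatorElement_eq_one_iff_commute]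
        exact ((Subgroup.mem_center_iff.1 hc) _).symm
      have := (hπk _).1 h
      rwa [coe_commutatorElement] at this
  · -- a noncentral `p`-element
    obtain ⟨s, hsp, hsc⟩ := h3
    rw [Subgroup.mem_center_iff] at hsc
    push Not at hsc
    obtain ⟨s', hs'⟩ := hsc
    obtain ⟨u, rfl⟩ := hπs s
    obtain ⟨e, rfl⟩ := hπs s'
    refine ⟨u, u.2, ?_, e, e.2, ?_⟩
    · have h : π (u ^ p) = 1 := by rw [map_pow, hsp]
      have hP : ((u ^ p : ↥E) : G) ∈ P := (hπk _).1 h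
      obtain ⟨k, hk⟩ := hPp ⟨_, hP⟩
      have hk' : ((u : G) ^ p) ^ (p ^ k) = 1 := by
        have := congrArg Subtype.val hk
        simpa using this
      refine ⟨k + 1, ?_⟩
      rw [pow_succ', pow_mul]
      exact hk'
    · intro hmem
      have h : π ⁅u, e⁆ = 1 := by
        rw [hπk, coe_commutatorElement]
        exact hmem
      rw [map_commutatorElement, commutatorElement_eq_one_iff_commute] at h
      exact hs' h.eq.symm

/-- the Q₈-like structure for `Small3`. -/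
theorem tex_of_quot {P E : Subgroup G} {S : Type*} [Group S] (π : ↥E →* S)
    (hπs : Function.Surjective π) (hπk : ∀ e : ↥E, π e = 1 ↔ (e : G) ∈ P)
    (h : ∃ t : S, t ≠ 1 ∧ t * t = 1 ∧ (∀ x, t * x = x * t) ∧
      (∀ x, x = 1 ∨ x = t ∨ x * x = t) ∧ ∃ x y : S, x * y ≠ y * x) :
    ∃ t ∈ E, t ∉ P ∧ t * t ∈ P ∧ (∀ e ∈ E, ⁅t, e⁆ ∈ P) ∧
      (∀ x ∈ E, x ∈ P ∨ x * t⁻¹ ∈ P ∨ x * x * t⁻¹ ∈ P) ∧ ∃ x ∈ E, ∃ y ∈ E, ⁅x, y⁆ ∉ P := by
  obtain ⟨t, ht1, htt, htc, hx, x, y, hxy⟩ := h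
  obtain ⟨t₀, rfl⟩ := hπs t
  obtain ⟨x₀, rfl⟩ := hπs x
  obtain ⟨y₀, rfl⟩ := hπs y
  refine ⟨t₀, t₀.2, ?_, ?_, ?_, ?_, x₀, x₀.2, y₀, y₀.2, ?_⟩
  · intro hmem
    exact ht1 ((hπk _).2 hmem)
  · have : π (t₀ * t₀) = 1 := by rw [map_mul, htt]
    have := (hπk _).1 this
    simpa using this
  · intro e he
    have : π ⁅t₀, (⟨e, he⟩ : ↥E)⁆ = 1 := by
      rw [map_commutatorElement, commutatorElement_eq_one_iff_commute]
      exact htc _
    have := (hπk _).1 this
    rwa [coe_commutatorElement] at this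
  · intro x hxE
    rcases hx (π ⟨x, hxE⟩) with h | h | h
    · left
      exact (hπk _).1 h
    · right; left
      have : π (⟨x, hxE⟩ * t₀⁻¹) = 1 := by rw [map_mul, map_inv, h, mul_inv_cancel]
      have := (hπk _).1 this
      simpa using this
    · right; right
      have : π (⟨x, hxE⟩ * ⟨x, hxE⟩ * t₀⁻¹) = 1 := by rw [map_mul, map_mul, map_inv, h, mul_inv_cancel]
      have := (hπk _).1 this
      simpa using this
  · intro hmem
    have h : π ⁅x₀, y₀⁆ = 1 := by
      rw [hπk, coe_commutatorElement]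
      exact hmem
    rw [map_commutatorElement, commutatorElement_eq_one_iff_commute] at h
    exact hxy h.eq

/-- `|U| = |F|² · |U₀|` for a natural `SL₂`-section. -/
theorem card_of_sl2 [Finite G] {F : Type*} [Field F] [Fintype F] {U U₀ : Subgroup G} (hU₀ : U₀ ≤ U)
    (ψ : ↥U →* Multiplicative (Fin 2 → F))
    (hψs : Function.Surjective ψ) (hψk : ∀ u : ↥U, ψ u = 1 ↔ (u : G) ∈ U₀) :
    Nat.card U = Fintype.card F ^ 2 * Nat.card U₀ := by
  have h1 := Subgroup.card_eq_card_quotient_mul_card_subgroup ψ.ker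
  rw [Nat.card_congr (QuotientGroup.quotientKerEquivOfSurjective ψ hψs).toEquiv] at h1
  have h2 : (ψ.ker).map U.subtype = U₀ := by
    ext x
    constructor
    · rintro ⟨e, he, rfl⟩
      exact (hψk e).1 he
    · intro hx
      exact ⟨⟨x, hU₀ hx⟩, (hψk ⟨x, hU₀ hx⟩).2 hx, rfl⟩
  have h3 : Nat.card (Multiplicative (Fin 2 → F)) = Fintype.card F ^ 2 := by
    show Nat.card (Fin 2 → F) = _
    rw [Nat.card_fun, Nat.card_eq_fintype_card, Nat.card_eq_fintype_card, Fintype.card_fin]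
  rw [h1, h3, ← h2, Subgroup.card_map_of_injective (Subgroup.subtype_injective U)]

/-- `|U| = 4 · |U₀|` for an even-weight permutation section of degree `3`. -/
theorem card_of_perm3 [Finite G] {U U₀ : Subgroup G} (hU₀ : U₀ ≤ U)
    (ψ : ↥U →* Multiplicative (Fin 3 → ZMod 2))
    (hψe : ∀ u : ↥U, ∑ i, Multiplicative.toAdd (ψ u) i = 0)
    (hψs : ∀ v : Fin 3 → ZMod 2, ∑ i, v i = 0 → ∃ u : ↥U, Multiplicative.toAdd (ψ u) = v)
    (hψk : ∀ u : ↥U, ψ u = 1 ↔ (u : G) ∈ U₀) :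
    Nat.card U = 4 * Nat.card U₀ := by
  have h1 := Subgroup.card_eq_card_quotient_mul_card_subgroup ψ.ker
  rw [Nat.card_congr (QuotientGroup.quotientKerEquivRange ψ).toEquiv] at h1
  have h2 : (ψ.ker).map U.subtype = U₀ := by
    ext x
    constructor
    · rintro ⟨e, he, rfl⟩
      exact (hψk e).1 he
    · intro hx
      exact ⟨⟨x, hU₀ hx⟩, (hψk ⟨x, hU₀ hx⟩).2 hx, rfl⟩
  have h3 : Nat.card ↥ψ.range = 4 := by
    have e : ↥ψ.range ≃ {v : Fin 3 → ZMod 2 // ∑ i, v i = 0} :=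
      { toFun := fun x => ⟨Multiplicative.toAdd (x : Multiplicative (Fin 3 → ZMod 2)), by
          obtain ⟨u, hu⟩ := x.2
          rw [← hu]; exact hψe u⟩
        invFun := fun v => ⟨Multiplicative.ofAdd v.1, by
          obtain ⟨u, hu⟩ := hψs v.1 v.2
          exact ⟨u, by rw [← hu]; rfl⟩⟩
        left_inv := fun x => by ext; rfl
        right_inv := fun v => by ext; rfl }
    rw [Nat.card_congr e, Nat.card_eq_fintype_card]
    decide
  rw [h1, h3, ← h2, Subgroup.card_map_of_injective (Subgroup.subtype_injective U)]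

end Cfsg.Agent.Helper9.SBD2
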