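import Mathlib
import Cfsg.Prelude.Def_BaumannBlocks
import Cfsg.Agent.Helper9.SBD2B
import Cfsg.Agent.Helper1.SBD3A
import Cfsg.Agent.Helper1.SBD3B
import Cfsg.Agent.Helper1.SBD3C

set_option autoImplicit false

/-!
Helper9, S2986 piece D2, part C: case lemmas (faithfulness, the map `E → E / O_p(E)`).
-/

namespace Cfsg.Agent.Helper9.SBD2

open Cfsg.Agent.Helper9.BB
open Cfsg.Agent.Helper5.SB
open scoped commutatorElement

universe u

variable {G : Type u} [Group G]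

/-- the quotient map `E → S` attached to an isomorphism `E / O_p(E) ≃* S`. -/
theorem exists_quot_map {p : ℕ} [Fact p.Prime] {E : Subgroup G} (hEs : E.IsSubnormal)
    {S : Type*} [Group S] (iso : ↥E ⧸ Cfsg.pCore p ↥E ≃* S) :
    ∃ π : ↥E →* S, Function.Surjective π ∧ ∀ e : ↥E, π e = 1 ↔ (e : G) ∈ Cfsg.pCore p G := by
  refine ⟨iso.toMonoidHom.comp (QuotientGroup.mk' (Cfsg.pCore p ↥E)),
    iso.surjective.comp (QuotientGroup.mk'_surjective _), ?_⟩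
  intro e
  have h1 : (iso.toMonoidHom.comp (QuotientGroup.mk' (Cfsg.pCore p ↥E))) e = 1 ↔
      e ∈ Cfsg.pCore p ↥E := by
    rw [MonoidHom.comp_apply]
    show iso (QuotientGroup.mk' _ e) = 1 ↔ _
    rw [MulEquiv.map_eq_one_iff, QuotientGroup.mk'_apply, QuotientGroup.eq_one_iff]
  rw [h1, ← mem_pCoreOf_iff, ← inf_pCore_eq hEs]
  exact ⟨fun h => h.2, fun h => ⟨e.2, h⟩⟩

/-- faithfulness of `E / O_p(E)` on a natural `SL₂`-section. -/
theorem faith_sl2 [Finite G] {p : ℕ} [Fact p.Prime] {F : Type*} [Field F]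
    {R : Subgroup (Matrix.SpecialLinearGroup (Fin 2) F)} {E U U₀ : Subgroup G}
    (hact : Cfsg.ActsAsSL2OnSection F R E U U₀) (iso : Nonempty (↥E ⧸ Cfsg.pCore p ↥E ≃* ↥R))
    (hQ : ∀ q ∈ Cfsg.pCoreOf p E, ∀ u ∈ U, ⁅q, u⁆ ∈ U₀) :
    ∀ e ∈ E, (∀ u ∈ U, ⁅e, u⁆ ∈ U₀) → e ∈ Cfsg.pCoreOf p E := by
  obtain ⟨-, -, ρ, ψ, hρ, hψs, hψk, heq⟩ := hact
  have hle : Cfsg.pCore p ↥E ≤ ρ.ker := by
    intro q hq
    rw [MonoidHom.mem_ker]
    exact sl2_rho_eq_one ρ ψ hψs hψk heq q (hQ _ ((mem_pCoreOf_iff q).2 hq))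
  have hker := ker_eq_of_iso ρ (Cfsg.pCore p ↥E) R hρ iso hle
  intro e he htriv
  have h1 : ρ ⟨e, he⟩ = 1 := sl2_rho_eq_one ρ ψ hψs hψk heq ⟨e, he⟩ htriv
  have h2 : (⟨e, he⟩ : ↥E) ∈ Cfsg.pCore p ↥E := by
    rw [← hker, MonoidHom.mem_ker]; exact h1
  exact (mem_pCoreOf_iff ⟨e, he⟩).2 h2

/-- faithfulness of `E / O_p(E)` on an even-weight permutation section. -/
theorem faith_perm [Finite G] {p : ℕ} [Fact p.Prime] {n : ℕ} (hn : 3 ≤ n)
    {R : Subgroup (Equiv.Perm (Fin n))} {E U U₀ : Subgroup G}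
    (hact : Cfsg.ActsAsOddPermModuleOnSection n R E U U₀) (iso : Nonempty (↥E ⧸ Cfsg.pCore p ↥E ≃* ↥R))
    (hQ : ∀ q ∈ Cfsg.pCoreOf p E, ∀ u ∈ U, ⁅q, u⁆ ∈ U₀) :
    ∀ e ∈ E, (∀ u ∈ U, ⁅e, u⁆ ∈ U₀) → e ∈ Cfsg.pCoreOf p E := by
  obtain ⟨-, -, ρ, ψ, hρ, -, hψs, hψk, heq⟩ := hact
  have hle : Cfsg.pCore p ↥E ≤ ρ.ker := by
    intro q hq
    rw [MonoidHom.mem_ker]
    exact perm_rho_eq_one hn ρ ψ hψs hψk heq q (hQ _ ((mem_pCoreOf_iff q).2 hq))
  have hker := ker_eq_of_iso ρ (Cfsg.pCore p ↥E) R hρ iso hle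
  intro e he htriv
  have h1 : ρ ⟨e, he⟩ = 1 := perm_rho_eq_one hn ρ ψ hψs hψk heq ⟨e, he⟩ htriv
  have h2 : (⟨e, he⟩ : ↥E) ∈ Cfsg.pCore p ↥E := by
    rw [← hker, MonoidHom.mem_ker]; exact h1
  exact (mem_pCoreOf_iff ⟨e, he⟩).2 h2

/-- `E / O_p(E)` is not trivial. -/
theorem card_quot_ne_one {p : ℕ} [Fact p.Prime] {P E X : Subgroup G} (hPp : IsPGroup p P)
    (hres : Cfsg.pResidualOf p E = E) (hne : ⁅E, X⁆ ≠ ⊥) {S : Type*} [Group S] (π : ↥E →* S)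
    (hπk : ∀ e : ↥E, π e = 1 ↔ (e : G) ∈ P) : Nat.card S ≠ 1 := by
  intro h1
  haveI : Subsingleton S := (Nat.card_eq_one_iff_unique.1 h1).1
  apply hne
  have hEP : E ≤ P := fun e he => (hπk ⟨e, he⟩).1 (Subsingleton.elim _ _)
  have hbot : E ≤ ⊥ := by
    conv_lhs => rw [← hres]
    rw [pResidualOf_le_iff]
    intro g hg hc
    obtain ⟨k, hk⟩ := hPp ⟨g, hEP hg⟩
    have hk' : g ^ (p ^ k) = 1 := by
      have := congrArg Subtype.val hk
      simpa using this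
    have hd : orderOf g ∣ p ^ k := orderOf_dvd_of_pow_eq_one hk'
    have : orderOf g = 1 := Nat.eq_one_of_dvd_coprimes (Nat.Coprime.pow_right k hc) dvd_rfl hd
    rw [Subgroup.mem_bot]
    exact orderOf_eq_one_iff.1 this
  rw [le_bot_iff.1 hbot]
  exact Subgroup.commutator_bot_left X

/-- in a group with `commutator = ⊤`, normal subgroups `⊤` or `⊥`, and an involution: the involution is not central. -/
theorem simple_data {S : Type*} [Group S] (h1 : commutator S = ⊤)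
    (h2 : ∀ N : Subgroup S, N.Normal → N = ⊤ ∨ N = ⊥) (h3 : ∃ u : S, u ≠ 1 ∧ u ^ 2 = 1) :
    (∀ N : Subgroup S, N.Normal → N = ⊤ ∨ N ≤ Subgroup.center S) ∧
      ∃ u : S, u ^ 2 = 1 ∧ u ∉ Subgroup.center S := by
  refine ⟨fun N hN => (h2 N hN).imp id (fun h => by rw [h]; exact bot_le), ?_⟩
  obtain ⟨u, hu1, hu2⟩ := h3
  refine ⟨u, hu2, ?_⟩
  intro hc
  rcases h2 (Subgroup.center S) inferInstance with htop | hbot
  · -- commutative
    have : commutator S = ⊥ := by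
      rw [commutator_def, Subgroup.commutator_eq_bot_iff_le_centralizer]
      intro x _
      rw [Subgroup.mem_centralizer_iff]
      intro y _
      have hy : y ∈ Subgroup.center S := by rw [htop]; exact Subgroup.mem_top _
      exact (Subgroup.mem_center_iff.1 hy x).symm
    rw [h1] at this
    have hu : u ∈ (⊤ : Subgroup S) := Subgroup.mem_top _
    rw [this, Subgroup.mem_bot] at hu
    exact hu1 hu
  · rw [hbot, Subgroup.mem_bot] at hc
    exact hu1 hc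

end Cfsg.Agent.Helper9.SBD2
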