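import Mathlib
import Cfsg.Prelude.Def_BaumannBlocks
import Cfsg.Agent.Helper9.SBD2C

set_option autoImplicit false

/-!
Helper9, S2986 piece D2, part D: the type (`Perf / Small2 / Small3`) and the exceptional kind of a subnormal block.
-/

namespace Cfsg.Agent.Helper9.SBD2

open Cfsg.Agent.Helper9.BB
open Cfsg.Agent.Helper5.SB
open Cfsg.Agent.Helper1.SBD3
open scoped commutatorElement

universe u

variable {G : Type u} [Group G]

theorem prime_eq_of_pow_eq {p n q : ℕ} [hp : Fact p.Prime] (hq : q.Prime) (h : q = p ^ n) : p = q := by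
  have hn : n ≠ 0 := by
    intro h0
    rw [h0, pow_zero] at h
    exact hq.one_lt.ne' h
  have : p ∣ q := by rw [h]; exact dvd_pow_self p hn
  exact (Nat.prime_dvd_prime_iff_eq hp.out hq).1 this

/-- the type of a linear block. -/
theorem type_sl2 [Finite G] {p : ℕ} [Fact p.Prime] {E : Subgroup G} (hEs : E.IsSubnormal)
    (hres : Cfsg.pResidualOf p E = E)
    (F : Type) [Field F] [Fintype F] (n : ℕ) (hcard : Fintype.card F = p ^ n)
    (iso : Nonempty (↥E ⧸ Cfsg.pCore p ↥E ≃* ↥(commutator (Matrix.SpecialLinearGroup (Fin 2) F))))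
    (hact : Cfsg.ActsAsSL2OnSection F (commutator (Matrix.SpecialLinearGroup (Fin 2) F)) E
      (Cfsg.omegaOneCenter p (Cfsg.pCoreOf p E))
      (Cfsg.omegaOneCenter p (Cfsg.pCoreOf p E) ⊓ Subgroup.centralizer (E : Set G)))
    (hcase : Cfsg.pCoreOf p E = Cfsg.omegaOneCenter p (Cfsg.pCoreOf p E) ∨
      Cfsg.ActsAsSL2OnSection F (commutator (Matrix.SpecialLinearGroup (Fin 2) F)) E
        (Cfsg.pCoreOf p E) (Cfsg.omegaOneCenter p (Cfsg.pCoreOf p E))) :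
    Perf p (Cfsg.pCore p G) E ∨
      Small2 p (Cfsg.pCore p G) E (Cfsg.omegaOneCenter p (Cfsg.pCoreOf p E))
        (Cfsg.omegaOneCenter p (Cfsg.pCoreOf p E) ⊓ Subgroup.centralizer (E : Set G)) ∨
      Small3 p (Cfsg.pCore p G) E (Cfsg.omegaOneCenter p (Cfsg.pCoreOf p E))
        (Cfsg.omegaOneCenter p (Cfsg.pCoreOf p E) ⊓ Subgroup.centralizer (E : Set G)) := by
  obtain ⟨iso⟩ := iso
  obtain ⟨π, hπs, hπk⟩ := exists_quot_map hEs iso
  have hinf : E ⊓ Cfsg.pCore p G = Cfsg.pCoreOf p E := inf_pCore_eq hEs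
  have hPp : IsPGroup p (Cfsg.pCore p G) := Cfsg.Agent.Helper9.pCore_isPGroup
  have hidx := card_of_quot π hπs hπk
  obtain ⟨-, hZW, ρ, ψ, -, hψs, hψk, -⟩ := hact
  have hcW := card_of_sl2 hZW ψ hψs hψk
  have h2 : 1 < Fintype.card F := Fintype.one_lt_card
  have h3 : Fintype.card F = 2 ∨ Fintype.card F = 3 ∨ 4 ≤ Fintype.card F := by omega
  rcases h3 with h | h | h
  · right; left
    have hp2 : p = 2 := prime_eq_of_pow_eq Nat.prime_two (h.symm.trans hcard)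
    refine ⟨hp2, ?_, ?_⟩
    · rw [hidx, sl2_two F h]
    · rw [hcW, h]; norm_num
  · right; right
    have hp3 : p = 3 := prime_eq_of_pow_eq Nat.prime_three (h.symm.trans hcard)
    refine ⟨hp3, ?_, ?_, ?_, ?_⟩
    · rw [hidx, (sl2_three F h).1]
    · rw [hcW, h]; norm_num
    · intro hne
      rcases hcase with hc | hact2
      · exact absurd (hinf.trans hc) hne
      · obtain ⟨-, hWQ, ρ₂, ψ₂, -, hψ₂s, hψ₂k, -⟩ := hact2
        have := card_of_sl2 hWQ ψ₂ hψ₂s hψ₂k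
        rw [hinf, this, h]; norm_num
    · exact tex_of_quot π hπs hπk (sl2_three F h).2
  · left
    obtain ⟨k1, k2, k3⟩ := sl2_big F hcard h
    exact perf_of_quot hPp hres π hπs hπk k1 k2 k3

/-- the type of a symmetric block (and the degree is at least `3`). -/
theorem type_alt [Finite G] {p : ℕ} [Fact p.Prime] {E X : Subgroup G} (hEs : E.IsSubnormal)
    (hres : Cfsg.pResidualOf p E = E) (hne : ⁅E, X⁆ ≠ ⊥) (hp2 : p = 2) (m : ℕ)
    (iso : Nonempty (↥E ⧸ Cfsg.pCore p ↥E ≃* ↥(alternatingGroup (Fin (2 * m + 1)))))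
    (hact : Cfsg.ActsAsOddPermModuleOnSection (2 * m + 1) (alternatingGroup (Fin (2 * m + 1))) E
      (Cfsg.omegaOneCenter p (Cfsg.pCoreOf p E))
      (Cfsg.omegaOneCenter p (Cfsg.pCoreOf p E) ⊓ Subgroup.centralizer (E : Set G))) :
    1 ≤ m ∧ (Perf p (Cfsg.pCore p G) E ∨
      Small2 p (Cfsg.pCore p G) E (Cfsg.omegaOneCenter p (Cfsg.pCoreOf p E))
        (Cfsg.omegaOneCenter p (Cfsg.pCoreOf p E) ⊓ Subgroup.centralizer (E : Set G)) ∨
      Small3 p (Cfsg.pCore p G) E (Cfsg.omegaOneCenter p (Cfsg.pCoreOf p E))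
        (Cfsg.omegaOneCenter p (Cfsg.pCoreOf p E) ⊓ Subgroup.centralizer (E : Set G))) := by
  obtain ⟨iso⟩ := iso
  obtain ⟨π, hπs, hπk⟩ := exists_quot_map hEs iso
  have hPp : IsPGroup p (Cfsg.pCore p G) := Cfsg.Agent.Helper9.pCore_isPGroup
  have hidx := card_of_quot π hπs hπk
  have hm : m = 0 ∨ m = 1 ∨ 2 ≤ m := by omega
  rcases hm with rfl | rfl | hm
  · exact absurd alt_small.2 (card_quot_ne_one hPp hres hne π hπk)
  · refine ⟨le_rfl, Or.inr (Or.inl ⟨hp2, ?_, ?_⟩)⟩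
    · rw [hidx, alt_small.1]
    · obtain ⟨-, hZW, ρ, ψ, -, hψe, hψs, hψk, -⟩ := hact
      exact card_of_perm3 hZW ψ hψe hψs hψk
  · refine ⟨by omega, Or.inl ?_⟩
    obtain ⟨k1, k2, k3⟩ := alt_big m hm
    obtain ⟨j2, j3⟩ := simple_data k1 k2 k3
    subst hp2
    exact perf_of_quot hPp hres π hπs hπk k1 j2 j3

/-- the exceptional kind. -/
theorem exc_of [Finite G] {p : ℕ} [Fact p.Prime] {E : Subgroup G} (hEs : E.IsSubnormal) (T : Sylow p G)
    (hEB : ⁅E, Cfsg.baumannSubgroupOf p (T : Subgroup G)⁆ = E)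
    (hQQE : ⁅Cfsg.pCoreOf p E, E⁆ = Cfsg.pCoreOf p E)
    (F : Type) [Field F] [Fintype F] (n : ℕ) (hcard : Fintype.card F = p ^ n)
    (iso : Nonempty (↥E ⧸ Cfsg.pCore p ↥E ≃* ↥(commutator (Matrix.SpecialLinearGroup (Fin 2) F))))
    (hp3 : p = 3)
    (hact2 : Cfsg.ActsAsSL2OnSection F (commutator (Matrix.SpecialLinearGroup (Fin 2) F)) E
        (Cfsg.pCoreOf p E) (Cfsg.omegaOneCenter p (Cfsg.pCoreOf p E)))
    (hRR : ⁅Cfsg.pCoreOf p E, Cfsg.pCoreOf p E⁆ =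
      Cfsg.omegaOneCenter p (Cfsg.pCoreOf p E) ⊓ Subgroup.centralizer (E : Set G))
    (hZE : E ⊓ Subgroup.centralizer (E : Set G) =
      Cfsg.omegaOneCenter p (Cfsg.pCoreOf p E) ⊓ Subgroup.centralizer (E : Set G))
    (hcardZ : Nat.card ↥(E ⊓ Subgroup.centralizer (E : Set G)) = 3 ^ n)
    (hB : ∀ b : G, b ∈ Cfsg.baumannSubgroupOf p (T : Subgroup G) →
      b ∉ Subgroup.centralizer (Cfsg.omegaOneCenter p (Cfsg.pCoreOf p E) : Set G) →
      ¬ ⁅⁅Cfsg.pCoreOf p E, Subgroup.zpowers b⁆, Subgroup.zpowers b⁆ ≤ E ⊓ Subgroup.centralizer (E : Set G)) :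
    Exc p (Cfsg.pCore p G) E (Cfsg.omegaOneCenter p (Cfsg.pCoreOf p E))
      (Cfsg.omegaOneCenter p (Cfsg.pCoreOf p E) ⊓ Subgroup.centralizer (E : Set G))
      (Cfsg.baumannSubgroupOf p (T : Subgroup G)) := by
  have hinf : E ⊓ Cfsg.pCore p G = Cfsg.pCoreOf p E := inf_pCore_eq hEs
  have hn : n ≠ 0 := by
    intro h0
    rw [h0, pow_zero] at hcard
    have := Fintype.one_lt_card (α := F)
    omega
  have h3F : (3 : F) = 0 := by
    have h1 : ((Fintype.card F : ℕ) : F) = 0 := Nat.cast_card_eq_zero F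
    rw [hcard, hp3, Nat.cast_pow] at h1
    exact_mod_cast (pow_eq_zero_iff hn).1 h1
  have hirrQ := irredSec_of_sl2 hact2
  have hfaithQ := faith_sl2 hact2 iso (by
    intro q hq u hu
    have : ⁅q, u⁆ ∈ ⁅Cfsg.pCoreOf p E, Cfsg.pCoreOf p E⁆ := Subgroup.commutator_mem_commutator hq hu
    rw [hRR] at this
    exact this.1)
  obtain ⟨-, hWQ, ρ₂, ψ₂, -, hψ₂s, hψ₂k, -⟩ := hact2
  refine ⟨hp3, ?_, ?_, ?_, ?_, ?_, ?_, ?_, ?_, hEB, ?_⟩
  · rw [hinf]; exact omegaOneCenter_le_centralizer p _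
  · rw [hinf]; exact hRR
  · rw [hinf]; exact hQQE
  · intro u hu
    rw [hinf] at hu
    have h1 : ψ₂ (⟨u, hu⟩ ^ 3) = 1 := by
      rw [map_pow]
      apply Multiplicative.toAdd.injective
      rw [toAdd_pow, toAdd_one]
      funext i
      simp only [Pi.smul_apply, nsmul_eq_mul, Pi.zero_apply]
      have : ((3 : ℕ) : F) = 0 := by exact_mod_cast h3F
      rw [this, zero_mul]
    have := (hψ₂k _).1 h1
    simpa using this
  · rw [← hZE]
    intro hbot
    rw [hbot, Subgroup.card_bot] at hcardZ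
    have : 1 < 3 ^ n := Nat.one_lt_pow hn (by norm_num)
    omega
  · intro X hWX hXQ hEX
    rw [hinf] at hXQ ⊢
    exact hirrQ X hWX hXQ hEX
  · intro e he htriv
    rw [hinf] at htriv
    exact (hinf ▸ (⟨he, hfaithQ e he htriv⟩ : e ∈ E ∧ e ∈ Cfsg.pCoreOf p E)).2.2
  · exact T.isPGroup'.to_le (baumannSubgroupOf_le p _)
  · intro b hb hbW
    rw [hinf, ← hZE]
    exact hB b hb hbW

end Cfsg.Agent.Helper9.SBD2
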