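import Mathlib
import Cfsg.Prelude.Def_BaumannBlocks
import Cfsg.Agent.Helper9.SBD2D

set_option autoImplicit false

/-!
Helper9, S2986 piece D2, part E: a subnormal `B(T)`-block of a group of characteristic `p` satisfies the abstract
interface `Helper5.SB.Blk`.
-/

namespace Cfsg.Agent.Helper9.SBD2

open Cfsg.Agent.Helper9.BB
open Cfsg.Agent.Helper5.SB
open scoped commutatorElement

universe u

variable {G : Type u} [Group G]

/-- PIECE D2 of S2986. -/
theorem blk_of_block [Finite G] {p : ℕ} [Fact p.Prime]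
    (hG : Subgroup.centralizer (Cfsg.pCore p G : Set G) ≤ Cfsg.pCore p G) (T : Sylow p G)
    {E : Subgroup G} (hE : Cfsg.IsBaumannBlock p (T : Subgroup G) E) (hEs : E.IsSubnormal) :
    Blk p (Cfsg.pCore p G) (Cfsg.omegaOneCenter p (Cfsg.pCore p G)) E
      (Cfsg.omegaOneCenter p (Cfsg.pCoreOf p E))
      (Cfsg.omegaOneCenter p (Cfsg.pCoreOf p E) ⊓ Subgroup.centralizer (E : Set G))
      (Cfsg.baumannSubgroupOf p (T : Subgroup G)) := by
  obtain ⟨hQE, hWE, hne, hDD, hDV⟩ := block_main hG T hE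
  obtain ⟨hirrW, -⟩ := block_irred hE
  obtain ⟨hres, hEB, hQQE, hET, hcases⟩ := hE
  have hinf : E ⊓ Cfsg.pCore p G = Cfsg.pCoreOf p E := inf_pCore_eq hEs
  have hEQ : E ≤ Subgroup.normalizer (Cfsg.pCoreOf p E : Set G) := le_normalizer_pCoreOf p E
  have hEW : E ≤ Subgroup.normalizer (Cfsg.omegaOneCenter p (Cfsg.pCoreOf p E) : Set G) :=
    hEQ.trans (normalizer_le_omegaOneCenter p _)
  have hEC : E ≤ Subgroup.normalizer ((Subgroup.centralizer (E : Set G) : Subgroup G) : Set G) :=
    Subgroup.le_normalizer.trans (normalizer_le_centralizer E)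
  have hEZ : E ≤ Subgroup.normalizer
      ((Cfsg.omegaOneCenter p (Cfsg.pCoreOf p E) ⊓ Subgroup.centralizer (E : Set G) : Subgroup G) : Set G) :=
    (le_inf hEW hEC).trans (normalizer_inf_le _ _)
  have hWW : ⁅Cfsg.omegaOneCenter p (Cfsg.pCoreOf p E), E⁆ ≤ Cfsg.omegaOneCenter p (Cfsg.pCoreOf p E) := by
    rw [Subgroup.commutator_comm]
    exact commutator_le_of_le_normalizer le_rfl hEW
  have hED : E ≤ Subgroup.normalizer ((⁅Cfsg.omegaOneCenter p (Cfsg.pCoreOf p E), E⁆ : Subgroup G) : Set G) :=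
    le_normalizer_commutator_right _ E
  -- `W = [W,E] Z`
  have hWVZ : Cfsg.omegaOneCenter p (Cfsg.pCoreOf p E) = ⁅Cfsg.omegaOneCenter p (Cfsg.pCoreOf p E), E⁆ ⊔
      (Cfsg.omegaOneCenter p (Cfsg.pCoreOf p E) ⊓ Subgroup.centralizer (E : Set G)) := by
    rcases hirrW _ le_sup_right (sup_le hWW inf_le_left) (le_normalizer_sup hED hEZ) with h | h
    · exfalso
      apply hne
      rw [← hDD, Subgroup.commutator_eq_bot_iff_le_centralizer]
      have : ⁅Cfsg.omegaOneCenter p (Cfsg.pCoreOf p E), E⁆ ≤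
          Cfsg.omegaOneCenter p (Cfsg.pCoreOf p E) ⊓ Subgroup.centralizer (E : Set G) := by
        rw [← h]; exact le_sup_left
      exact this.trans inf_le_right
    · exact h.symm
  -- `O_p(E)` centralizes `W`
  have hQW : ∀ q ∈ Cfsg.pCoreOf p E, ∀ u ∈ Cfsg.omegaOneCenter p (Cfsg.pCoreOf p E), ⁅q, u⁆ ∈
      Cfsg.omegaOneCenter p (Cfsg.pCoreOf p E) ⊓ Subgroup.centralizer (E : Set G) := by
    intro q hq u hu
    have h1 := omegaOneCenter_le_centralizer p _ hu
    rw [Subgroup.mem_centralizer_iff] at h1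
    have : ⁅q, u⁆ = 1 := by
      rw [commutatorElement_eq_one_iff_commute]
      exact h1 q hq
    rw [this]; exact one_mem _
  -- the three case-dependent facts
  have key : (∀ e ∈ E, (∀ u ∈ Cfsg.omegaOneCenter p (Cfsg.pCoreOf p E), ⁅e, u⁆ ∈
        Cfsg.omegaOneCenter p (Cfsg.pCoreOf p E) ⊓ Subgroup.centralizer (E : Set G)) → e ∈ Cfsg.pCoreOf p E) ∧
      (E ⊓ Cfsg.pCore p G = ⁅Cfsg.omegaOneCenter p (Cfsg.pCore p G), E⁆ ∨
        Exc p (Cfsg.pCore p G) E (Cfsg.omegaOneCenter p (Cfsg.pCoreOf p E))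
          (Cfsg.omegaOneCenter p (Cfsg.pCoreOf p E) ⊓ Subgroup.centralizer (E : Set G))
          (Cfsg.baumannSubgroupOf p (T : Subgroup G))) ∧
      (Perf p (Cfsg.pCore p G) E ∨
        Small2 p (Cfsg.pCore p G) E (Cfsg.omegaOneCenter p (Cfsg.pCoreOf p E))
          (Cfsg.omegaOneCenter p (Cfsg.pCoreOf p E) ⊓ Subgroup.centralizer (E : Set G)) ∨
        Small3 p (Cfsg.pCore p G) E (Cfsg.omegaOneCenter p (Cfsg.pCoreOf p E))
          (Cfsg.omegaOneCenter p (Cfsg.pCoreOf p E) ⊓ Subgroup.centralizer (E : Set G))) := by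
    have hlin : Cfsg.pCoreOf p E = Cfsg.omegaOneCenter p (Cfsg.pCoreOf p E) →
        E ⊓ Cfsg.pCore p G = ⁅Cfsg.omegaOneCenter p (Cfsg.pCore p G), E⁆ := by
      intro h
      rw [hinf, ← hWE, ← h, hQQE]
    rcases hcases with ⟨F, hF, hFt, n, hcard, iso, hact, hcase⟩ | ⟨hp2, m, iso, hact, hRW⟩
    · refine ⟨faith_sl2 hact iso hQW, ?_, ?_⟩
      · rcases hcase with h | ⟨hp3, hact2, hRR, -, hZE, hcardZ, hB⟩
        · exact Or.inl (hlin h)
        · exact Or.inr (exc_of hEs T hEB hQQE F n hcard iso hp3 hact2 hRR hZE hcardZ hB)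
      · exact type_sl2 hEs hres F n hcard iso hact (hcase.imp id (fun h => h.2.1))
    · obtain ⟨hm, htype⟩ := type_alt hEs hres hET hp2 m iso hact
      exact ⟨faith_perm (by omega) hact iso hQW, Or.inl (hlin hRW), htype⟩
  obtain ⟨hfaith, hkind, htype⟩ := key
  refine
    { sn := hEs
      res := hres
      nP := hQE
      VV := by rw [← hWE]; exact hDD
      Vne := by rw [← hWE]; exact hne
      WVZ := by rw [← hWE]; exact hWVZ
      ZC := rfl
      WE := by rw [hinf]; exact omegaOneCenter_le_self p _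
      nW := (normalizer_le_pCoreOf p E).trans (normalizer_le_omegaOneCenter p _)
      irr := hirrW
      faith := ?_
      kind := hkind
      type := htype }
  -- faithfulness on `V = [M,E]`
  intro e he
  have heE : e ∈ E := he.1
  have heV : e ∈ Subgroup.centralizer ((⁅Cfsg.omegaOneCenter p (Cfsg.pCore p G), E⁆ : Subgroup G) : Set G) := he.2
  rw [← hWE] at heV
  have hmem : e ∈ Cfsg.pCoreOf p E := by
    apply hfaith e heE
    intro u hu
    have hcen : Cfsg.omegaOneCenter p (Cfsg.pCoreOf p E) ≤ Subgroup.centralizer ({e} : Set G) := by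
      rw [hWVZ]
      apply sup_le
      · intro v hv
        rw [Subgroup.mem_centralizer_iff] at heV
        rw [Subgroup.mem_centralizer_iff]
        intro x hx
        rw [Set.mem_singleton_iff] at hx
        rw [hx]
        exact (heV v hv).symm
      · intro z hz
        have hzE : z ∈ Subgroup.centralizer (E : Set G) := hz.2
        rw [Subgroup.mem_centralizer_iff] at hzE
        rw [Subgroup.mem_centralizer_iff]
        intro x hx
        rw [Set.mem_singleton_iff] at hx
        rw [hx]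
        exact hzE e heE
    have h1 := hcen hu
    rw [Subgroup.mem_centralizer_iff] at h1
    have : ⁅e, u⁆ = 1 := by
      rw [commutatorElement_eq_one_iff_commute]
      exact h1 e rfl
    rw [this]; exact one_mem _
  rw [← hinf] at hmem
  exact hmem.2

end Cfsg.Agent.Helper9.SBD2
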