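import Mathlib
import Cfsg.Agent.Helper9.U35.GF25

/-!
# `SU_3(5)`: the normaliser of `3^{1+2}` is not maximal — explicit data (helper9)

Over the explicit field `F25 = F_5[s]`, `s² = 2`, with `ω = 2 + 2s` a primitive cube root of unity: the group
`R = ⟨X, Y, ω⟩` (`X = diag(1, ω, ω²)`, `Y` the cyclic shift), the table `W` of its `27` elements, the eigenvectors `Pv`
for the eigenvalue one, the set `O36` of `36` isotropic points (an orbit of the overgroup `3·M_10`), the involution `tm`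
of the overgroup and the element `gm` of `SU_3(5)` not preserving the set.  All facts are checked by `decide`.
-/

set_option autoImplicit false

namespace Cfsg.Agent.Helper9.SU3E6

open Cfsg.Agent.Helper9.U35
open scoped Matrix

/-- a matrix over the field with 25 elements from a table of numbers `0, …, 24` -/
def mkM (l : List (List ℕ)) : Matrix (Fin 3) (Fin 3) F25 :=
  fun i j => F25.ofN ((l.getD i.val []).getD j.val 0)

/-- a vector over the field with 25 elements from a list of numbers `0, …, 24` -/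
def mkV (l : List ℕ) : Fin 3 → F25 := fun i => F25.ofN (l.getD i.val 0)

def Wtab : List (List (List ℕ)) :=
  [[[1, 0, 0], [0, 1, 0], [0, 0, 1]],
   [[0, 0, 1], [1, 0, 0], [0, 1, 0]],
   [[0, 1, 0], [0, 0, 1], [1, 0, 0]],
   [[1, 0, 0], [0, 12, 0], [0, 0, 17]],
   [[0, 0, 1], [12, 0, 0], [0, 17, 0]],
   [[0, 1, 0], [0, 0, 12], [17, 0, 0]],
   [[1, 0, 0], [0, 17, 0], [0, 0, 12]],
   [[0, 0, 1], [17, 0, 0], [0, 12, 0]],
   [[0, 1, 0], [0, 0, 17], [12, 0, 0]],
   [[12, 0, 0], [0, 12, 0], [0, 0, 12]],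
   [[0, 0, 12], [12, 0, 0], [0, 12, 0]],
   [[0, 12, 0], [0, 0, 12], [12, 0, 0]],
   [[12, 0, 0], [0, 17, 0], [0, 0, 1]],
   [[0, 0, 12], [17, 0, 0], [0, 1, 0]],
   [[0, 12, 0], [0, 0, 17], [1, 0, 0]],
   [[12, 0, 0], [0, 1, 0], [0, 0, 17]],
   [[0, 0, 12], [1, 0, 0], [0, 17, 0]],
   [[0, 12, 0], [0, 0, 1], [17, 0, 0]],
   [[17, 0, 0], [0, 17, 0], [0, 0, 17]],
   [[0, 0, 17], [17, 0, 0], [0, 17, 0]],
   [[0, 17, 0], [0, 0, 17], [17, 0, 0]],
   [[17, 0, 0], [0, 1, 0], [0, 0, 12]],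
   [[0, 0, 17], [1, 0, 0], [0, 12, 0]],
   [[0, 17, 0], [0, 0, 1], [12, 0, 0]],
   [[17, 0, 0], [0, 12, 0], [0, 0, 1]],
   [[0, 0, 17], [12, 0, 0], [0, 1, 0]],
   [[0, 17, 0], [0, 0, 12], [1, 0, 0]]]

def Ptab : List (List ℕ) :=
  [[0, 0, 0], [1, 1, 1], [1, 1, 1], [3, 0, 0], [1, 12, 1], [1, 1, 17], [3, 0, 0], [1, 17, 1], [1, 1, 12], [0, 0, 0], [1, 12, 17], [1, 17, 12], [0, 0, 3], [1, 17, 17], [1, 17, 1], [0, 3, 0], [1, 1, 17], [1, 17, 17], [0, 0, 0], [1, 17, 12], [1, 12, 17], [0, 3, 0], [1, 1, 12], [1, 12, 12], [0, 0, 3], [1, 12, 12], [1, 12, 1]]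

/-- the elements `ω^i X^j Y^k` of `R`, indexed by `9 i + 3 j + k` -/
def W (n : Fin 27) : Matrix (Fin 3) (Fin 3) F25 := mkM (Wtab.getD n.val [])

/-- an eigenvector of `W n` for the eigenvalue one (`n` not a multiple of nine) -/
def Pv (n : Fin 27) : Fin 3 → F25 := mkV (Ptab.getD n.val [])

/-- the number of an element of the field -/
def toN (x : F25) : ℕ := x.re.val + 5 * x.im.val

/-- the `36` isotropic points `(1, a, b)`, as the set of bits `toN a + 25 * toN b` of a number -/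
def Omask : ℕ := 1556068369250446506005041676855643052824377555421961175820155879914782288958949361890659336293035473488375573875105895330861556737874073823135356696230050689794586235799844069310464

/-- membership in the cone over the `36` points -/
def inO (v : Fin 3 → F25) : Prop :=
  v 0 ≠ 0 ∧ Nat.testBit Omask (toN ((v 0)⁻¹ * v 1) + 25 * toN ((v 0)⁻¹ * v 2)) = true

instance (v : Fin 3 → F25) : Decidable (inO v) := by unfold inO; infer_instance

/-- the matrix maps the cone into itself -/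
def presO (G : Matrix (Fin 3) (Fin 3) F25) : Prop := ∀ a b : F25, inO ![1, a, b] → inO (G *ᵥ ![1, a, b])

instance (G : Matrix (Fin 3) (Fin 3) F25) : Decidable (presO G) := by unfold presO; infer_instance

def Xm : Matrix (Fin 3) (Fin 3) F25 := mkM [[1, 0, 0], [0, 12, 0], [0, 0, 17]]
def Ym : Matrix (Fin 3) (Fin 3) F25 := mkM [[0, 0, 1], [1, 0, 0], [0, 1, 0]]
def zm : Matrix (Fin 3) (Fin 3) F25 := mkM [[12, 0, 0], [0, 12, 0], [0, 0, 12]]
/-- the involution of the overgroup -/
def tm : Matrix (Fin 3) (Fin 3) F25 := mkM [[1, 2, 4], [2, 1, 4], [4, 4, 2]]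
/-- an element of `SU_3(5)` not preserving the set -/
def gm : Matrix (Fin 3) (Fin 3) F25 := mkM [[1, 0, 0], [0, 4, 0], [0, 0, 4]]

/-- the determinant, explicitly -/
def det3 (A : Matrix (Fin 3) (Fin 3) F25) : F25 :=
  A 0 0 * A 1 1 * A 2 2 - A 0 0 * A 1 2 * A 2 1 - A 0 1 * A 1 0 * A 2 2 + A 0 1 * A 1 2 * A 2 0 +
    A 0 2 * A 1 0 * A 2 1 - A 0 2 * A 1 1 * A 2 0

theorem det3_eq (A : Matrix (Fin 3) (Fin 3) F25) : det3 A = A.det := (Matrix.det_fin_three A).symm

/-- the candidate normalising matrices `[p | Y' p | Y'² p]` -/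
def G0 (n m : Fin 27) : Matrix (Fin 3) (Fin 3) F25 :=
  fun i j => if j = 0 then Pv n i else if j = 1 then (W m *ᵥ Pv n) i else (W m *ᵥ (W m *ᵥ Pv n)) i

set_option maxRecDepth 100000 in
theorem W_word : ∀ n : Fin 27, W n = zm ^ (n.val / 9) * Xm ^ ((n.val / 3) % 3) * Ym ^ (n.val % 3) := by
  decide +kernel

set_option maxRecDepth 100000 in
theorem W_inj : ∀ n m : Fin 27, W n = W m → n = m := by
  decide +kernel

set_option maxRecDepth 100000 in
theorem W_scalar : ∀ n : Fin 27, n.val % 9 = 0 → W n = (W n 0 0) • (1 : Matrix (Fin 3) (Fin 3) F25) := by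
  decide +kernel

set_option maxRecDepth 100000 in
theorem Xm_not_scalar : ∀ c : F25, Xm ≠ c • (1 : Matrix (Fin 3) (Fin 3) F25) := by
  decide +kernel

set_option maxRecDepth 100000 in
theorem eig_table : ∀ n : Fin 27, n.val % 9 ≠ 0 → ∀ l : Fin 3, ∃ γ : F25, ∀ i : Fin 3,
    (1 + W n + W n * W n) i l = γ * Pv n i := by
  decide +kernel

theorem two_mul_three : (2 : F25) * 3 = 1 := by decide +kernel

set_option maxRecDepth 100000 in
theorem Xm_e0 : Xm *ᵥ (Pi.single 0 1) = Pi.single 0 1 := by decide +kernel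

set_option maxRecDepth 100000 in
theorem Ym_e0 : Ym *ᵥ (Pi.single 0 1) = Pi.single 1 1 := by decide +kernel

set_option maxRecDepth 100000 in
theorem Ym_e1 : Ym *ᵥ (Pi.single 1 1) = Pi.single 2 1 := by decide +kernel

set_option maxRecDepth 100000 in
theorem tm_sq : tm * tm = 1 := by decide +kernel

set_option maxRecDepth 100000 in
theorem tm_det : det3 tm = 1 := by decide +kernel

set_option maxRecDepth 100000 in
theorem tm_unitary : tmᵀ * tm.map (· ^ 5) = 1 := by decide +kernel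

set_option maxRecDepth 100000 in
theorem tm_presO : presO tm := by decide +kernel

set_option maxRecDepth 100000 in
theorem tm_not_norm : ∀ n : Fin 27, tm * Xm ≠ W n * tm := by decide +kernel

set_option maxRecDepth 100000 in
theorem gm_det : det3 gm = 1 := by decide +kernel

set_option maxRecDepth 100000 in
theorem gm_unitary : gmᵀ * gm.map (· ^ 5) = 1 := by decide +kernel

set_option maxRecDepth 100000 in
theorem gm_sq : gm * gm = 1 := by decide +kernel

set_option maxRecDepth 100000 in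
theorem gm_not_pres : inO ![1, 1, F25.ofN 5] ∧ ¬ inO (gm *ᵥ ![1, 1, F25.ofN 5]) := by decide +kernel

end Cfsg.Agent.Helper9.SU3E6
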