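import Mathlib
import Cfsg.Agent.Helper9.SU3E6Data

/-!
# `SU_3(5)`: the normaliser of `3^{1+2}` is not maximal — the main table (helper9)

Every candidate normalising matrix `G0 n m` that realises an automorphism of `R` and has a scalar multiple in
`SU_3(5)` maps the `36` points into themselves.
-/

set_option autoImplicit false

namespace Cfsg.Agent.Helper9.SU3E6

open Cfsg.Agent.Helper9.U35
open scoped Matrix

set_option maxRecDepth 100000 in
theorem main_table : ∀ n m : Fin 27, n.val % 9 ≠ 0 → G0 n m * Xm = W n * G0 n m → G0 n m * Ym = W m * G0 n m →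
    (∃ μ : F25, μ ^ 3 * det3 (G0 n m) = 1 ∧ (μ * μ ^ 5) • ((G0 n m)ᵀ * (G0 n m).map (· ^ 5)) = 1) →
    presO (G0 n m) := by
  decide +kernel

end Cfsg.Agent.Helper9.SU3E6
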