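import Mathlib
import Cfsg.Prelude.Def_GeometricClasses
import Cfsg.Prelude.Def_LieClassical

/-!
# Transport of "maximal in `SU_n(q)`" along a change of orthonormal basis and a field isomorphism (helper9)

`IsMaximalIn` is invariant under group isomorphisms; the isomorphism `g ↦ (P⁻¹ g P).map ψ` of `GL_n(F)` onto
`GL_n(F')` (`P` unitary, `ψ : F ≃+* F'`) maps `GU_n ⊓ SL_n` onto `GU_n ⊓ SL_n` and normalisers to normalisers.
-/

set_option autoImplicit false
set_option linter.unusedVariables false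
set_option linter.unusedSectionVars false

namespace Cfsg.Agent.Helper9.SUTr

open Cfsg Cfsg.Geo
open scoped MatrixGroups Matrix

section general

variable {G₁ G₂ : Type*} [Group G₁] [Group G₂]

/-- `IsMaximalIn` is preserved by group isomorphisms -/
theorem isMaximalIn_map (e : G₁ ≃* G₂) {K H : Subgroup G₁} (h : IsMaximalIn K H) :
    IsMaximalIn (K.map e.toMonoidHom) (H.map e.toMonoidHom) := by
  obtain ⟨hlt, hmax⟩ := h
  refine ⟨(Subgroup.map_lt_map_iff_of_injective e.injective).2 hlt, fun M hHM hMK => ?_⟩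
  have h1 : H ≤ M.comap e.toMonoidHom := by
    intro x hx
    exact hHM ⟨x, hx, rfl⟩
  have h2 : M.comap e.toMonoidHom ≤ K := by
    intro x hx
    obtain ⟨y, hy, hxy⟩ := hMK hx
    have : y = x := e.injective hxy
    rwa [← this]
  have h3 : (M.comap e.toMonoidHom).map e.toMonoidHom = M :=
    Subgroup.map_comap_eq_self_of_surjective e.surjective M
  rcases hmax _ h1 h2 with h | h
  · left; rw [← h3, h]
  · right; rw [← h3, h]

/-- the image of `N(R) ⊓ G` -/
theorem map_normalizer_inf (e : G₁ ≃* G₂) (R G : Subgroup G₁) :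
    (Subgroup.normalizer (R : Set G₁) ⊓ G).map e.toMonoidHom =
      Subgroup.normalizer ((R.map e.toMonoidHom : Subgroup G₂) : Set G₂) ⊓ G.map e.toMonoidHom := by
  rw [Subgroup.map_inf _ _ _ e.injective, Subgroup.map_equiv_normalizer_eq]

theorem map_eq_of_mem_iff (e : G₁ ≃* G₂) (G : Subgroup G₁) (G' : Subgroup G₂) (h : ∀ g, e g ∈ G' ↔ g ∈ G) :
    G.map e.toMonoidHom = G' := by
  ext x
  constructor
  · rintro ⟨y, hy, rfl⟩
    exact (h y).2 hy
  · intro hx
    refine ⟨e.symm x, (h _).1 (by rw [MulEquiv.apply_symm_apply]; exact hx), ?_⟩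
    exact e.apply_symm_apply x

end general

section field

variable {F F' : Type*} [Field F] [Field F'] {n : ℕ}

/-- the isomorphism of general linear groups induced by a field isomorphism -/
noncomputable def glMap (ψ : F ≃+* F') : GL (Fin n) F ≃* GL (Fin n) F' :=
  Units.mapEquiv (RingEquiv.mapMatrix ψ).toMulEquiv

theorem glMap_val (ψ : F ≃+* F') (g : GL (Fin n) F) :
    ((glMap ψ g : GL (Fin n) F') : Matrix (Fin n) (Fin n) F') = (g : Matrix (Fin n) (Fin n) F).map ψ := rfl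

theorem map_mulVec' (ψ : F ≃+* F') (M : Matrix (Fin n) (Fin n) F) (u : Fin n → F) :
    M.map ψ *ᵥ (fun i => ψ (u i)) = fun i => ψ ((M *ᵥ u) i) := by
  funext i
  exact (RingHom.map_mulVec (ψ : F →+* F') M u i).symm

theorem hermForm_map (ψ : F ≃+* F') (q : ℕ) (u v : Fin n → F) :
    hermForm n F' q (fun i => ψ (u i)) (fun i => ψ (v i)) = ψ (hermForm n F q u v) := by
  unfold hermForm
  rw [map_sum]
  apply Finset.sum_congr rfl
  intro i _
  rw [map_mul, map_pow]

theorem glMap_mem_GU (ψ : F ≃+* F') (q : ℕ) (g : GL (Fin n) F) (hg : g ∈ GU n F q) : glMap ψ g ∈ GU n F' q := by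
  intro u v
  show hermForm n F' q ((glMap ψ g : GL (Fin n) F').val *ᵥ u) ((glMap ψ g : GL (Fin n) F').val *ᵥ v) = _
  have hu : u = fun i => ψ (ψ.symm (u i)) := by funext i; rw [RingEquiv.apply_symm_apply]
  have hv : v = fun i => ψ (ψ.symm (v i)) := by funext i; rw [RingEquiv.apply_symm_apply]
  rw [glMap_val, hu, hv, map_mulVec', map_mulVec', hermForm_map, hermForm_map]
  congr 1
  exact hg _ _

theorem glMap_symm_apply (ψ : F ≃+* F') (g : GL (Fin n) F) : glMap (n := n) ψ.symm (glMap ψ g) = g := by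
  apply Units.ext
  rw [glMap_val, glMap_val]
  ext i j
  simp

theorem glMap_mem_GU_iff (ψ : F ≃+* F') (q : ℕ) (g : GL (Fin n) F) : glMap ψ g ∈ GU n F' q ↔ g ∈ GU n F q := by
  refine ⟨fun h => ?_, glMap_mem_GU ψ q g⟩
  have := glMap_mem_GU ψ.symm q _ h
  rwa [glMap_symm_apply] at this

theorem mem_SL_iff' {K : Type*} [Field K] (x : GL (Fin n) K) :
    x ∈ specialLinear (Fin n) K ↔ (x : Matrix (Fin n) (Fin n) K).det = 1 := by
  show Matrix.GeneralLinearGroup.det x = 1 ↔ _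
  rw [Units.ext_iff]
  rfl

theorem glMap_mem_SL_iff (ψ : F ≃+* F') (g : GL (Fin n) F) :
    glMap ψ g ∈ specialLinear (Fin n) F' ↔ g ∈ specialLinear (Fin n) F := by
  rw [mem_SL_iff', mem_SL_iff', glMap_val]
  have h2 : ((g : Matrix (Fin n) (Fin n) F).map ψ).det = ψ (g : Matrix (Fin n) (Fin n) F).det := by
    have := RingHom.map_det (ψ : F →+* F') (g : Matrix (Fin n) (Fin n) F)
    exact this.symm
  rw [h2]
  exact map_eq_one_iff ψ ψ.injective

/-- conjugation by an element of the unitary group -/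
theorem conj_mem_iff (q : ℕ) (P : GL (Fin n) F) (hP : P ∈ GU n F q) (g : GL (Fin n) F) :
    MulAut.conj P⁻¹ g ∈ GU n F q ⊓ specialLinear (Fin n) F ↔ g ∈ GU n F q ⊓ specialLinear (Fin n) F := by
  rw [MulAut.conj_apply, inv_inv]
  have hPi : P⁻¹ ∈ GU n F q := Subgroup.inv_mem _ hP
  have hsl : ∀ x : GL (Fin n) F, P⁻¹ * x * P ∈ specialLinear (Fin n) F ↔ x ∈ specialLinear (Fin n) F := by
    intro x
    show Matrix.GeneralLinearGroup.det (P⁻¹ * x * P) = 1 ↔ Matrix.GeneralLinearGroup.det x = 1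
    rw [map_mul, map_mul, map_inv, mul_comm, ← mul_assoc, mul_inv_cancel, one_mul]
  constructor
  · rintro ⟨h1, h2⟩
    refine ⟨?_, (hsl g).1 h2⟩
    have := Subgroup.mul_mem _ (Subgroup.mul_mem _ hP h1) hPi
    have e : P * (P⁻¹ * g * P) * P⁻¹ = g := by group
    rwa [e] at this
  · rintro ⟨h1, h2⟩
    exact ⟨Subgroup.mul_mem _ (Subgroup.mul_mem _ hPi h1) hP, (hsl g).2 h2⟩

/-- the transport isomorphism `g ↦ (P⁻¹ g P).map ψ` -/
noncomputable def tr (ψ : F ≃+* F') (P : GL (Fin n) F) : GL (Fin n) F ≃* GL (Fin n) F' :=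
  (MulAut.conj P⁻¹).trans (glMap ψ)

theorem tr_val (ψ : F ≃+* F') (P g : GL (Fin n) F) :
    ((tr ψ P g : GL (Fin n) F') : Matrix (Fin n) (Fin n) F') =
      ((P⁻¹ * g * P : GL (Fin n) F) : Matrix (Fin n) (Fin n) F).map ψ := by
  show ((glMap ψ (MulAut.conj P⁻¹ g) : GL (Fin n) F') : Matrix (Fin n) (Fin n) F') = _
  rw [glMap_val, MulAut.conj_apply, inv_inv]

theorem tr_mem_iff (ψ : F ≃+* F') (q : ℕ) (P : GL (Fin n) F) (hP : P ∈ GU n F q) (g : GL (Fin n) F) :
    tr ψ P g ∈ GU n F' q ⊓ specialLinear (Fin n) F' ↔ g ∈ GU n F q ⊓ specialLinear (Fin n) F := by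
  rw [← conj_mem_iff q P hP g]
  show glMap ψ (MulAut.conj P⁻¹ g) ∈ _ ↔ _
  rw [Subgroup.mem_inf, Subgroup.mem_inf, glMap_mem_GU_iff, glMap_mem_SL_iff]

/-- **transport of maximality of a normaliser in `SU_n(q)`** -/
theorem isMaximalIn_normalizer_tr (ψ : F ≃+* F') (q : ℕ) (P : GL (Fin n) F) (hP : P ∈ GU n F q)
    (R : Subgroup (GL (Fin n) F))
    (h : IsMaximalIn (GU n F q ⊓ specialLinear (Fin n) F)
      (subgroupNormalizer R ⊓ (GU n F q ⊓ specialLinear (Fin n) F))) :
    IsMaximalIn (GU n F' q ⊓ specialLinear (Fin n) F')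
      (subgroupNormalizer (R.map (tr ψ P).toMonoidHom) ⊓ (GU n F' q ⊓ specialLinear (Fin n) F')) := by
  have h1 := isMaximalIn_map (tr ψ P) h
  have h2 := map_eq_of_mem_iff (tr ψ P) _ _ (tr_mem_iff ψ q P hP)
  unfold subgroupNormalizer at h1 ⊢
  rw [map_normalizer_inf, h2] at h1
  exact h1

end field

end Cfsg.Agent.Helper9.SUTr
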