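import Mathlib
import Cfsg.Prelude.Def_GeometricClasses
import Cfsg.Prelude.Def_LieClassical
import Cfsg.Agent.Helper9.SU3E6Tab
import Cfsg.Agent.Helper9.SUTransport
import Cfsg.Agent.Helper8.GUOrder

/-!
# `SU_3(5)`: the normaliser of `3^{1+2}` is not maximal — the concrete theorem (helper9)

Over the explicit field `F25`: if `R` is a subgroup of order `27` of `GL_3` containing `X`, `Y` and `ω`, then
`N(R) ∩ SU_3(5)` (`= 3^{1+2} : Q_8`) is not maximal in `SU_3(5)`: it lies in the stabiliser of the `36` points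
(`= 3·M_10`), which contains the involution `tm ∉ N(R)` and not the element `gm` of `SU_3(5)`.
-/

set_option autoImplicit false
set_option linter.unusedVariables false

namespace Cfsg.Agent.Helper9.SU3E6

open Cfsg Cfsg.Geo Cfsg.Agent.Helper9.U35
open scoped MatrixGroups Matrix

theorem hF25 : Fintype.card F25 = 5 ^ 2 := by decide

theorem inO_smul {c : F25} (hc : c ≠ 0) (v : Fin 3 → F25) : inO (c • v) ↔ inO v := by
  unfold inO
  by_cases h0 : v 0 = 0
  · simp [h0]
  · have key : ∀ x : F25, (c * v 0)⁻¹ * (c * x) = (v 0)⁻¹ * x := by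
      intro x
      field_simp
    simp only [Pi.smul_apply, smul_eq_mul, key]
    constructor
    · rintro ⟨-, h⟩
      exact ⟨h0, h⟩
    · rintro ⟨-, h⟩
      exact ⟨mul_ne_zero hc h0, h⟩

theorem presO_apply {G : Matrix (Fin 3) (Fin 3) F25} (hG : presO G) (v : Fin 3 → F25) (hv : inO v) :
    inO (G *ᵥ v) := by
  have h0 : v 0 ≠ 0 := hv.1
  have hw : v = v 0 • ![1, (v 0)⁻¹ * v 1, (v 0)⁻¹ * v 2] := by
    funext i
    fin_cases i
    · simp
    · simp only [Fin.mk_one, Fin.isValue, Pi.smul_apply, Matrix.cons_val_one, Matrix.cons_val_zero, smul_eq_mul]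
      field_simp
    · simp only [Fin.reduceFinMk, Fin.isValue, Pi.smul_apply, Matrix.cons_val_two, Matrix.tail_cons,
        Matrix.head_cons, smul_eq_mul]
      field_simp
  have hw' : inO ![1, (v 0)⁻¹ * v 1, (v 0)⁻¹ * v 2] := by
    have := (inO_smul h0 ![1, (v 0)⁻¹ * v 1, (v 0)⁻¹ * v 2]).1 (by rw [← hw]; exact hv)
    exact this
  rw [hw, Matrix.mulVec_smul]
  exact (inO_smul h0 _).2 (hG _ _ hw')

/-- the stabiliser of the cone -/
def Mgrp : Subgroup (GL (Fin 3) F25) where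
  carrier := {g | (∀ v, inO v → inO ((g : Matrix (Fin 3) (Fin 3) F25) *ᵥ v)) ∧
    (∀ v, inO v → inO (((g⁻¹ : GL (Fin 3) F25) : Matrix (Fin 3) (Fin 3) F25) *ᵥ v))}
  one_mem' := by
    constructor
    · intro v hv
      rw [Units.val_one, Matrix.one_mulVec]; exact hv
    · intro v hv
      rw [inv_one, Units.val_one, Matrix.one_mulVec]; exact hv
  mul_mem' := by
    rintro a b ⟨ha1, ha2⟩ ⟨hb1, hb2⟩
    constructor
    · intro v hv
      rw [Units.val_mul, ← Matrix.mulVec_mulVec]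
      exact ha1 _ (hb1 _ hv)
    · intro v hv
      rw [mul_inv_rev, Units.val_mul, ← Matrix.mulVec_mulVec]
      exact hb2 _ (ha2 _ hv)
  inv_mem' := by
    rintro a ⟨ha1, ha2⟩
    refine ⟨ha2, ?_⟩
    rw [inv_inv]
    exact ha1

theorem mem_Mgrp (g : GL (Fin 3) F25) : g ∈ Mgrp ↔
    (∀ v, inO v → inO ((g : Matrix (Fin 3) (Fin 3) F25) *ᵥ v)) ∧
    (∀ v, inO v → inO (((g⁻¹ : GL (Fin 3) F25) : Matrix (Fin 3) (Fin 3) F25) *ᵥ v)) := Iff.rfl

/-- the involution of the overgroup as an element of the general linear group -/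
def tg : GL (Fin 3) F25 := ⟨tm, tm, tm_sq, tm_sq⟩

/-- the witness as an element of the general linear group -/
def gg : GL (Fin 3) F25 := ⟨gm, gm, gm_sq, gm_sq⟩

theorem tg_mem : tg ∈ GU 3 F25 5 ⊓ specialLinear (Fin 3) F25 := by
  refine ⟨(Cfsg.Agent.Helper8.GUOrder.mem_GU_iff hF25 tg).2 tm_unitary,
    (Cfsg.Agent.Helper9.SUTr.mem_SL_iff' tg).2 ?_⟩
  show tm.det = 1
  rw [← det3_eq, tm_det]

theorem gg_mem : gg ∈ GU 3 F25 5 ⊓ specialLinear (Fin 3) F25 := by
  refine ⟨(Cfsg.Agent.Helper8.GUOrder.mem_GU_iff hF25 gg).2 gm_unitary,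
    (Cfsg.Agent.Helper9.SUTr.mem_SL_iff' gg).2 ?_⟩
  show gm.det = 1
  rw [← det3_eq, gm_det]

theorem tg_mem_Mgrp : tg ∈ Mgrp :=
  ⟨fun v hv => presO_apply tm_presO v hv, fun v hv => presO_apply tm_presO v hv⟩

theorem gg_not_mem_Mgrp : gg ∉ Mgrp := fun h => gm_not_pres.2 (h.1 _ gm_not_pres.1)

/-- conjugates: from `g x g⁻¹ = w` to `g x = w g` at the level of matrices -/
theorem conj_val {g x w : GL (Fin 3) F25} (h : g * x * g⁻¹ = w) :
    (g : Matrix (Fin 3) (Fin 3) F25) * (x : Matrix (Fin 3) (Fin 3) F25) =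
      (w : Matrix (Fin 3) (Fin 3) F25) * (g : Matrix (Fin 3) (Fin 3) F25) := by
  have : g * x = w * g := by rw [← h]; group
  rw [← Units.val_mul, ← Units.val_mul, this]

/-- **the concrete theorem** -/
theorem conc_not_maximal (R : Subgroup (GL (Fin 3) F25)) (hcard : Nat.card R = 27)
    (hX : ∃ g ∈ R, (g : Matrix (Fin 3) (Fin 3) F25) = Xm)
    (hY : ∃ g ∈ R, (g : Matrix (Fin 3) (Fin 3) F25) = Ym)
    (hz : ∃ g ∈ R, (g : Matrix (Fin 3) (Fin 3) F25) = zm) :
    ¬ IsMaximalIn (GU 3 F25 5 ⊓ specialLinear (Fin 3) F25)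
      (subgroupNormalizer R ⊓ (GU 3 F25 5 ⊓ specialLinear (Fin 3) F25)) := by
  classical
  obtain ⟨gX, hgX, hX'⟩ := hX
  obtain ⟨gY, hgY, hY'⟩ := hY
  obtain ⟨gz, hgz, hz'⟩ := hz
  -- the words
  have hW : ∀ n : Fin 27, ∃ g ∈ R, (g : Matrix (Fin 3) (Fin 3) F25) = W n := by
    intro n
    refine ⟨gz ^ (n.val / 9) * gX ^ ((n.val / 3) % 3) * gY ^ (n.val % 3),
      R.mul_mem (R.mul_mem (R.pow_mem hgz _) (R.pow_mem hgX _)) (R.pow_mem hgY _), ?_⟩
    rw [Units.val_mul, Units.val_mul, Units.val_pow_eq_pow_val, Units.val_pow_eq_pow_val,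
      Units.val_pow_eq_pow_val, hz', hX', hY', ← W_word]
  -- every element of `R` is a word
  have hR : ∀ g ∈ R, ∃ n : Fin 27, (g : Matrix (Fin 3) (Fin 3) F25) = W n := by
    choose f hfR hfW using hW
    let φ : Fin 27 → R := fun n => ⟨f n, hfR n⟩
    have hinj : Function.Injective φ := by
      intro n m hnm
      apply W_inj
      rw [← hfW n, ← hfW m]
      have := congrArg (fun r : R => ((r : GL (Fin 3) F25) : Matrix (Fin 3) (Fin 3) F25)) hnm
      exact this
    haveI : Finite R := Nat.finite_of_card_ne_zero (by rw [hcard]; norm_num)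
    have hbij : Function.Bijective φ := by
      rw [Nat.bijective_iff_injective_and_card]
      exact ⟨hinj, by rw [hcard, Nat.card_eq_fintype_card, Fintype.card_fin]⟩
    intro g hg
    obtain ⟨n, hn⟩ := hbij.2 ⟨g, hg⟩
    refine ⟨n, ?_⟩
    rw [← hfW n]
    have := congrArg (fun r : R => ((r : GL (Fin 3) F25) : Matrix (Fin 3) (Fin 3) F25)) hn
    exact this.symm
  -- the normaliser preserves the cone
  have key : ∀ g ∈ subgroupNormalizer R ⊓ (GU 3 F25 5 ⊓ specialLinear (Fin 3) F25), ∀ v, inO v →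
      inO ((g : Matrix (Fin 3) (Fin 3) F25) *ᵥ v) := by
    rintro g ⟨hgN, hgU, hgS⟩ v hv
    have hgN' : ∀ h, h ∈ R ↔ g * h * g⁻¹ ∈ R := fun h => (Subgroup.mem_normalizer_iff.1 hgN) h
    obtain ⟨n, hn⟩ := hR _ ((hgN' gX).1 hgX)
    obtain ⟨m, hm⟩ := hR _ ((hgN' gY).1 hgY)
    set A : Matrix (Fin 3) (Fin 3) F25 := (g : Matrix (Fin 3) (Fin 3) F25) with hA
    have hAX : A * Xm = W n * A := by
      have := conj_val (g := g) (x := gX) (w := g * gX * g⁻¹) rfl
      rw [hX', hn] at this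
      exact this
    have hAY : A * Ym = W m * A := by
      have := conj_val (g := g) (x := gY) (w := g * gY * g⁻¹) rfl
      rw [hY', hm] at this
      exact this
    have hdet : A.det = 1 := (Cfsg.Agent.Helper9.SUTr.mem_SL_iff' g).1 hgS
    have hAi : ((g⁻¹ : GL (Fin 3) F25) : Matrix (Fin 3) (Fin 3) F25) * A = 1 := by
      rw [hA, ← Units.val_mul, inv_mul_cancel, Units.val_one]
    have hn9 : n.val % 9 ≠ 0 := by
      intro h9
      have h1 := W_scalar n h9
      rw [h1, Matrix.smul_mul, Matrix.one_mul] at hAX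
      have h2 := congrArg (fun B => ((g⁻¹ : GL (Fin 3) F25) : Matrix (Fin 3) (Fin 3) F25) * B) hAX
      simp only [← Matrix.mul_assoc, Matrix.mul_smul, hAi, Matrix.one_mul] at h2
      exact Xm_not_scalar _ h2
    -- the first column
    set c₀ : Fin 3 → F25 := A *ᵥ Pi.single 0 1 with hc₀
    have hc₀fix : W n *ᵥ c₀ = c₀ := by
      rw [hc₀, Matrix.mulVec_mulVec, ← hAX, ← Matrix.mulVec_mulVec, Xm_e0]
    choose γ hγ using eig_table n hn9
    have hN : (1 + W n + W n * W n) *ᵥ c₀ = (3 : F25) • c₀ := by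
      rw [Matrix.add_mulVec, Matrix.add_mulVec, Matrix.one_mulVec, ← Matrix.mulVec_mulVec, hc₀fix, hc₀fix]
      funext i
      simp only [Pi.add_apply, Pi.smul_apply, smul_eq_mul]
      ring
    set μ : F25 := 2 * ∑ l, γ l * c₀ l with hμ
    have hc₀μ : c₀ = μ • Pv n := by
      funext i
      have h1 := congrFun hN i
      rw [Matrix.mulVec, dotProduct] at h1
      simp only [hγ] at h1
      simp only [Pi.smul_apply, smul_eq_mul] at h1 ⊢
      have h3 : (2 : F25) * 3 = 1 := two_mul_three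
      calc c₀ i = (2 * 3) * c₀ i := by rw [h3, one_mul]
        _ = 2 * (3 * c₀ i) := by ring
        _ = 2 * ∑ l, γ l * Pv n i * c₀ l := by rw [← h1]
        _ = μ * Pv n i := by
          rw [hμ, mul_assoc, Finset.sum_mul]
          congr 1
          apply Finset.sum_congr rfl
          intro l _
          ring
    have hcol1 : A *ᵥ Pi.single 1 1 = μ • (W m *ᵥ Pv n) := by
      rw [← Ym_e0, Matrix.mulVec_mulVec, hAY, ← Matrix.mulVec_mulVec, ← hc₀, hc₀μ, Matrix.mulVec_smul]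
    have hcol2 : A *ᵥ Pi.single 2 1 = μ • (W m *ᵥ (W m *ᵥ Pv n)) := by
      rw [← Ym_e1, Matrix.mulVec_mulVec, hAY, ← Matrix.mulVec_mulVec, hcol1, Matrix.mulVec_smul]
    have hAG : A = μ • G0 n m := by
      ext i j
      have hcol : ∀ j : Fin 3, A i j = (A *ᵥ Pi.single j 1) i := by
        intro j
        rw [Matrix.mulVec_single_one]
        rfl
      rw [hcol j]
      fin_cases j
      · show (A *ᵥ Pi.single 0 1) i = _
        rw [← hc₀, hc₀μ]
        rfl
      · show (A *ᵥ Pi.single 1 1) i = _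
        rw [hcol1]
        rfl
      · show (A *ᵥ Pi.single 2 1) i = _
        rw [hcol2]
        rfl
    have hμ0 : μ ≠ 0 := by
      intro h0
      rw [h0, zero_smul] at hAG
      rw [hAG, Matrix.det_zero] at hdet
      exact zero_ne_one hdet
    have h1 : G0 n m * Xm = W n * G0 n m := by
      rw [hAG, Matrix.smul_mul, Matrix.mul_smul] at hAX
      exact smul_right_injective _ hμ0 hAX
    have h2 : G0 n m * Ym = W m * G0 n m := by
      rw [hAG, Matrix.smul_mul, Matrix.mul_smul] at hAY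
      exact smul_right_injective _ hμ0 hAY
    have h3 : μ ^ 3 * det3 (G0 n m) = 1 := by
      rw [hAG, Matrix.det_smul, Fintype.card_fin] at hdet
      rw [det3_eq]
      exact hdet
    have h4 : (μ * μ ^ 5) • ((G0 n m)ᵀ * (G0 n m).map (· ^ 5)) = 1 := by
      have hU := (Cfsg.Agent.Helper8.GUOrder.mem_GU_iff hF25 g).1 hgU
      rw [← hA, hAG] at hU
      have e1 : (μ • G0 n m).map (· ^ 5) = μ ^ 5 • (G0 n m).map (· ^ 5) := by
        ext i j
        simp only [Matrix.map_apply, Matrix.smul_apply, smul_eq_mul, mul_pow]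
      rw [e1, Matrix.transpose_smul, Matrix.smul_mul, Matrix.mul_smul, smul_smul] at hU
      exact hU
    have hpres := main_table n m hn9 h1 h2 ⟨μ, h3, h4⟩
    show inO (A *ᵥ v)
    rw [hAG, Matrix.smul_mulVec]
    exact (inO_smul hμ0 _).2 (presO_apply hpres v hv)
  have hHM : subgroupNormalizer R ⊓ (GU 3 F25 5 ⊓ specialLinear (Fin 3) F25) ≤
      Mgrp ⊓ (GU 3 F25 5 ⊓ specialLinear (Fin 3) F25) := by
    intro g hg
    exact ⟨⟨key g hg, key g⁻¹ (Subgroup.inv_mem _ hg)⟩, hg.2⟩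
  rintro ⟨-, hmax⟩
  rcases hmax _ hHM inf_le_right with h | h
  · have ht : tg ∈ Mgrp ⊓ (GU 3 F25 5 ⊓ specialLinear (Fin 3) F25) := ⟨tg_mem_Mgrp, tg_mem⟩
    rw [h] at ht
    have htN : ∀ h, h ∈ R ↔ tg * h * tg⁻¹ ∈ R := fun h => (Subgroup.mem_normalizer_iff.1 ht.1) h
    obtain ⟨n, hn⟩ := hR _ ((htN gX).1 hgX)
    have := conj_val (g := tg) (x := gX) (w := tg * gX * tg⁻¹) rfl
    rw [hX', hn] at this
    exact tm_not_norm n this
  · have hg : gg ∈ Mgrp ⊓ (GU 3 F25 5 ⊓ specialLinear (Fin 3) F25) := by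
      rw [h]; exact gg_mem
    exact gg_not_mem_Mgrp hg.1

end Cfsg.Agent.Helper9.SU3E6
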