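import Mathlib
import Cfsg.Prelude.Def_GeometricClasses
import Cfsg.Prelude.Def_LieClassical

/-!
# `SU_3(5)`: normal form of an absolutely irreducible `3^{1+2}`, part A (helper9): the group theory

A subgroup `R` of `GL_3(F)` of order `27` with centre of order `3`, of exponent `3`, acting absolutely irreducibly,
contains `a, b` with `a b = ζ b a` for a primitive cube root of unity `ζ` such that `ζ • 1 ∈ R`.
-/

set_option autoImplicit false
set_option linter.unusedVariables false

namespace Cfsg.Agent.Helper9.SU3E6N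

open Cfsg Cfsg.Geo
open scoped MatrixGroups Matrix

variable {F : Type*} [Field F] {n : ℕ}

theorem pow_three_eq_one {R : Subgroup (GL (Fin n) F)} (hR : IsSymplecticTypeGroup 3 R) (g : GL (Fin n) F)
    (hg : g ∈ R) : g ^ 3 = 1 := by
  have h1 : Monoid.exponent R = 3 := by
    rw [hR.exponent_eq]
    norm_num
  have h2 := Monoid.pow_exponent_eq_one (⟨g, hg⟩ : R)
  rw [h1] at h2
  exact congrArg Subtype.val h2

/-- central elements are scalar -/
theorem scalar_of_central {R : Subgroup (GL (Fin n) F)} (hirr : ActsAbsolutelyIrreducibly (matrixSet R))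
    (z : GL (Fin n) F) (hz : ∀ r ∈ R, z * r = r * z) :
    ∃ c : F, (z : Matrix (Fin n) (Fin n) F) = c • (1 : Matrix (Fin n) (Fin n) F) := by
  apply hirr.2
  rintro s ⟨r, hr, rfl⟩
  have := congrArg Units.val (hz r hr)
  rw [Units.val_mul, Units.val_mul] at this
  exact this

/-- the commutator of two elements of a group of order `27` with centre of order `3` is central -/
theorem comm_central {G : Type*} [Group G] (hcard : Nat.card G = 27) (hZ : Nat.card (Subgroup.center G) = 3)
    (a b : G) : a * b * a⁻¹ * b⁻¹ ∈ Subgroup.center G := by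
  haveI : Fact (Nat.Prime 3) := ⟨Nat.prime_three⟩
  have h9 : Nat.card (G ⧸ Subgroup.center G) = 3 ^ 2 := by
    have h := Subgroup.card_eq_card_quotient_mul_card_subgroup (Subgroup.center G)
    rw [hcard, hZ] at h
    omega
  have hc := (IsPGroup.isMulCommutative_of_card_eq_prime_sq h9).is_comm.comm
  rw [← QuotientGroup.eq_one_iff]
  have h1 : ((a * b * a⁻¹ * b⁻¹ : G) : G ⧸ Subgroup.center G) =
      (a : G ⧸ Subgroup.center G) * (b : G ⧸ Subgroup.center G) * (a : G ⧸ Subgroup.center G)⁻¹ *
        (b : G ⧸ Subgroup.center G)⁻¹ := rfl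
  rw [h1, hc (a : G ⧸ Subgroup.center G) (b : G ⧸ Subgroup.center G)]
  group

/-- **the non-commuting pair** -/
theorem exists_pair (hn : 0 < n) {R : Subgroup (GL (Fin n) F)} (hR : IsSymplecticTypeGroup 3 R)
    (hirr : ActsAbsolutelyIrreducibly (matrixSet R)) (hcard : Nat.card R = 27)
    (hZ : Nat.card (Subgroup.center R) = 3) :
    ∃ (a b z : GL (Fin n) F) (ζ : F), a ∈ R ∧ b ∈ R ∧ z ∈ R ∧ ζ ≠ 1 ∧ ζ ^ 3 = 1 ∧
      (z : Matrix (Fin n) (Fin n) F) = ζ • (1 : Matrix (Fin n) (Fin n) F) ∧
      (a : Matrix (Fin n) (Fin n) F) * (b : Matrix (Fin n) (Fin n) F) =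
        ζ • ((b : Matrix (Fin n) (Fin n) F) * (a : Matrix (Fin n) (Fin n) F)) := by
  classical
  -- a non-commuting pair
  obtain ⟨a, b, hab⟩ : ∃ a b : R, a * b ≠ b * a := by
    by_contra hcon
    push Not at hcon
    have htop : Subgroup.center R = ⊤ := by
      rw [Subgroup.eq_top_iff']
      intro x
      rw [Subgroup.mem_center_iff]
      intro y
      exact hcon y x
    rw [htop, Subgroup.card_top, hcard] at hZ
    omega
  have hc := comm_central hcard hZ a b
  set c : R := a * b * a⁻¹ * b⁻¹ with hcdef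
  have hcc : ∀ r ∈ R, (c : GL (Fin n) F) * r = r * (c : GL (Fin n) F) := by
    intro r hr
    have := (Subgroup.mem_center_iff.1 hc) ⟨r, hr⟩
    have h2 := congrArg Subtype.val this
    exact h2.symm
  obtain ⟨ζ, hζ⟩ := scalar_of_central hirr (c : GL (Fin n) F) hcc
  have hcab : (c : GL (Fin n) F) * (b : GL (Fin n) F) * (a : GL (Fin n) F) = (a : GL (Fin n) F) * b := by
    have : c * b * a = a * b := by rw [hcdef]; group
    exact congrArg Subtype.val this
  have hone : ((1 : Matrix (Fin n) (Fin n) F)) ⟨0, hn⟩ ⟨0, hn⟩ = 1 := Matrix.one_apply_eq _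
  refine ⟨a, b, c, ζ, a.2, b.2, c.2, ?_, ?_, hζ, ?_⟩
  · intro h1
    apply hab
    rw [h1, one_smul] at hζ
    have hc1 : (c : GL (Fin n) F) = 1 := Units.ext hζ
    rw [hc1, one_mul] at hcab
    exact Subtype.ext hcab.symm
  · have h3 := pow_three_eq_one hR (c : GL (Fin n) F) c.2
    have h4 := congrArg Units.val h3
    rw [Units.val_pow_eq_pow_val, hζ, smul_pow, one_pow, Units.val_one] at h4
    have h5 := congrFun (congrFun h4 ⟨0, hn⟩) ⟨0, hn⟩
    rw [Matrix.smul_apply, hone, smul_eq_mul, mul_one] at h5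
    exact h5
  · have := congrArg Units.val hcab
    rw [Units.val_mul, Units.val_mul, Units.val_mul, hζ, Matrix.smul_mul, Matrix.one_mul, Matrix.smul_mul] at this
    exact this.symm

end Cfsg.Agent.Helper9.SU3E6N
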