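import Mathlib
import Cfsg.Prelude.Def_GeometricClasses
import Cfsg.Prelude.Def_LieClassical
import Cfsg.Agent.Helper9.SU3E6NormA
import Cfsg.Agent.Helper9.AschPPU41B
import Cfsg.Agent.Helper5.AschU5a
import Cfsg.Agent.Helper7.Hermitian

/-!
# `SU_3(5)`: normal form of an absolutely irreducible `3^{1+2}`, part B (helper9): the linear algebra

In an orthonormal basis of eigenvectors the group `R` contains `X = diag(1, ζ, ζ²)`, the cyclic shift `Y` and `ζ`.
-/

set_option autoImplicit false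
set_option linter.unusedVariables false
set_option linter.unusedSectionVars false

namespace Cfsg.Agent.Helper9.SU3E6N

open Cfsg Cfsg.Geo Cfsg.Agent.Helper7.Herm
open scoped MatrixGroups Matrix

variable {F : Type*} [Field F]

/-- the diagonal generator -/
def Xmat (ζ : F) : Matrix (Fin 3) (Fin 3) F := Matrix.diagonal ![1, ζ, ζ ^ 2]

/-- the cyclic shift `e_j ↦ e_{j+1}` -/
def Ymat : Matrix (Fin 3) (Fin 3) F := fun i j => if i = j + 1 then 1 else 0

/-- a basis of `F^n` as an invertible matrix (columns = basis vectors; the inverse computes coordinates) -/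
theorem exists_GL_of_basis {n : ℕ} (b : Module.Basis (Fin n) F (Fin n → F)) :
    ∃ P : GL (Fin n) F, (∀ i k, (P : Matrix (Fin n) (Fin n) F) i k = b k i) ∧
      (∀ v, ((P⁻¹ : GL (Fin n) F) : Matrix (Fin n) (Fin n) F) *ᵥ v = b.repr v) := by
  refine ⟨⟨(Pi.basisFun F (Fin n)).toMatrix b, b.toMatrix (Pi.basisFun F (Fin n)),
    Module.Basis.toMatrix_mul_toMatrix_flip _ _, Module.Basis.toMatrix_mul_toMatrix_flip _ _⟩, ?_, ?_⟩
  · intro i k
    simp [Module.Basis.toMatrix_apply]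
  · intro v
    show b.toMatrix (Pi.basisFun F (Fin n)) *ᵥ v = b.repr v
    have h1 := Module.Basis.toMatrix_mulVec_repr (Pi.basisFun F (Fin n)) b v
    have h2 : ((Pi.basisFun F (Fin n)).repr v : Fin n → F) = v := by
      funext i
      rw [Pi.basisFun_repr]
    rw [h2] at h1
    exact h1

theorem one_add_zeta {ζ : F} (hζ1 : ζ ≠ 1) (hζ3 : ζ ^ 3 = 1) : 1 + ζ + ζ ^ 2 = 0 := by
  have h : (ζ - 1) * (1 + ζ + ζ ^ 2) = 0 := by linear_combination hζ3
  rcases mul_eq_zero.mp h with h1 | h1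
  · exact absurd (sub_eq_zero.mp h1) hζ1
  · exact h1

/-- a matrix of order three has an eigenvector whose eigenvalue is a power of `ζ` -/
theorem exists_eigen (A : Matrix (Fin 3) (Fin 3) F) (hA : A ^ 3 = 1) {ζ : F} (hζ1 : ζ ≠ 1) (hζ3 : ζ ^ 3 = 1)
    (h3 : (3 : F) ≠ 0) : ∃ (k : ℕ) (v : Fin 3 → F), v ≠ 0 ∧ A *ᵥ v = ζ ^ k • v := by
  have hs := one_add_zeta hζ1 hζ3
  set w : Fin 3 → F := Pi.single 0 1 with hw
  have hw0 : w ≠ 0 := by
    intro h
    have := congrFun h 0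
    rw [hw, Pi.single_eq_same, Pi.zero_apply] at this
    exact one_ne_zero this
  have hA3 : A *ᵥ (A *ᵥ (A *ᵥ w)) = w := by
    rw [Matrix.mulVec_mulVec, Matrix.mulVec_mulVec, ← pow_two, ← pow_succ, hA, Matrix.one_mulVec]
  have key : ∀ μ : F, μ ^ 3 = 1 → A *ᵥ (w + μ ^ 2 • (A *ᵥ w) + μ • (A *ᵥ (A *ᵥ w))) =
      μ • (w + μ ^ 2 • (A *ᵥ w) + μ • (A *ᵥ (A *ᵥ w))) := by
    intro μ hμ
    rw [Matrix.mulVec_add, Matrix.mulVec_add, Matrix.mulVec_smul, Matrix.mulVec_smul, hA3, smul_add, smul_add,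
      smul_smul, smul_smul]
    have e1 : μ * μ ^ 2 = 1 := by rw [← hμ]; ring
    rw [e1, one_smul, ← pow_two]
    abel
  by_contra hcon
  push Not at hcon
  have h0 : ∀ k : ℕ, w + (ζ ^ k) ^ 2 • (A *ᵥ w) + ζ ^ k • (A *ᵥ (A *ᵥ w)) = 0 := by
    intro k
    by_contra hne
    exact hcon k _ hne (key (ζ ^ k) (by rw [← pow_mul, mul_comm, pow_mul, hζ3, one_pow]))
  have e0 := h0 0
  have e1 := h0 1
  have e2 := h0 2
  rw [pow_zero, one_pow, one_smul, one_smul] at e0
  rw [pow_one] at e1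
  have hz4 : (ζ ^ 2) ^ 2 = ζ := by
    have : (ζ ^ 2) ^ 2 = ζ ^ 3 * ζ := by ring
    rw [this, hζ3, one_mul]
  rw [hz4] at e2
  apply hw0
  have hsum : (3 : F) • w = 0 := by
    have : (3 : F) • w = (w + A *ᵥ w + A *ᵥ (A *ᵥ w)) + (w + ζ ^ 2 • (A *ᵥ w) + ζ • (A *ᵥ (A *ᵥ w))) +
        (w + ζ • (A *ᵥ w) + ζ ^ 2 • (A *ᵥ (A *ᵥ w))) - (1 + ζ + ζ ^ 2) • (A *ᵥ w) -
        (1 + ζ + ζ ^ 2) • (A *ᵥ (A *ᵥ w)) := by
      funext i
      simp only [Pi.add_apply, Pi.sub_apply, Pi.smul_apply, smul_eq_mul]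
      ring
    rw [this, e0, e1, e2, hs, zero_smul, zero_smul]
    simp
  rcases smul_eq_zero.mp hsum with h | h
  · exact absurd h h3
  · exact h

/-- an element of order three of the similarity group is an isometry (field with `25` elements) -/
theorem mem_GU_of_sim [Fintype F] (hF : Fintype.card F = 5 ^ 2) (g : GL (Fin 3) F)
    (hg : g ∈ similarityGroup (hermForm 3 F 5)) (hg3 : g ^ 3 = 1) : g ∈ GU 3 F 5 := by
  obtain ⟨c, hc⟩ := hg
  set e : Fin 3 → F := Pi.single 0 1 with he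
  have hee : hermForm 3 F 5 e e = 1 := by
    unfold hermForm
    rw [Fin.sum_univ_three]
    simp [he]
  have h3 : ∀ u : Fin 3 → F, (g : Matrix (Fin 3) (Fin 3) F) *ᵥ ((g : Matrix (Fin 3) (Fin 3) F) *ᵥ
      ((g : Matrix (Fin 3) (Fin 3) F) *ᵥ u)) = u := by
    intro u
    rw [Matrix.mulVec_mulVec, Matrix.mulVec_mulVec, ← Units.val_mul, ← Units.val_mul, ← pow_two, ← pow_succ, hg3,
      Units.val_one, Matrix.one_mulVec]
  have hc3 : (c : F) ^ 3 = 1 := by
    have h1 : hermForm 3 F 5 e e = (c : F) * ((c : F) * ((c : F) * hermForm 3 F 5 e e)) := by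
      conv_lhs => rw [← h3 e]
      rw [hc, hc, hc]
    rw [hee] at h1
    rw [h1]
    ring
  have hc5 : (c : F) ^ 5 = c := by
    have h1 := hc e e
    rw [hee, mul_one] at h1
    have h2 := hermForm_swap hF ((g : Matrix (Fin 3) (Fin 3) F) *ᵥ e) ((g : Matrix (Fin 3) (Fin 3) F) *ᵥ e)
    rw [h1] at h2
    exact h2.symm
  have hc1 : (c : F) = 1 := by
    have hc0 : (c : F) ≠ 0 := c.ne_zero
    have h4 : (c : F) ^ 4 = 1 := by
      have : (c : F) ^ 4 * c = 1 * c := by rw [one_mul, ← pow_succ, hc5]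
      exact mul_right_cancel₀ hc0 this
    calc (c : F) = (c : F) ^ 4 * ((c : F) ^ 3)⁻¹ := by
          rw [show (c : F) ^ 4 = (c : F) ^ 3 * c by ring, mul_comm, ← mul_assoc, inv_mul_cancel₀ (pow_ne_zero 3 hc0),
            one_mul]
      _ = 1 := by rw [h4, hc3, inv_one, mul_one]
  intro u v
  have := hc u v
  rw [hc1, one_mul] at this
  exact this

end Cfsg.Agent.Helper9.SU3E6N
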