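import Mathlib
import Cfsg.Prelude.Def_GeometricClasses
import Cfsg.Prelude.Def_LieClassical
import Cfsg.Agent.Helper9.SU3E6NormB

/-!
# `SU_3(5)`: normal form of an absolutely irreducible `3^{1+2}`, part C (helper9): the normal form
-/

set_option autoImplicit false
set_option linter.unusedVariables false
set_option linter.unusedSectionVars false
set_option maxHeartbeats 1000000

namespace Cfsg.Agent.Helper9.SU3E6N

open Cfsg Cfsg.Geo Cfsg.Agent.Helper7.Herm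
open scoped MatrixGroups Matrix

variable {F : Type*} [Field F]

theorem matrix_ext_single {M N : Matrix (Fin 3) (Fin 3) F}
    (h : ∀ j : Fin 3, M *ᵥ Pi.single j 1 = N *ᵥ Pi.single j 1) : M = N := by
  ext i j
  have := congrFun (h j) i
  rw [Matrix.mulVec_single_one, Matrix.mulVec_single_one] at this
  exact this

theorem Ymat_single (j : Fin 3) : (Ymat : Matrix (Fin 3) (Fin 3) F) *ᵥ Pi.single j 1 = Pi.single (j + 1) 1 := by
  funext i
  rw [Matrix.mulVec_single_one]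
  show (if i = j + 1 then (1 : F) else 0) = _
  by_cases h : i = j + 1
  · rw [if_pos h, h, Pi.single_eq_same]
  · rw [if_neg h, Pi.single_eq_of_ne h]

theorem Xmat_single (ζ : F) (j : Fin 3) :
    Xmat ζ *ᵥ Pi.single j 1 = (![1, ζ, ζ ^ 2] : Fin 3 → F) j • (Pi.single j 1 : Fin 3 → F) := by
  unfold Xmat
  rw [Matrix.diagonal_mulVec_single, mul_one]
  funext i
  by_cases h : i = j
  · subst h
    simp
  · simp [Pi.single_eq_of_ne h]

theorem three_ne_zero' [Fintype F] (hF : Fintype.card F = 5 ^ 2) : (3 : F) ≠ 0 := by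
  haveI : CharP F 5 := by
    obtain ⟨p, hp⟩ := CharP.exists F
    obtain ⟨n, hpp, hn⟩ := FiniteField.card F p
    have : p = 5 := by
      have h1 : p ∣ 5 ^ 2 := by
        rw [← hF, hn]
        exact dvd_pow_self p n.ne_zero
      exact (Nat.prime_dvd_prime_iff_eq hpp Nat.prime_five).1 (hpp.dvd_of_dvd_pow h1)
    rw [← this]; exact hp
  intro h
  have h' : ((3 : ℕ) : F) = 0 := by exact_mod_cast h
  rw [CharP.cast_eq_zero_iff F 5] at h'
  omega

/-- **the normal form** -/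
theorem exists_normal_form [Fintype F] (hF : Fintype.card F = 5 ^ 2) (R : Subgroup (GL (Fin 3) F))
    (hR : IsSymplecticTypeGroup 3 R) (hirr : ActsAbsolutelyIrreducibly (matrixSet R))
    (hsim : R ≤ similarityGroup (hermForm 3 F 5)) (hcard : Nat.card R = 27)
    (hZ : Nat.card (Subgroup.center R) = 3) :
    ∃ (ζ : F) (P a b z : GL (Fin 3) F), ζ ≠ 1 ∧ ζ ^ 3 = 1 ∧ P ∈ GU 3 F 5 ∧ a ∈ R ∧ b ∈ R ∧ z ∈ R ∧
      ((P⁻¹ * a * P : GL (Fin 3) F) : Matrix (Fin 3) (Fin 3) F) = Xmat ζ ∧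
      ((P⁻¹ * b * P : GL (Fin 3) F) : Matrix (Fin 3) (Fin 3) F) = Ymat ∧
      ((P⁻¹ * z * P : GL (Fin 3) F) : Matrix (Fin 3) (Fin 3) F) = ζ • (1 : Matrix (Fin 3) (Fin 3) F) := by
  classical
  obtain ⟨a₀, b, z, ζ, ha₀, hb, hz, hζ1, hζ3, hzv, hab⟩ := exists_pair (by norm_num) hR hirr hcard hZ
  have h3 : (3 : F) ≠ 0 := three_ne_zero' hF
  have hA3 : (a₀ : Matrix (Fin 3) (Fin 3) F) ^ 3 = 1 := by
    rw [← Units.val_pow_eq_pow_val, pow_three_eq_one hR a₀ ha₀, Units.val_one]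
  obtain ⟨k, v, hv0, hv⟩ := exists_eigen (a₀ : Matrix (Fin 3) (Fin 3) F) hA3 hζ1 hζ3 h3
  set a : GL (Fin 3) F := z ^ (2 * k) * a₀ with hadef
  have ha : a ∈ R := R.mul_mem (R.pow_mem hz _) ha₀
  have hav : (a : Matrix (Fin 3) (Fin 3) F) = ζ ^ (2 * k) • (a₀ : Matrix (Fin 3) (Fin 3) F) := by
    rw [hadef, Units.val_mul, Units.val_pow_eq_pow_val, hzv, smul_pow, one_pow, Matrix.smul_mul, Matrix.one_mul]
  set A : Matrix (Fin 3) (Fin 3) F := (a : Matrix (Fin 3) (Fin 3) F) with hA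
  set B : Matrix (Fin 3) (Fin 3) F := (b : Matrix (Fin 3) (Fin 3) F) with hB
  have hfix : A *ᵥ v = v := by
    rw [hav, Matrix.smul_mulVec, hv, smul_smul, ← pow_add, show 2 * k + k = 3 * k by ring, pow_mul, hζ3, one_pow,
      one_smul]
  have hAB : A * B = ζ • (B * A) := by
    rw [hav, Matrix.smul_mul, hab, Matrix.mul_smul, smul_smul, smul_smul, mul_comm]
  have hv1 : A *ᵥ (B *ᵥ v) = ζ • (B *ᵥ v) := by
    rw [Matrix.mulVec_mulVec, hAB, Matrix.smul_mulVec, ← Matrix.mulVec_mulVec, hfix]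
  have hv2 : A *ᵥ (B *ᵥ (B *ᵥ v)) = ζ ^ 2 • (B *ᵥ (B *ᵥ v)) := by
    rw [Matrix.mulVec_mulVec (B *ᵥ v) A B, hAB, Matrix.smul_mulVec, ← Matrix.mulVec_mulVec, hv1, Matrix.mulVec_smul, smul_smul,
      pow_two]
  have hb3 : B *ᵥ (B *ᵥ (B *ᵥ v)) = v := by
    rw [Matrix.mulVec_mulVec, Matrix.mulVec_mulVec, hB, ← Units.val_mul, ← Units.val_mul, ← pow_two, ← pow_succ,
      pow_three_eq_one hR b hb, Units.val_one, Matrix.one_mulVec]
  have haU : a ∈ GU 3 F 5 := mem_GU_of_sim hF a (hsim ha) (pow_three_eq_one hR a ha)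
  have hbU : b ∈ GU 3 F 5 := mem_GU_of_sim hF b (hsim hb) (pow_three_eq_one hR b hb)
  have hAiso : ∀ x y, hermForm 3 F 5 (A *ᵥ x) (A *ᵥ y) = hermForm 3 F 5 x y := haU
  have hBiso : ∀ x y, hermForm 3 F 5 (B *ᵥ x) (B *ᵥ y) = hermForm 3 F 5 x y := hbU
  have hζ2 : ζ ^ 2 ≠ 1 := by
    intro h
    apply hζ1
    calc ζ = ζ ^ 3 * (ζ ^ 2)⁻¹ := by
          have hz0 : ζ ^ 2 ≠ 0 := by rw [h]; exact one_ne_zero
          rw [show ζ ^ 3 = ζ * ζ ^ 2 by ring, mul_assoc, mul_inv_cancel₀ hz0, mul_one]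
      _ = 1 := by rw [hζ3, h, inv_one, mul_one]
  have horth : ∀ (x y : Fin 3 → F) (α β : F), A *ᵥ x = α • x → A *ᵥ y = β • y → α * β ^ 5 ≠ 1 →
      hermForm 3 F 5 x y = 0 := by
    intro x y α β hx hy hne
    have h1 := hAiso x y
    rw [hx, hy, hermForm_smul_left, hermForm_smul_right] at h1
    have h2 : (α * β ^ 5 - 1) * hermForm 3 F 5 x y = 0 := by linear_combination h1
    rcases mul_eq_zero.1 h2 with h | h
    · exact absurd (sub_eq_zero.1 h) hne
    · exact h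
  have hfix' : A *ᵥ v = (1 : F) • v := by rw [hfix, one_smul]
  have p5 : ∀ m : ℕ, ζ ^ (3 + m) = ζ ^ m := fun m => by rw [pow_add, hζ3, one_mul]
  have h01 : hermForm 3 F 5 v (B *ᵥ v) = 0 := horth _ _ 1 ζ hfix' hv1 (by
    rw [one_mul, show (5 : ℕ) = 3 + 2 by norm_num, p5]; exact hζ2)
  have h02 : hermForm 3 F 5 v (B *ᵥ (B *ᵥ v)) = 0 := horth _ _ 1 (ζ ^ 2) hfix' hv2 (by
    rw [one_mul, ← pow_mul, show 2 * 5 = 3 + (3 + (3 + 1)) by norm_num, p5, p5, p5, pow_one]; exact hζ1)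
  have h10 : hermForm 3 F 5 (B *ᵥ v) v = 0 := horth _ _ ζ 1 hv1 hfix' (by rw [one_pow, mul_one]; exact hζ1)
  have h12 : hermForm 3 F 5 (B *ᵥ v) (B *ᵥ (B *ᵥ v)) = 0 := horth _ _ ζ (ζ ^ 2) hv1 hv2 (by
    rw [← pow_mul, ← pow_succ', show 2 * 5 + 1 = 3 + (3 + (3 + 2)) by norm_num, p5, p5, p5]; exact hζ2)
  have h20 : hermForm 3 F 5 (B *ᵥ (B *ᵥ v)) v = 0 := horth _ _ (ζ ^ 2) 1 hv2 hfix' (by
    rw [one_pow, mul_one]; exact hζ2)
  have h21 : hermForm 3 F 5 (B *ᵥ (B *ᵥ v)) (B *ᵥ v) = 0 := horth _ _ (ζ ^ 2) ζ hv2 hv1 (by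
    rw [← pow_add, show 2 + 5 = 3 + (3 + 1) by norm_num, p5, p5, pow_one]; exact hζ1)
  -- the three eigenvectors
  set vs : Fin 3 → (Fin 3 → F) := ![v, B *ᵥ v, B *ᵥ (B *ᵥ v)] with hvs
  have hBv0 : B *ᵥ v ≠ 0 := by
    intro h
    apply hv0
    rw [← hb3, h, Matrix.mulVec_zero, Matrix.mulVec_zero]
  have hBBv0 : B *ᵥ (B *ᵥ v) ≠ 0 := by
    intro h
    apply hv0
    rw [← hb3, h, Matrix.mulVec_zero]
  have hli : LinearIndependent F vs := by
    apply Module.End.eigenvectors_linearIndependent' (Matrix.toLin' A) ![1, ζ, ζ ^ 2]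
    · have hz0 : ζ ≠ 0 := by
        intro h0
        rw [h0] at hζ3
        simp at hζ3
      have hζζ : ζ ^ 2 ≠ ζ := by
        intro h
        apply hζ1
        have : ζ * ζ = ζ * 1 := by rw [mul_one, ← pow_two]; exact h
        exact mul_left_cancel₀ hz0 this
      intro i j hij
      fin_cases i <;> fin_cases j
      · rfl
      · exact absurd (show (1 : F) = ζ from hij).symm hζ1
      · exact absurd (show (1 : F) = ζ ^ 2 from hij).symm hζ2
      · exact absurd (show ζ = (1 : F) from hij) hζ1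
      · rfl
      · exact absurd (show ζ = ζ ^ 2 from hij).symm hζζ
      · exact absurd (show ζ ^ 2 = (1 : F) from hij) hζ2
      · exact absurd (show ζ ^ 2 = ζ from hij) hζζ
      · rfl
    · intro i
      fin_cases i
      · exact ⟨Module.End.mem_eigenspace_iff.2 (by rw [Matrix.toLin'_apply]; exact hfix'), hv0⟩
      · exact ⟨Module.End.mem_eigenspace_iff.2 (by rw [Matrix.toLin'_apply]; exact hv1), hBv0⟩
      · exact ⟨Module.End.mem_eigenspace_iff.2 (by rw [Matrix.toLin'_apply]; exact hv2), hBBv0⟩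
  let bv : Module.Basis (Fin 3) F (Fin 3 → F) :=
    basisOfLinearIndependentOfCardEqFinrank hli (by rw [Fintype.card_fin, Module.finrank_fintype_fun_eq_card,
      Fintype.card_fin])
  have hbv : ∀ i, bv i = vs i := fun i => by
    show (basisOfLinearIndependentOfCardEqFinrank hli _) i = vs i
    rw [coe_basisOfLinearIndependentOfCardEqFinrank]
  -- the norm of `v`
  set ν : F := hermForm 3 F 5 v v with hν
  have hν0 : ν ≠ 0 := by
    intro h0
    apply hv0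
    have hall : ∀ x, hermForm 3 F 5 v x = 0 := by
      intro x
      rw [← bv.sum_repr x, Cfsg.Agent.Helper9.AschPPU.hermForm_sum_right' hF]
      apply Finset.sum_eq_zero
      intro i _
      rw [hermForm_smul_right, hbv]
      fin_cases i
      · show _ * hermForm 3 F 5 v v = 0
        rw [← hν, h0, mul_zero]
      · show _ * hermForm 3 F 5 v (B *ᵥ v) = 0
        rw [h01, mul_zero]
      · show _ * hermForm 3 F 5 v (B *ᵥ (B *ᵥ v)) = 0
        rw [h02, mul_zero]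
    funext i
    have := hall (Pi.single i 1)
    unfold hermForm at this
    simp only [Pi.single_apply, ite_pow, one_pow, ne_eq, OfNat.ofNat_ne_zero, not_false_eq_true, zero_pow,
      mul_ite, mul_one, mul_zero, Finset.sum_ite_eq', Finset.mem_univ, if_true] at this
    exact this
  have hν5 : ν⁻¹ ^ 5 = ν⁻¹ := by
    rw [inv_pow, hν, ← hermForm_swap hF]
  obtain ⟨l, hl⟩ := Cfsg.Agent.Helper5.AschU.exists_norm_eq hF ν⁻¹ hν5 (inv_ne_zero hν0)
  have hl0 : l ≠ 0 := by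
    intro h0
    rw [h0, zero_pow (by norm_num)] at hl
    exact inv_ne_zero hν0 hl.symm
  have hl' : l * l ^ 5 * ν = 1 := by
    have : l * l ^ 5 = l ^ (5 + 1) := by ring
    rw [this, hl, inv_mul_cancel₀ hν0]
  have hn1 : hermForm 3 F 5 (B *ᵥ v) (B *ᵥ v) = ν := hBiso v v
  have hn2 : hermForm 3 F 5 (B *ᵥ (B *ᵥ v)) (B *ᵥ (B *ᵥ v)) = ν := by rw [hBiso, hn1]
  -- the orthonormal basis
  let be : Module.Basis (Fin 3) F (Fin 3 → F) := bv.unitsSMul (fun _ => Units.mk0 l hl0)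
  have hbe : ∀ i, be i = l • vs i := fun i => by
    show (bv.unitsSMul (fun _ => Units.mk0 l hl0)) i = _
    rw [Module.Basis.unitsSMul_apply, hbv]
    rfl
  have hON : ∀ i j, hermForm 3 F 5 (be i) (be j) = if i = j then 1 else 0 := by
    intro i j
    rw [hbe, hbe, hermForm_smul_left, hermForm_smul_right]
    fin_cases i <;> fin_cases j
    · show l * (l ^ 5 * hermForm 3 F 5 v v) = _
      rw [if_pos rfl, ← hν]; linear_combination hl'
    · show l * (l ^ 5 * hermForm 3 F 5 v (B *ᵥ v)) = _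
      rw [h01, if_neg (by decide)]; ring
    · show l * (l ^ 5 * hermForm 3 F 5 v (B *ᵥ (B *ᵥ v))) = _
      rw [h02, if_neg (by decide)]; ring
    · show l * (l ^ 5 * hermForm 3 F 5 (B *ᵥ v) v) = _
      rw [h10, if_neg (by decide)]; ring
    · show l * (l ^ 5 * hermForm 3 F 5 (B *ᵥ v) (B *ᵥ v)) = _
      rw [if_pos rfl, hn1]; linear_combination hl'
    · show l * (l ^ 5 * hermForm 3 F 5 (B *ᵥ v) (B *ᵥ (B *ᵥ v))) = _
      rw [h12, if_neg (by decide)]; ring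
    · show l * (l ^ 5 * hermForm 3 F 5 (B *ᵥ (B *ᵥ v)) v) = _
      rw [h20, if_neg (by decide)]; ring
    · show l * (l ^ 5 * hermForm 3 F 5 (B *ᵥ (B *ᵥ v)) (B *ᵥ v)) = _
      rw [h21, if_neg (by decide)]; ring
    · show l * (l ^ 5 * hermForm 3 F 5 (B *ᵥ (B *ᵥ v)) (B *ᵥ (B *ᵥ v))) = _
      rw [if_pos rfl, hn2]; linear_combination hl'
  obtain ⟨P, hP1, hP2⟩ := exists_GL_of_basis be
  have hPcol : ∀ j, (P : Matrix (Fin 3) (Fin 3) F) *ᵥ Pi.single j 1 = be j := by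
    intro j
    funext i
    rw [Matrix.mulVec_single_one]
    exact hP1 i j
  have hPU : P ∈ GU 3 F 5 := by
    intro u w
    show hermForm 3 F 5 ((P : Matrix (Fin 3) (Fin 3) F) *ᵥ u) ((P : Matrix (Fin 3) (Fin 3) F) *ᵥ w) = _
    rw [Cfsg.Agent.Helper9.AschPPU.hermForm_of_orthonormal hF be hON]
    have hrep : ∀ x : Fin 3 → F, be.equivFun ((P : Matrix (Fin 3) (Fin 3) F) *ᵥ x) = x := by
      intro x
      rw [Module.Basis.equivFun_apply, ← hP2, Matrix.mulVec_mulVec, ← Units.val_mul, inv_mul_cancel, Units.val_one,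
        Matrix.one_mulVec]
    rw [hrep, hrep]
    rfl
  -- the conjugates
  have hAP : A * (P : Matrix (Fin 3) (Fin 3) F) = (P : Matrix (Fin 3) (Fin 3) F) * Xmat ζ := by
    apply matrix_ext_single
    intro j
    rw [← Matrix.mulVec_mulVec, ← Matrix.mulVec_mulVec, hPcol, Xmat_single, Matrix.mulVec_smul, hPcol, hbe,
      Matrix.mulVec_smul]
    fin_cases j
    · show l • A *ᵥ v = (1 : F) • l • v
      rw [hfix, one_smul]
    · show l • A *ᵥ (B *ᵥ v) = ζ • l • (B *ᵥ v)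
      rw [hv1, smul_comm]
    · show l • A *ᵥ (B *ᵥ (B *ᵥ v)) = ζ ^ 2 • l • (B *ᵥ (B *ᵥ v))
      rw [hv2, smul_comm]
  have hBP : B * (P : Matrix (Fin 3) (Fin 3) F) = (P : Matrix (Fin 3) (Fin 3) F) * Ymat := by
    apply matrix_ext_single
    intro j
    rw [← Matrix.mulVec_mulVec, ← Matrix.mulVec_mulVec, hPcol, Ymat_single, hPcol, hbe, hbe, Matrix.mulVec_smul]
    fin_cases j
    · rfl
    · rfl
    · show l • B *ᵥ (B *ᵥ (B *ᵥ v)) = l • v
      rw [hb3]
  have hPi : ((P⁻¹ : GL (Fin 3) F) : Matrix (Fin 3) (Fin 3) F) * (P : Matrix (Fin 3) (Fin 3) F) = 1 := by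
    rw [← Units.val_mul, inv_mul_cancel, Units.val_one]
  refine ⟨ζ, P, a, b, z, hζ1, hζ3, hPU, ha, hb, hz, ?_, ?_, ?_⟩
  · rw [Units.val_mul, Units.val_mul, Matrix.mul_assoc, ← hA, hAP, ← Matrix.mul_assoc, hPi, Matrix.one_mul]
  · rw [Units.val_mul, Units.val_mul, Matrix.mul_assoc, ← hB, hBP, ← Matrix.mul_assoc, hPi, Matrix.one_mul]
  · rw [Units.val_mul, Units.val_mul, hzv, Matrix.mul_smul, Matrix.mul_one, Matrix.smul_mul, hPi]

end Cfsg.Agent.Helper9.SU3E6N
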