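import Mathlib
import Cfsg.Prelude.Def_GeometricClasses
import Cfsg.Prelude.Def_LieClassical
import Cfsg.Agent.Helper9.SU3E6NormC
import Cfsg.Agent.Helper9.SU3E6Conc

/-!
# `SU_3(5)`: the normaliser of an absolutely irreducible `3^{1+2}` is not maximal (helper9)

Slot E6 of S5778: `3^{1+2} : Q_8 < 3·M_10 < SU_3(5)`.  The abstract group is brought to the normal form
`⟨diag(1, ζ, ζ²), shift, ζ⟩` in an orthonormal basis, transported to the explicit field with `25` elements, where the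
stabiliser of an orbit of `36` isotropic points of `3·M_10` is a proper overgroup.
-/

set_option autoImplicit false
set_option linter.unusedVariables false

namespace Cfsg.Agent.Helper9.SU3E6

open Cfsg Cfsg.Geo Cfsg.Agent.Helper9.U35 Cfsg.Agent.Helper9.SU3E6N Cfsg.Agent.Helper9.SUTr
open scoped MatrixGroups Matrix

/-- the non-trivial automorphism of the field with `25` elements -/
def conjE : F25 ≃+* F25 where
  toFun := F25.conj
  invFun := F25.conj
  left_inv := by decide +kernel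
  right_inv := by decide +kernel
  map_mul' := by decide +kernel
  map_add' := by decide +kernel

theorem cube_roots : ∀ x : F25, x ^ 3 = 1 → x ≠ 1 → x = F25.ofN 12 ∨ F25.conj x = F25.ofN 12 := by
  decide +kernel

theorem Xm_eq : Xm = Xmat (F25.ofN 12) := by decide +kernel

theorem Ym_eq : Ym = Ymat := by decide +kernel

theorem zm_eq : zm = (F25.ofN 12) • (1 : Matrix (Fin 3) (Fin 3) F25) := by decide +kernel

variable {F : Type*} [Field F]

theorem Xmat_map (ψ : F ≃+* F25) (ζ : F) : (Xmat ζ).map ψ = Xmat (ψ ζ) := by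
  unfold Xmat
  rw [Matrix.diagonal_map (map_zero ψ)]
  congr 1
  funext i
  fin_cases i
  · simp
  · simp
  · simp

theorem Ymat_map (ψ : F ≃+* F25) : (Ymat : Matrix (Fin 3) (Fin 3) F).map ψ = Ymat := by
  ext i j
  simp only [Matrix.map_apply, Ymat]
  split_ifs
  · exact map_one ψ
  · exact map_zero ψ

theorem smul_one_map (ψ : F ≃+* F25) (ζ : F) :
    (ζ • (1 : Matrix (Fin 3) (Fin 3) F)).map ψ = (ψ ζ) • (1 : Matrix (Fin 3) (Fin 3) F25) := by
  ext i j
  simp only [Matrix.map_apply, Matrix.smul_apply, Matrix.one_apply, smul_eq_mul]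
  split_ifs
  · rw [mul_one, mul_one]
  · rw [mul_zero, mul_zero, map_zero]

/-- **slot E6 of S5778** -/
theorem symplectic_five_not_maximal [Fintype F] (hF : Fintype.card F = 5 ^ 2) (R : Subgroup (GL (Fin 3) F))
    (hR : IsSymplecticTypeGroup 3 R) (hirr : ActsAbsolutelyIrreducibly (matrixSet R))
    (hsim : R ≤ similarityGroup (hermForm 3 F 5)) (hcard : Nat.card R = 27)
    (hZ : Nat.card (Subgroup.center R) = 3) :
    ¬ IsMaximalIn (GU 3 F 5 ⊓ specialLinear (Fin 3) F)
      (subgroupNormalizer R ⊓ (GU 3 F 5 ⊓ specialLinear (Fin 3) F)) := by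
  classical
  obtain ⟨ζ, P, a, b, z, hζ1, hζ3, hPU, ha, hb, hz, haP, hbP, hzP⟩ :=
    exists_normal_form hF R hR hirr hsim hcard hZ
  -- a field isomorphism sending `ζ` to the chosen cube root of unity
  obtain ⟨ψ, hψ⟩ : ∃ ψ : F ≃+* F25, ψ ζ = F25.ofN 12 := by
    have ψ₀ : F ≃+* F25 := FiniteField.ringEquivOfCardEq (by rw [hF, F25.card_eq]; norm_num)
    have h1 : (ψ₀ ζ) ^ 3 = 1 := by rw [← map_pow, hζ3, map_one]
    have h2 : ψ₀ ζ ≠ 1 := by
      intro h
      apply hζ1
      apply ψ₀.injective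
      rw [h, map_one]
    rcases cube_roots _ h1 h2 with h | h
    · exact ⟨ψ₀, h⟩
    · exact ⟨ψ₀.trans conjE, h⟩
  intro hmax
  have h1 := isMaximalIn_normalizer_tr ψ 5 P hPU R hmax
  refine conc_not_maximal (R.map (tr ψ P).toMonoidHom) ?_ ?_ ?_ ?_ h1
  · rw [← hcard]
    exact Nat.card_congr (Subgroup.equivMapOfInjective R _ (tr ψ P).injective).symm.toEquiv
  · refine ⟨tr ψ P a, ⟨a, ha, rfl⟩, ?_⟩
    rw [tr_val, haP, Xmat_map, hψ, Xm_eq]
  · refine ⟨tr ψ P b, ⟨b, hb, rfl⟩, ?_⟩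
    rw [tr_val, hbP, Ymat_map, Ym_eq]
  · refine ⟨tr ψ P z, ⟨z, hz, rfl⟩, ?_⟩
    rw [tr_val, hzP, smul_one_map, hψ, zm_eq]

end Cfsg.Agent.Helper9.SU3E6
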