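import Mathlib
import Cfsg.Prelude.Def_GeometricClasses
import Cfsg.Prelude.Def_LieClassical
import Cfsg.Agent.Helper9.SUTransport

/-!
# Sylow 7-conjugacy in `GL_3(F)`, `|F| = 9, 25`, and transport of subalgebra normalisers (helper9)
-/

set_option autoImplicit false
set_option linter.unusedVariables false
set_option linter.unusedSectionVars false

namespace Cfsg.Agent.Helper9.SU3Syl

open Cfsg Cfsg.Geo
open scoped MatrixGroups Matrix

section sylow

variable {F : Type*} [Field F] [Fintype F]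

theorem card_GL3 (c : ℕ) (hF : Fintype.card F = c) :
    Nat.card (GL (Fin 3) F) = (c ^ 3 - 1) * (c ^ 3 - c) * (c ^ 3 - c ^ 2) := by
  rw [Matrix.card_GL_field, hF, Fin.prod_univ_three]
  simp

theorem not_dvd_card_GL3 (hF : Fintype.card F = 3 ^ 2 ∨ Fintype.card F = 5 ^ 2) :
    ¬ 7 ^ 2 ∣ Nat.card (GL (Fin 3) F) := by
  rcases hF with h | h
  · rw [card_GL3 _ h]; decide
  · rw [card_GL3 _ h]; decide

/-- two elements of order `7` of a subgroup `G` of `GL_3(F)`, `|F| = 9, 25`, generate `G`-conjugate subgroups -/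
theorem exists_conj_pow (hF : Fintype.card F = 3 ^ 2 ∨ Fintype.card F = 5 ^ 2) (G : Subgroup (GL (Fin 3) F))
    (a b : GL (Fin 3) F) (ha : a ∈ G) (hb : b ∈ G) (ha7 : a ^ 7 = 1) (ha1 : a ≠ 1) (hb7 : b ^ 7 = 1)
    (hb1 : b ≠ 1) : ∃ g ∈ G, ∃ j : ℕ, g * a * g⁻¹ = b ^ j := by
  classical
  haveI : Fact (Nat.Prime 7) := ⟨by norm_num⟩
  haveI : Finite (GL (Fin 3) F) := inferInstance
  -- work inside `G`
  set a' : G := ⟨a, ha⟩ with ha'
  set b' : G := ⟨b, hb⟩ with hb'
  have hoa : orderOf a' = 7 := by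
    apply orderOf_eq_prime
    · apply Subtype.ext; simpa using ha7
    · intro h; apply ha1; simpa [ha'] using congrArg Subtype.val h
  have hob : orderOf b' = 7 := by
    apply orderOf_eq_prime
    · apply Subtype.ext; simpa using hb7
    · intro h; apply hb1; simpa [hb'] using congrArg Subtype.val h
  have hpa : IsPGroup 7 (Subgroup.zpowers a') := by
    apply IsPGroup.of_card (n := 1)
    rw [Nat.card_zpowers, hoa, pow_one]
  have hpb : IsPGroup 7 (Subgroup.zpowers b') := by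
    apply IsPGroup.of_card (n := 1)
    rw [Nat.card_zpowers, hob, pow_one]
  obtain ⟨Pa, hPa⟩ := hpa.exists_le_sylow
  obtain ⟨Pb, hPb⟩ := hpb.exists_le_sylow
  -- Sylow subgroups have order 7
  have hcard : ∀ P : Sylow 7 G, Nat.card P = 7 := by
    intro P
    obtain ⟨n, hn⟩ := (P.isPGroup').exists_card_eq
    have h1 : Nat.card P ∣ Nat.card G := Subgroup.card_subgroup_dvd_card _
    have h2 : Nat.card G ∣ Nat.card (GL (Fin 3) F) := Subgroup.card_subgroup_dvd_card G
    have h3 : Nat.card (Subgroup.zpowers a') ∣ Nat.card P := by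
      obtain ⟨g, hg⟩ := MulAction.exists_smul_eq G Pa P
      have h4 : Nat.card (Subgroup.zpowers a') ∣ Nat.card Pa := Subgroup.card_dvd_of_le hPa
      have h5 : Nat.card Pa = Nat.card P := by
        rw [← hg]
        exact (Sylow.card_eq_multiplicity Pa).trans (Sylow.card_eq_multiplicity _).symm
      rwa [h5] at h4
    rw [Nat.card_zpowers, hoa] at h3
    rw [hn] at h1 h3 ⊢
    have hn2 : n < 2 := by
      by_contra hcon
      push Not at hcon
      exact not_dvd_card_GL3 hF (((pow_dvd_pow 7 hcon).trans h1).trans h2)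
    have hn1 : n ≠ 0 := by
      rintro rfl
      norm_num at h3
    have : n = 1 := by omega
    rw [this, pow_one]
  have hPb' : (Pb : Subgroup G) = Subgroup.zpowers b' := by
    symm
    apply Subgroup.eq_of_le_of_card_ge hPb
    rw [hcard Pb, Nat.card_zpowers, hob]
  obtain ⟨g, hg⟩ := MulAction.exists_smul_eq G Pa Pb
  have h1 : g * a' * g⁻¹ ∈ (Pb : Subgroup G) := by
    rw [← hg, Sylow.coe_subgroup_smul, Subgroup.mem_pointwise_smul_iff_inv_smul_mem]
    simp only [MulAut.smul_def, MulAut.conj_inv_apply]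
    have : g⁻¹ * (g * a' * g⁻¹) * g = a' := by group
    rw [this]
    exact hPa (Subgroup.mem_zpowers a')
  rw [hPb'] at h1
  obtain ⟨k, hk⟩ := (mem_zpowers_iff_mem_range_orderOf.1 h1 : _ ∈ Finset.image _ _) |> Finset.mem_image.1
  refine ⟨g.1, g.2, k, ?_⟩
  have := congrArg Subtype.val hk.2
  simpa using this.symm

end sylow

section transport

open Cfsg.Agent.Helper9.SUTr

variable {F F' : Type*} [Field F] [Field F'] {n : ℕ}

theorem map_symm_map (ψ : F ≃+* F') (M : Matrix (Fin n) (Fin n) F') : (M.map ψ.symm).map ψ = M := by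
  ext i j; simp

/-- membership of the transported element in the normaliser of the transported subalgebra -/
theorem tr_mem_subalgebraNormalizer_iff (ψ : F ≃+* F') (P : GL (Fin n) F)
    (K : Subalgebra F (Matrix (Fin n) (Fin n) F)) (K' : Subalgebra F' (Matrix (Fin n) (Fin n) F'))
    (hKK' : ∀ k : Matrix (Fin n) (Fin n) F, k ∈ K ↔
      (((P⁻¹ : GL (Fin n) F) : Matrix (Fin n) (Fin n) F) * k * (P : Matrix (Fin n) (Fin n) F)).map ψ ∈ K')
    (g : GL (Fin n) F) : tr ψ P g ∈ subalgebraNormalizer K' ↔ g ∈ subalgebraNormalizer K := by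
  have hPP : (P : Matrix (Fin n) (Fin n) F) * ((P⁻¹ : GL (Fin n) F) : Matrix (Fin n) (Fin n) F) = 1 := by
    rw [← Units.val_mul, mul_inv_cancel, Units.val_one]
  have hPP' : ((P⁻¹ : GL (Fin n) F) : Matrix (Fin n) (Fin n) F) * (P : Matrix (Fin n) (Fin n) F) = 1 := by
    rw [← Units.val_mul, inv_mul_cancel, Units.val_one]
  -- the key identity
  have key : ∀ k : Matrix (Fin n) (Fin n) F,
      ((tr ψ P g : GL (Fin n) F') : Matrix (Fin n) (Fin n) F') *
        (((P⁻¹ : GL (Fin n) F) : Matrix (Fin n) (Fin n) F) * k * (P : Matrix (Fin n) (Fin n) F)).map ψ *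
        (((tr ψ P g)⁻¹ : GL (Fin n) F') : Matrix (Fin n) (Fin n) F') =
      (((P⁻¹ : GL (Fin n) F) : Matrix (Fin n) (Fin n) F) *
        ((g : Matrix (Fin n) (Fin n) F) * k * ((g⁻¹ : GL (Fin n) F) : Matrix (Fin n) (Fin n) F)) *
        (P : Matrix (Fin n) (Fin n) F)).map ψ := by
    intro k
    rw [← map_inv, tr_val, tr_val]
    have e1 : ∀ A B : Matrix (Fin n) (Fin n) F, A.map ψ * B.map ψ = (A * B).map ψ := by
      intro A B
      exact (Matrix.map_mul (f := (ψ : F →+* F'))).symm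
    rw [e1, e1]
    congr 1
    simp only [Units.val_mul]
    have : ((P⁻¹ : GL (Fin n) F) : Matrix (Fin n) (Fin n) F) * (g : Matrix (Fin n) (Fin n) F) *
        (P : Matrix (Fin n) (Fin n) F) * (((P⁻¹ : GL (Fin n) F) : Matrix (Fin n) (Fin n) F) * k *
        (P : Matrix (Fin n) (Fin n) F)) * (((P⁻¹ : GL (Fin n) F) : Matrix (Fin n) (Fin n) F) *
        ((g⁻¹ : GL (Fin n) F) : Matrix (Fin n) (Fin n) F) * (P : Matrix (Fin n) (Fin n) F)) =
        ((P⁻¹ : GL (Fin n) F) : Matrix (Fin n) (Fin n) F) * (g : Matrix (Fin n) (Fin n) F) *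
        ((P : Matrix (Fin n) (Fin n) F) * ((P⁻¹ : GL (Fin n) F) : Matrix (Fin n) (Fin n) F)) * k *
        ((P : Matrix (Fin n) (Fin n) F) * ((P⁻¹ : GL (Fin n) F) : Matrix (Fin n) (Fin n) F)) *
        ((g⁻¹ : GL (Fin n) F) : Matrix (Fin n) (Fin n) F) * (P : Matrix (Fin n) (Fin n) F) := by
      simp only [mul_assoc]
    rw [this, hPP]
    simp only [mul_one, mul_assoc]
  constructor
  · intro h k
    rw [hKK' k, hKK' _, ← key k]
    exact h _
  · intro h k'
    -- write k' as a transported matrix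
    set k : Matrix (Fin n) (Fin n) F :=
      (P : Matrix (Fin n) (Fin n) F) * k'.map ψ.symm * ((P⁻¹ : GL (Fin n) F) : Matrix (Fin n) (Fin n) F) with hk
    have hk' : (((P⁻¹ : GL (Fin n) F) : Matrix (Fin n) (Fin n) F) * k * (P : Matrix (Fin n) (Fin n) F)).map ψ = k' := by
      have : ((P⁻¹ : GL (Fin n) F) : Matrix (Fin n) (Fin n) F) * k * (P : Matrix (Fin n) (Fin n) F) = k'.map ψ.symm := by
        rw [hk]
        calc ((P⁻¹ : GL (Fin n) F) : Matrix (Fin n) (Fin n) F) * ((P : Matrix (Fin n) (Fin n) F) * k'.map ψ.symm *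
              ((P⁻¹ : GL (Fin n) F) : Matrix (Fin n) (Fin n) F)) * (P : Matrix (Fin n) (Fin n) F)
            = (((P⁻¹ : GL (Fin n) F) : Matrix (Fin n) (Fin n) F) * (P : Matrix (Fin n) (Fin n) F)) * k'.map ψ.symm *
              (((P⁻¹ : GL (Fin n) F) : Matrix (Fin n) (Fin n) F) * (P : Matrix (Fin n) (Fin n) F)) := by
              simp only [mul_assoc]
          _ = k'.map ψ.symm := by rw [hPP', one_mul, mul_one]
      rw [this, map_symm_map]
    rw [← hk', key k, ← hKK' k, ← hKK' _]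
    exact h k

/-- **transport of maximality of a subalgebra normaliser in `SU_n(q)`** -/
theorem isMaximalIn_subalgebraNormalizer_tr (ψ : F ≃+* F') (q : ℕ) (P : GL (Fin n) F) (hP : P ∈ GU n F q)
    (K : Subalgebra F (Matrix (Fin n) (Fin n) F)) (K' : Subalgebra F' (Matrix (Fin n) (Fin n) F'))
    (hKK' : ∀ k : Matrix (Fin n) (Fin n) F, k ∈ K ↔
      (((P⁻¹ : GL (Fin n) F) : Matrix (Fin n) (Fin n) F) * k * (P : Matrix (Fin n) (Fin n) F)).map ψ ∈ K')
    (h : IsMaximalIn (GU n F q ⊓ specialLinear (Fin n) F)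
      (subalgebraNormalizer K ⊓ (GU n F q ⊓ specialLinear (Fin n) F))) :
    IsMaximalIn (GU n F' q ⊓ specialLinear (Fin n) F')
      (subalgebraNormalizer K' ⊓ (GU n F' q ⊓ specialLinear (Fin n) F')) := by
  have h1 := isMaximalIn_map (tr ψ P) h
  have h2 := map_eq_of_mem_iff (tr ψ P) _ _ (tr_mem_iff ψ q P hP)
  have h3 := map_eq_of_mem_iff (tr ψ P) _ _ (tr_mem_subalgebraNormalizer_iff ψ P K K' hKK')
  have h4 : Subgroup.map (tr ψ P).toMonoidHom (subalgebraNormalizer K ⊓ (GU n F q ⊓ specialLinear (Fin n) F)) =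
      subalgebraNormalizer K' ⊓ (GU n F' q ⊓ specialLinear (Fin n) F') := by
    rw [Subgroup.map_inf _ _ _ (tr ψ P).injective, h2, h3]
  rw [h4, h2] at h1
  exact h1

end transport

end Cfsg.Agent.Helper9.SU3Syl
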