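import Mathlib
import Cfsg.Prelude.Def_GeometricClasses
import Cfsg.Agent.Helper3.SU6FldB
import Cfsg.Agent.Lead.SU6FieldA

/-!
# `SU_6(2)`, the degree-three field filter: existence of a hyperbolic frame (helper9)

HALF 1 of helper3's split (exact stub): for a field subalgebra `K ≅ F_64` of `M_6(F_4)` closed under adjoints there
are two `K`-isotropic vectors `v₁, v₂` with `h (k v₁) v₂ = Tr_{K/F} k`, `K`-independent.  Obtained by instantiating
lead's abstract `Herm`/`KForm` calculus with the functional `θ = Tr_{K/F}`.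
-/

set_option autoImplicit false
set_option linter.unusedVariables false
set_option linter.unusedSectionVars false
set_option maxHeartbeats 800000

namespace Cfsg.Agent.Helper9.SU6Fld

open Cfsg Cfsg.Geo Matrix Cfsg.Agent.Helper7.FEx Cfsg.Agent.Helper7.SingerFrame Cfsg.Agent.Helper7.Herm
  Cfsg.Agent.Helper3.SU6Fld Cfsg.Agent.Lead.SU6Field Cfsg.Agent.Lead.FieldQuad

section abstract

variable {F K V : Type*} [Field F] [Field K] [Algebra F K] [AddCommGroup V] [Module F V] [Module K V]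
  [IsScalarTower F K V]

/-- the abstract frame for a prescribed functional `θ` -/
theorem abstract_frame [Finite K] [FiniteDimensional F K] [Nontrivial V] {σ : K → K} {h : V → V → F}
    (H : Herm σ h) (θ : K →ₗ[F] F) (hθ0 : θ ≠ 0) (hθσ : ∀ k, θ (σ k) = θ k ^ 2)
    (hd : Module.finrank K V = 2) (ω : F) (hω : ω ^ 2 + ω + 1 = 0) :
    ∃ v₁ v₂ : V, (∀ k : K, h (k • v₁) v₁ = 0) ∧ (∀ k : K, h (k • v₂) v₂ = 0) ∧
      (∀ k : K, h (k • v₁) v₂ = θ k) ∧ (∀ p r : K, p • v₁ + r • v₂ = 0 → p = 0 ∧ r = 0) := by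
  choose β hβ using fun u v : V => H.exists_beta hθ0 u v
  have B : KForm σ h θ β := ⟨hθ0, hθσ, fun k u v => hβ u v k⟩
  obtain ⟨x, hx⟩ := H.exists_T_ne_zero ω hω
  set e : K := β x x with he
  have he0 : e ≠ 0 := by
    intro h0
    apply hx
    ext k
    rw [Herm.T_apply, B.spec, ← he, h0, mul_zero, map_zero]
    rfl
  have heσ : σ e = e := B.self_fixed H x
  obtain ⟨s, hs⟩ := exists_sqrt_of_two_eq_zero H.twoK e⁻¹
  have hsσ : σ s = s := by
    apply B.sq_inj H
    rw [← H.σ_mul, hs, B.σ_inv H heσ]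
  have hx₁ : β (s • x) (s • x) = 1 := by
    rw [B.smul_left H, B.smul_right H, hsσ, ← mul_assoc, hs, ← he, inv_mul_cancel₀ he0]
  obtain ⟨v₁, v₂, b11, b22, b12, hrep⟩ := B.exists_hyperbolic H hd ω hω (s • x) hx₁
  have b21 : β v₂ v₁ = 1 := by
    rw [B.symm H v₁ v₂, b12, H.σ_one]
  refine ⟨v₁, v₂, ?_, ?_, ?_, ?_⟩
  · intro k
    rw [B.spec, b11, mul_zero, map_zero]
  · intro k
    rw [B.spec, b22, mul_zero, map_zero]
  · intro k
    rw [B.spec, b12, mul_one]
  · intro p r hpr
    constructor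
    · have h1 : β (p • v₁ + r • v₂) v₂ = p := by
        rw [B.add_left H, B.smul_left H, B.smul_left H, b12, b22, mul_one, mul_zero, add_zero]
      rw [hpr, B.zero_left H] at h1
      exact h1.symm
    · have h1 : β (p • v₁ + r • v₂) v₁ = r := by
        rw [B.add_left H, B.smul_left H, B.smul_left H, b11, b21, mul_one, mul_zero, zero_add]
      rw [hpr, B.zero_left H] at h1
      exact h1.symm

end abstract

theorem exists_frame {F : Type*} [Field F] [Fintype F] (hF : Fintype.card F = 4)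
    (K : Subalgebra F (Matrix (Fin 6) (Fin 6) F)) (hK : Cfsg.Geo.IsFieldSubalgebra 3 K)
    (hadj : Cfsg.Geo.IsAdjointClosedFor (Cfsg.hermForm 6 F 2) K) :
    ∃ v₁ v₂ : Fin 6 → F, Cfsg.Agent.Helper3.SU6Fld.Frame K v₁ v₂ := by
  classical
  have hF' : Fintype.card F = 2 ^ 2 := by rw [hF]; norm_num
  haveI := charTwo hF
  letI := Cfsg.Agent.Helper7.FEx.fieldOfSub K hK
  letI := Cfsg.Agent.Helper7.FEx.modOfSub K
  have key : ∀ (a : F) (k : K) (v : Fin 6 → F), (a • k) • v = a • (k • v) :=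
    fun a k v => Cfsg.Agent.Helper7.FEx.smul_assoc' K a k v
  haveI : Finite (Matrix (Fin 6) (Fin 6) F) := inferInstanceAs (Finite (Fin 6 → Fin 6 → F))
  haveI : Finite ↥K := Subtype.finite
  haveI : FiniteDimensional F ↥K := Cfsg.Agent.Helper7.FEx.finrank_pos_of (by norm_num) hK
  haveI : Fintype ↥K := Fintype.ofFinite _
  have hcardK : Nat.card ↥K = 64 := by
    have h1 : Fintype.card ↥K = Fintype.card F ^ Module.finrank F ↥K := Module.card_eq_pow_finrank
    rw [Nat.card_eq_fintype_card, h1, hF, hK.finrank_eq]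
    norm_num
  -- the involution
  let σ : ↥K ≃+* ↥K :=
    { toFun := fun k => ⟨adj k.1, adj_mem hF K hadj k.2⟩
      invFun := fun k => ⟨adj k.1, adj_mem hF K hadj k.2⟩
      left_inv := fun k => Subtype.ext (adj_adj hF _)
      right_inv := fun k => Subtype.ext (adj_adj hF _)
      map_mul' := fun k l => Subtype.ext (by
        show adj (k.1 * l.1) = adj k.1 * adj l.1
        rw [adj_mul hF]
        exact hK.comm _ (adj_mem hF K hadj l.2) _ (adj_mem hF K hadj k.2))
      map_add' := fun k l => Subtype.ext (adj_add hF _ _) }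
  have hσv : ∀ k : ↥K, ((σ k : ↥K) : Matrix (Fin 6) (Fin 6) F) = adj k.1 := fun k => rfl
  have hσ2 : ∀ x, σ (σ x) = x := fun x => Subtype.ext (adj_adj hF _)
  -- a primitive cube root of unity in `F`
  obtain ⟨ω₀, hω0, hω1⟩ : ∃ ω₀ : F, ω₀ ≠ 0 ∧ ω₀ ≠ 1 := by
    by_contra hcon
    push Not at hcon
    have : Fintype.card F ≤ 2 := by
      have hsub : (Finset.univ : Finset F) ⊆ {0, 1} := by
        intro x _
        by_cases hx : x = 0
        · rw [hx]; simp
        · rw [hcon x hx]; simp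
      calc Fintype.card F = (Finset.univ : Finset F).card := rfl
        _ ≤ ({0, 1} : Finset F).card := Finset.card_le_card hsub
        _ ≤ 2 := Finset.card_le_two
    omega
  have hω3 : ω₀ ^ 3 = 1 := by
    have h4 := pow_four hF ω₀
    have : ω₀ * ω₀ ^ 3 = ω₀ * 1 := by rw [mul_one, ← pow_succ', h4]
    exact mul_left_cancel₀ hω0 this
  have hω2 : ω₀ ^ 2 ≠ ω₀ := by
    intro h
    have : ω₀ * ω₀ = ω₀ * 1 := by rw [mul_one, ← pow_two, h]
    exact hω1 (mul_left_cancel₀ hω0 this)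
  have hωq : ω₀ ^ 2 + ω₀ + 1 = 0 := by
    have h : (ω₀ - 1) * (ω₀ ^ 2 + ω₀ + 1) = 0 := by linear_combination hω3
    rcases mul_eq_zero.mp h with h1 | h1
    · exact absurd (sub_eq_zero.mp h1) hω1
    · exact h1
  set ω : ↥K := algebraMap F ↥K ω₀ with hωdef
  have hωv : (ω : Matrix (Fin 6) (Fin 6) F) = ω₀ • (1 : Matrix (Fin 6) (Fin 6) F) := by
    rw [hωdef, Subalgebra.coe_algebraMap, Algebra.algebraMap_eq_smul_one]
  have hσω : σ ω ≠ ω := by
    intro h
    have h1 := congrArg Subtype.val h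
    rw [hσv, hωv, adj_smul, adj_one] at h1
    have h2 := congrFun (congrFun h1 0) 0
    simp only [Matrix.smul_apply, Matrix.one_apply_eq, smul_eq_mul, mul_one] at h2
    exact hω2 h2
  have hσpow := sigma_eq_pow64 hcardK σ hσ2 ⟨ω, hσω⟩
  have h2F : (2 : F) = 0 := CharTwo.two_eq_zero
  have h2K : (2 : ↥K) = 0 := two_eq_zero64 hcardK
  -- the abstract hypotheses
  have H : Herm (fun k : ↥K => σ k) (hermForm 6 F 2) :=
    { two := h2F
      pow4 := pow_four hF
      σ_add := fun a b => map_add σ a b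
      σ_mul := fun a b => map_mul σ a b
      σ_σ := hσ2
      σ_alg := fun c => by
        apply Subtype.ext
        rw [hσv, Subalgebra.coe_algebraMap, Subalgebra.coe_algebraMap, Algebra.algebraMap_eq_smul_one,
          Algebra.algebraMap_eq_smul_one, adj_smul, adj_one]
      add_left := fun u u' v => hermForm_add_left u u' v
      smul_left := fun c u v => hermForm_smul_left c u v
      symm := fun u v => hermForm_swap hF' v u
      bal := fun k u v => by
        show hermForm 6 F 2 ((k : Matrix (Fin 6) (Fin 6) F) *ᵥ u) v =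
          hermForm 6 F 2 u (((σ k : ↥K) : Matrix (Fin 6) (Fin 6) F) *ᵥ v)
        rw [herm_adj hF, hσv]
      nondeg := fun u hu => by
        funext i
        have h1 := hu (Pi.single i 1)
        unfold Cfsg.hermForm at h1
        simp only [Pi.single_apply, ite_pow, one_pow, ne_eq, OfNat.ofNat_ne_zero, not_false_eq_true, zero_pow,
          mul_ite, mul_one, mul_zero, Finset.sum_ite_eq', Finset.mem_univ, if_true] at h1
        exact h1 }
  -- the trace functional
  set θ : ↥K →ₗ[F] F := Algebra.trace F ↥K with hθdef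
  have hθ0 : θ ≠ 0 := Algebra.trace_ne_zero F ↥K
  have hcardF : Nat.card F = 4 := by rw [Nat.card_eq_fintype_card, hF]
  have htr : ∀ x : ↥K, algebraMap F ↥K (θ x) = x + x ^ 4 + x ^ 16 := by
    intro x
    rw [hθdef, FiniteField.algebraMap_trace_eq_sum_pow, hK.finrank_eq, hcardF, Finset.sum_range_succ,
      Finset.sum_range_succ, Finset.sum_range_one]
    norm_num
  have hsq : ∀ a b c : ↥K, (a + b + c) ^ 2 = a ^ 2 + b ^ 2 + c ^ 2 := by
    intro a b c
    have : (a + b + c) ^ 2 = a ^ 2 + b ^ 2 + c ^ 2 + 2 * (a * b + b * c + a * c) := by ring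
    rw [this, h2K, zero_mul, add_zero]
  have hθσ : ∀ k : ↥K, θ (σ k) = θ k ^ 2 := by
    intro k
    apply (algebraMap F ↥K).injective
    rw [map_pow, htr, htr, hσpow, hsq]
    simp only [← pow_mul]
    have h128 : k ^ (8 * 16) = k ^ 2 := by
      have h64 := pow_card64 hcardK k
      calc k ^ (8 * 16) = k ^ 64 * k ^ 64 := by rw [← pow_add]
        _ = k ^ 2 := by rw [h64, pow_two]
    rw [h128]
    ring
  have hd : Module.finrank ↥K (Fin 6 → F) = 2 := by
    have h := Cfsg.Agent.Helper7.FEx.finrank_mul (by norm_num : 0 < 3) K hK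
    rw [Fintype.card_fin] at h
    omega
  obtain ⟨v₁, v₂, h11, h22, h12, hind⟩ :=
    @abstract_frame F ↥K (Fin 6 → F) _ _ _ _ _ _ ⟨key⟩ _ _ _ (fun k : ↥K => σ k) (hermForm 6 F 2) H θ hθ0 hθσ hd
      ω₀ hωq
  refine ⟨v₁, v₂, ⟨?_, ?_, ?_, ?_⟩⟩
  · intro k hk
    exact h11 ⟨k, hk⟩
  · intro k hk
    exact h22 ⟨k, hk⟩
  · intro k hk
    have h1 : hermForm 6 F 2 (k *ᵥ v₁) v₂ = θ ⟨k, hk⟩ := h12 ⟨k, hk⟩
    rw [h1]
    have h2 := congrArg Subtype.val (htr ⟨k, hk⟩)
    rw [Subalgebra.coe_algebraMap, Algebra.algebraMap_eq_smul_one] at h2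
    rw [h2]
    unfold tr3
    rfl
  · intro p hp r hr hpr
    obtain ⟨h1, h2⟩ := hind ⟨p, hp⟩ ⟨r, hr⟩ hpr
    exact ⟨congrArg Subtype.val h1, congrArg Subtype.val h2⟩

end Cfsg.Agent.Helper9.SU6Fld
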