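import Mathlib
import Cfsg.Prelude.Def_GeometricClasses
import Cfsg.Agent.Helper1.AschSp43G
import Cfsg.Agent.Helper9.AschPPT7D

/-!
# S5787 piece (D-R), part R1 (helper9): the group theory of `E32 = 2_-^{1+4}`

`E32` (helper1's model) has exponent `4`, centre `{1, z}`, every characteristic abelian subgroup is central (hence
cyclic) — via the automorphisms `x ↦ x` or `x * w` according as `x` commutes with `w` or not, `w * w = z` — and no
elementary abelian subgroup of order `8`.  `class6_range` transports all of this to the image of an injective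
homomorphism into `GL ι F`.
-/

set_option autoImplicit false
set_option linter.unusedVariables false

namespace Cfsg.Agent.Helper9.Sp4R

open Cfsg Cfsg.Geo Cfsg.Agent.Helper1.AschSp43 Cfsg.Agent.Helper1.AschSp43.E32
open scoped MatrixGroups Matrix

theorem pow_four (x : E32) : x ^ 4 = 1 := by
  revert x; decide +kernel

/-- an element of order four -/
def i4 : E32 := ⟨0, (1, 0), 0⟩

theorem i4_sq_ne : i4 ^ 2 ≠ 1 := by decide

theorem exponent_eq : Monoid.exponent E32 = 4 := by
  have h4 : Monoid.exponent E32 ∣ 4 := Monoid.exponent_dvd_of_forall_pow_eq_one pow_four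
  have h2 : ¬ Monoid.exponent E32 ∣ 2 := by
    intro h
    obtain ⟨k, hk⟩ := h
    apply i4_sq_ne
    rw [hk, pow_mul, Monoid.pow_exponent_eq_one, one_pow]
  have hle : Monoid.exponent E32 ≤ 4 := Nat.le_of_dvd (by norm_num) h4
  interval_cases h : Monoid.exponent E32
  · exact absurd h4 (by norm_num)
  · exact absurd (one_dvd 2) h2
  · exact absurd (dvd_refl 2) h2
  · exact absurd h4 (by norm_num)
  · rfl

theorem mem_center_iff (x : E32) : x ∈ Subgroup.center E32 ↔ x.t = 0 ∧ x.u = 0 := by
  rw [Subgroup.mem_center_iff]
  revert x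
  decide +kernel

/-- the centre is `ℤ/2` -/
def centerEquiv : ZMod 2 ≃ Subgroup.center E32 where
  toFun a := ⟨⟨a, 0, 0⟩, (mem_center_iff _).2 ⟨rfl, rfl⟩⟩
  invFun x := x.1.a
  left_inv a := rfl
  right_inv x := by
    obtain ⟨h1, h2⟩ := (mem_center_iff x.1).1 x.2
    apply Subtype.ext
    ext1
    · rfl
    · exact h1.symm
    · exact h2.symm

theorem card_center : Nat.card (Subgroup.center E32) = 2 := by
  rw [← Nat.card_congr centerEquiv, Nat.card_eq_fintype_card, ZMod.card]

/-- the "orthogonal transvection" attached to `w` -/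
def phiFun (w x : E32) : E32 := if x * w = w * x then x else x * w

theorem phiFun_mul (w : E32) (hw : w * w = z) (x y : E32) : phiFun w (x * y) = phiFun w x * phiFun w y := by
  revert w x y; decide +kernel

theorem phiFun_inj (w : E32) (hw : w * w = z) : Function.Injective (phiFun w) := by
  intro x y
  revert w x y; decide +kernel

/-- the automorphism attached to `w` with `w * w = z` -/
noncomputable def phiAut (w : E32) (hw : w * w = z) : E32 ≃* E32 :=
  MulEquiv.ofBijective (MonoidHom.mk' (phiFun w) (phiFun_mul w hw))
    ((Finite.injective_iff_bijective).1 (phiFun_inj w hw))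

theorem phiAut_apply (w : E32) (hw : w * w = z) (x : E32) : phiAut w hw x = phiFun w x := rfl

theorem exists_not_commute (x : E32) (hx : ¬ (x.t = 0 ∧ x.u = 0)) :
    ∃ w : E32, w * w = z ∧ x * phiFun w x ≠ phiFun w x * x := by
  revert x; decide +kernel

/-- a characteristic abelian subgroup is central -/
theorem le_center_of_characteristic (A : Subgroup E32) (hA : A.Characteristic) (hc : IsMulCommutative A) :
    A ≤ Subgroup.center E32 := by
  intro x hx
  rw [mem_center_iff]
  by_contra hne
  have hmem : ∀ ϕ : E32 ≃* E32, ϕ x ∈ A := by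
    intro ϕ
    have h := Subgroup.characteristic_iff_comap_eq.1 hA ϕ
    have : x ∈ A.comap ϕ.toMonoidHom := by rw [h]; exact hx
    exact this
  have hcomm : ∀ y ∈ A, x * y = y * x := by
    intro y hy
    have := hc.is_comm.comm (⟨x, hx⟩ : A) ⟨y, hy⟩
    exact congrArg Subtype.val this
  obtain ⟨w, hw, h⟩ := exists_not_commute x hne
  exact h (hcomm _ (hmem (phiAut w hw)))

/-- every characteristic abelian subgroup is cyclic -/
theorem cyclic_of_characteristic (A : Subgroup E32) (hA : A.Characteristic) (hc : IsMulCommutative A) :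
    IsCyclic A := by
  have hle := le_center_of_characteristic A hA hc
  let f : A →* Multiplicative (ZMod 2) :=
    { toFun := fun x => Multiplicative.ofAdd x.1.a
      map_one' := rfl
      map_mul' := by
        intro x y
        have hx := (mem_center_iff x.1).1 (hle x.2)
        have hy := (mem_center_iff y.1).1 (hle y.2)
        show Multiplicative.ofAdd ((x.1 * y.1).a) = Multiplicative.ofAdd x.1.a * Multiplicative.ofAdd y.1.a
        rw [mul_def, ← ofAdd_add]
        congr 1
        show x.1.a + y.1.a + coc x.1 y.1 = x.1.a + y.1.a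
        rw [coc, hx.1, hx.2]
        simp }
  have hf : Function.Injective f := by
    intro x y hxy
    have hx := (mem_center_iff x.1).1 (hle x.2)
    have hy := (mem_center_iff y.1).1 (hle y.2)
    have h1 : x.1.a = y.1.a := Multiplicative.ofAdd.injective hxy
    apply Subtype.ext
    ext1
    · exact h1
    · rw [hx.1, hy.1]
    · rw [hx.2, hy.2]
  exact isCyclic_of_injective f hf

/-- three pairwise commuting involutions are dependent -/
theorem no_three (x y w : E32) (hx : x * x = 1) (hy : y * y = 1) (hw : w * w = 1) (hxy : x * y = y * x)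
    (hxw : x * w = w * x) (hyw : y * w = w * y) :
    x = 1 ∨ y = 1 ∨ y = x ∨ w = 1 ∨ w = x ∨ w = y ∨ w = x * y := by
  revert x y w; decide +kernel

end Cfsg.Agent.Helper9.Sp4R
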