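import Mathlib
import Cfsg.Prelude.Def_GeometricClasses
import Cfsg.Agent.Helper1.AschSp43G
import Cfsg.Agent.Helper9.AschPPT7D
import Cfsg.Agent.Helper9.Sp4R1A

/-!
# S5787 piece (D-R), part R1 (helper9): `class6_range`

The group theory of `E32 = 2_-^{1+4}` (part R1A) transported to the image of an injective homomorphism into `GL ι F`.
-/

set_option autoImplicit false
set_option linter.unusedVariables false

namespace Cfsg.Agent.Helper9.Sp4R

open Cfsg Cfsg.Geo Cfsg.Agent.Helper1.AschSp43 Cfsg.Agent.Helper1.AschSp43.E32
open scoped MatrixGroups Matrix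

/-- `E32` has no elementary abelian subgroup of order `8` -/
theorem card_lt_eight (A : Subgroup E32) (hc : ∀ x ∈ A, ∀ y ∈ A, x * y = y * x) (h2 : ∀ x ∈ A, x * x = 1) :
    Nat.card A < 8 := by
  classical
  by_contra hcon
  push Not at hcon
  -- pick three independent elements
  have hcard : Nat.card A = (A : Set E32).ncard := (Nat.card_coe_set_eq _)
  rw [hcard] at hcon
  have hex : ∀ s : Finset E32, s.card < 8 → ∃ a ∈ A, a ∉ s := by
    intro s hs
    by_contra hne
    push Not at hne
    have hsub : (A : Set E32) ⊆ (s : Set E32) := fun a ha => hne a ha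
    have := Set.ncard_le_ncard hsub (Finset.finite_toSet s)
    rw [Set.ncard_coe_finset] at this
    omega
  obtain ⟨x, hxA, hx⟩ := hex {1} (by simp)
  obtain ⟨y, hyA, hy⟩ := hex {1, x} (lt_of_le_of_lt (Finset.card_le_two) (by norm_num))
  obtain ⟨w, hwA, hw⟩ := hex {1, x, y, x * y} (lt_of_le_of_lt (Finset.card_le_four) (by norm_num))
  simp only [Finset.mem_insert, Finset.mem_singleton, not_or] at hx hy hw
  rcases no_three x y w (h2 x hxA) (h2 y hyA) (h2 w hwA) (hc x hxA y hyA) (hc x hxA w hwA) (hc y hyA w hwA)
    with h | h | h | h | h | h | h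
  · exact hx h
  · exact hy.1 h
  · exact hy.2 h
  · exact hw.1 h
  · exact hw.2.1 h
  · exact hw.2.2.1 h
  · exact hw.2.2.2 h

section transport

variable {ι : Type} [Fintype ι] [DecidableEq ι] {F : Type*} [Field F]

/-- **R1**: the image of `E32` under an injective homomorphism into `GL ι F` is of symplectic type, of order `32`, with
centre of order `2`, of minus type -/
theorem class6_range (ρ : E32 →* GL ι F) (hρ : Function.Injective ρ) :
    IsSymplecticTypeGroup 2 ρ.range ∧ Nat.card ρ.range = 32 ∧ Nat.card (Subgroup.center ρ.range) = 2 ∧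
      IsOfMinusType 2 ρ.range := by
  classical
  set e : E32 ≃* ρ.range := MonoidHom.ofInjective hρ with he
  have hcard : Nat.card ρ.range = 32 := by
    rw [← Nat.card_congr e.toEquiv, E32.card_eq]
  refine ⟨⟨Nat.prime_two, IsPGroup.of_card (n := 5) (by rw [hcard]; norm_num),
    Cfsg.Agent.Helper9.AschPP.cyclic_of_characteristic_of_mulEquiv e cyclic_of_characteristic, ?_⟩, hcard, ?_, ?_⟩
  · rw [← Monoid.exponent_eq_of_mulEquiv e, exponent_eq]
    norm_num
  · rw [← Nat.card_congr (Subgroup.centerCongr e).toEquiv, card_center]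
  · intro A hA h2
    set A' : Subgroup E32 := A.comap e.toMonoidHom with hA'
    have hcardA : Nat.card A = Nat.card A' := by
      have : A' ≃ A :=
        { toFun := fun x => ⟨e x.1, x.2⟩
          invFun := fun y => ⟨e.symm y.1, by
            show e (e.symm y.1) ∈ A
            rw [MulEquiv.apply_symm_apply]
            exact y.2⟩
          left_inv := fun x => by apply Subtype.ext; simp
          right_inv := fun y => by apply Subtype.ext; simp }
      exact (Nat.card_congr this).symm
    rw [hcardA]
    have h8 : (2 : ℕ) ^ (2 + 1) = 8 := by norm_num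
    rw [h8]
    apply card_lt_eight A'
    · intro x hx y hy
      have := hA.is_comm.comm (⟨e x, hx⟩ : A) ⟨e y, hy⟩
      have h1 := congrArg Subtype.val this
      simp only [Subgroup.coe_mul] at h1
      rw [← map_mul, ← map_mul] at h1
      exact e.injective h1
    · intro x hx
      have h1 := h2 (e x) hx
      rw [← map_mul] at h1
      have : e (x * x) = e 1 := by rw [h1, map_one]
      exact e.injective this

end transport

end Cfsg.Agent.Helper9.Sp4R
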