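import Mathlib
import Cfsg.Prelude.Def_GeometricClasses
import Cfsg.Agent.Lead.AschBase
import Cfsg.Agent.Helper2.AschTrB
import Cfsg.Agent.Helper2.AschTrD
import Cfsg.Agent.Helper6.AschCompSym
import Cfsg.Agent.Helper6.AschGSpC6
import Cfsg.Agent.Helper6.AschGSpMinusB
import Cfsg.Agent.Helper6.AschGSpTr

/-!
# Sp_8 (S5823), slot F2, leaf (M) (helper9): order and minus type of an absolutely irreducible group with commutators
`±1` fixing a symplectic form (exact stub of `notes/helper6_f2_stubs.lean.txt`)
-/

set_option autoImplicit false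
set_option linter.unusedVariables false
set_option linter.style.haveILetI false

namespace Cfsg.Agent.Helper9.SpM

open Cfsg Cfsg.Geo Cfsg.Agent.Lead.Asch Cfsg.Agent.Helper2.AschTr Cfsg.Agent.Helper6.AschComp
open scoped MatrixGroups Matrix commutatorElement

variable {X : Type} [Fintype X] [DecidableEq X] {F : Type*} [Field F]

theorem card_and_minus_of_symplectic [Fintype F] (R : Subgroup (GL X F)) (a : ℕ) (hX : Fintype.card X = 2 ^ a)
    (h2 : (2 : F) ≠ 0) (habs : ActsAbsolutelyIrreducibly (matrixSet R)) (hneg : (-1 : GL X F) ∈ R)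
    (hcomm : ∀ x ∈ R, ∀ y ∈ R, x * y = y * x ∨ x * y = -1 * (y * x))
    (f : (X → F) → (X → F) → F) (hf : IsSymplecticForm f) (hfix : FixesForm (matrixSet R) f) :
    Nat.card R = 2 ^ (1 + 2 * a) ∧ IsOfMinusType a R := by
  classical
  set n := 2 ^ a with hn
  have hn0 : 0 < n := Nat.pos_of_ne_zero (by positivity)
  let e : X ≃ Fin n := Fintype.equivFinOfCardEq hX
  set N : Subgroup (GL (Fin n) F) := pb e.symm R with hN
  set φ : N ≃* R := pbEquiv e.symm R with hφ
  have hnegS : (-1 : GL X F) ∈ scalars X F := by
    rw [mem_scalars_iff]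
    refine ⟨-1, ?_⟩
    simp
  -- the running hypotheses
  have hS : SymC n F N := by
    refine ⟨hn0, actsAbsolutelyIrreducibly_pb e.symm habs, ?_⟩
    rw [Subgroup.commutator_le]
    intro x hx y hy
    rw [← glReindex_mem_scalars_iff e.symm, map_commutatorElement]
    have hx' : glReindex e.symm x ∈ R := hx
    have hy' : glReindex e.symm y ∈ R := hy
    rcases hcomm _ hx' _ hy' with h | h
    · have : ⁅glReindex e.symm x, glReindex e.symm y⁆ = 1 := by
        rw [commutatorElement_eq_one_iff_mul_comm]
        exact h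
      rw [this]
      exact Subgroup.one_mem _
    · have : ⁅glReindex e.symm x, glReindex e.symm y⁆ = -1 := by
        rw [commutatorElement_def, h]
        simp [mul_assoc]
      rw [this]
      exact hnegS
  -- the form
  have hpbN : ∀ g : GL X F, g ∈ pb e N → g ∈ R := by
    intro g hg
    have h1 : glReindex e.symm (glReindex e g) ∈ R := hg
    have h2 : glReindex e.symm (glReindex e g) = g := by
      apply Units.ext
      rw [glReindex_val, glReindex_val, Matrix.submatrix_submatrix]
      simp
    rwa [h2] at h1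
  have hfix' : FixesForm (matrixSet N) (pf e f) := by
    apply fixesForm_pf e
    rintro _ ⟨g, hg, rfl⟩ u v
    exact hfix _ ⟨g, hpbN g hg, rfl⟩ u v
  have hf' : IsSymplecticForm (pf e f) := isSymplecticForm_pf e hf
  -- the scalars of `N` are `±1`
  set Z : Subgroup N := (scalars (Fin n) F).subgroupOf N with hZ
  have hnegN : sc n F (-1) ∈ N := by
    show glReindex e.symm (sc n F (-1)) ∈ R
    have : glReindex e.symm (sc n F (-1)) = -1 := by
      apply Units.ext
      rw [glReindex_val, sc_val]
      ext i j
      simp [Matrix.one_apply]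
    rw [this]
    exact hneg
  have hne : sc n F (-1) ≠ 1 := by
    intro h
    have h1 := congrArg (fun g : GL (Fin n) F => (g : Matrix (Fin n) (Fin n) F) ⟨0, hn0⟩ ⟨0, hn0⟩) h
    simp only [sc_val, Units.val_neg, Units.val_one, Matrix.smul_apply, Matrix.one_apply_eq, smul_eq_mul,
      mul_one] at h1
    apply h2
    linear_combination (-1 : F) * h1
  let zneg : Z := ⟨⟨sc n F (-1), hnegN⟩, by
    rw [hZ, Subgroup.mem_subgroupOf]
    exact sc_mem _⟩
  have hzcases : ∀ x : Z, x = 1 ∨ x = zneg := by
    rintro ⟨⟨x, hxN⟩, hx⟩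
    rw [hZ, Subgroup.mem_subgroupOf] at hx
    obtain ⟨c, rfl⟩ := hx
    have hc := Cfsg.Agent.Helper6.AschGSp.scalar_sq_of_fixes hn0 hf' hfix' c hxN
    have hc' : ((c : F) - 1) * ((c : F) + 1) = 0 := by linear_combination hc
    rcases mul_eq_zero.1 hc' with h | h
    · left
      have : c = 1 := Units.ext (by rw [Units.val_one]; exact sub_eq_zero.1 h)
      subst this
      apply Subtype.ext
      apply Subtype.ext
      exact map_one _
    · right
      have : c = -1 := Units.ext (by rw [Units.val_neg, Units.val_one]; exact eq_neg_of_add_eq_zero_left h)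
      subst this
      rfl
  have hzne : (1 : Z) ≠ zneg := by
    intro h
    have h1 := congrArg (fun x : Z => ((x : N) : GL (Fin n) F)) h
    exact hne h1.symm
  have hcardZ : Nat.card Z = 2 := by
    rw [Nat.card_eq_two_iff]
    refine ⟨1, zneg, hzne, ?_⟩
    ext x
    simp only [Set.mem_insert_iff, Set.mem_singleton_iff, Set.mem_univ, iff_true]
    exact hzcases x
  have hcardN : Nat.card N = n * n * 2 := by
    rw [Subgroup.card_eq_card_quotient_mul_card_subgroup Z, hcardZ]
    congr 1
    exact SymC.card_Q hS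
  constructor
  · rw [← Nat.card_congr φ.toEquiv, hcardN, hn]
    ring
  · apply Cfsg.Agent.Helper6.AschGSp.isOfMinusType_of_mulEquiv φ.symm
    exact Cfsg.Agent.Helper6.AschGSp.isOfMinusType_of_symplectic hS h2 hf' hfix' hn (le_of_eq hcardZ)

end Cfsg.Agent.Helper9.SpM
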