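import Cfsg.Agent.Helper9.SpOSTL

set_option autoImplicit false
set_option linter.unusedSectionVars false
set_option linter.unusedVariables false

/-! S5666, case `dim U = 2` (helper4's direct route), step (S3) in the shape wanted by helper2's
(S5) and helper5's assembly (helper9): the `W`-support `suppW ht f₁ P` of a subspace `P ≤ V`, the
smallest subspace of `W` containing all contractions `evU ht (f₁.flip u) p`; it has dimension at
most `dim U * dim P`, and a vector `z` perpendicular to it has `U ⊗ z ⊥ P`. -/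

namespace Cfsg.Agent.Helper9.SpOA2

open Module Cfsg.Agent.Helper7.ExtF Cfsg.Agent.Helper8.Tens Cfsg.Agent.Helper6.SpO

variable {F : Type*} [Field F] {U W V : Type*} [AddCommGroup U] [Module F U]
  [AddCommGroup W] [Module F W] [AddCommGroup V] [Module F V]
  {t : U →ₗ[F] W →ₗ[F] V} {B : LinearMap.BilinForm F V} {f₁ : LinearMap.BilinForm F U}
  {f₂ : LinearMap.BilinForm F W} {X : Subgroup (V ≃ₗ[F] V)}

/-- the `W`-support of `P`. -/
def suppW (ht : IsTensorProduct t) (f₁ : LinearMap.BilinForm F U) (P : Submodule F V) :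
    Submodule F W :=
  Submodule.span F {w | ∃ u : U, ∃ p ∈ P, evU ht (f₁.flip u) p = w}

theorem evU_mem_suppW (ht : IsTensorProduct t) (f₁ : LinearMap.BilinForm F U)
    {P : Submodule F V} {p : V} (hp : p ∈ P) (u : U) : evU ht (f₁.flip u) p ∈ suppW ht f₁ P :=
  Submodule.subset_span ⟨u, p, hp, rfl⟩

/-- `suppW` is the smallest subspace containing the contractions. -/
theorem suppW_le_iff (ht : IsTensorProduct t) (f₁ : LinearMap.BilinForm F U) (P : Submodule F V)
    (W'' : Submodule F W) :
    suppW ht f₁ P ≤ W'' ↔ ∀ p ∈ P, ∀ u : U, evU ht (f₁.flip u) p ∈ W'' := by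
  constructor
  · intro hle p hp u
    exact hle (evU_mem_suppW ht f₁ hp u)
  · intro hall
    rw [suppW, Submodule.span_le]
    rintro w ⟨u, p, hp, rfl⟩
    exact hall p hp u

/-- the bilinear map `(u, p) ↦ evU (f₁.flip u) p`. -/
noncomputable def suppMap' (ht : IsTensorProduct t) (f₁ : LinearMap.BilinForm F U)
    (P : Submodule F V) : U →ₗ[F] P →ₗ[F] W :=
  LinearMap.mk₂ F (fun u p => evU ht (f₁.flip u) (p : V))
    (fun u u' p => by
      show evU ht (f₁.flip (u + u')) _ = _
      rw [map_add, evU_add, LinearMap.add_apply])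
    (fun c u p => by
      show evU ht (f₁.flip (c • u)) _ = _
      rw [map_smul, evU_smul, LinearMap.smul_apply])
    (fun u p p' => by
      show evU ht (f₁.flip u) ((p + p' : P) : V) = _
      rw [Submodule.coe_add, map_add])
    (fun c u p => by
      show evU ht (f₁.flip u) ((c • p : P) : V) = _
      rw [Submodule.coe_smul, map_smul])

/-- the values of a bilinear map on two spaces with finite bases lie in the span of the values on
the bases. -/
theorem bilin_mem_span' {ι κ : Type*} [Fintype ι] [Fintype κ] {M N : Type*} [AddCommGroup M]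
    [Module F M] [AddCommGroup N] [Module F N] (b : Basis ι F M) (c : Basis κ F N)
    (φ : M →ₗ[F] N →ₗ[F] W) (x : M) (y : N) :
    φ x y ∈ Submodule.span F (Set.range (fun p : ι × κ => φ (b p.1) (c p.2))) := by
  have h1 : ∀ x : M, ∀ j : κ,
      φ x (c j) ∈ Submodule.span F (Set.range (fun p : ι × κ => φ (b p.1) (c p.2))) := by
    intro x j
    have hx : x = ∑ i : ι, (b.repr x i : F) • (b i : M) := (b.sum_repr x).symm
    rw [hx, map_sum, LinearMap.sum_apply]
    refine Submodule.sum_mem _ (fun i _ => ?_)
    rw [map_smul, LinearMap.smul_apply]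
    exact Submodule.smul_mem _ _ (Submodule.subset_span ⟨(i, j), rfl⟩)
  have hy : y = ∑ j : κ, (c.repr y j : F) • (c j : N) := (c.sum_repr y).symm
  rw [hy, map_sum]
  refine Submodule.sum_mem _ (fun j _ => ?_)
  rw [map_smul]
  exact Submodule.smul_mem _ _ (h1 x j)

section

variable [FiniteDimensional F U] [FiniteDimensional F W] [FiniteDimensional F V]

/-- the `W`-support has dimension at most `dim U * dim P`. -/
theorem finrank_suppW_le_mul (ht : IsTensorProduct t) (f₁ : LinearMap.BilinForm F U)
    (P : Submodule F V) : finrank F ↥(suppW ht f₁ P) ≤ finrank F U * finrank F ↥P := by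
  set b : Basis (Fin (finrank F U)) F U := Module.finBasis F U with hb
  set c : Basis (Fin (finrank F ↥P)) F ↥P := Module.finBasis F ↥P with hc
  set φ := suppMap' ht f₁ P with hφ
  set ψ : Fin (finrank F U) × Fin (finrank F ↥P) → W := fun p => φ (b p.1) (c p.2) with hψ
  have hle : suppW ht f₁ P ≤ Submodule.span F (Set.range ψ) := by
    rw [suppW, Submodule.span_le]
    rintro w ⟨u, p, hp, rfl⟩
    exact bilin_mem_span' b c φ u ⟨p, hp⟩
  have h1 := Submodule.finrank_mono hle
  have h2 : finrank F ↥(Submodule.span F (Set.range ψ)) ≤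
      Fintype.card (Fin (finrank F U) × Fin (finrank F ↥P)) := finrank_range_le_card ψ
  have h3 : Fintype.card (Fin (finrank F U) × Fin (finrank F ↥P)) =
      finrank F U * finrank F ↥P := by simp
  omega

/-- **(S3)**: for `dim U = 2` and `dim P ≤ 2` the `W`-support has dimension at most `4`. -/
theorem finrank_suppW_le_four (ht : IsTensorProduct t) (hU2 : finrank F U = 2)
    (f₁ : LinearMap.BilinForm F U) (P : Submodule F V) (hP : finrank F ↥P ≤ 2) :
    finrank F ↥(suppW ht f₁ P) ≤ 4 := by
  have := finrank_suppW_le_mul ht f₁ P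
  rw [hU2] at this
  omega

/-- the plane `g₀ (U ⊗ y)` has dimension `dim U`. -/
theorem finrank_img_fib (ht : IsTensorProduct t) (g₀ : V ≃ₗ[F] V) {y : W} (hy : y ≠ 0) :
    finrank F ↥(img g₀ (fib t y)) = finrank F U := by
  rw [finrank_img, finrank_fib ht hy]

/-- a vector perpendicular to the `W`-support of `P` has `U ⊗ z ⊥ P`. -/
theorem B_eq_zero_of_perp_suppW (ht : IsTensorProduct t) (h : Hyp t B f₁ f₂ X)
    {P : Submodule F V} {z : W} (hz : ∀ w ∈ suppW ht f₁ P, f₂ z w = 0) :
    ∀ p ∈ P, ∀ u : U, B p (t u z) = 0 := by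
  intro p hp u
  rw [H9.B_pure ht h, h.symm₂]
  exact hz _ (evU_mem_suppW ht f₁ hp u)

/-- conversely the contractions are detected by the form. -/
theorem B_pure_supp (ht : IsTensorProduct t) (h : Hyp t B f₁ f₂ X) (p : V) (u : U) (z : W) :
    B p (t u z) = f₂ (evU ht (f₁.flip u) p) z := H9.B_pure ht h p u z

end

end Cfsg.Agent.Helper9.SpOA2
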