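import Cfsg.Agent.Helper9.SpOSTL2
import Cfsg.Agent.Helper2.SpOLQD
import Cfsg.Agent.Helper7.SpOStab
import Cfsg.Agent.Helper8.SpOL3C

set_option autoImplicit false
set_option linter.unusedSectionVars false
set_option linter.unusedVariables false

/-! S5666 (helper9): assembly of the `dim U ≥ 3` branch of `mainSO` from the leaves [LQ] (helper2),
[STAB] (helper7), [L3U] (helper8), [MAINU]/[STL]/[OPP] (helper9, helper3), modulo [A2]. -/

namespace Cfsg.Agent.Helper6.SpO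

open Module Cfsg.Agent.Helper7.ExtF Cfsg.Agent.Helper8.Tens Cfsg.Agent.Helper9.TensFlip

variable {F : Type*} [Field F] {U W V : Type*} [AddCommGroup U] [Module F U]
  [AddCommGroup W] [Module F W] [AddCommGroup V] [Module F V]
  {t : U →ₗ[F] W →ₗ[F] V} {B : LinearMap.BilinForm F V} {f₁ : LinearMap.BilinForm F U}
  {f₂ : LinearMap.BilinForm F W} {X : Subgroup (V ≃ₗ[F] V)}
  [FiniteDimensional F U] [FiniteDimensional F W] [FiniteDimensional F V]

/-- the `dim U ≥ 3` branch of `mainSO`, modulo [A2]. -/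
theorem mainSO_of_A2 [Finite F] (ht : IsTensorProduct t) (h : Hyp t B f₁ f₂ X)
    (ha : 3 ≤ finrank F U) (hb : 3 ≤ finrank F W) (hn : 14 ≤ finrank F U * finrank F W)
    (hex : ¬ (Nat.card F = 3 ∧ finrank F W = 3))
    (hA2 : (∀ u : U, u ≠ 0 → ∀ g ∈ X, InQU ht f₁ u g → ∃ c : F, g = yA ht f₁ h.alt₁ u c) →
      ∀ u : U, u ≠ 0 → ∀ g ∈ X, InRU ht f₁ u g → IsTens t g) :
    HasPureTv t B h.altB X ∨ ∀ g ∈ X, IsTens t g := by
  by_cases hno : HasPureTv t B h.altB X
  · exact Or.inl hno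
  · right
    have ha2 : 2 ≤ finrank F U := by omega
    have hLQ : ∀ u : U, u ≠ 0 → ∀ g ∈ X, InQU ht f₁ u g → ∃ c : F, g = yA ht f₁ h.alt₁ u c :=
      fun u hu g hg hQ => LQ ht h ha2 hb hex hno hu hg hQ
    have hA2' := hA2 hLQ
    have hstab : ∀ u : U, u ≠ 0 → ∀ g ∈ X, img g (fibU t u) = fibU t u → IsTens t g :=
      fun u hu g hg hS => stabU ht h ha2 hb hLQ hA2' hu hg hS
    have hyp := rootHypU ht h ha2 hb hn hLQ hA2' hstab
    exact mainU' ht h ha (by omega) hLQ hstab hyp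

end Cfsg.Agent.Helper6.SpO
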