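import Cfsg.Agent.Helper2.SpOLQB
import Cfsg.Agent.Helper5.TensSpSeedBridge

set_option autoImplicit false
set_option linter.unusedSectionVars false
set_option linter.unusedVariables false

/-! S5666 (helper9): one non-trivial symplectic transvection with a pure centre `t u z` in `X`
gives the full root group (`HasPureTv`): conjugate by the torus `u ↦ λ u, u* ↦ λ⁻¹ u*` to get the
parameters `λ² c`, and every element of a field of characteristic `≠ 2` is a difference of two
squares. -/

namespace Cfsg.Agent.Helper6.SpO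

open Module Cfsg.Agent.Helper7.ExtF Cfsg.Agent.Helper8.Tens Cfsg.Agent.Helper3.TensOm
  Cfsg.Agent.Helper5.TensSpFin

variable {F : Type*} [Field F] {U W V : Type*} [AddCommGroup U] [Module F U]
  [AddCommGroup W] [Module F W] [AddCommGroup V] [Module F V]
  {t : U →ₗ[F] W →ₗ[F] V} {B : LinearMap.BilinForm F V} {f₁ : LinearMap.BilinForm F U}
  {f₂ : LinearMap.BilinForm F W} {X : Subgroup (V ≃ₗ[F] V)}

namespace H9

theorem Tv_mul (halt : ∀ v, B v v = 0) (v : V) (c c' : F) :
    Tv B halt v c * Tv B halt v c' = Tv B halt v (c + c') := by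
  apply LinearEquiv.ext
  intro x
  rw [LinearEquiv.mul_apply, Tv_apply, Tv_apply, Tv_apply, map_add, map_smul,
    LinearMap.add_apply, LinearMap.smul_apply, halt, smul_zero, add_zero, add_mul, add_smul]
  abel

theorem Tv_zero' (halt : ∀ v, B v v = 0) (v : V) : Tv B halt v 0 = 1 := by
  apply LinearEquiv.ext
  intro x
  rw [Tv_apply, zero_mul, zero_smul, add_zero]
  rfl

theorem Tv_inv (halt : ∀ v, B v v = 0) (v : V) (c : F) :
    (Tv B halt v c)⁻¹ = Tv B halt v (-c) := by
  apply inv_eq_of_mul_eq_one_right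
  rw [Tv_mul, add_neg_cancel, Tv_zero']

end H9

variable [FiniteDimensional F U] [FiniteDimensional F W] [FiniteDimensional F V]

/-- one non-trivial transvection with a pure centre gives the full root group. -/
theorem hasPureTv_of_one (h : Hyp t B f₁ f₂ X) {u : U} {z : W} (hu : u ≠ 0)
    (hz : z ≠ 0) {c : F} (hc : c ≠ 0) (hT : Tv B h.altB (t u z) c ∈ X) :
    HasPureTv t B h.altB X := by
  refine ⟨u, z, hu, hz, ?_⟩
  obtain ⟨us, hus⟩ := exists_pair f₁ h.nd₁ hu
  -- squares
  have hsq : ∀ l : F, Tv B h.altB (t u z) (l * l * c) ∈ X := by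
    intro l
    by_cases hl : l = 0
    · rw [hl, mul_zero, zero_mul, H9.Tv_zero']
      exact X.one_mem
    have hinj : Function.Injective (torL f₁ u us l) := by
      rw [injective_iff_map_eq_zero]
      intro x hx
      exact isom_injective f₁ h.nd₁ _ (torL_isom h.alt₁ hus hl) hx
    set A : U ≃ₗ[F] U := LinearEquiv.ofInjectiveEndo _ hinj with hA
    have hAx : ∀ x, A x = torL f₁ u us l x := fun x => by
      rw [hA, LinearEquiv.coe_ofInjectiveEndo]
    obtain ⟨k, hk, hkt⟩ := movSp h A (fun x y => by rw [hAx, hAx, torL_isom h.alt₁ hus hl])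
    have h1 := conj_Tv h.altB k (h.isom k hk) (t u z) c
    have h2 : k (t u z) = l • t u z := by
      rw [hkt, hAx, torL_u h.alt₁ hus, LinearMap.map_smul₂]
    rw [h2, Tv_smul] at h1
    rw [← h1]
    exact X.mul_mem (X.mul_mem hk hT) (X.inv_mem hk)
  intro x
  have h2 : (2 : F) ≠ 0 := h.two
  have e : x = ((x / c + 1) / 2) * ((x / c + 1) / 2) * c + -(((x / c - 1) / 2) * ((x / c - 1) / 2) * c) := by
    field_simp
    ring
  rw [e, ← H9.Tv_mul, ← H9.Tv_inv]
  exact X.mul_mem (hsq _) (X.inv_mem (hsq _))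

end Cfsg.Agent.Helper6.SpO
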