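import Cfsg.Agent.Helper9.TensU2
import Cfsg.Agent.Helper3.OppPair

set_option autoImplicit false
set_option linter.unusedSectionVars false
set_option linter.unusedVariables false

/-! S5666 [MAIN-U] (helper9), part 3: the root groups `{yB w c}`, and the packaging of the
max-intersection argument with helper3's opposite-pair lemma: if for every max pair `(S, R)` the
elements `l` of the group with `(l - 1) V ≤ S + R`, `l = 1` on `S^⊥ ⊓ R^⊥` and `l S = S` are root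
elements of `S` (hypothesis [STL]), then the group permutes the fibres (finite field of odd
characteristic). -/

namespace Cfsg.Agent.Helper9.TensU

open Module Cfsg.Agent.Helper7.ExtF Cfsg.Agent.Helper8.OrthOrder Cfsg.Agent.Helper3.TensOm
  Cfsg.Agent.Helper8.Tens

variable {F : Type*} [Field F] {U W V : Type*} [AddCommGroup U] [Module F U]
  [AddCommGroup W] [Module F W] [AddCommGroup V] [Module F V]
  {t : U →ₗ[F] W →ₗ[F] V} {f₂ : LinearMap.BilinForm F W}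

theorem yB_mul (ht : IsTensorProduct t) (halt₂ : ∀ w, f₂ w w = 0) (w : W) (c c' : F) :
    yB ht f₂ halt₂ w c * yB ht f₂ halt₂ w c' = yB ht f₂ halt₂ w (c + c') := by
  apply equiv_ext_pure ht
  intro u w'
  rw [LinearEquiv.mul_apply, yB_t, yB_t, yB_t]
  congr 1
  rw [map_add, LinearMap.add_apply, map_smul, LinearMap.smul_apply, halt₂, smul_zero, add_zero,
    add_mul, add_smul]
  abel

theorem yB_zero (ht : IsTensorProduct t) (halt₂ : ∀ w, f₂ w w = 0) (w : W) :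
    yB ht f₂ halt₂ w 0 = 1 := by
  apply equiv_ext_pure ht
  intro u w'
  rw [yB_t, zero_mul, zero_smul, add_zero]
  rfl

theorem yB_inv' (ht : IsTensorProduct t) (halt₂ : ∀ w, f₂ w w = 0) (w : W) (c : F) :
    (yB ht f₂ halt₂ w c)⁻¹ = yB ht f₂ halt₂ w (-c) := by
  apply inv_eq_of_mul_eq_one_right
  rw [yB_mul, add_neg_cancel, yB_zero]

theorem yB_pow (ht : IsTensorProduct t) (halt₂ : ∀ w, f₂ w w = 0) (w : W) (c : F) (n : ℕ) :
    yB ht f₂ halt₂ w c ^ n = yB ht f₂ halt₂ w (n • c) := by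
  induction n with
  | zero => rw [pow_zero, zero_smul, yB_zero]
  | succ k ih => rw [pow_succ, ih, yB_mul, succ_nsmul]

/-- the root group `{1 ⊗ t_w(c)}`. -/
noncomputable def rootGrp (ht : IsTensorProduct t) (f₂ : LinearMap.BilinForm F W)
    (halt₂ : ∀ w, f₂ w w = 0) (w : W) : Subgroup (V ≃ₗ[F] V) where
  carrier := {x | ∃ c : F, x = yB ht f₂ halt₂ w c}
  mul_mem' := by
    rintro _ _ ⟨c, rfl⟩ ⟨c', rfl⟩
    exact ⟨c + c', yB_mul ht halt₂ w c c'⟩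
  one_mem' := ⟨0, (yB_zero ht halt₂ w).symm⟩
  inv_mem' := by
    rintro _ ⟨c, rfl⟩
    exact ⟨-c, yB_inv' ht halt₂ w c⟩

theorem mem_rootGrp (ht : IsTensorProduct t) (halt₂ : ∀ w, f₂ w w = 0) {w : W}
    {x : V ≃ₗ[F] V} : x ∈ rootGrp ht f₂ halt₂ w ↔ ∃ c : F, x = yB ht f₂ halt₂ w c := Iff.rfl

/-- the conjugate `g E g⁻¹` of the root group. -/
noncomputable def conjGrp (ht : IsTensorProduct t) (f₂ : LinearMap.BilinForm F W)
    (halt₂ : ∀ w, f₂ w w = 0) (g : V ≃ₗ[F] V) (w : W) : Subgroup (V ≃ₗ[F] V) where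
  carrier := {y | ∃ c : F, y = g * yB ht f₂ halt₂ w c * g⁻¹}
  mul_mem' := by
    rintro _ _ ⟨c, rfl⟩ ⟨c', rfl⟩
    refine ⟨c + c', ?_⟩
    rw [← yB_mul]; group
  one_mem' := ⟨0, by rw [yB_zero]; group⟩
  inv_mem' := by
    rintro _ ⟨c, rfl⟩
    refine ⟨-c, ?_⟩
    rw [← yB_inv']; group

theorem mem_conjGrp (ht : IsTensorProduct t) (halt₂ : ∀ w, f₂ w w = 0) {g : V ≃ₗ[F] V} {w : W}
    {y : V ≃ₗ[F] V} :
    y ∈ conjGrp ht f₂ halt₂ g w ↔ ∃ c : F, y = g * yB ht f₂ halt₂ w c * g⁻¹ := Iff.rfl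

section

variable [FiniteDimensional F U] [FiniteDimensional F W] [FiniteDimensional F V]

theorem yB_injective (ht : IsTensorProduct t) (hU : 1 ≤ finrank F U) (halt₂ : ∀ w, f₂ w w = 0)
    (hnd₂ : ∀ w, (∀ y, f₂ w y = 0) → w = 0) {w : W} (hw : w ≠ 0) {c c' : F}
    (h : yB ht f₂ halt₂ w c = yB ht f₂ halt₂ w c') : c = c' := by
  obtain ⟨u, hu⟩ := exists_ne_zero_of_one_le (F := F) (M := U) hU
  obtain ⟨y, hy⟩ := exists_pair f₂ hnd₂ hw
  have h1 := LinearEquiv.congr_fun h (t u y)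
  rw [yB_t, yB_t] at h1
  have h2 := t_right_injective ht hu h1
  have h3 : (c * f₂ y w) • w = (c' * f₂ y w) • w := add_left_cancel h2
  have h4 : (c * f₂ y w - c' * f₂ y w) • w = 0 := by rw [sub_smul, h3, sub_self]
  have hyw : f₂ y w = -1 := by rw [alt_skew f₂ halt₂, hy]
  rcases smul_eq_zero.mp h4 with h5 | h5
  · rw [hyw] at h5
    linear_combination -h5
  · exact absurd h5 hw

theorem yB_ne_one (ht : IsTensorProduct t) (hU : 1 ≤ finrank F U) (halt₂ : ∀ w, f₂ w w = 0)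
    (hnd₂ : ∀ w, (∀ y, f₂ w y = 0) → w = 0) {w : W} (hw : w ≠ 0) {c : F}
    (h : yB ht f₂ halt₂ w c ≠ 1) : c ≠ 0 := by
  rintro rfl
  exact h (yB_zero ht halt₂ w)

theorem yB_eq_one_iff (ht : IsTensorProduct t) (hU : 1 ≤ finrank F U) (halt₂ : ∀ w, f₂ w w = 0)
    (hnd₂ : ∀ w, (∀ y, f₂ w y = 0) → w = 0) {w : W} (hw : w ≠ 0) {c : F} :
    yB ht f₂ halt₂ w c = 1 ↔ c = 0 := by
  constructor
  · intro h
    rw [← yB_zero ht halt₂ w] at h
    exact yB_injective ht hU halt₂ hnd₂ hw h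
  · rintro rfl
    exact yB_zero ht halt₂ w

/-- **(M3)**: `S ⊓ R = R ⊓ x R` for the root elements `x = yB w' c`, `w' ⊥ w`. -/
theorem MaxPair.inf_eq_inf_img {X : Subgroup (V ≃ₗ[F] V)} {w w₀ : W} {g : V ≃ₗ[F] V} {d : ℕ}
    (ht : IsTensorProduct t) (hU : 1 ≤ finrank F U)
    (halt₂ : ∀ w, f₂ w w = 0) (hnd₂ : ∀ w, (∀ y, f₂ w y = 0) → w = 0)
    (hXB : ∀ w c, yB ht f₂ halt₂ w c ∈ X) (hyp : RootHypS ht f₂ halt₂ X)
    (hp : MaxPair t X w g w₀ d) {w' : W} (hw' : w' ≠ 0) (hww' : f₂ w w' = 0) {c : F}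
    (hc : c ≠ 0) :
    fib t w ⊓ img g (fib t w₀) =
      img g (fib t w₀) ⊓ img (yB ht f₂ halt₂ w' c) (img g (fib t w₀)) := by
  set x := yB ht f₂ halt₂ w' c with hx
  set R := img g (fib t w₀) with hR
  have hR'O : img x R ∈ Orb t X := img_mem_Orb (hXB w' c) hp.mem_Orb
  have hne : img x R ≠ R := fun hst =>
    no_stab_S ht hU halt₂ hnd₂ X hXB hyp hp.hg hp.hw₀ hp.hRn hw' hc hst
  have hle := max_le ht hp.hmax hp.mem_Orb hR'O hne
  have hDle : fib t w ⊓ R ≤ R ⊓ img x R := by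
    rintro v ⟨hv1, hv2⟩
    refine ⟨hv2, ?_⟩
    rw [← yB_fix_of_perp ht halt₂ hww' c hv1]; exact apply_mem_img hv2
  exact eq_of_le_of_finrank hDle (by rw [hp.hd]; exact hle)

end

theorem yB_fix_of_mem_Sperp (ht : IsTensorProduct t) (halt₂ : ∀ w, f₂ w w = 0) {w : W} (c : F)
    {v : V} (hv : v ∈ Sperp ht f₂ w) : yB ht f₂ halt₂ w c v = v := by
  have := yB_sub ht halt₂ w c v
  rw [(mem_Sperp ht).mp hv, smul_zero, LinearMap.map_zero₂, sub_eq_zero] at this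
  exact this

/-- the subgroup of the `l ∈ X` with `(l - 1) V ≤ S + R` and `l = 1` on `K`. -/
def Lgrp (X : Subgroup (V ≃ₗ[F] V)) (S K : Submodule F V) : Subgroup (V ≃ₗ[F] V) where
  carrier := {l | l ∈ X ∧ (∀ v, l v - v ∈ S) ∧ ∀ v ∈ K, l v = v}
  mul_mem' := by
    rintro l₁ l₂ ⟨h1, h2, h3⟩ ⟨h1', h2', h3'⟩
    refine ⟨X.mul_mem h1 h1', fun v => ?_, fun v hv => ?_⟩
    · have e : (l₁ * l₂) v - v = (l₁ (l₂ v) - l₂ v) + (l₂ v - v) := by
        rw [LinearEquiv.mul_apply]; abel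
      rw [e]
      exact S.add_mem (h2 _) (h2' _)
    · rw [LinearEquiv.mul_apply, h3' v hv, h3 v hv]
  one_mem' := ⟨X.one_mem, fun v => by
    have : (1 : V ≃ₗ[F] V) v - v = 0 := sub_self v
    rw [this]; exact S.zero_mem, fun v _ => rfl⟩
  inv_mem' := by
    rintro l ⟨h1, h2, h3⟩
    refine ⟨X.inv_mem h1, fun v => ?_, fun v hv => ?_⟩
    · have e : l⁻¹ v - v = -(l (l⁻¹ v) - l⁻¹ v) := by
        rw [apply_inv_apply']; abel
      rw [e]
      exact S.neg_mem (h2 _)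
    · have := h3 v hv
      rw [← this, inv_apply_apply', this]

theorem mem_Lgrp {X : Subgroup (V ≃ₗ[F] V)} {S K : Submodule F V} {l : V ≃ₗ[F] V} :
    l ∈ Lgrp X S K ↔ l ∈ X ∧ (∀ v, l v - v ∈ S) ∧ ∀ v ∈ K, l v = v := Iff.rfl

theorem three_le_card [Finite F] (h2 : (2 : F) ≠ 0) : 3 ≤ Nat.card F := by
  have hinj : Function.Injective (![0, 1, -1] : Fin 3 → F) := by
    have h10 : (1 : F) ≠ 0 := one_ne_zero
    have h1m : (1 : F) ≠ -1 := by
      intro h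
      apply h2
      have : (2 : F) = 1 + 1 := by norm_num
      rw [this]
      nth_rewrite 2 [h]
      exact add_neg_cancel 1
    have hm0 : (-1 : F) ≠ 0 := neg_ne_zero.mpr one_ne_zero
    intro i j h
    fin_cases i <;> fin_cases j <;> simp_all
  have := Nat.card_le_card_of_injective _ hinj
  rwa [Nat.card_fin] at this

section

variable [FiniteDimensional F U] [FiniteDimensional F W] [FiniteDimensional F V]

/-- **MAIN-U with the opposite-pair lemma**: if [STL] holds for every max pair, then `X` permutes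
the fibres. -/
theorem fibres_permuted_of_STL [Finite F] (p : ℕ) [Fact p.Prime] [CharP F p] (h2 : (2 : F) ≠ 0)
    (ht : IsTensorProduct t) (hU : 1 ≤ finrank F U) (halt₂ : ∀ w, f₂ w w = 0)
    (hnd₂ : ∀ w, (∀ y, f₂ w y = 0) → w = 0) (X : Subgroup (V ≃ₗ[F] V))
    (hXB : ∀ w c, yB ht f₂ halt₂ w c ∈ X) (hyp : RootHypS ht f₂ halt₂ X)
    (hSTL : ∀ (w : W) (g : V ≃ₗ[F] V) (w₀ : W) (d : ℕ), MaxPair t X w g w₀ d → ∀ l ∈ X,
      (∀ v, l v - v ∈ fib t w ⊔ img g (fib t w₀)) →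
      (∀ v ∈ Sperp ht f₂ w ⊓ img g (Sperp ht f₂ w₀), l v = v) →
      img l (fib t w) = fib t w → ∃ c : F, l = yB ht f₂ halt₂ w c) :
    ∀ g ∈ X, ∀ w : W, w ≠ 0 → ∃ w' : W, w' ≠ 0 ∧ img g (fib t w) = fib t w' := by
  by_contra hcon
  obtain ⟨w, g, w₀, d, hp⟩ := exists_maxPair ht X hcon
  set S := fib t w with hS
  set R := img g (fib t w₀) with hR
  set K := Sperp ht f₂ w ⊓ img g (Sperp ht f₂ w₀) with hK
  set L := Lgrp X (S ⊔ R) K with hL
  set E := rootGrp ht f₂ halt₂ w with hE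
  set E' := conjGrp ht f₂ halt₂ g w₀ with hE'
  haveI : Finite V := Module.finite_of_finite F
  haveI : Finite (V ≃ₗ[F] V) :=
    Finite.of_injective (fun g : V ≃ₗ[F] V => (g : V → V)) DFunLike.coe_injective
  have hEL : E ≤ L := by
    rintro x ⟨c, rfl⟩
    refine ⟨hXB w c, fun v => ?_, fun v hv => ?_⟩
    · exact Submodule.mem_sup_left (yB_sub_mem ht halt₂ w c v)
    · exact yB_fix_of_mem_Sperp ht halt₂ c hv.1
  have hE'L : E' ≤ L := by
    rintro y ⟨c, rfl⟩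
    refine ⟨X.mul_mem (X.mul_mem hp.hg (hXB w₀ c)) (X.inv_mem hp.hg), fun v => ?_,
      fun v hv => ?_⟩
    · rw [conj_sub]
      exact Submodule.mem_sup_right (apply_mem_img (yB_sub_mem ht halt₂ w₀ c _))
    · obtain ⟨v', hv', rfl⟩ := mem_img.mp hv.2
      rw [conj_apply, inv_apply_apply', yB_fix_of_mem_Sperp ht halt₂ c hv']
  have hp0 : ((p : ℕ) : F) = 0 := CharP.cast_eq_zero F p
  have hpowE : ∀ c : F, yB ht f₂ halt₂ w c ^ p = 1 := by
    intro c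
    rw [yB_pow, nsmul_eq_mul, hp0, zero_mul, yB_zero]
  have hpowE₀ : ∀ c : F, yB ht f₂ halt₂ w₀ c ^ p = 1 := by
    intro c
    rw [yB_pow, nsmul_eq_mul, hp0, zero_mul, yB_zero]
  have hEp : IsPGroup p E := by
    rintro ⟨x, c, rfl⟩
    refine ⟨1, ?_⟩
    apply Subtype.ext
    rw [pow_one, Subgroup.coe_pow, Subgroup.coe_one]
    exact hpowE c
  have hE'p : IsPGroup p E' := by
    rintro ⟨y, c, rfl⟩
    refine ⟨1, ?_⟩
    apply Subtype.ext
    rw [pow_one, Subgroup.coe_pow, Subgroup.coe_one]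
    show (g * yB ht f₂ halt₂ w₀ c * g⁻¹) ^ p = 1
    rw [conj_pow, hpowE₀ c, mul_one, mul_inv_cancel]
  have h3 : 3 ≤ Nat.card E' := by
    have hinj : Function.Injective (fun c : F =>
        (⟨g * yB ht f₂ halt₂ w₀ c * g⁻¹, ⟨c, rfl⟩⟩ : E')) := by
      intro c c' h
      have h' : g * yB ht f₂ halt₂ w₀ c * g⁻¹ = g * yB ht f₂ halt₂ w₀ c' * g⁻¹ :=
        congrArg Subtype.val h
      have h'' : yB ht f₂ halt₂ w₀ c = yB ht f₂ halt₂ w₀ c' :=
        mul_left_cancel (mul_right_cancel h')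
      exact yB_injective ht hU halt₂ hnd₂ hp.hw₀ h''
    exact (three_le_card h2).trans (Nat.card_le_card_of_injective _ hinj)
  have hne : ∃ x ∈ E, x ≠ 1 := by
    refine ⟨yB ht f₂ halt₂ w 1, ⟨1, rfl⟩, ?_⟩
    rw [Ne, yB_eq_one_iff ht hU halt₂ hnd₂ hp.hw]
    exact one_ne_zero
  have hab : ∀ x ∈ E, ∀ y ∈ E, x * y = y * x := by
    rintro x ⟨c, rfl⟩ y ⟨c', rfl⟩
    rw [yB_mul, yB_mul, add_comm]
  -- (a) + (b)
  have hTI : ∀ x ∈ E, x ≠ 1 → ∀ l ∈ L, l⁻¹ * x * l ∈ E → l ∈ E := by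
    rintro x ⟨c, rfl⟩ hx1 l ⟨hlX, hl1, hlK⟩ ⟨c₁, hc₁⟩
    have hc : c ≠ 0 := yB_ne_one ht hU halt₂ hnd₂ hp.hw hx1
    have hxl : yB ht f₂ halt₂ w c = l * yB ht f₂ halt₂ w c₁ * l⁻¹ := by
      rw [← hc₁]; group
    have hst : img (yB ht f₂ halt₂ w c) (img l S) = img l S := by
      rw [hxl, img_mul, img_mul, img_inv_img, img_yB_fib_of_perp ht halt₂ (halt₂ w) c₁]
    have hlSR : ∀ v ∈ S, l v ∈ S ⊔ R := by
      intro v hv
      have e : l v = v + (l v - v) := by abel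
      rw [e]
      exact Submodule.add_mem _ (Submodule.mem_sup_left hv) (hl1 v)
    have himg := hp.eq_of_stab ht hU halt₂ hnd₂ hXB hyp hlX hlSR hc hst
    exact hSTL w g w₀ d hp l hlX hl1 hlK himg
  -- (c)
  have hc : ∀ x ∈ E, x ≠ 1 → ∀ y ∈ E', y ≠ 1 → ∀ l ∈ L, l⁻¹ * (x * y) * l ∉ E := by
    rintro x ⟨c, rfl⟩ hx1 y ⟨c', rfl⟩ hy1 l hlL ⟨c₁, hc₁⟩
    have hc0 : c ≠ 0 := yB_ne_one ht hU halt₂ hnd₂ hp.hw hx1
    have hc'0 : c' ≠ 0 := by
      rintro rfl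
      apply hy1
      rw [yB_zero]; group
    set x := yB ht f₂ halt₂ w c with hx
    set y := g * yB ht f₂ halt₂ w₀ c' * g⁻¹ with hy
    have hxy : x * y = l * yB ht f₂ halt₂ w c₁ * l⁻¹ := by
      rw [← hc₁]; group
    have hq : Quad (x * y) := by
      rw [hxy]
      exact quad_conj (quad_xB ht w (lw f₂ w c₁) (lw_self halt₂ w c₁)) l
    have hxL : x ∈ L := hEL ⟨c, rfl⟩
    have hyL : y ∈ L := hE'L ⟨c', rfl⟩
    have hl₁L : y⁻¹ * x * y ∈ L := L.mul_mem (L.mul_mem (L.inv_mem hyL) hxL) hyL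
    obtain ⟨hl₁X, hl₁1, hl₁K⟩ := hl₁L
    have himg := hp.img_of_quad ht hU halt₂ hnd₂ hXB hyp hc0 hc'0 hq
    obtain ⟨c₂, hc₂⟩ := hSTL w g w₀ d hp _ hl₁X hl₁1 hl₁K himg
    exact hp.not_quad ht hU halt₂ hnd₂ hXB hyp h2 hc0 hc'0 hq hc₂
  exact Cfsg.Agent.Helper3.OppPair.opp_false L E E' hEL hE'L hEp hE'p h3 hne hab hTI hc

end

end Cfsg.Agent.Helper9.TensU
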