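import Cfsg.Agent.Helper6.SpOA
import Cfsg.Agent.Helper9.TensU3
import Cfsg.Agent.Helper3.TensFibCrit
import Cfsg.Agent.Helper5.TensSX

set_option autoImplicit false
set_option linter.unusedSectionVars false
set_option linter.unusedVariables false

/-! S5666 (helper9): [STL] for `dim U ≥ 4` — for a max pair `(S, R)` of `U`-fibres, an element
`l ∈ X` with `(l - 1) V ≤ S + R`, `l = 1` on `S^⊥ ⊓ R^⊥` and `l S = S` is a root element of `S`
(from [STAB] and [LQ]) — and the resulting `∀ g ∈ X, IsTens t g`. -/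

namespace Cfsg.Agent.Helper6.SpO

open Module Cfsg.Agent.Helper7.ExtF Cfsg.Agent.Helper8.Tens Cfsg.Agent.Helper9.TensFlip
  Cfsg.Agent.Helper9.TensU Cfsg.Agent.Helper3.TensOm

variable {F : Type*} [Field F] {U W V : Type*} [AddCommGroup U] [Module F U]
  [AddCommGroup W] [Module F W] [AddCommGroup V] [Module F V]
  {t : U →ₗ[F] W →ₗ[F] V} {B : LinearMap.BilinForm F V} {f₁ : LinearMap.BilinForm F U}
  {f₂ : LinearMap.BilinForm F W} {X : Subgroup (V ≃ₗ[F] V)}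

namespace H9

/-- the transvection `x ↦ x + c f₁(x,u) u` is an isometry of `f₁`. -/
theorem transv_isom (alt₁ : ∀ u, f₁ u u = 0) (u : U) (c : F) (x y : U) :
    f₁ (x + (c * f₁ x u) • u) (y + (c * f₁ y u) • u) = f₁ x y := by
  have hs : f₁ u y = - f₁ y u := alt_skew f₁ alt₁ u y
  simp only [map_add, map_smul, LinearMap.add_apply, LinearMap.smul_apply, smul_eq_mul, alt₁, hs]
  ring

/-- the root elements `t_u(c) ⊗ 1` lie in `X`. -/
theorem yA_mem (ht : IsTensorProduct t) (h : Hyp t B f₁ f₂ X) (u : U) (c : F) :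
    yA ht f₁ h.alt₁ u c ∈ X := by
  set A : U ≃ₗ[F] U := LinearEquiv.transvection (lw_self h.alt₁ u c) with hA
  have hAx : ∀ x, A x = x + (c * f₁ x u) • u := by
    intro x
    rw [hA, LinearEquiv.transvection.apply, lw_apply]
  obtain ⟨g, hg, e⟩ := movSp h A (fun x y => by rw [hAx, hAx, transv_isom h.alt₁])
  have : g = yA ht f₁ h.alt₁ u c := by
    apply equiv_ext_pure ht
    intro u' w
    rw [e, yA_t, hAx]
  rw [← this]
  exact hg

/-- the form against a pure tensor. -/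
theorem B_pure (ht : IsTensorProduct t) (h : Hyp t B f₁ f₂ X) (v : V) (u : U) (w : W) :
    B v (t u w) = f₂ (evU ht (f₁.flip u) v) w := by
  refine ht.inductionOn v ?_ ?_ ?_
  · simp
  · intro u' w'
    rw [h.pol, evU_t, map_smul, LinearMap.smul_apply, smul_eq_mul]
    rfl
  · intro x y hx hy
    rw [map_add, LinearMap.add_apply, hx, hy, map_add, map_add, LinearMap.add_apply]

theorem B_eq_zero_of_mem_Sperp (ht : IsTensorProduct t) (h : Hyp t B f₁ f₂ X) {v : V} {u : U}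
    (hv : v ∈ Sperp (isTP_flip ht) f₁ u) (w : W) : B v (t u w) = 0 := by
  have := (mem_Sperp (isTP_flip ht)).mp hv
  rw [ev_flip ht] at this
  rw [B_pure ht h, this, map_zero, LinearMap.zero_apply]

/-- generalised F2: `R ⊓ S_{w'}^⊥ ≤ S` for `w' ⊥ w`. -/
theorem inf_Sperp_le {U W V : Type*} [AddCommGroup U] [Module F U]
    [AddCommGroup W] [Module F W] [AddCommGroup V] [Module F V]
    [FiniteDimensional F U] [FiniteDimensional F W] [FiniteDimensional F V]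
    {t : U →ₗ[F] W →ₗ[F] V} {f₂ : LinearMap.BilinForm F W} {X : Subgroup (V ≃ₗ[F] V)}
    {w w₀ : W} {g : V ≃ₗ[F] V} {d : ℕ}
    (ht : IsTensorProduct t) (hU : 1 ≤ finrank F U)
    (halt₂ : ∀ w, f₂ w w = 0) (hnd₂ : ∀ w, (∀ y, f₂ w y = 0) → w = 0)
    (hXB : ∀ w c, yB ht f₂ halt₂ w c ∈ X) (hyp : RootHypS ht f₂ halt₂ X)
    (hp : MaxPair t X w g w₀ d) {w' : W} (hw' : w' ≠ 0) (hww' : f₂ w w' = 0) :
    img g (fib t w₀) ⊓ Sperp ht f₂ w' ≤ fib t w := by
  rintro r ⟨hr, hrS⟩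
  apply step1_S ht hU halt₂ hnd₂ X hXB hyp hp.hmax hp.hw hp.mem_Orb hp.hRn hp.hd hw' hww' hr
  have h0 : ev ht (lw f₂ w' 1) r = 0 := by
    have : lw f₂ w' 1 = f₂.flip w' := by unfold lw; rw [one_smul]
    rw [this]; exact (mem_Sperp ht).mp hrS
  rw [h0, LinearMap.map_zero₂]
  exact Submodule.zero_mem _

/-- a non-zero vector perpendicular to two given vectors (dimension at least three). -/
theorem exists_perp_two [FiniteDimensional F U] (h3 : 3 ≤ finrank F U) (x y : U) :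
    ∃ u' : U, u' ≠ 0 ∧ f₁ x u' = 0 ∧ f₁ y u' = 0 := by
  set φ : U →ₗ[F] F × F := (f₁ x).prod (f₁ y) with hφ
  have h4 := LinearMap.finrank_range_add_finrank_ker φ
  have h5 : finrank F ↥(LinearMap.range φ) ≤ 2 := by
    have := Submodule.finrank_le (LinearMap.range φ)
    rwa [Module.finrank_prod, Module.finrank_self] at this
  have h6 : 1 ≤ finrank F ↥(LinearMap.ker φ) := by omega
  obtain ⟨⟨u', hu'⟩, hne⟩ := exists_ne_zero_of_one_le (F := F) (M := ↥(LinearMap.ker φ)) h6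
  refine ⟨u', fun h0 => hne (Subtype.ext h0), ?_, ?_⟩
  · have h7 : ((f₁ x) u', (f₁ y) u') = (0 : F × F) := LinearMap.mem_ker.mp hu'
    exact (Prod.mk_eq_zero.mp h7).1
  · have h7 : ((f₁ x) u', (f₁ y) u') = (0 : F × F) := LinearMap.mem_ker.mp hu'
    exact (Prod.mk_eq_zero.mp h7).2

end H9

section

variable [FiniteDimensional F U] [FiniteDimensional F W] [FiniteDimensional F V]

/-- **[STL]**, modulo `S^⊥ = S + (S^⊥ ⊓ R^⊥)`. -/
theorem STL_of_sup (ht : IsTensorProduct t) (h : Hyp t B f₁ f₂ X) (ha : 3 ≤ finrank F U)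
    (hb : 1 ≤ finrank F W)
    (hLQ : ∀ u : U, u ≠ 0 → ∀ g ∈ X, InQU ht f₁ u g → ∃ c : F, g = yA ht f₁ h.alt₁ u c)
    (hstab : ∀ u : U, u ≠ 0 → ∀ g ∈ X, img g (fibU t u) = fibU t u → IsTens t g)
    (hyp : RootHypS (isTP_flip ht) f₁ h.alt₁ X)
    {u : U} {g₀ : V ≃ₗ[F] V} {u₀ : U} {d : ℕ} (hp : MaxPair t.flip X u g₀ u₀ d)
    (hsup : Sperp (isTP_flip ht) f₁ u = fib t.flip u ⊔
      (Sperp (isTP_flip ht) f₁ u ⊓ img g₀ (Sperp (isTP_flip ht) f₁ u₀)))
    {l : V ≃ₗ[F] V} (hl : l ∈ X)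
    (h1 : ∀ v, l v - v ∈ fib t.flip u ⊔ img g₀ (fib t.flip u₀))
    (h2 : ∀ v ∈ Sperp (isTP_flip ht) f₁ u ⊓ img g₀ (Sperp (isTP_flip ht) f₁ u₀), l v = v)
    (h3 : img l (fib t.flip u) = fib t.flip u) :
    ∃ c : F, l = yB (isTP_flip ht) f₁ h.alt₁ u c := by
  set ht' := isTP_flip ht with hht'
  have hu : u ≠ 0 := hp.hw
  have hXB : ∀ u c, yB ht' f₁ h.alt₁ u c ∈ X := fun u c => by
    rw [hht', yB_flip]; exact H9.yA_mem ht h u c
  -- Step B: `l` is trivial on `S^⊥ / S`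
  have hB : ∀ v ∈ Sperp ht' f₁ u, l v - v ∈ fib t.flip u := by
    intro v hv
    rw [hsup] at hv
    obtain ⟨s, hs, k, hk, rfl⟩ := Submodule.mem_sup.mp hv
    rw [map_add, h2 k hk]
    have hls : l s ∈ fib t.flip u := by rw [← h3]; exact apply_mem_img hs
    have e : l s + k - (s + k) = l s - s := by abel
    rw [e]; exact Submodule.sub_mem _ hls hs
  -- Step C: `l = A' ⊗ 1`
  obtain ⟨A, C, hAC⟩ := hstab u hu l hl h3
  obtain ⟨u₁, hu₁perp, hu₁ind⟩ := Cfsg.Agent.Helper5.TensSX.x1 f₁ ha u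
  have hu₁u : f₁ u₁ u = 0 := alt_perp_symm f₁ h.alt₁ hu₁perp
  have hu₁span : u₁ ∉ Submodule.span F {u} := by
    rw [Submodule.mem_span_singleton]
    rintro ⟨a, ha'⟩
    exact hu₁ind a ha'.symm
  obtain ⟨ψ, hψ0, hψ1⟩ := exists_kfunc (Submodule.span F {u}) hu₁span
  have hψu : ψ u = 0 := hψ0 u (Submodule.mem_span_singleton_self u)
  have hmem : ∀ w, t u₁ w ∈ Sperp ht' f₁ u := fun w => t_mem_Sperp ht' hu₁u w
  have hCw : ∀ w, ψ (A u₁) • C w = w := by
    intro w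
    have h4 := hB _ (hmem w)
    rw [hAC] at h4
    obtain ⟨w'', hw''⟩ := mem_fib_flip.mp h4
    have h5 := congrArg (evU ht ψ) hw''
    rw [evU_t, map_sub, evU_t, evU_t, hψu, hψ1, zero_smul, one_smul] at h5
    exact sub_eq_zero.mp h5.symm
  obtain ⟨w₁, hw₁⟩ := exists_ne_zero_of_one_le (F := F) (M := W) hb
  have hκ' : ψ (A u₁) ≠ 0 := by
    intro h0
    have := hCw w₁
    rw [h0, zero_smul] at this
    exact hw₁ this.symm
  set κ : F := (ψ (A u₁))⁻¹ with hκ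
  have hC : ∀ w, C w = κ • w := by
    intro w
    have := hCw w
    rw [← this, smul_smul, hκ, inv_mul_cancel₀ hκ', one_smul, this]
  have hl' : ∀ x w, l (t x w) = t (κ • A x) w := by
    intro x w
    rw [hAC, hC, map_smul, LinearMap.map_smul₂]
  have hAu : t (κ • A u) w₁ ∈ fib t.flip u := by
    rw [← hl', ← h3]
    exact apply_mem_img (mem_fib_flip.mpr ⟨w₁, rfl⟩)
  obtain ⟨ν, hν⟩ := span_of_t_mem_fib ht' hw₁ hAu
  have hlS : ∀ s ∈ fib t.flip u, l s = ν • s := by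
    intro s hs
    obtain ⟨w, rfl⟩ := mem_fib_flip.mp hs
    rw [hl', hν, LinearMap.map_smul₂]
  by_cases hν1 : ν = 1
  · -- `l ∈ Q_S`, conclude by [LQ]
    have hfix : ∀ v ∈ Sperp ht' f₁ u, l v = v := by
      intro v hv
      rw [hsup] at hv
      obtain ⟨s, hs, k, hk, rfl⟩ := Submodule.mem_sup.mp hv
      rw [map_add, h2 k hk, hlS s hs, hν1, one_smul]
    have hQ : InQU ht f₁ u l := by
      intro x hx
      apply hfix
      rw [mem_Sperp, hht', ev_flip ht]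
      exact LinearMap.mem_ker.mp hx
    obtain ⟨c, hc⟩ := hLQ u hu l hl hQ
    exact ⟨c, by rw [hht', yB_flip]; exact hc⟩
  · exfalso
    have hfibS' : fib t.flip u ≤ Sperp ht' f₁ u := fib_le_Sperp ht' h.alt₁ u
    have hD0 : fib t.flip u ⊓ img g₀ (fib t.flip u₀) = ⊥ := by
      rw [eq_bot_iff]
      rintro s ⟨hs1, hs2⟩
      have hk : s ∈ Sperp ht' f₁ u ⊓ img g₀ (Sperp ht' f₁ u₀) :=
        ⟨hfibS' hs1, img_mono g₀ (fib_le_Sperp ht' h.alt₁ u₀) hs2⟩
      have e1 := h2 s hk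
      have e2 := hlS s hs1
      rw [e1] at e2
      have e3 : (ν - 1) • s = 0 := by rw [sub_smul, one_smul, ← e2, sub_self]
      rcases smul_eq_zero.mp e3 with h0 | h0
      · exact absurd (sub_eq_zero.mp h0) hν1
      · rw [h0]; exact Submodule.zero_mem _
    obtain ⟨us, hus⟩ := exists_pair f₁ h.nd₁ hu
    set u₂ : U := κ • A us - us with hu₂
    have hu₂fib : ∀ w, t u₂ w ∈ fib t.flip u ⊔ img g₀ (fib t.flip u₀) := by
      intro w
      have := h1 (t us w)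
      rw [hl'] at this
      rw [hu₂, map_sub, LinearMap.sub_apply]
      exact this
    obtain ⟨wa, hwa⟩ := exists_pair f₂ h.nd₂ hw₁
    have hiso := h.isom l hl (t us w₁) (t u wa)
    rw [hl', hl', h.pol, h.pol, hwa, mul_one, mul_one, hν, map_smul, smul_eq_mul] at hiso
    have hus' : f₁ us u = -1 := by rw [alt_skew f₁ h.alt₁, hus]
    have hu₂u : f₁ u₂ u ≠ 0 := by
      intro h0
      have h5 : f₁ (κ • A us) u = f₁ us u := by
        rw [hu₂, map_sub, LinearMap.sub_apply] at h0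
        exact sub_eq_zero.mp h0
      rw [h5, hus'] at hiso
      apply hν1
      linear_combination -hiso
    have hu₂0 : u₂ ≠ 0 := by
      intro h0
      apply hu₂u
      rw [h0, map_zero, LinearMap.zero_apply]
    have hne : fib t.flip u ≠ fib t.flip u₂ := by
      intro heq
      have h6 : t u₂ w₁ ∈ fib t.flip u := by
        rw [heq]; exact mem_fib_flip.mpr ⟨w₁, rfl⟩
      obtain ⟨c, hc⟩ := span_of_t_mem_fib ht' hw₁ h6
      apply hu₂u
      rw [hc, map_smul, LinearMap.smul_apply, h.alt₁, smul_zero]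
    have hinf := fib_inf_fib ht' hu hu₂0 hne
    have hle : fib t.flip u ⊔ fib t.flip u₂ ≤ fib t.flip u ⊔ img g₀ (fib t.flip u₀) := by
      apply sup_le le_sup_left
      intro v hv
      obtain ⟨w, rfl⟩ := mem_fib_flip.mp hv
      exact hu₂fib w
    have hdim : finrank F ↥(fib t.flip u ⊔ img g₀ (fib t.flip u₀)) ≤
        finrank F ↥(fib t.flip u ⊔ fib t.flip u₂) := by
      have e1 := Submodule.finrank_sup_add_finrank_inf_eq (fib t.flip u) (fib t.flip u₂)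
      have e2 := Submodule.finrank_sup_add_finrank_inf_eq (fib t.flip u)
        (img g₀ (fib t.flip u₀))
      rw [hinf, finrank_bot, finrank_fib ht' hu, finrank_fib ht' hu₂0] at e1
      rw [hD0, finrank_bot, finrank_fib ht' hu, finrank_img, finrank_fib ht' hp.hw₀] at e2
      omega
    have heq := Submodule.eq_of_le_of_finrank_le hle hdim
    obtain ⟨u', hu'0, hu'1, hu'2⟩ := H9.exists_perp_two (f₁ := f₁) ha u u₂
    have hRle : img g₀ (fib t.flip u₀) ≤ Sperp ht' f₁ u' := by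
      refine le_trans (le_sup_right :
        img g₀ (fib t.flip u₀) ≤ fib t.flip u ⊔ img g₀ (fib t.flip u₀)) ?_
      rw [← heq]
      apply sup_le
      · intro v hv
        obtain ⟨w, rfl⟩ := mem_fib_flip.mp hv
        exact t_mem_Sperp ht' hu'1 w
      · intro v hv
        obtain ⟨w, rfl⟩ := mem_fib_flip.mp hv
        exact t_mem_Sperp ht' hu'2 w
    have hle' := H9.inf_Sperp_le ht' hb h.alt₁ h.nd₁ hXB hyp hp hu'0 hu'1
    apply hp.not_le' ht'
    intro r hr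
    exact hle' ⟨hr, hRle hr⟩


/-- **MAIN-U for `dim U ≥ 3`** (modulo `S^⊥ = S + (S^⊥ ⊓ R^⊥)`): from [LQ], [STAB] and the root
hypothesis for the fibres `u ⊗ W`, every element of `X` is a tensor. -/
theorem mainU_of_sup [Finite F] (p : ℕ) [Fact p.Prime] [CharP F p] (ht : IsTensorProduct t)
    (h : Hyp t B f₁ f₂ X) (ha : 3 ≤ finrank F U) (hb : 1 ≤ finrank F W)
    (hLQ : ∀ u : U, u ≠ 0 → ∀ g ∈ X, InQU ht f₁ u g → ∃ c : F, g = yA ht f₁ h.alt₁ u c)
    (hstab : ∀ u : U, u ≠ 0 → ∀ g ∈ X, img g (fibU t u) = fibU t u → IsTens t g)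
    (hyp : RootHypS (isTP_flip ht) f₁ h.alt₁ X)
    (hsup : ∀ {u u₀ : U}, u ≠ 0 → u₀ ≠ 0 → ∀ {g₀ : V ≃ₗ[F] V}, g₀ ∈ X →
      fib t.flip u ⊓ img g₀ (Sperp (isTP_flip ht) f₁ u₀) =
        fib t.flip u ⊓ img g₀ (fib t.flip u₀) →
      Sperp (isTP_flip ht) f₁ u = fib t.flip u ⊔
        (Sperp (isTP_flip ht) f₁ u ⊓ img g₀ (Sperp (isTP_flip ht) f₁ u₀))) :
    ∀ g ∈ X, IsTens t g := by
  have hXB : ∀ u c, yB (isTP_flip ht) f₁ h.alt₁ u c ∈ X := fun u c => by
    rw [yB_flip]; exact H9.yA_mem ht h u c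
  have hperm := fibres_permuted_of_STL p h.two (isTP_flip ht) hb h.alt₁ h.nd₁ X hXB hyp
    (fun u g₀ u₀ d hp l hl h1 h2 h3 =>
      STL_of_sup ht h ha hb hLQ hstab hyp hp
        (hsup hp.hw hp.hw₀ hp.hg (hp.inf_img_Sperp (isTP_flip ht) hb h.alt₁ h.nd₁ hXB hyp))
        hl h1 h2 h3)
  intro g hg
  rw [← isTens_flip_iff]
  exact Cfsg.Agent.Helper3.TensS.isTens_of_perm (isTP_flip ht) hb (fun u hu => hperm g hg u hu)

end

end Cfsg.Agent.Helper6.SpO
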