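import Cfsg.Agent.Helper9.SpOSTL
import Cfsg.Agent.Helper3.SpOPerp

set_option autoImplicit false
set_option linter.unusedSectionVars false
set_option linter.unusedVariables false

/-! S5666 (helper9): [STL] and MAIN-U for `dim U ≥ 3` — from [LQ], [STAB] and the root hypothesis
for the fibres `u ⊗ W`, every element of `X` is a tensor (no transvection hypothesis here: it sits
in [LQ]). -/

namespace Cfsg.Agent.Helper6.SpO

open Module Cfsg.Agent.Helper7.ExtF Cfsg.Agent.Helper8.Tens Cfsg.Agent.Helper9.TensFlip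
  Cfsg.Agent.Helper9.TensU

variable {F : Type*} [Field F] {U W V : Type*} [AddCommGroup U] [Module F U]
  [AddCommGroup W] [Module F W] [AddCommGroup V] [Module F V]
  {t : U →ₗ[F] W →ₗ[F] V} {B : LinearMap.BilinForm F V} {f₁ : LinearMap.BilinForm F U}
  {f₂ : LinearMap.BilinForm F W} {X : Subgroup (V ≃ₗ[F] V)}
  [FiniteDimensional F U] [FiniteDimensional F W] [FiniteDimensional F V]

/-- **[STL]** (`dim U ≥ 3`): for a max pair `(S, R)` of fibres `u ⊗ W`, an element `l ∈ X` with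
`(l - 1) V ≤ S + R`, `l = 1` on `S^⊥ ⊓ R^⊥` and `l S = S` is a root element of `S`. -/
theorem STL (ht : IsTensorProduct t) (h : Hyp t B f₁ f₂ X) (ha : 3 ≤ finrank F U)
    (hb : 1 ≤ finrank F W)
    (hLQ : ∀ u : U, u ≠ 0 → ∀ g ∈ X, InQU ht f₁ u g → ∃ c : F, g = yA ht f₁ h.alt₁ u c)
    (hstab : ∀ u : U, u ≠ 0 → ∀ g ∈ X, img g (fibU t u) = fibU t u → IsTens t g)
    (hyp : RootHypS (isTP_flip ht) f₁ h.alt₁ X)
    {u : U} {g₀ : V ≃ₗ[F] V} {u₀ : U} {d : ℕ} (hp : MaxPair t.flip X u g₀ u₀ d)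
    {l : V ≃ₗ[F] V} (hl : l ∈ X)
    (h1 : ∀ v, l v - v ∈ fib t.flip u ⊔ img g₀ (fib t.flip u₀))
    (h2 : ∀ v ∈ Sperp (isTP_flip ht) f₁ u ⊓ img g₀ (Sperp (isTP_flip ht) f₁ u₀), l v = v)
    (h3 : img l (fib t.flip u) = fib t.flip u) :
    ∃ c : F, l = yB (isTP_flip ht) f₁ h.alt₁ u c := by
  have hXB : ∀ u c, yB (isTP_flip ht) f₁ h.alt₁ u c ∈ X := fun u c => by
    rw [yB_flip]; exact H9.yA_mem ht h u c
  exact STL_of_sup ht h ha hb hLQ hstab hyp hp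
    (Sperp_eq_sup ht h hp.hw hp.hw₀ hp.hg
      (hp.inf_img_Sperp (isTP_flip ht) hb h.alt₁ h.nd₁ hXB hyp)) hl h1 h2 h3

/-- **MAIN-U** (`dim U ≥ 3`): from [LQ], [STAB] and the root hypothesis for the fibres `u ⊗ W`,
every element of `X` is a tensor. -/
theorem mainU [Finite F] (p : ℕ) [Fact p.Prime] [CharP F p] (ht : IsTensorProduct t)
    (h : Hyp t B f₁ f₂ X) (ha : 3 ≤ finrank F U) (hb : 1 ≤ finrank F W)
    (hLQ : ∀ u : U, u ≠ 0 → ∀ g ∈ X, InQU ht f₁ u g → ∃ c : F, g = yA ht f₁ h.alt₁ u c)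
    (hstab : ∀ u : U, u ≠ 0 → ∀ g ∈ X, img g (fibU t u) = fibU t u → IsTens t g)
    (hyp : RootHypS (isTP_flip ht) f₁ h.alt₁ X) : ∀ g ∈ X, IsTens t g :=
  mainU_of_sup p ht h ha hb hLQ hstab hyp
    (fun hu hu₀ _ hg₀ hD => Sperp_eq_sup ht h hu hu₀ hg₀ hD)

/-- the same without naming the characteristic. -/
theorem mainU' [Finite F] (ht : IsTensorProduct t)
    (h : Hyp t B f₁ f₂ X) (ha : 3 ≤ finrank F U) (hb : 1 ≤ finrank F W)
    (hLQ : ∀ u : U, u ≠ 0 → ∀ g ∈ X, InQU ht f₁ u g → ∃ c : F, g = yA ht f₁ h.alt₁ u c)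
    (hstab : ∀ u : U, u ≠ 0 → ∀ g ∈ X, img g (fibU t u) = fibU t u → IsTens t g)
    (hyp : RootHypS (isTP_flip ht) f₁ h.alt₁ X) : ∀ g ∈ X, IsTens t g := by
  obtain ⟨p, hp⟩ := CharP.exists F
  haveI := hp
  haveI : Fact p.Prime := ⟨by
    rcases CharP.char_is_prime_or_zero F p with h' | h'
    · exact h'
    · exfalso
      haveI : CharP F 0 := h' ▸ hp
      haveI : CharZero F := CharP.charP_to_charZero F
      exact not_finite F⟩
  exact mainU p ht h ha hb hLQ hstab hyp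

end Cfsg.Agent.Helper6.SpO
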