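import Cfsg.Agent.Helper8.SylAltG
import Cfsg.Agent.Helper1.SylAltArith
import Cfsg.Agent.Helper1.SylAltGlue
import Cfsg.Agent.Helper1.SylAltV4
import Cfsg.Agent.Helper2.SylAltArith2
import Cfsg.Prelude.Def_TwoFusion

/-! S2221 (helper9): the backward direction, modulo the pieces EXPSET and CONV (hypotheses). -/

set_option autoImplicit false
set_option linter.unusedVariables false

namespace Cfsg.Agent.Helper8.SylAlt

open Equiv Classical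

/-- the backward direction of S2221 from the exponent-set description of the orbit sizes
(`hEXP`, piece EXPSET) and the decomposition for two big orbits (`hCONV`, piece CONV). -/
theorem backward_of (n : ℕ) (hn : 4 ≤ n) (P : Sylow 2 (alternatingGroup (Fin n)))
    (hEXP : ∀ Q : Sylow 2 (Perm (Fin n)), ∃ s : Finset ℕ,
      (∀ k, k ∈ s ↔ ∃ ω, Nat.card ↥(orb (Q : Subgroup (Perm (Fin n))) ω) = 2 ^ k) ∧
        n = ∑ k ∈ s, 2 ^ k)
    (hCONV : ∀ (Q : Sylow 2 (Perm (Fin n))) (ωp ω₁ ω₂ : Fin n),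
      Nat.card ↥(orb (Q : Subgroup (Perm (Fin n))) ωp) = 2 →
      4 ≤ Nat.card ↥(orb (Q : Subgroup (Perm (Fin n))) ω₁) →
      4 ≤ Nat.card ↥(orb (Q : Subgroup (Perm (Fin n))) ω₂) →
      orb (Q : Subgroup (Perm (Fin n))) ω₁ ≠ orb (Q : Subgroup (Perm (Fin n))) ω₂ →
      ∃ S T : Subgroup (Perm (Fin n)), S ≠ ⊥ ∧ T ≠ ⊥ ∧
        Cfsg.IsInternalDirectProduct S T
          ((Q : Subgroup (Perm (Fin n))) ⊓ alternatingGroup (Fin n)))
    (h : n = 4 ∨ n = 5 ∨ ((n % 4 = 2 ∨ n % 4 = 3) ∧ ∀ r : ℕ, 4 * (n / 4) ≠ 2 ^ r)) :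
    ∃ S₁ S₂ : Subgroup (alternatingGroup (Fin n)), S₁ ≠ ⊥ ∧ S₂ ≠ ⊥ ∧
      Cfsg.IsInternalDirectProduct S₁ S₂ (P : Subgroup (alternatingGroup (Fin n))) := by
  obtain ⟨Q, hQ⟩ := exists_sylow_perm n P
  rw [decomp_iff_map, hQ]
  rcases h with h4 | h5 | ⟨hmod, hpow⟩
  · exact decomp_small_perm n (Or.inl h4) Q
  · exact decomp_small_perm n (Or.inr h5) Q
  · obtain ⟨s, hs, hsum⟩ := hEXP Q
    -- an orbit of size 2
    have h1 : 1 ∈ s := by
      rw [← arith_mod_fs, ← hsum]; exact hmod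
    obtain ⟨ωp, hp⟩ := (hs 1).mp h1
    -- the big exponents
    have hdiv : 4 * (n / 4) = ∑ k ∈ s.filter (2 ≤ ·), 2 ^ k := by
      rw [hsum]; exact arith_div_fs s
    obtain ⟨k₁, hk₁s, hk₁⟩ := arith_exists_big s (by rw [← hsum]; exact hn)
    have hk₁f : k₁ ∈ s.filter (2 ≤ ·) := Finset.mem_filter.mpr ⟨hk₁s, hk₁⟩
    have hnot : ¬ ∃ a, s.filter (2 ≤ ·) = {a} := by
      rw [← pow_two_sum_iff_fs, ← hdiv]
      rintro ⟨r, hr⟩
      exact hpow r hr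
    have hex : ∃ k₂ ∈ s.filter (2 ≤ ·), k₂ ≠ k₁ := by
      by_contra hcon
      push Not at hcon
      apply hnot
      refine ⟨k₁, ?_⟩
      ext x
      rw [Finset.mem_singleton]
      exact ⟨fun hx => hcon x hx, fun hx => hx ▸ hk₁f⟩
    obtain ⟨k₂, hk₂f, hne⟩ := hex
    obtain ⟨hk₂s, hk₂⟩ := Finset.mem_filter.mp hk₂f
    obtain ⟨ω₁, hω₁⟩ := (hs k₁).mp hk₁s
    obtain ⟨ω₂, hω₂⟩ := (hs k₂).mp hk₂s
    have hpow4 : ∀ k : ℕ, 2 ≤ k → 4 ≤ 2 ^ k := by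
      intro k hk
      calc 4 = 2 ^ 2 := by norm_num
        _ ≤ 2 ^ k := Nat.pow_le_pow_right (by norm_num) hk
    refine hCONV Q ωp ω₁ ω₂ (by rw [hp]; norm_num) (by rw [hω₁]; exact hpow4 k₁ hk₁)
      (by rw [hω₂]; exact hpow4 k₂ hk₂) ?_
    intro heq
    apply hne
    have : (2 : ℕ) ^ k₂ = 2 ^ k₁ := by rw [← hω₁, ← hω₂, heq]
    exact Nat.pow_right_injective (le_refl 2) this

end Cfsg.Agent.Helper8.SylAlt
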