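import Cfsg.Agent.Helper8.TensSA

set_option autoImplicit false
set_option linter.unusedSectionVars false
set_option linter.unusedVariables false

/-! S5704, Leaf D (helper9), part 1: an element of `X` stabilising a fibre `U ⊗ w₀` acts on the
perpendicular space of the fibre, modulo the fibre, as a tensor `A ⊗ B₀`. -/

namespace Cfsg.Agent.Helper9.TensSD

open Module Cfsg.Agent.Helper7.ExtF Cfsg.Agent.Helper8.OrthOrder Cfsg.Agent.Helper8.ExtO
  Cfsg.Agent.Helper8.Siegel Cfsg.Agent.Helper8.SiegelGroup Cfsg.Agent.Helper3.TensOm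
  Cfsg.Agent.Helper8.Tens

variable {F : Type*} [Field F] {U W V : Type*} [AddCommGroup U] [Module F U]
  [AddCommGroup W] [Module F W] [AddCommGroup V] [Module F V]
  {t : U →ₗ[F] W →ₗ[F] V} {Q : QuadraticForm F V} {f₁ : LinearMap.BilinForm F U}
  {f₂ : LinearMap.BilinForm F W} {M : Subgroup ↥(Isom Q)}

theorem inv_apply_self' (g : V ≃ₗ[F] V) (y : V) : g⁻¹ (g y) = y := by
  rw [← LinearEquiv.mul_apply g⁻¹ g, inv_mul_cancel]; rfl

theorem self_inv_apply' (g : V ≃ₗ[F] V) (y : V) : g (g⁻¹ y) = y := by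
  rw [← LinearEquiv.mul_apply g g⁻¹, mul_inv_cancel]; rfl

/-- induction principle for the perpendicular space of a fibre: it is spanned by the pure tensors
`t u w` with `w ⊥ w₀`. -/
theorem Sperp_induction (ht : IsTensorProduct t) (h : Hyp t Q f₁ f₂ M) {w₀ : W} (hw₀ : w₀ ≠ 0)
    {p : V → Prop} (h0 : p 0) (hadd : ∀ x y, p x → p y → p (x + y))
    (hpure : ∀ u w, f₂ w w₀ = 0 → p (t u w)) : ∀ x ∈ Sperp ht f₂ w₀, p x := by
  obtain ⟨w₁, hw₁⟩ := exists_pair f₂ h.nd₂ hw₀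
  have hw₁' : f₂ w₁ w₀ = -1 := by rw [alt_skew f₂ h.alt₂, hw₁]
  have key : ∀ x : V, p (x + t (ev ht (f₂.flip w₀) x) w₁) := by
    intro x
    refine ht.inductionOn x ?_ ?_ ?_
    · simpa using h0
    · intro u w
      have e : t u w + t (ev ht (f₂.flip w₀) (t u w)) w₁ = t u (w + f₂ w w₀ • w₁) := by
        rw [ev_t, map_add, map_smul, map_smul, LinearMap.smul_apply]
        rfl
      rw [e]
      apply hpure
      rw [map_add, LinearMap.add_apply, map_smul, LinearMap.smul_apply, hw₁', smul_eq_mul]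
      ring
    · intro x y hx hy
      have e : x + y + t (ev ht (f₂.flip w₀) (x + y)) w₁ =
          (x + t (ev ht (f₂.flip w₀) x) w₁) + (y + t (ev ht (f₂.flip w₀) y) w₁) := by
        rw [map_add, map_add, LinearMap.add_apply]
        abel
      rw [e]
      exact hadd _ _ hx hy
  intro x hx
  have := key x
  rw [(mem_Sperp ht).mp hx, map_zero, LinearMap.zero_apply, add_zero] at this
  exact this

/-- the element `ζ_δ = (1 ⊗ t_{w₀+δ}(1)) (1 ⊗ t_δ(1))⁻¹`. -/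
noncomputable def zet (ht : IsTensorProduct t) (f₂ : LinearMap.BilinForm F W)
    (halt₂ : ∀ w, f₂ w w = 0) (w₀ δ : W) : V ≃ₗ[F] V :=
  yB ht f₂ halt₂ (w₀ + δ) 1 * (yB ht f₂ halt₂ δ 1)⁻¹

theorem zet_mem (ht : IsTensorProduct t) (h : Hyp t Q f₁ f₂ M) (w₀ δ : W) :
    zet ht f₂ h.alt₂ w₀ δ ∈ XM M :=
  (XM M).mul_mem (yB_mem ht h _ _) ((XM M).inv_mem (yB_mem ht h _ _))

theorem yB_inv_t (ht : IsTensorProduct t) (halt₂ : ∀ w, f₂ w w = 0) (w : W) (c : F) (u : U)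
    (w' : W) : (yB ht f₂ halt₂ w c)⁻¹ (t u w') = t u (w' - (c * f₂ w' w) • w) := by
  rw [yB, xB_inv_apply, ev_t, lw_apply, map_sub, map_smul, map_smul, LinearMap.smul_apply]

theorem zet_t (ht : IsTensorProduct t) (halt₂ : ∀ w, f₂ w w = 0) {w₀ δ : W} (hδ : f₂ δ w₀ = 0)
    (u : U) (w : W) : zet ht f₂ halt₂ w₀ δ (t u w) =
      t u (w + f₂ w w₀ • (w₀ + δ) + f₂ w δ • w₀) := by
  rw [zet, LinearEquiv.mul_apply, yB_inv_t, yB_t]
  congr 1
  have e : f₂ (w - (1 * f₂ w δ) • δ) (w₀ + δ) = f₂ w w₀ + f₂ w δ := by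
    simp only [map_sub, map_add, map_smul, LinearMap.sub_apply, LinearMap.smul_apply, smul_eq_mul,
      hδ, halt₂ δ]
    ring
  rw [e]
  module

theorem zet_apply (ht : IsTensorProduct t) (halt₂ : ∀ w, f₂ w w = 0) {w₀ δ : W}
    (hδ : f₂ δ w₀ = 0) (x : V) : zet ht f₂ halt₂ w₀ δ x =
      x + t (ev ht (f₂.flip w₀) x) (w₀ + δ) + t (ev ht (f₂.flip δ) x) w₀ := by
  have : ((zet ht f₂ halt₂ w₀ δ : V ≃ₗ[F] V) : V →ₗ[F] V) =
      LinearMap.id + (t.flip (w₀ + δ)).comp (ev ht (f₂.flip w₀)) +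
        (t.flip w₀).comp (ev ht (f₂.flip δ)) := by
    apply ext_pure ht
    intro u w
    rw [LinearEquiv.coe_coe, zet_t ht halt₂ hδ]
    simp only [LinearMap.add_apply, LinearMap.id_apply, LinearMap.comp_apply, ev_t,
      LinearMap.flip_apply, map_add, map_smul]
    rfl
  have h2 := LinearMap.congr_fun this x
  simpa using h2

/-- an element of `X` stabilising a fibre stabilises its perpendicular space. -/
theorem apply_mem_Sperp (ht : IsTensorProduct t) (h : Hyp t Q f₁ f₂ M) {z : V ≃ₗ[F] V}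
    (hz : z ∈ XM M) {w₀ : W} (hS' : img z⁻¹ (fib t w₀) = fib t w₀) {x : V}
    (hx : x ∈ Sperp ht f₂ w₀) : z x ∈ Sperp ht f₂ w₀ := by
  rw [mem_Sperp_iff ht h] at hx ⊢
  intro u
  have h1 : z⁻¹ (t u w₀) ∈ fib t w₀ := by
    rw [← hS']; exact apply_mem_img (t_mem_fib u w₀)
  obtain ⟨u', hu'⟩ := mem_fib.mp h1
  have h2 : t u w₀ = z (t u' w₀) := by
    rw [hu', self_inv_apply']
  rw [h2, polar_of_mem_XM hz]
  exact hx u'

variable [FiniteDimensional F U] [FiniteDimensional F W] [FiniteDimensional F V]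

/-- (R1), core: the relation between the evaluations before and after `z`. -/
theorem exists_dual_rel (ht : IsTensorProduct t) (h : Hyp t Q f₁ f₂ M) (hU : 1 ≤ finrank F U)
    (hQS : ∀ q ∈ XM M, ∀ w₀ : W, w₀ ≠ 0 → (∀ x ∈ fib t w₀, q x = x) →
      (∀ x ∈ Sperp ht f₂ w₀, q x - x ∈ fib t w₀) → IsTens t q)
    {z : V ≃ₗ[F] V} (hz : z ∈ XM M) {w₀ : W} (hw₀ : w₀ ≠ 0)
    (hS : img z (fib t w₀) = fib t w₀) {A : U ≃ₗ[F] U} (hA : ∀ u, z (t u w₀) = t (A u) w₀)
    {δ : W} (hδ : f₂ δ w₀ = 0) :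
    ∃ δ' : Module.Dual F W, ∀ y ∈ Sperp ht f₂ w₀,
      ev ht δ' (z y) = A (ev ht (f₂.flip δ) y) := by
  have hδ' : f₂ w₀ δ = 0 := alt_perp_symm f₂ h.alt₂ hδ
  have hS' : img z⁻¹ (fib t w₀) = fib t w₀ := by
    conv_lhs => rw [← hS]
    rw [img_inv_img]
  have hS'' : img (z⁻¹)⁻¹ (fib t w₀) = fib t w₀ := by rw [inv_inv]; exact hS
  set ζ := zet ht f₂ h.alt₂ w₀ δ with hζ
  set q := z * ζ * z⁻¹ with hq
  have hqX : q ∈ XM M :=
    (XM M).mul_mem ((XM M).mul_mem hz (zet_mem ht h w₀ δ)) ((XM M).inv_mem hz)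
  have happ : ∀ x, q x = z (ζ (z⁻¹ x)) := fun x => rfl
  -- `ζ` on the perpendicular space
  have hζS : ∀ y ∈ Sperp ht f₂ w₀, ζ y = y + t (ev ht (f₂.flip δ) y) w₀ := by
    intro y hy
    rw [hζ, zet_apply ht h.alt₂ hδ, (mem_Sperp ht).mp hy, LinearMap.map_zero₂, add_zero]
  have hq1 : ∀ x ∈ fib t w₀, q x = x := by
    intro x hx
    have h1 : z⁻¹ x ∈ fib t w₀ := by rw [← hS']; exact apply_mem_img hx
    obtain ⟨u', hu'⟩ := mem_fib.mp h1
    have h2 : ζ (z⁻¹ x) = z⁻¹ x := by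
      rw [hζS _ (fib_le_Sperp ht h.alt₂ w₀ h1), ← hu', ev_t]
      show t u' w₀ + t (f₂ w₀ δ • u') w₀ = t u' w₀
      rw [hδ', zero_smul, LinearMap.map_zero₂, add_zero]
    rw [happ, h2, self_inv_apply']
  have hq2' : ∀ x ∈ Sperp ht f₂ w₀,
      q x = x + t (A (ev ht (f₂.flip δ) (z⁻¹ x))) w₀ := by
    intro x hx
    have hy : z⁻¹ x ∈ Sperp ht f₂ w₀ := apply_mem_Sperp ht h ((XM M).inv_mem hz) hS'' hx
    rw [happ, hζS _ hy, map_add, self_inv_apply', hA]
  have hq2 : ∀ x ∈ Sperp ht f₂ w₀, q x - x ∈ fib t w₀ := by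
    intro x hx
    rw [hq2' x hx, add_sub_cancel_left]
    exact t_mem_fib _ _
  obtain ⟨A', B', hAB⟩ := hQS q hqX w₀ hw₀ hq1 hq2
  obtain ⟨u₀, hu₀⟩ := exists_ne_zero_of_one_le (F := F) (M := U) hU
  have hA'u₀ : A' u₀ ≠ 0 := by
    intro h0; apply hu₀
    have : A' u₀ = A' 0 := by rw [h0, map_zero]
    exact A'.injective this
  -- `B' w₀` is a multiple of `w₀`
  have h3 : ∀ u, t (A' u) (B' w₀) = t u w₀ := by
    intro u
    rw [← hAB, hq1 _ (t_mem_fib u w₀)]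
  obtain ⟨lam, hlam⟩ := span_of_t_mem_fib ht hA'u₀ (by rw [h3]; exact t_mem_fib _ _)
  have h4 : ∀ u, lam • A' u = u := by
    intro u
    have := h3 u
    rw [hlam, map_smul, ← LinearMap.smul_apply, ← map_smul] at this
    exact t_left_injective ht hw₀ this
  have hlam0 : lam ≠ 0 := by
    intro h0
    have := h4 u₀
    rw [h0, zero_smul] at this
    exact hu₀ this.symm
  set B'' : W →ₗ[F] W := lam⁻¹ • (B' : W →ₗ[F] W) with hB''
  have hq3 : ∀ u w, q (t u w) = t u (B'' w) := by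
    intro u w
    rw [hAB, hB'', LinearMap.smul_apply, map_smul, LinearEquiv.coe_coe]
    conv_rhs => rw [← h4 u]
    rw [map_smul, LinearMap.smul_apply, smul_smul, inv_mul_cancel₀ hlam0, one_smul]
  obtain ⟨l₀, hl₀⟩ := exists_dual_eq_one (F := F) hw₀
  set δ' : Module.Dual F W := l₀.comp (B'' - 1) with hδ'def
  have hB''w : ∀ w, f₂ w w₀ = 0 → B'' w = w + δ' w • w₀ := by
    intro w hw
    have h5 := hq2 (t u₀ w) (t_mem_Sperp ht hw u₀)
    rw [hq3, ← map_sub] at h5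
    obtain ⟨c, hc⟩ := span_of_t_mem_fib ht hu₀ h5
    have h6 : δ' w = c := by
      rw [hδ'def, LinearMap.comp_apply, LinearMap.sub_apply, Module.End.one_apply, hc, map_smul, hl₀,
        smul_eq_mul, mul_one]
    rw [h6, ← hc]; abel
  have hqS : ∀ y ∈ Sperp ht f₂ w₀, q y = y + t (ev ht δ' y) w₀ := by
    refine Sperp_induction ht h hw₀ (p := fun y => q y = y + t (ev ht δ' y) w₀) ?_ ?_ ?_
    · simp
    · intro x y hx hy
      show q (x + y) = x + y + t (ev ht δ' (x + y)) w₀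
      rw [map_add, hx, hy, map_add, map_add, LinearMap.add_apply]
      abel
    · intro u w hw
      show q (t u w) = t u w + t (ev ht δ' (t u w)) w₀
      rw [hq3, hB''w w hw, ev_t, map_add, map_smul, map_smul, LinearMap.smul_apply]
  refine ⟨δ', fun y hy => ?_⟩
  have hzy : z y ∈ Sperp ht f₂ w₀ := apply_mem_Sperp ht h hz hS' hy
  have h7 := hqS (z y) hzy
  rw [hq2' (z y) hzy, inv_apply_self'] at h7
  have h8 := add_left_cancel h7
  exact (t_left_injective ht hw₀ h8).symm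

end Cfsg.Agent.Helper9.TensSD
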