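import Cfsg.Agent.Helper9.TensSD1
import Cfsg.Agent.Helper2.TensSC

set_option autoImplicit false
set_option linter.unusedSectionVars false
set_option linter.unusedVariables false

/-! S5704, Leaf D (helper9), part 2: the structure `A ⊗ B₀` modulo the fibre, `A = 1` for a
quadratic element of small rank, and the isometry properties of `B₀`. -/

namespace Cfsg.Agent.Helper9.TensSD

open Module Cfsg.Agent.Helper7.ExtF Cfsg.Agent.Helper8.OrthOrder Cfsg.Agent.Helper8.ExtO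
  Cfsg.Agent.Helper8.Siegel Cfsg.Agent.Helper8.SiegelGroup Cfsg.Agent.Helper3.TensOm
  Cfsg.Agent.Helper8.Tens

variable {F : Type*} [Field F] {U W V : Type*} [AddCommGroup U] [Module F U]
  [AddCommGroup W] [Module F W] [AddCommGroup V] [Module F V]
  {t : U →ₗ[F] W →ₗ[F] V} {Q : QuadraticForm F V} {f₁ : LinearMap.BilinForm F U}
  {f₂ : LinearMap.BilinForm F W} {M : Subgroup ↥(Isom Q)}
  [FiniteDimensional F U] [FiniteDimensional F W] [FiniteDimensional F V]

/-- (R1): an element of `X` stabilising the fibre of `w₀` acts on the perpendicular space of the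
fibre, modulo the fibre, as `A ⊗ B₀`. -/
theorem exists_AB (ht : IsTensorProduct t) (h : Hyp t Q f₁ f₂ M) (hU : 1 ≤ finrank F U)
    (hQS : ∀ q ∈ XM M, ∀ w₀ : W, w₀ ≠ 0 → (∀ x ∈ fib t w₀, q x = x) →
      (∀ x ∈ Sperp ht f₂ w₀, q x - x ∈ fib t w₀) → IsTens t q)
    {z : V ≃ₗ[F] V} (hz : z ∈ XM M) {w₀ : W} (hw₀ : w₀ ≠ 0)
    (hS : img z (fib t w₀) = fib t w₀) :
    ∃ (A : U ≃ₗ[F] U) (B₀ : W →ₗ[F] W), (∀ u, z (t u w₀) = t (A u) w₀) ∧ B₀ w₀ = w₀ ∧
      ∀ u w, f₂ w w₀ = 0 → z (t u w) - t (A u) (B₀ w) ∈ fib t w₀ := by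
  obtain ⟨A, hA⟩ := exists_A ht hw₀ hS
  have hS' : img z⁻¹ (fib t w₀) = fib t w₀ := by
    conv_lhs => rw [← hS]
    rw [img_inv_img]
  obtain ⟨A', hA'⟩ := exists_A ht hw₀ hS'
  have hAA' : ∀ u, A (A' u) = u := by
    intro u
    have h1 : z (z⁻¹ (t u w₀)) = t u w₀ := self_inv_apply' z _
    rw [hA', hA] at h1
    exact t_left_injective ht hw₀ h1
  have hstar : ∀ l : Module.Dual F W, l w₀ = 0 →
      ∃ β : Module.Dual F W, ∀ y ∈ Sperp ht f₂ w₀, ev ht l (z y) = A (ev ht β y) := by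
    intro l hl
    obtain ⟨d, hd⟩ := exists_flip_eq h l
    have hd0 : f₂ d w₀ = 0 := by
      apply alt_perp_symm f₂ h.alt₂
      have : (f₂.flip d) w₀ = 0 := by rw [hd]; exact hl
      exact this
    have hS'' : img z⁻¹ (fib t w₀) = fib t w₀ := hS'
    obtain ⟨β, hβ⟩ := exists_dual_rel ht h hU hQS ((XM M).inv_mem hz) hw₀ hS' hA' hd0
    refine ⟨β, fun y hy => ?_⟩
    have hzy : z y ∈ Sperp ht f₂ w₀ := apply_mem_Sperp ht h hz hS' hy
    have h1 := hβ (z y) hzy
    rw [inv_apply_self', hd] at h1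
    rw [h1, hAA']
  obtain ⟨u₀, hu₀⟩ := exists_ne_zero_of_one_le (F := F) (M := U) hU
  have hAu₀ : A u₀ ≠ 0 := by
    intro h0; apply hu₀
    have : A u₀ = A 0 := by rw [h0, map_zero]
    exact A.injective this
  obtain ⟨α₁, hα₁⟩ := exists_dual_eq_one (F := F) hAu₀
  set B₀ : W →ₗ[F] W := (evU ht α₁).comp ((z : V →ₗ[F] V).comp (t u₀)) with hB₀
  have hB₀app : ∀ w, B₀ w = evU ht α₁ (z (t u₀ w)) := fun w => rfl
  refine ⟨A, B₀, hA, ?_, ?_⟩
  · rw [hB₀app, hA, evU_t, hα₁, one_smul]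
  · intro u w hw
    rw [mem_fib_iff_ev ht hw₀]
    intro l hl
    obtain ⟨β, hβ⟩ := hstar l hl
    have h1 : l (B₀ w) = β w := by
      rw [hB₀app, ← ev_evU, hβ _ (t_mem_Sperp ht hw u₀), ev_t, map_smul, map_smul, hα₁,
        smul_eq_mul, mul_one]
    rw [map_sub, hβ _ (t_mem_Sperp ht hw u), ev_t, ev_t, h1, map_smul, sub_self]

/-- (R2): a quadratic element whose displacement space has the dimension of `U` acts trivially on
the fibre it stabilises. -/
theorem A_eq_one (ht : IsTensorProduct t) (h : Hyp t Q f₁ f₂ M)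
    (hab : finrank F U + 2 ≤ finrank F W) {z : V ≃ₗ[F] V} (hq : Quad z)
    (hr : finrank F ↥(disp z) = finrank F U) {w₀ : W} (hw₀ : w₀ ≠ 0) {A : U ≃ₗ[F] U}
    {B₀ : W →ₗ[F] W} (hA : ∀ u, z (t u w₀) = t (A u) w₀)
    (hC1 : ∀ u w, f₂ w w₀ = 0 → z (t u w) - t (A u) (B₀ w) ∈ fib t w₀) : ∀ u, A u = u := by
  by_contra hcon
  push Not at hcon
  obtain ⟨u₁, hu₁⟩ := hcon
  -- `(A - 1)² = 0`
  have hA2 : ∀ u, A (A u) + u = A u + A u := by
    intro u
    have h1 := hq (t u w₀)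
    rw [hA, hA, ← LinearMap.add_apply, ← LinearMap.add_apply, ← map_add, ← map_add] at h1
    exact t_left_injective ht hw₀ h1
  set n := A u₁ - u₁ with hn
  have hn0 : n ≠ 0 := by
    intro h0; apply hu₁; exact sub_eq_zero.mp h0
  have hAn : A n = n := by
    rw [hn, map_sub]
    have := hA2 u₁
    rw [sub_eq_sub_iff_add_eq_add]
    exact this
  -- `u₁ ∉ F (A u₁)`
  have hnot : u₁ ∉ Submodule.span F {A u₁} := by
    intro hmem
    obtain ⟨c, hc⟩ := Submodule.mem_span_singleton.mp hmem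
    have h1 : n = (1 - c) • A u₁ := by rw [hn, sub_smul, one_smul, hc]
    have h2 : (1 - c) ≠ 0 := by
      intro h0; apply hn0; rw [h1, h0, zero_smul]
    have h3 : (1 - c) • A (A u₁) = (1 - c) • A u₁ := by
      rw [← map_smul, ← h1, hAn, h1]
    have h4 : A (A u₁) = A u₁ := by
      have := congrArg (fun x => (1 - c)⁻¹ • x) h3
      simpa [smul_smul, inv_mul_cancel₀ h2] using this
    exact hu₁ (A.injective h4)
  obtain ⟨α, hα0, hα1⟩ := exists_kfunc (K := F) (Submodule.span F {A u₁}) hnot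
  have hαA : α (A u₁) = 0 := hα0 _ (Submodule.mem_span_singleton_self _)
  -- the injective map
  set W₀ : Submodule F W := LinearMap.ker (f₂.flip w₀) with hW₀
  set φ : ↥W₀ →ₗ[F] V := (((z : V →ₗ[F] V) - 1).comp (t u₁)).comp W₀.subtype with hφ
  have hφapp : ∀ w : ↥W₀, φ w = z (t u₁ w.1) - t u₁ w.1 := fun w => rfl
  have hφinj : Function.Injective φ := by
    rw [injective_iff_map_eq_zero]
    intro w hw
    have hw0 : f₂ w.1 w₀ = 0 := w.2
    rw [hφapp, sub_eq_zero] at hw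
    have h1 := hC1 u₁ w.1 hw0
    rw [hw] at h1
    obtain ⟨u', hu'⟩ := mem_fib.mp h1
    have h2 := congrArg (evU ht α) hu'
    rw [map_sub, evU_t, evU_t, evU_t, hαA, hα1, zero_smul, one_smul, sub_zero] at h2
    -- `w = c • w₀`
    have h3 : w.1 = (α u') • w₀ := h2.symm
    have h4 : z (t u₁ w.1) = (α u') • t (A u₁) w₀ := by
      rw [h3, map_smul, map_smul, hA]
    rw [h4, h3, map_smul, ← sub_eq_zero, ← smul_sub, ← LinearMap.sub_apply, ← map_sub, ← hn] at hw
    rcases smul_eq_zero.mp hw with h5 | h5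
    · apply Subtype.ext
      rw [h3, h5, zero_smul]; rfl
    · rcases (t_eq_zero_iff ht).mp h5 with h6 | h6
      · exact absurd h6 hn0
      · exact absurd h6 hw₀
  have hle : LinearMap.range φ ≤ disp z := by
    rintro _ ⟨w, rfl⟩
    exact mem_disp.mpr ⟨t u₁ w.1, rfl⟩
  have h1 := Submodule.finrank_mono hle
  rw [LinearMap.finrank_range_of_inj hφinj, hr] at h1
  have h1' : finrank F ↥(LinearMap.ker (f₂.flip w₀)) ≤ finrank F U := h1
  have h2 := LinearMap.finrank_range_add_finrank_ker (f₂.flip w₀)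
  have h3 : finrank F ↥(LinearMap.range (f₂.flip w₀)) ≤ 1 := by
    have := Submodule.finrank_le (LinearMap.range (f₂.flip w₀))
    rwa [finrank_self] at this
  omega

end Cfsg.Agent.Helper9.TensSD
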