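import Cfsg.Agent.Helper9.TensSD2

set_option autoImplicit false
set_option linter.unusedSectionVars false
set_option linter.unusedVariables false

/-! S5704, Leaf D (helper9), part 3: the map `B₀` preserves `f₂` on the perpendicular space of
`w₀`; and an element acting as a symplectic transvection modulo the fibre is a tensor. -/

namespace Cfsg.Agent.Helper9.TensSD

open Module Cfsg.Agent.Helper7.ExtF Cfsg.Agent.Helper8.OrthOrder Cfsg.Agent.Helper8.ExtO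
  Cfsg.Agent.Helper8.Siegel Cfsg.Agent.Helper8.SiegelGroup Cfsg.Agent.Helper3.TensOm
  Cfsg.Agent.Helper8.Tens

variable {F : Type*} [Field F] {U W V : Type*} [AddCommGroup U] [Module F U]
  [AddCommGroup W] [Module F W] [AddCommGroup V] [Module F V]
  {t : U →ₗ[F] W →ₗ[F] V} {Q : QuadraticForm F V} {f₁ : LinearMap.BilinForm F U}
  {f₂ : LinearMap.BilinForm F W} {M : Subgroup ↥(Isom Q)}
  [FiniteDimensional F U] [FiniteDimensional F W] [FiniteDimensional F V]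

/-- `B₀` maps the perpendicular space of `w₀` to itself. -/
theorem B₀_perp (ht : IsTensorProduct t) (h : Hyp t Q f₁ f₂ M) (hU : 1 ≤ finrank F U)
    {z : V ≃ₗ[F] V} (hz : z ∈ XM M) {w₀ : W} (hw₀ : w₀ ≠ 0)
    (hS : img z (fib t w₀) = fib t w₀) {B₀ : W →ₗ[F] W}
    (hC1 : ∀ u w, f₂ w w₀ = 0 → z (t u w) - t u (B₀ w) ∈ fib t w₀) {w : W}
    (hw : f₂ w w₀ = 0) : f₂ (B₀ w) w₀ = 0 := by
  have hS' : img z⁻¹ (fib t w₀) = fib t w₀ := by
    conv_lhs => rw [← hS]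
    rw [img_inv_img]
  obtain ⟨u₀, hu₀⟩ := exists_ne_zero_of_one_le (F := F) (M := U) hU
  have h1 : z (t u₀ w) ∈ Sperp ht f₂ w₀ := apply_mem_Sperp ht h hz hS' (t_mem_Sperp ht hw u₀)
  have h2 : z (t u₀ w) - t u₀ (B₀ w) ∈ Sperp ht f₂ w₀ :=
    fib_le_Sperp ht h.alt₂ w₀ (hC1 u₀ w hw)
  have h3 : t u₀ (B₀ w) ∈ Sperp ht f₂ w₀ := by
    have := Submodule.sub_mem _ h1 h2
    rwa [sub_sub_cancel] at this
  rw [mem_Sperp, ev_t] at h3
  rcases smul_eq_zero.mp h3 with h4 | h4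
  · exact h4
  · exact absurd h4 hu₀

/-- `B₀` preserves `f₂` on the perpendicular space of `w₀`. -/
theorem B₀_iso (ht : IsTensorProduct t) (h : Hyp t Q f₁ f₂ M) (hU : 1 ≤ finrank F U)
    {z : V ≃ₗ[F] V} (hz : z ∈ XM M) {w₀ : W} (hw₀ : w₀ ≠ 0)
    (hS : img z (fib t w₀) = fib t w₀) {B₀ : W →ₗ[F] W}
    (hC1 : ∀ u w, f₂ w w₀ = 0 → z (t u w) - t u (B₀ w) ∈ fib t w₀) {w w' : W}
    (hw : f₂ w w₀ = 0) (hw' : f₂ w' w₀ = 0) : f₂ (B₀ w) (B₀ w') = f₂ w w' := by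
  obtain ⟨u₀, hu₀⟩ := exists_ne_zero_of_one_le (F := F) (M := U) hU
  obtain ⟨u₁, hu₁⟩ := exists_pair f₁ h.nd₁ hu₀
  obtain ⟨s, hs⟩ := mem_fib.mp (hC1 u₀ w hw)
  obtain ⟨s', hs'⟩ := mem_fib.mp (hC1 u₁ w' hw')
  have e1 : z (t u₀ w) = t u₀ (B₀ w) + t s w₀ := by rw [hs]; abel
  have e2 : z (t u₁ w') = t u₁ (B₀ w') + t s' w₀ := by rw [hs']; abel
  have hp := polar_of_mem_XM hz (t u₀ w) (t u₁ w')
  have hb1 : f₂ (B₀ w) w₀ = 0 := B₀_perp ht h hU hz hw₀ hS hC1 hw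
  have hb2 : f₂ (B₀ w') w₀ = 0 := B₀_perp ht h hU hz hw₀ hS hC1 hw'
  have hb2' : f₂ w₀ (B₀ w') = 0 := alt_perp_symm f₂ h.alt₂ hb2
  rw [e1, e2, QuadraticMap.polar_add_left, QuadraticMap.polar_add_right,
    QuadraticMap.polar_add_right, h.pol, h.pol, h.pol, h.pol, h.pol, hu₁, hb1, hb2', h.alt₂ w₀,
    one_mul, one_mul, mul_zero, mul_zero, mul_zero, add_zero, add_zero, add_zero] at hp
  exact hp

/-- an element of `X` fixing a fibre pointwise and acting on the perpendicular space of the fibre,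
modulo the fibre, as a symplectic transvection of the second factor is a tensor. -/
theorem isTens_of_transvection (ht : IsTensorProduct t) (h : Hyp t Q f₁ f₂ M)
    (hQS : ∀ q ∈ XM M, ∀ w₀ : W, w₀ ≠ 0 → (∀ x ∈ fib t w₀, q x = x) →
      (∀ x ∈ Sperp ht f₂ w₀, q x - x ∈ fib t w₀) → IsTens t q)
    {z : V ≃ₗ[F] V} (hz : z ∈ XM M) {w₀ : W} (hw₀ : w₀ ≠ 0)
    (hfix : ∀ u, z (t u w₀) = t u w₀) {B₀ : W →ₗ[F] W}
    (hC1 : ∀ u w, f₂ w w₀ = 0 → z (t u w) - t u (B₀ w) ∈ fib t w₀) {w₃ : W} {c : F}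
    (hw₃ : f₂ w₃ w₀ = 0)
    (hB₀ : ∀ w, f₂ w w₀ = 0 → ∃ e : F, B₀ w = w + (c * f₂ w w₃) • w₃ + e • w₀) :
    IsTens t z := by
  have hw₃' : f₂ w₀ w₃ = 0 := alt_perp_symm f₂ h.alt₂ hw₃
  set y := yB ht f₂ h.alt₂ w₃ c with hy
  have hyX : y ∈ XM M := yB_mem ht h w₃ c
  set q := y⁻¹ * z with hq
  have hqX : q ∈ XM M := (XM M).mul_mem ((XM M).inv_mem hyX) hz
  have hyfix : ∀ u, y (t u w₀) = t u w₀ := by
    intro u
    rw [hy, yB_t, hw₃', mul_zero, zero_smul, add_zero]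
  have hyinv : ∀ x ∈ fib t w₀, y⁻¹ x = x := by
    intro x hx
    obtain ⟨u, rfl⟩ := mem_fib.mp hx
    conv_lhs => rw [← hyfix u]
    exact inv_apply_self' y _
  have hq1 : ∀ x ∈ fib t w₀, q x = x := by
    intro x hx
    obtain ⟨u, rfl⟩ := mem_fib.mp hx
    rw [hq, LinearEquiv.mul_apply, hfix, hyinv _ (t_mem_fib u w₀)]
  have hq2 : ∀ x ∈ Sperp ht f₂ w₀, q x - x ∈ fib t w₀ := by
    refine Sperp_induction ht h hw₀ (p := fun x => q x - x ∈ fib t w₀) ?_ ?_ ?_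
    · show q 0 - 0 ∈ fib t w₀
      simp
    · intro x x' hx hx'
      show q (x + x') - (x + x') ∈ fib t w₀
      have e : q (x + x') - (x + x') = (q x - x) + (q x' - x') := by rw [map_add]; abel
      rw [e]
      exact Submodule.add_mem _ hx hx'
    · intro u w hw
      show q (t u w) - t u w ∈ fib t w₀
      obtain ⟨e, he⟩ := hB₀ w hw
      obtain ⟨s, hs⟩ := mem_fib.mp (hC1 u w hw)
      have e1 : z (t u w) = y (t u w) + t (e • u + s) w₀ := by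
        have : z (t u w) = t u (B₀ w) + t s w₀ := by rw [hs]; abel
        rw [this, he, hy, yB_t]
        simp only [map_add, map_smul, LinearMap.add_apply, LinearMap.smul_apply]
        abel
      rw [hq, LinearEquiv.mul_apply, e1, map_add, inv_apply_self',
        hyinv _ (t_mem_fib _ w₀), add_sub_cancel_left]
      exact t_mem_fib _ _
  have hqT : IsTens t q := hQS q hqX w₀ hw₀ hq1 hq2
  have hyT : IsTens t y := by
    rw [hy, yB, xB_eq_tmap]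
    exact isTens_tmap ht _ _
  have hzq : z = y * q := by rw [hq, mul_inv_cancel_left]
  rw [hzq]
  exact hyT.mul ht hqT

end Cfsg.Agent.Helper9.TensSD
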