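import Cfsg.Agent.Helper8.TensSB

set_option autoImplicit false
set_option linter.unusedSectionVars false
set_option linter.unusedVariables false

/-! S5666 [MAIN-U] (helper9), part 1: max pairs of the max-intersection argument for symplectic
root elements `yB w c = 1 ⊗ t_w(c)` (generic `t`, `f₂` alternating; for the fibres `u ⊗ W` use
`t := t.flip`, see `Helper9/TensFlip`).  A max pair is a fibre `S = fib t w` and a non-fibre
`R = img g (fib t w₀)` of the orbit with `dim (S ⊓ R) = d` maximal.  We prove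
`R ⊓ S^⊥ = S ⊓ R = S ⊓ R^⊥` (`S^⊥ = Sperp ht f₂ w`, `R^⊥ = img g (Sperp ht f₂ w₀)`), and that a
root element of `S` stabilising `l S` (`l` in the group, `l - 1` with values in `S + R`) has
`l S = S`. -/

namespace Cfsg.Agent.Helper9.TensU

open Module Cfsg.Agent.Helper7.ExtF Cfsg.Agent.Helper8.OrthOrder Cfsg.Agent.Helper3.TensOm
  Cfsg.Agent.Helper8.Tens

variable {F : Type*} [Field F] {U W V : Type*} [AddCommGroup U] [Module F U]
  [AddCommGroup W] [Module F W] [AddCommGroup V] [Module F V]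
  {t : U →ₗ[F] W →ₗ[F] V} {f₂ : LinearMap.BilinForm F W}

/-- a max pair: the fibre of `w` and the non-fibre `img g (fib t w₀)` of the orbit of `X`, whose
intersection has the maximal dimension `d`. -/
structure MaxPair (t : U →ₗ[F] W →ₗ[F] V) (X : Subgroup (V ≃ₗ[F] V)) (w : W) (g : V ≃ₗ[F] V)
    (w₀ : W) (d : ℕ) : Prop where
  hw : w ≠ 0
  hg : g ∈ X
  hw₀ : w₀ ≠ 0
  hRn : NonFib t (img g (fib t w₀))
  hd : finrank F ↥(fib t w ⊓ img g (fib t w₀)) = d
  hmax : ∀ n, PD t X n → n ≤ d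

theorem img_img_inv (g : V ≃ₗ[F] V) (p : Submodule F V) : img g (img g⁻¹ p) = p := by
  rw [← img_mul, mul_inv_cancel, img_one]

section

variable [FiniteDimensional F U] [FiniteDimensional F W] [FiniteDimensional F V]

/-- if `X` does not permute the fibres there is a max pair. -/
theorem exists_maxPair (ht : IsTensorProduct t) (X : Subgroup (V ≃ₗ[F] V))
    (hcon : ¬ ∀ g ∈ X, ∀ w : W, w ≠ 0 → ∃ w' : W, w' ≠ 0 ∧ img g (fib t w) = fib t w') :
    ∃ (w : W) (g : V ≃ₗ[F] V) (w₀ : W) (d : ℕ), MaxPair t X w g w₀ d := by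
  classical
  push Not at hcon
  obtain ⟨g₁, hg₁, w₁, hw₁, hnf₁⟩ := hcon
  set R₁ := img g₁ (fib t w₁) with hR₁
  have hR₁O : R₁ ∈ Orb t X := ⟨g₁, hg₁, w₁, hw₁, rfl⟩
  have hR₁n : NonFib t R₁ := fun w' hw' => hnf₁ w' hw'
  have hbound : ∀ n, PD t X n → n ≤ finrank F U := by
    rintro n ⟨w, hw, R, hR, -, rfl⟩
    rw [← finrank_fib ht hw]
    exact Submodule.finrank_mono inf_le_left
  have hP0 : PD t X (finrank F ↥(fib t w₁ ⊓ R₁)) := ⟨w₁, hw₁, R₁, hR₁O, hR₁n, rfl⟩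
  set d := Nat.findGreatest (PD t X) (finrank F U) with hd
  have hPd : PD t X d := Nat.findGreatest_spec (hbound _ hP0) hP0
  have hmax : ∀ n, PD t X n → n ≤ d := fun n hn => Nat.le_findGreatest (hbound n hn) hn
  obtain ⟨w, hw, R, ⟨g, hg, w₀, hw₀, rfl⟩, hRn, hdR⟩ := hPd
  exact ⟨w, g, w₀, d, hw, hg, hw₀, hRn, hdR, hmax⟩

variable {X : Subgroup (V ≃ₗ[F] V)} {w w₀ : W} {g : V ≃ₗ[F] V} {d : ℕ}

theorem MaxPair.mem_Orb (hp : MaxPair t X w g w₀ d) : img g (fib t w₀) ∈ Orb t X :=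
  ⟨g, hp.hg, w₀, hp.hw₀, rfl⟩

/-- the fibre and the non-fibre of a max pair are different. -/
theorem MaxPair.ne (hp : MaxPair t X w g w₀ d) : img g (fib t w₀) ≠ fib t w :=
  hp.hRn w hp.hw

/-- the intersection is a proper subspace of the fibre. -/
theorem MaxPair.not_le (ht : IsTensorProduct t) (hp : MaxPair t X w g w₀ d) :
    ¬ fib t w ≤ img g (fib t w₀) := by
  intro hle
  have := eq_of_le_of_finrank hle (by rw [finrank_fib ht hp.hw, finrank_Orb ht hp.mem_Orb])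
  exact hp.ne this.symm

theorem MaxPair.not_le' (ht : IsTensorProduct t) (hp : MaxPair t X w g w₀ d) :
    ¬ img g (fib t w₀) ≤ fib t w := by
  intro hle
  have := eq_of_le_of_finrank hle (by rw [finrank_fib ht hp.hw, finrank_Orb ht hp.mem_Orb])
  exact hp.ne this

/-- **F2**: `R ⊓ S^⊥ = S ⊓ R`. -/
theorem MaxPair.inf_Sperp (ht : IsTensorProduct t) (hU : 1 ≤ finrank F U)
    (halt₂ : ∀ w, f₂ w w = 0) (hnd₂ : ∀ w, (∀ y, f₂ w y = 0) → w = 0)
    (hXB : ∀ w c, yB ht f₂ halt₂ w c ∈ X) (hyp : RootHypS ht f₂ halt₂ X)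
    (hp : MaxPair t X w g w₀ d) :
    img g (fib t w₀) ⊓ Sperp ht f₂ w = fib t w ⊓ img g (fib t w₀) := by
  apply le_antisymm
  · rintro r ⟨hr, hrS⟩
    refine ⟨?_, hr⟩
    apply step1_S ht hU halt₂ hnd₂ X hXB hyp hp.hmax hp.hw hp.mem_Orb hp.hRn hp.hd hp.hw
      (halt₂ w) hr
    have h0 : ev ht (lw f₂ w 1) r = 0 := by
      have : lw f₂ w 1 = f₂.flip w := by unfold lw; rw [one_smul]
      rw [this]; exact (mem_Sperp ht).mp hrS
    rw [h0, LinearMap.map_zero₂]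
    exact Submodule.zero_mem _
  · rintro s ⟨hs, hsR⟩
    exact ⟨hsR, fib_le_Sperp ht halt₂ w hs⟩

/-- the mirror of a max pair (when `g⁻¹ S` is not a fibre). -/
theorem MaxPair.mirror (hp : MaxPair t X w g w₀ d) (hnf : NonFib t (img g⁻¹ (fib t w))) :
    MaxPair t X w₀ g⁻¹ w d := by
  refine ⟨hp.hw₀, X.inv_mem hp.hg, hp.hw, hnf, ?_, hp.hmax⟩
  rw [← hp.hd, ← finrank_img g (fib t w₀ ⊓ img g⁻¹ (fib t w)), img_inf, img_img_inv, inf_comm]

/-- a root element fixes the fibres of the perpendicular vectors pointwise. -/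
theorem yB_fix_of_perp (ht : IsTensorProduct t) (halt₂ : ∀ w, f₂ w w = 0) {w₁ w₂ : W}
    (h : f₂ w₂ w₁ = 0) (c : F) {v : V} (hv : v ∈ fib t w₂) : yB ht f₂ halt₂ w₁ c v = v := by
  obtain ⟨u, rfl⟩ := mem_fib.mp hv
  rw [yB_t, h, mul_zero, zero_smul, add_zero]

theorem img_yB_fib_of_perp (ht : IsTensorProduct t) (halt₂ : ∀ w, f₂ w w = 0) {w₁ w₂ : W}
    (h : f₂ w₂ w₁ = 0) (c : F) : img (yB ht f₂ halt₂ w₁ c) (fib t w₂) = fib t w₂ := by
  apply eq_of_le_of_finrank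
  · intro v hv
    obtain ⟨v', hv', rfl⟩ := mem_img.mp hv
    rw [yB_fix_of_perp ht halt₂ h c hv']; exact hv'
  · rw [finrank_img]

/-- if `g⁻¹ S` is a fibre `fib t w₁` then `w₁` is not perpendicular to `w₀`. -/
theorem MaxPair.not_perp_of_fib (ht : IsTensorProduct t) (hU : 1 ≤ finrank F U)
    (halt₂ : ∀ w, f₂ w w = 0) (hnd₂ : ∀ w, (∀ y, f₂ w y = 0) → w = 0)
    (hXB : ∀ w c, yB ht f₂ halt₂ w c ∈ X) (hyp : RootHypS ht f₂ halt₂ X)
    (hp : MaxPair t X w g w₀ d) {w₁ : W} (hw₁ : w₁ ≠ 0)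
    (hfib : img g⁻¹ (fib t w) = fib t w₁) : f₂ w₁ w₀ ≠ 0 := by
  intro hperp
  have hS : fib t w = img g (fib t w₁) := by rw [← hfib, img_img_inv]
  set x := yB ht f₂ halt₂ w₁ 1 with hx
  have hxr : IsRootS ht f₂ halt₂ x := ⟨w₁, 1, hw₁, one_ne_zero, rfl⟩
  have hst : img (g * x * g⁻¹) (fib t w) = fib t w := by
    rw [img_mul, img_mul, hfib, hx, img_yB_fib_of_perp ht halt₂ (halt₂ w₁) 1, ← hS]
  obtain ⟨w₃, c₃, hw₃, hc₃, hx'⟩ := hyp g hp.hg x hxr w hp.hw hst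
  apply no_stab_S ht hU halt₂ hnd₂ X hXB hyp hp.hg hp.hw₀ hp.hRn hw₃ hc₃
  rw [← hx', img_mul, img_mul, img_inv_img, hx,
    img_yB_fib_of_perp ht halt₂ (alt_perp_symm f₂ halt₂ hperp) 1]

/-- **F2'** (the mirror of F2): `S ⊓ R^⊥ = S ⊓ R`, `R^⊥ = img g (Sperp ht f₂ w₀)`. -/
theorem MaxPair.inf_img_Sperp (ht : IsTensorProduct t) (hU : 1 ≤ finrank F U)
    (halt₂ : ∀ w, f₂ w w = 0) (hnd₂ : ∀ w, (∀ y, f₂ w y = 0) → w = 0)
    (hXB : ∀ w c, yB ht f₂ halt₂ w c ∈ X) (hyp : RootHypS ht f₂ halt₂ X)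
    (hp : MaxPair t X w g w₀ d) :
    fib t w ⊓ img g (Sperp ht f₂ w₀) = fib t w ⊓ img g (fib t w₀) := by
  by_cases hnf : NonFib t (img g⁻¹ (fib t w))
  · have h := (hp.mirror hnf).inf_Sperp ht hU halt₂ hnd₂ hXB hyp
    have h' := congrArg (img g) h
    rw [img_inf, img_inf, img_img_inv] at h'
    rw [h', inf_comm]
  · unfold NonFib at hnf
    push Not at hnf
    obtain ⟨w₁, hw₁, hfib⟩ := hnf
    have hne := hp.not_perp_of_fib ht hU halt₂ hnd₂ hXB hyp hw₁ hfib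
    have hS : fib t w = img g (fib t w₁) := by rw [← hfib, img_img_inv]
    have h1 : fib t w ⊓ img g (Sperp ht f₂ w₀) = ⊥ := by
      rw [eq_bot_iff]
      rintro v ⟨hv1, hv2⟩
      rw [hS] at hv1
      obtain ⟨v₁, hv₁, rfl⟩ := mem_img.mp hv1
      obtain ⟨v₂, hv₂, e⟩ := mem_img.mp hv2
      have e' : v₂ = v₁ := g.injective e
      rw [e'] at hv₂
      obtain ⟨u, rfl⟩ := mem_fib.mp hv₁
      have := (mem_Sperp ht).mp hv₂
      rw [ev_t] at this
      have hu : u = 0 := by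
        rcases smul_eq_zero.mp this with h | h
        · exact absurd h hne
        · exact h
      rw [hu, LinearMap.map_zero₂, map_zero]
      exact Submodule.zero_mem _
    have h2 : fib t w ⊓ img g (fib t w₀) = ⊥ := by
      rw [hS, ← img_inf]
      have hne' : fib t w₁ ≠ fib t w₀ := by
        intro heq
        apply hp.ne
        rw [hS, heq]
      rw [fib_inf_fib ht hw₁ hp.hw₀ hne']
      rw [eq_bot_iff]
      intro v hv
      obtain ⟨v', hv', rfl⟩ := mem_img.mp hv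
      rw [(Submodule.mem_bot F).mp hv', map_zero]
      exact Submodule.zero_mem _
    rw [h1, h2]

/-- **(b)**: a non-trivial root element of `S` which stabilises `l S` (`l ∈ X`, `l - 1` with
values in `S + R` on `S`) has `l S = S`. -/
theorem MaxPair.eq_of_stab (ht : IsTensorProduct t) (hU : 1 ≤ finrank F U)
    (halt₂ : ∀ w, f₂ w w = 0) (hnd₂ : ∀ w, (∀ y, f₂ w y = 0) → w = 0)
    (hXB : ∀ w c, yB ht f₂ halt₂ w c ∈ X) (hyp : RootHypS ht f₂ halt₂ X)
    (hp : MaxPair t X w g w₀ d) {l : V ≃ₗ[F] V} (hl : l ∈ X)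
    (hlSR : ∀ v ∈ fib t w, l v ∈ fib t w ⊔ img g (fib t w₀)) {c : F} (hc : c ≠ 0)
    (hst : img (yB ht f₂ halt₂ w c) (img l (fib t w)) = img l (fib t w)) :
    img l (fib t w) = fib t w := by
  by_cases hnf : NonFib t (img l (fib t w))
  · exact (no_stab_S ht hU halt₂ hnd₂ X hXB hyp hl hp.hw hnf hp.hw hc hst).elim
  · unfold NonFib at hnf
    push Not at hnf
    obtain ⟨w', hw', hfib⟩ := hnf
    rw [hfib] at hst
    have h0 : lw f₂ w c w' = 0 :=
      dual_eq_zero_of_stab ht hU (lw_self halt₂ w c) hp.hw hw' hst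
    have hperp : f₂ w' w = 0 := by
      rw [lw_apply] at h0
      rcases mul_eq_zero.mp h0 with h | h
      · exact absurd h hc
      · exact h
    have hle : img l (fib t w) ≤ fib t w := by
      intro v hv
      have hv1 : v ∈ fib t w ⊔ img g (fib t w₀) := by
        obtain ⟨s, hs, rfl⟩ := mem_img.mp hv
        exact hlSR s hs
      have hv2 : v ∈ Sperp ht f₂ w := by
        rw [hfib] at hv
        obtain ⟨u, rfl⟩ := mem_fib.mp hv
        exact t_mem_Sperp ht hperp u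
      have hmod : (fib t w ⊔ img g (fib t w₀)) ⊓ Sperp ht f₂ w =
          fib t w ⊔ img g (fib t w₀) ⊓ Sperp ht f₂ w :=
        sup_inf_assoc_of_le _ (fib_le_Sperp ht halt₂ w)
      have hv3 : v ∈ fib t w ⊔ img g (fib t w₀) ⊓ Sperp ht f₂ w := by
        rw [← hmod]; exact ⟨hv1, hv2⟩
      rw [hp.inf_Sperp ht hU halt₂ hnd₂ hXB hyp] at hv3
      have : fib t w ⊔ fib t w ⊓ img g (fib t w₀) = fib t w := sup_inf_self
      rw [this] at hv3
      exact hv3
    exact eq_of_le_of_finrank hle (by rw [finrank_img])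

end

end Cfsg.Agent.Helper9.TensU
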