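import Cfsg.Agent.Helper9.TensU1

set_option autoImplicit false
set_option linter.unusedSectionVars false
set_option linter.unusedVariables false

/-! S5666 [MAIN-U] (helper9), part 2: for a max pair `(S, R)`, `x` a non-trivial root element of
`S` and `y` one of `R`, the product `x y` is not quadratic (hypothesis (c) of the opposite-pair
lemma), provided the element `y⁻¹ x y` (which fixes `S` pointwise when `x y` is quadratic) is a
root element of `S` (hypothesis (a)), and `2 ≠ 0`. -/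

namespace Cfsg.Agent.Helper9.TensU

open Module Cfsg.Agent.Helper7.ExtF Cfsg.Agent.Helper8.OrthOrder Cfsg.Agent.Helper3.TensOm
  Cfsg.Agent.Helper8.Tens

variable {F : Type*} [Field F] {U W V : Type*} [AddCommGroup U] [Module F U]
  [AddCommGroup W] [Module F W] [AddCommGroup V] [Module F V]
  {t : U →ₗ[F] W →ₗ[F] V} {f₂ : LinearMap.BilinForm F W}

/-- the linear algebra of a quadratic product of two quadratic elements `1 + N`, `1 + M` with
`im N = S ≤ ker N = S'`, `im M = R ≤ ker M = R'`, `R ⊓ S' = S ⊓ R = S ⊓ R'`. -/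
theorem quad_prod_aux {N M : Module.End F V} {S R S' R' : Submodule F V}
    (hNS : ∀ v, N v ∈ S) (hMR : ∀ v, M v ∈ R)
    (hN0 : ∀ v, N v = 0 ↔ v ∈ S') (hM0 : ∀ v, M v = 0 ↔ v ∈ R')
    (hSS' : S ≤ S') (hRR' : R ≤ R')
    (h1 : R ⊓ S' = S ⊓ R) (h2 : S ⊓ R' = S ⊓ R)
    (hq : ∀ v, (N + M + N * M) ((N + M + N * M) v) = 0) :
    (∀ s ∈ S, M s ∈ S ⊓ R) ∧ (∀ r ∈ R, N r ∈ S ⊓ R) ∧ ∀ v, N (M v) + M (N v) = 0 := by
  have hNS0 : ∀ s ∈ S, N s = 0 := fun s hs => (hN0 s).mpr (hSS' hs)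
  have hMR0 : ∀ r ∈ R, M r = 0 := fun r hr => (hM0 r).mpr (hRR' hr)
  have hK : ∀ v, (N + M + N * M) v = N v + M v + N (M v) := by
    intro v
    simp only [LinearMap.add_apply, Module.End.mul_apply]
  have hi : ∀ s ∈ S, M s ∈ S ⊓ R := by
    intro s hs
    have hKs : (N + M + N * M) s = M s + N (M s) := by
      rw [hK, hNS0 s hs, zero_add]
    have hq' := hq s
    rw [hKs, hK] at hq'
    have e1 : N (M s + N (M s)) = N (M s) := by
      rw [map_add, hNS0 _ (hNS (M s)), add_zero]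
    have e2 : M (M s + N (M s)) = M (N (M s)) := by
      rw [map_add, hMR0 _ (hMR s), zero_add]
    rw [e1, e2] at hq'
    set a := N (M s) with ha
    -- `a + M a + N (M a) = 0`
    have hMa : M a = -(a + N (M a)) := by
      have h' : M a + (a + N (M a)) = 0 := by
        rw [← hq']; abel
      exact eq_neg_of_add_eq_zero_left h'
    have hMaS : M a ∈ S := by
      rw [hMa]
      exact S.neg_mem (S.add_mem (hNS _) (hNS _))
    have hNMa : N (M a) = 0 := hNS0 _ hMaS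
    rw [hNMa, add_zero] at hMa
    have haR : a ∈ R := by
      have : a = -(M a) := by rw [hMa, neg_neg]
      rw [this]
      exact R.neg_mem (hMR _)
    have hMa0 : M a = 0 := hMR0 _ haR
    have ha0 : a = 0 := by
      rw [hMa0] at hMa
      have : a = -(0 : V) := by rw [hMa, neg_neg]
      rw [this, neg_zero]
    have : M s ∈ R ⊓ S' := ⟨hMR s, (hN0 _).mp ha0⟩
    rw [h1] at this
    exact this
  have hii : ∀ r ∈ R, N r ∈ S ⊓ R := by
    intro r hr
    have hKr : (N + M + N * M) r = N r := by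
      rw [hK, hMR0 r hr, map_zero, add_zero, add_zero]
    have hq' := hq r
    rw [hKr, hK, hNS0 _ (hNS r), zero_add] at hq'
    set b := M (N r) with hb
    have hbS : b ∈ S := by
      have : b = -(N b) := eq_neg_of_add_eq_zero_left hq'
      rw [this]
      exact S.neg_mem (hNS _)
    have hNb : N b = 0 := hNS0 _ hbS
    rw [hNb, add_zero] at hq'
    have : N r ∈ S ⊓ R' := ⟨hNS r, (hM0 _).mp hq'⟩
    rw [h2] at this
    exact this
  refine ⟨hi, hii, ?_⟩
  intro v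
  have hq' := hq v
  rw [hK, hK] at hq'
  have e1 : N (N v + M v + N (M v)) = N (M v) := by
    rw [map_add, map_add, hNS0 _ (hNS v), hNS0 _ (hNS (M v)), zero_add, add_zero]
  have e2 : M (N v + M v + N (M v)) = M (N v) := by
    rw [map_add, map_add, hMR0 _ (hMR v), hMR0 _ (hii _ (hMR v)).2, add_zero, add_zero]
  rw [e1, e2, hNS0 _ (hi _ (hNS v)).1, add_zero] at hq'
  exact hq'

/-- the displacement of a root element. -/
theorem yB_sub (ht : IsTensorProduct t) (halt₂ : ∀ w, f₂ w w = 0) (w : W) (c : F) (v : V) :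
    yB ht f₂ halt₂ w c v - v = t (c • ev ht (f₂.flip w) v) w := by
  rw [yB_apply, add_sub_cancel_left]
  unfold lw
  rw [ev_smul, LinearMap.smul_apply]

theorem yB_sub_mem (ht : IsTensorProduct t) (halt₂ : ∀ w, f₂ w w = 0) (w : W) (c : F) (v : V) :
    yB ht f₂ halt₂ w c v - v ∈ fib t w := by
  rw [yB_sub]; exact t_mem_fib _ _

theorem yB_sub_eq_zero_iff (ht : IsTensorProduct t) (halt₂ : ∀ w, f₂ w w = 0) {w : W}
    (hw : w ≠ 0) {c : F} (hc : c ≠ 0) (v : V) :
    yB ht f₂ halt₂ w c v - v = 0 ↔ v ∈ Sperp ht f₂ w := by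
  rw [yB_sub, t_eq_zero_iff ht, mem_Sperp]
  constructor
  · rintro (h | h)
    · rcases smul_eq_zero.mp h with h' | h'
      · exact absurd h' hc
      · exact h'
    · exact absurd h hw
  · intro h
    left
    rw [h, smul_zero]

theorem yB_sub_smul (ht : IsTensorProduct t) (halt₂ : ∀ w, f₂ w w = 0) (w : W) {c : F}
    (hc : c ≠ 0) (c₁ : F) (v : V) :
    yB ht f₂ halt₂ w c₁ v - v = (c₁ * c⁻¹) • (yB ht f₂ halt₂ w c v - v) := by
  rw [yB_sub, yB_sub, ← LinearMap.map_smul₂, smul_smul, mul_assoc, inv_mul_cancel₀ hc, mul_one]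

theorem conj_apply (g x : V ≃ₗ[F] V) (v : V) : (g * x * g⁻¹) v = g (x (g⁻¹ v)) := rfl

theorem apply_inv_apply' (g : V ≃ₗ[F] V) (v : V) : g (g⁻¹ v) = v := by
  rw [← LinearEquiv.mul_apply g g⁻¹, mul_inv_cancel]; rfl

theorem inv_apply_apply' (g : V ≃ₗ[F] V) (v : V) : g⁻¹ (g v) = v := by
  rw [← LinearEquiv.mul_apply g⁻¹ g, inv_mul_cancel]; rfl

theorem conj_sub (g x : V ≃ₗ[F] V) (v : V) :
    (g * x * g⁻¹) v - v = g (x (g⁻¹ v) - g⁻¹ v) := by
  rw [conj_apply, map_sub, apply_inv_apply']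

/-- the displacement endomorphism `x - 1`. -/
def dE (x : V ≃ₗ[F] V) : Module.End F V := (x : V →ₗ[F] V) - 1

@[simp] theorem dE_apply (x : V ≃ₗ[F] V) (v : V) : dE x v = x v - v := rfl

section

variable [FiniteDimensional F U] [FiniteDimensional F W] [FiniteDimensional F V]
  {X : Subgroup (V ≃ₗ[F] V)} {w w₀ : W} {g : V ≃ₗ[F] V} {d : ℕ}

/-- the consequences of `x y` quadratic for a max pair (`N = x - 1`, `M = y - 1`):
`M S ≤ S ⊓ R`, `N R ≤ S ⊓ R`, `N M + M N = 0`. -/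
theorem MaxPair.quad_aux (ht : IsTensorProduct t) (hU : 1 ≤ finrank F U)
    (halt₂ : ∀ w, f₂ w w = 0) (hnd₂ : ∀ w, (∀ y, f₂ w y = 0) → w = 0)
    (hXB : ∀ w c, yB ht f₂ halt₂ w c ∈ X) (hyp : RootHypS ht f₂ halt₂ X)
    (hp : MaxPair t X w g w₀ d) {c c' : F} (hc : c ≠ 0) (hc' : c' ≠ 0)
    (hq : Quad (yB ht f₂ halt₂ w c * (g * yB ht f₂ halt₂ w₀ c' * g⁻¹))) :
    (∀ s ∈ fib t w, dE (g * yB ht f₂ halt₂ w₀ c' * g⁻¹) s ∈ fib t w ⊓ img g (fib t w₀)) ∧
    (∀ r ∈ img g (fib t w₀), dE (yB ht f₂ halt₂ w c) r ∈ fib t w ⊓ img g (fib t w₀)) ∧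
    ∀ v, dE (yB ht f₂ halt₂ w c) (dE (g * yB ht f₂ halt₂ w₀ c' * g⁻¹) v) +
      dE (g * yB ht f₂ halt₂ w₀ c' * g⁻¹) (dE (yB ht f₂ halt₂ w c) v) = 0 := by
  set x := yB ht f₂ halt₂ w c with hx
  set y := g * yB ht f₂ halt₂ w₀ c' * g⁻¹ with hy
  set N : Module.End F V := dE x with hN
  set M : Module.End F V := dE y with hM
  have hNv : ∀ v, N v = x v - v := fun v => rfl
  have hMv : ∀ v, M v = y v - v := fun v => rfl
  have hNS : ∀ v, N v ∈ fib t w := fun v => by rw [hNv]; exact yB_sub_mem ht halt₂ w c v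
  have hMR : ∀ v, M v ∈ img g (fib t w₀) := by
    intro v
    rw [hMv, hy, conj_sub]
    exact apply_mem_img (yB_sub_mem ht halt₂ w₀ c' _)
  have hN0 : ∀ v, N v = 0 ↔ v ∈ Sperp ht f₂ w := fun v => by
    rw [hNv]; exact yB_sub_eq_zero_iff ht halt₂ hp.hw hc v
  have hM0 : ∀ v, M v = 0 ↔ v ∈ img g (Sperp ht f₂ w₀) := by
    intro v
    rw [hMv, hy, conj_sub, map_eq_zero_iff g g.injective,
      yB_sub_eq_zero_iff ht halt₂ hp.hw₀ hc', mem_img]
    constructor
    · intro h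
      exact ⟨g⁻¹ v, h, apply_inv_apply' g v⟩
    · rintro ⟨v', hv', rfl⟩
      rw [inv_apply_apply']; exact hv'
  have hquad : ∀ v, (N + M + N * M) ((N + M + N * M) v) = 0 := by
    have hK : ∀ v, (N + M + N * M) v = (x * y) v - v := by
      intro v
      simp only [LinearMap.add_apply, Module.End.mul_apply, hNv, hMv, LinearEquiv.mul_apply,
        map_sub]
      abel
    intro v
    rw [hK, hK, map_sub]
    have e : (x * y) ((x * y) v) = (x * y) v + (x * y) v - v := eq_sub_of_add_eq (hq v)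
    rw [e]; abel
  exact quad_prod_aux hNS hMR hN0 hM0 (fib_le_Sperp ht halt₂ w)
    (img_mono g (fib_le_Sperp ht halt₂ w₀))
    (hp.inf_Sperp ht hU halt₂ hnd₂ hXB hyp) (hp.inf_img_Sperp ht hU halt₂ hnd₂ hXB hyp) hquad

/-- if `x y` is quadratic then `y⁻¹ x y` fixes `S` pointwise. -/
theorem MaxPair.fix_of_quad (ht : IsTensorProduct t) (hU : 1 ≤ finrank F U)
    (halt₂ : ∀ w, f₂ w w = 0) (hnd₂ : ∀ w, (∀ y, f₂ w y = 0) → w = 0)
    (hXB : ∀ w c, yB ht f₂ halt₂ w c ∈ X) (hyp : RootHypS ht f₂ halt₂ X)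
    (hp : MaxPair t X w g w₀ d) {c c' : F} (hc : c ≠ 0) (hc' : c' ≠ 0)
    (hq : Quad (yB ht f₂ halt₂ w c * (g * yB ht f₂ halt₂ w₀ c' * g⁻¹))) {s : V}
    (hs : s ∈ fib t w) :
    ((g * yB ht f₂ halt₂ w₀ c' * g⁻¹)⁻¹ * yB ht f₂ halt₂ w c *
      (g * yB ht f₂ halt₂ w₀ c' * g⁻¹)) s = s := by
  obtain ⟨h1, -, -⟩ := hp.quad_aux ht hU halt₂ hnd₂ hXB hyp hc hc' hq
  set y := g * yB ht f₂ halt₂ w₀ c' * g⁻¹ with hy
  have hys : y s ∈ fib t w := by
    have := (h1 s hs).1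
    rw [dE_apply] at this
    have e : y s = s + (y s - s) := by abel
    rw [e]
    exact Submodule.add_mem _ hs this
  show y⁻¹ (yB ht f₂ halt₂ w c (y s)) = s
  rw [yB_fix_of_perp ht halt₂ (halt₂ w) c hys, inv_apply_apply']

theorem MaxPair.img_of_quad (ht : IsTensorProduct t) (hU : 1 ≤ finrank F U)
    (halt₂ : ∀ w, f₂ w w = 0) (hnd₂ : ∀ w, (∀ y, f₂ w y = 0) → w = 0)
    (hXB : ∀ w c, yB ht f₂ halt₂ w c ∈ X) (hyp : RootHypS ht f₂ halt₂ X)
    (hp : MaxPair t X w g w₀ d) {c c' : F} (hc : c ≠ 0) (hc' : c' ≠ 0)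
    (hq : Quad (yB ht f₂ halt₂ w c * (g * yB ht f₂ halt₂ w₀ c' * g⁻¹))) :
    img ((g * yB ht f₂ halt₂ w₀ c' * g⁻¹)⁻¹ * yB ht f₂ halt₂ w c *
      (g * yB ht f₂ halt₂ w₀ c' * g⁻¹)) (fib t w) = fib t w := by
  apply eq_of_le_of_finrank
  · intro v hv
    obtain ⟨s, hs, rfl⟩ := mem_img.mp hv
    rw [hp.fix_of_quad ht hU halt₂ hnd₂ hXB hyp hc hc' hq hs]
    exact hs
  · rw [finrank_img]

/-- **(c)**: for a max pair the product of a root element of `S` and one of `R` is not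
quadratic, if `y⁻¹ x y` is a root element of `S` (hypothesis (a)) and `2 ≠ 0`. -/
theorem MaxPair.not_quad (ht : IsTensorProduct t) (hU : 1 ≤ finrank F U)
    (halt₂ : ∀ w, f₂ w w = 0) (hnd₂ : ∀ w, (∀ y, f₂ w y = 0) → w = 0)
    (hXB : ∀ w c, yB ht f₂ halt₂ w c ∈ X) (hyp : RootHypS ht f₂ halt₂ X)
    (hp : MaxPair t X w g w₀ d) (h2 : (2 : F) ≠ 0) {c c' : F} (hc : c ≠ 0) (hc' : c' ≠ 0)
    (hq : Quad (yB ht f₂ halt₂ w c * (g * yB ht f₂ halt₂ w₀ c' * g⁻¹))) {c₁ : F}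
    (ha : (g * yB ht f₂ halt₂ w₀ c' * g⁻¹)⁻¹ * yB ht f₂ halt₂ w c *
      (g * yB ht f₂ halt₂ w₀ c' * g⁻¹) = yB ht f₂ halt₂ w c₁) : False := by
  obtain ⟨h1, h2', h3⟩ := hp.quad_aux ht hU halt₂ hnd₂ hXB hyp hc hc' hq
  set x := yB ht f₂ halt₂ w c with hx
  set y := g * yB ht f₂ halt₂ w₀ c' * g⁻¹ with hy
  set N : Module.End F V := dE x with hN
  set M : Module.End F V := dE y with hM
  set lam : F := c₁ * c⁻¹ with hlam
  have hNv : ∀ v, N v = x v - v := fun v => rfl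
  have hMv : ∀ v, M v = y v - v := fun v => rfl
  have hNS : ∀ v, N v ∈ fib t w := fun v => by rw [hNv]; exact yB_sub_mem ht halt₂ w c v
  have hMR : ∀ v, M v ∈ img g (fib t w₀) := by
    intro v
    rw [hMv, hy, conj_sub]
    exact apply_mem_img (yB_sub_mem ht halt₂ w₀ c' _)
  -- the displacement spaces
  have hdx : disp x = fib t w := disp_yB ht halt₂ hnd₂ hp.hw hc
  have hdy : disp y = img g (fib t w₀) := by
    rw [hy, disp_conj, disp_yB ht halt₂ hnd₂ hp.hw₀ hc']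
  -- the relation from (a)
  have hrel : ∀ v, lam • (N v + M (N v)) = N v + N (M v) := by
    intro v
    have e1 : y (yB ht f₂ halt₂ w c₁ v) = x (y v) := by
      rw [← ha]
      show y (y⁻¹ (x (y v))) = x (y v)
      rw [apply_inv_apply']
    have e2 : yB ht f₂ halt₂ w c₁ v = v + lam • N v := by
      have := yB_sub_smul ht halt₂ w hc c₁ v
      rw [hNv, ← this]; abel
    have e3 : ∀ z, y z = z + M z := fun z => by rw [hMv]; abel
    have e4 : ∀ z, x z = z + N z := fun z => by rw [hNv]; abel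
    rw [e2, map_add, map_smul, e3 v, e3 (N v), e4 (v + M v), map_add] at e1
    have e5 : lam • (N v + M (N v)) = (v + M v + lam • (N v + M (N v))) - (v + M v) := by abel
    rw [e5, e1]; abel
  have hrel' : ∀ v, (lam - 1) • N v = -((lam + 1) • M (N v)) := by
    intro v
    have h3v : N (M v) = - M (N v) := eq_neg_of_add_eq_zero_left (h3 v)
    have := hrel v
    rw [h3v, smul_add] at this
    rw [sub_smul, add_smul, one_smul, one_smul]
    have e : lam • N v = N v + -M (N v) - lam • M (N v) := by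
      rw [← this]; abel
    rw [e]; abel
  by_cases hl1 : lam = 1
  · -- `M N = 0`, hence `N M = 0`, hence `R ≤ S`
    have hMN : ∀ v, M (N v) = 0 := by
      intro v
      have := hrel' v
      rw [hl1, sub_self, zero_smul] at this
      have h4 : ((1 : F) + 1) • M (N v) = 0 := by
        rw [← neg_eq_zero, ← this]
      have h5 : ((1 : F) + 1) ≠ 0 := by rw [one_add_one_eq_two]; exact h2
      rcases smul_eq_zero.mp h4 with h | h
      · exact absurd h h5
      · exact h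
    have hNM : ∀ v, N (M v) = 0 := by
      intro v
      have := h3 v
      rw [hMN v, add_zero] at this
      exact this
    apply hp.not_le' ht
    intro r hr
    rw [← hdy] at hr
    obtain ⟨v, rfl⟩ := mem_disp.mp hr
    have hv1 : M v ∈ Sperp ht f₂ w := by
      rw [← yB_sub_eq_zero_iff ht halt₂ hp.hw hc]
      exact hNM v
    have hv2 : M v ∈ img g (fib t w₀) ⊓ Sperp ht f₂ w := ⟨hMR v, hv1⟩
    rw [hp.inf_Sperp ht hU halt₂ hnd₂ hXB hyp] at hv2
    exact hv2.1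
  · -- `N v ∈ R` for all `v`, hence `S ≤ R`
    apply hp.not_le ht
    intro s hs
    rw [← hdx] at hs
    obtain ⟨v, rfl⟩ := mem_disp.mp hs
    have hl1' : lam - 1 ≠ 0 := sub_ne_zero.mpr hl1
    have e : N v = (lam - 1)⁻¹ • (-((lam + 1) • M (N v))) := by
      rw [← hrel' v, smul_smul, inv_mul_cancel₀ hl1', one_smul]
    show N v ∈ img g (fib t w₀)
    rw [e]
    exact Submodule.smul_mem _ _ (Submodule.neg_mem _ (Submodule.smul_mem _ _ (hMR _)))

end

end Cfsg.Agent.Helper9.TensU
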