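import Mathlib
import Cfsg.Agent.Helper9.XSFiveC
import Cfsg.Agent.Helper7.Ex27UE

set_option autoImplicit false
set_option linter.unusedSectionVars false

/-!
S6001: elements of order 5 of `GU₄(q)`, `q` of order 4 modulo 5, are fixed-point-free.
Part A: the fixed space of a unitary matrix of order 5 is non-degenerate; unit vectors of a
non-degenerate plane.
-/

namespace Cfsg.Agent.Helper9.U4

open Matrix Module Cfsg Cfsg.Agent.Helper7.Herm Cfsg.Agent.Helper8.GUOrder Cfsg.Agent.Helper8.AutSU
  Cfsg.Agent.Helper7.SUNd Cfsg.Agent.Helper9.XS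

variable {F : Type*} [Field F] [Fintype F] {q N : ℕ} [hF : Fact (Fintype.card F = q ^ 2)]

/-- A matrix preserving the hermitian form. -/
def Pres (q : ℕ) (M : Matrix (Fin N) (Fin N) F) : Prop :=
  ∀ u v, hermForm N F q (M *ᵥ u) (M *ᵥ v) = hermForm N F q u v

theorem Pres.pow {M : Matrix (Fin N) (Fin N) F} (hM : Pres q M) (k : ℕ) : Pres q (M ^ k) := by
  induction k with
  | zero => intro u v; rw [pow_zero, Matrix.one_mulVec, Matrix.one_mulVec]
  | succ k ih =>
    intro u v
    rw [pow_succ, ← Matrix.mulVec_mulVec, ← Matrix.mulVec_mulVec, ih, hM]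

theorem pow_mulVec_of_mem_fixW {M : Matrix (Fin N) (Fin N) F} {w : Fin N → F}
    (hw : w ∈ fixW M) (k : ℕ) : (M ^ k) *ᵥ w = w := by
  induction k with
  | zero => rw [pow_zero, Matrix.one_mulVec]
  | succ k ih => rw [pow_succ, ← Matrix.mulVec_mulVec, mem_fixW.mp hw, ih]

theorem herm_S5 {M : Matrix (Fin N) (Fin N) F} (hM : Pres q M) {w : Fin N → F}
    (hw : w ∈ fixW M) (u : Fin N → F) :
    hermForm N F q w (S5 M *ᵥ u) = 5 * hermForm N F q w u := by
  have key : ∀ k : ℕ, hermForm N F q w ((M ^ k) *ᵥ u) = hermForm N F q w u := by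
    intro k
    have := hM.pow k w u
    rw [pow_mulVec_of_mem_fixW hw] at this
    exact this
  unfold S5
  rw [Matrix.add_mulVec, Matrix.add_mulVec, Matrix.add_mulVec, Matrix.add_mulVec,
    Matrix.one_mulVec, h_add_right, h_add_right, h_add_right, h_add_right, key 2, key 3, key 4]
  have k1 := key 1
  rw [pow_one] at k1
  rw [k1]
  ring

/-- The fixed space of a form-preserving matrix of order dividing 5 is non-degenerate. -/
theorem ndeg_fixW (h5 : (5 : F) ≠ 0) {M : Matrix (Fin N) (Fin N) F} (hM : Pres q M)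
    (hM5 : M ^ 5 = 1) : NDeg q (fixW M) := by
  intro w hw hw0
  have hex : ∃ u, hermForm N F q w u ≠ 0 := by
    by_contra hcon
    push Not at hcon
    exact hw0 (eq_zero_of_h_right (q := q) hcon)
  obtain ⟨u, hu⟩ := hex
  refine ⟨S5 M *ᵥ u, S5_mulVec_mem_fixW hM5 u, ?_⟩
  rw [herm_S5 hM hw]
  exact mul_ne_zero h5 hu

/-- Unit vectors of a non-degenerate plane. -/
theorem card_unit_of_ndeg_two {W : Submodule F (Fin N → F)} (hW : NDeg q W)
    (hk : finrank F W = 2) :
    Nat.card {w : Fin N → F // w ∈ W ∧ hermForm N F q w w = 1} = q * (q ^ 2 - 1) := by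
  obtain ⟨b, hbW, hb⟩ := exists_onb 2 W hW hk
  have hcount := card_unit_vectors hF.out 1
  rw [if_neg (by decide)] at hcount
  simp only [pow_one, show 1 + 1 = 2 from rfl] at hcount
  rw [← hcount]
  unfold A
  symm
  have h00 : hermForm N F q (b 0) (b 0) = 1 := by rw [hb, if_pos rfl]
  have h11 : hermForm N F q (b 1) (b 1) = 1 := by rw [hb, if_pos rfl]
  have h01 : hermForm N F q (b 0) (b 1) = 0 := by rw [hb, if_neg (by decide)]
  have h10 : hermForm N F q (b 1) (b 0) = 0 := by rw [hb, if_neg (by decide)]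
  have hform : ∀ c d : Fin 2 → F,
      hermForm N F q (c 0 • b 0 + c 1 • b 1) (d 0 • b 0 + d 1 • b 1) = hermForm 2 F q c d := by
    intro c d
    rw [hermForm_add_left, h_add_right, h_add_right, hermForm_smul_left, hermForm_smul_left,
      hermForm_smul_left, hermForm_smul_left, hermForm_smul_right, hermForm_smul_right,
      hermForm_smul_right, hermForm_smul_right, h00, h11, h01, h10]
    unfold hermForm
    rw [Fin.sum_univ_two]
    ring
  -- the second cut is trivial
  have hb1cut : b 1 ∈ cutS q W (b 0) := ⟨hbW 1, h10⟩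
  have hr1 : finrank F (cutS q W (b 0)) = 1 := by
    have := finrank_cutS (q := q) (hbW 0) h00
    omega
  have hr0 : finrank F (cutS q (cutS q W (b 0)) (b 1)) = 0 := by
    have := finrank_cutS (q := q) hb1cut h11
    omega
  have hbot : cutS q (cutS q W (b 0)) (b 1) = ⊥ := Submodule.finrank_eq_zero.mp hr0
  have hexp : ∀ w ∈ W, w = hermForm N F q w (b 0) • b 0 + hermForm N F q w (b 1) • b 1 := by
    intro w hw
    have hmem : w - hermForm N F q w (b 0) • b 0 - hermForm N F q w (b 1) • b 1 ∈
        cutS q (cutS q W (b 0)) (b 1) := by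
      refine ⟨⟨W.sub_mem (W.sub_mem hw (W.smul_mem _ (hbW 0))) (W.smul_mem _ (hbW 1)), ?_⟩, ?_⟩
      · rw [hermForm_sub_left, hermForm_sub_left, hermForm_smul_left, hermForm_smul_left, h00,
          h10]
        ring
      · rw [hermForm_sub_left, hermForm_sub_left, hermForm_smul_left, hermForm_smul_left, h01,
          h11]
        ring
    rw [hbot, Submodule.mem_bot] at hmem
    have : w = (w - hermForm N F q w (b 0) • b 0 - hermForm N F q w (b 1) • b 1) +
        (hermForm N F q w (b 0) • b 0 + hermForm N F q w (b 1) • b 1) := by abel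
    rw [hmem, zero_add] at this
    exact this
  apply Nat.card_congr
  refine
    { toFun := fun c => ⟨c.1 0 • b 0 + c.1 1 • b 1,
        W.add_mem (W.smul_mem _ (hbW 0)) (W.smul_mem _ (hbW 1)), by rw [hform]; exact c.2⟩
      invFun := fun w => ⟨![hermForm N F q w.1 (b 0), hermForm N F q w.1 (b 1)], ?_⟩
      left_inv := ?_
      right_inv := ?_ }
  · have h1 := hexp w.1 w.2.1
    have h2 := w.2.2
    have h3 := hform ![hermForm N F q w.1 (b 0), hermForm N F q w.1 (b 1)]
      ![hermForm N F q w.1 (b 0), hermForm N F q w.1 (b 1)]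
    rw [← h3]
    show hermForm N F q (hermForm N F q w.1 (b 0) • b 0 + hermForm N F q w.1 (b 1) • b 1)
      (hermForm N F q w.1 (b 0) • b 0 + hermForm N F q w.1 (b 1) • b 1) = 1
    rw [← h1]
    exact h2
  · intro c
    apply Subtype.ext
    funext i
    fin_cases i
    · show hermForm N F q (c.1 0 • b 0 + c.1 1 • b 1) (b 0) = c.1 0
      rw [hermForm_add_left, hermForm_smul_left, hermForm_smul_left, h00, h10]
      ring
    · show hermForm N F q (c.1 0 • b 0 + c.1 1 • b 1) (b 1) = c.1 1
      rw [hermForm_add_left, hermForm_smul_left, hermForm_smul_left, h01, h11]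
      ring
  · intro w
    apply Subtype.ext
    exact (hexp w.1 w.2.1).symm

end Cfsg.Agent.Helper9.U4
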