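import Mathlib
import Cfsg.Agent.Helper9.U4FpfA

set_option autoImplicit false
set_option linter.unusedSectionVars false

/-!
S6001: elements of order 5 of `GU₄(q)`, `q` of order 4 modulo 5, are fixed-point-free (part B:
the counting), and consequently all subgroups of order 5 of a subgroup of `GU₄(q)` are conjugate.
-/

namespace Cfsg.Agent.Helper9.U4

open Matrix Module Cfsg Cfsg.Agent.Helper7.Herm Cfsg.Agent.Helper8.GUOrder Cfsg.Agent.Helper8.AutSU
  Cfsg.Agent.Helper7.SUNd Cfsg.Agent.Helper9.XS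

variable {F : Type*} [Field F] [Fintype F] {q N : ℕ} [hF : Fact (Fintype.card F = q ^ 2)]

theorem q_pow_four_mod (hq5 : orderOf (q : ZMod 5) = 4) : q ^ 4 % 5 = 1 := by
  have h1 : (q : ZMod 5) ^ 4 = 1 := by rw [← hq5]; exact pow_orderOf_eq_one _
  have h2 : ((q ^ 4 : ℕ) : ZMod 5) = ((1 : ℕ) : ZMod 5) := by push_cast; exact h1
  have := (ZMod.natCast_eq_natCast_iff _ _ 5).mp h2
  exact this

theorem five_ne_zero (hq5 : orderOf (q : ZMod 5) = 4) : (5 : F) ≠ 0 := by
  intro h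
  have hcard : ((Fintype.card F : ℕ) : F) = 0 := Nat.cast_card_eq_zero F
  rw [hF.out] at hcard
  have h4 : ((q ^ 4 : ℕ) : F) = 0 := by
    have : q ^ 4 = q ^ 2 * q ^ 2 := by ring
    rw [this, Nat.cast_mul, hcard, zero_mul]
  have hmod := q_pow_four_mod hq5
  have hdecomp : q ^ 4 = 5 * (q ^ 4 / 5) + 1 := by
    have := Nat.div_add_mod (q ^ 4) 5
    omega
  rw [hdecomp] at h4
  push_cast at h4
  rw [h, zero_mul, zero_add] at h4
  exact one_ne_zero h4

/-- Counting on unit vectors. -/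
theorem card_unit_fixW_modEq {M : Matrix (Fin N) (Fin N) F} (hM : Pres q M) (hM5 : M ^ 5 = 1) :
    Nat.card {v : Fin N → F // hermForm N F q v v = 1} ≡
      Nat.card {w : Fin N → F // w ∈ fixW M ∧ hermForm N F q w w = 1} [MOD 5] := by
  classical
  haveI : Fact (Nat.Prime 5) := ⟨by norm_num⟩
  let f : Function.End {v : Fin N → F // hermForm N F q v v = 1} :=
    fun v => ⟨M *ᵥ v.1, by rw [hM]; exact v.2⟩
  have hpow : ∀ k : ℕ, ∀ v, ((f ^ k) v).1 = (M ^ k) *ᵥ v.1 := by
    intro k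
    induction k with
    | zero => intro v; rw [pow_zero, pow_zero, Matrix.one_mulVec]; rfl
    | succ k ih =>
      intro v
      rw [pow_succ', pow_succ']
      show (f ((f ^ k) v)).1 = _
      show M *ᵥ ((f ^ k) v).1 = _
      rw [ih, Matrix.mulVec_mulVec]
  have hf : f ^ 5 ^ 1 = 1 := by
    rw [pow_one]
    funext v
    apply Subtype.ext
    rw [hpow, hM5, Matrix.one_mulVec]
    rfl
  have h := Equiv.Perm.card_fixedPoints_modEq (p := 5) (n := 1) hf
  rw [Nat.card_eq_fintype_card]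
  refine h.trans ?_
  rw [← Nat.card_eq_fintype_card]
  have : Nat.card (Function.fixedPoints f) =
      Nat.card {w : Fin N → F // w ∈ fixW M ∧ hermForm N F q w w = 1} := by
    apply Nat.card_congr
    refine
      { toFun := fun v => ⟨v.1.1, mem_fixW.mpr (congrArg Subtype.val v.2), v.1.2⟩
        invFun := fun w => ⟨⟨w.1, w.2.2⟩, Subtype.ext (mem_fixW.mp w.2.1)⟩
        left_inv := fun v => rfl
        right_inv := fun w => rfl }
  rw [this]

/-- **Fixed-point-freeness** of elements of order 5 of `GU₄(q)` when `q` has order 4 modulo 5. -/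
theorem unitary_fpf (hq5 : orderOf (q : ZMod 5) = 4) (m : GL (Fin 4) F) (hm : m ∈ GU 4 F q)
    (hm5 : m ^ 5 = 1) (hm1 : m ≠ 1) : S5 (m : Matrix (Fin 4) (Fin 4) F) = 0 := by
  have h5 : (5 : F) ≠ 0 := five_ne_zero hq5
  have hM : (m : Matrix (Fin 4) (Fin 4) F) ^ 5 = 1 := by
    rw [← Units.val_pow_eq_pow_val, hm5, Units.val_one]
  have hP : Pres q (m : Matrix (Fin 4) (Fin 4) F) := fun u v => hm u v
  have hq4 := q_pow_four_mod hq5
  have hcong := card_fixW_modEq hM
  rw [hF.out, Fintype.card_fin] at hcong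
  set d := finrank F (fixW (m : Matrix (Fin 4) (Fin 4) F)) with hd
  have hd4 : d ≤ 4 := by
    have := Submodule.finrank_le (fixW (m : Matrix (Fin 4) (Fin 4) F))
    rw [Module.finrank_pi, Fintype.card_fin] at this
    exact this
  have hqz4 : (q : ZMod 5) ^ 4 = 1 := by rw [← hq5]; exact pow_orderOf_eq_one _
  have hz : ((q : ZMod 5)) ^ (2 * d) = 1 := by
    have := (ZMod.natCast_eq_natCast_iff _ _ 5).mpr hcong
    push_cast at this
    rw [← pow_mul, ← pow_mul] at this
    rw [← this, show 2 * 4 = 4 * 2 from rfl, pow_mul, hqz4, one_pow]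
  have hdvd : 4 ∣ 2 * d := by
    rw [← hq5]
    exact orderOf_dvd_of_pow_eq_one hz
  have hcases : d = 0 ∨ d = 2 ∨ d = 4 := by
    obtain ⟨k, hk⟩ := hdvd
    omega
  rcases hcases with h0 | h2 | h4
  · apply S5_eq_zero_of_fixW_eq_bot hM
    exact Submodule.finrank_eq_zero.mp (hd ▸ h0)
  · exfalso
    have hnd := ndeg_fixW (q := q) h5 hP hM
    have hc2 := card_unit_of_ndeg_two (q := q) hnd (hd ▸ h2)
    have hc4 := card_unit_vectors hF.out 3
    rw [if_neg (by decide)] at hc4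
    unfold A at hc4
    have hcu := card_unit_fixW_modEq (q := q) hP hM
    rw [hc2] at hcu
    have hc4' : Nat.card {v : Fin 4 → F // hermForm 4 F q v v = 1} = q ^ 3 * (q ^ 4 - 1) := hc4
    rw [hc4'] at hcu
    -- in ZMod 5
    have hq1 : 1 ≤ q := by
      by_contra hlt
      have : q = 0 := by omega
      rw [this] at hq4
      norm_num at hq4
    have e1 : (((q ^ 3 * (q ^ 4 - 1) : ℕ)) : ZMod 5) = 0 := by
      have : (5 : ℕ) ∣ q ^ 4 - 1 := (Nat.modEq_iff_dvd' (Nat.one_le_pow _ _ hq1)).mp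
        (show 1 ≡ q ^ 4 [MOD 5] from hq4.symm)
      rw [Nat.cast_mul, (ZMod.natCast_eq_zero_iff _ 5).mpr this, mul_zero]
    have e2 := (ZMod.natCast_eq_natCast_iff _ _ 5).mpr hcu
    rw [e1] at e2
    have hq21 : 1 ≤ q ^ 2 := Nat.one_le_pow _ _ hq1
    rw [Nat.cast_mul, Nat.cast_sub hq21] at e2
    push_cast at e2
    -- q * (q^2 - 1) = 0 in ZMod 5 with q^4 = 1, q of order 4
    have key : ∀ x : ZMod 5, x ^ 4 = 1 → 0 = x * (x ^ 2 - 1) → x ^ 2 = 1 := by decide
    have hq2 : (q : ZMod 5) ^ 2 = 1 := key _ hqz4 e2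
    have := orderOf_dvd_of_pow_eq_one hq2
    rw [hq5] at this
    norm_num at this
  · exfalso
    apply hm1
    apply Units.ext
    rw [Units.val_one]
    apply eq_one_of_fixW_eq_top
    apply Submodule.eq_top_of_finrank_eq
    rw [← hd, h4, Module.finrank_pi, Fintype.card_fin]

/-- All subgroups of order 5 of a subgroup of `GU₄(q)` are conjugate in it. -/
theorem conj_pow_of_order_five_U (hq5 : orderOf (q : ZMod 5) = 4) (S : Subgroup (GL (Fin 4) F))
    (hS : S ≤ GU 4 F q) {x y : GL (Fin 4) F} (hx : x ∈ S) (hy : y ∈ S) (hy5 : orderOf y = 5)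
    (hx5 : x ^ 5 = 1) (hx1 : x ≠ 1) : ∃ g ∈ S, ∃ k : ℕ, g⁻¹ * x * g = y ^ k := by
  haveI : Finite (GL (Fin 4) F) := Finite.of_injective
    (fun g : GL (Fin 4) F => (g : Matrix (Fin 4) (Fin 4) F)) Units.val_injective
  exact conj_pow_of_fpf (five_ne_zero hq5) S
    (fun m hmS hm5 hm1 => unitary_fpf hq5 m (hS hmS) hm5 hm1) hx hy hy5 hx5 hx1

end Cfsg.Agent.Helper9.U4
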