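import Mathlib
import Cfsg.Agent.Helper9.U4ConjA

set_option autoImplicit false
set_option linter.unusedSectionVars false

/-!
S6001: conjugacy of two matrices with eigenframes of the same Gram matrix.
-/

namespace Cfsg.Agent.Helper9.U4

open Matrix Cfsg Cfsg.Agent.Helper8.GUOrder Cfsg.Agent.Helper8.AutSU

variable {F : Type*} [Field F] [Fintype F] {q : ℕ} [hF : Fact (Fintype.card F = q ^ 2)] {n : ℕ}

/-- the matrix with columns `b 0, b 1, …`. -/
def colMat (b : Fin n → Fin n → F) : Matrix (Fin n) (Fin n) F := Matrix.of fun r j => b j r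

theorem colMat_apply (b : Fin n → Fin n → F) (r j : Fin n) : colMat b r j = b j r := rfl

theorem gram_colMat (b : Fin n → Fin n → F) (j k : Fin n) :
    gram q (colMat b) j k = hermForm n F q (b j) (b k) := gram_apply _ j k

theorem gram_colMat_eq (b : Fin n → Fin n → F) (J : Matrix (Fin n) (Fin n) F)
    (hb : ∀ j k, hermForm n F q (b j) (b k) = J j k) : gram q (colMat b) = J := by
  ext j k
  rw [gram_colMat, hb]

theorem mul_colMat (Y : Matrix (Fin n) (Fin n) F) (b : Fin n → Fin n → F) (d : Fin n → F)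
    (h : ∀ j, Y *ᵥ b j = d j • b j) : Y * colMat b = colMat b * Matrix.diagonal d := by
  ext r j
  rw [Matrix.mul_diagonal, colMat_apply, Matrix.mul_apply]
  have := congrFun (h j) r
  rw [Matrix.mulVec, dotProduct, Pi.smul_apply, smul_eq_mul] at this
  simp only [colMat_apply]
  rw [this, mul_comm]

theorem pow_q_q (a : F) : (a ^ q) ^ q = a := bb a

theorem sig_diagonal (a : Fin n → F) :
    sig q (Matrix.diagonal a) = Matrix.diagonal (fun i => a i ^ q) := by
  rw [sig_eq, Matrix.diagonal_map (map_zero _)]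
  rfl

theorem diag_isometry (J : Matrix (Fin n) (Fin n) F) (a : Fin n → F)
    (h : ∀ i j, J i j ≠ 0 → a i * (a j) ^ q = 1) :
    (Matrix.diagonal a)ᵀ * J * sig q (Matrix.diagonal a) = J := by
  rw [Matrix.diagonal_transpose, sig_diagonal]
  ext i j
  rw [Matrix.mul_diagonal, Matrix.diagonal_mul]
  by_cases hJ : J i j = 0
  · rw [hJ, mul_zero, zero_mul]
  · have := h i j hJ
    calc a i * J i j * a j ^ q = (a i * a j ^ q) * J i j := by ring
      _ = J i j := by rw [this, one_mul]

/-- the ratio of the determinants of two frames with the same Gram matrix has norm one. -/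
theorem det_ratio_norm {J B B' : Matrix (Fin n) (Fin n) F} (hJ : J.det ≠ 0) (hB : gram q B = J)
    (hB' : gram q B' = J) : (B'.det / B.det) * (B'.det / B.det) ^ q = 1 := by
  have hBd := det_ne_zero_of_gram hB hJ
  have h1 : B.det * B.det ^ q = J.det := by
    rw [← hB, gram, Matrix.det_mul, Matrix.det_transpose, det_sig]
  have h2 : B'.det * B'.det ^ q = J.det := by
    rw [← hB', gram, Matrix.det_mul, Matrix.det_transpose, det_sig]
  rw [div_pow, div_mul_div_comm, h1, h2, div_self hJ]

/-- **Hilbert 90**, explicitly. -/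
theorem hilbert90 (d : F) (hd : d * d ^ q = 1) : ∃ μ : F, μ ≠ 0 ∧ μ = d * μ ^ q := by
  by_cases h : 1 + d = 0
  · obtain ⟨a, ha⟩ := exists_not_fixed hF.out (K := F)
    refine ⟨a - a ^ q, sub_ne_zero.mpr (Ne.symm ha), ?_⟩
    have hd' : d = -1 := by linear_combination h
    rw [sub_pow_q hF.out, pow_q_q, hd']
    ring
  · refine ⟨1 + d, h, ?_⟩
    have : (1 + d) ^ q = 1 + d ^ q := by
      rw [b_add, one_pow]
    rw [this, mul_add, mul_one, hd, add_comm]

/-- adjusting the determinant along a unit vector of the frame. -/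
theorem exists_adjust_unit (J : Matrix (Fin n) (Fin n) F) (k : Fin n)
    (hk : ∀ j, J k j ≠ 0 ∨ J j k ≠ 0 → j = k) (d : F) (hd : d * d ^ q = 1) :
    ∃ a : Fin n → F, (∀ i j, J i j ≠ 0 → a i * (a j) ^ q = 1) ∧ ∏ i, a i = d := by
  classical
  refine ⟨fun i => if i = k then d else 1, ?_, ?_⟩
  · intro i j hij
    by_cases hik : i = k
    · have hjk : j = k := hk j (Or.inl (hik ▸ hij))
      simp only [if_pos hik, if_pos hjk]
      exact hd
    · have hjk : j ≠ k := by
        intro hjk
        exact hik (hk i (Or.inr (hjk ▸ hij)))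
      simp only [if_neg hik, if_neg hjk, one_pow, one_mul]
  · rw [Finset.prod_ite_eq' Finset.univ k (fun _ => d)]
    simp

/-- adjusting the determinant along a hyperbolic pair of the frame. -/
theorem exists_adjust_hyp (J : Matrix (Fin n) (Fin n) F) (k l : Fin n) (hkl : k ≠ l)
    (hk : ∀ j, J k j ≠ 0 ∨ J j k ≠ 0 → j = l) (hl : ∀ j, J l j ≠ 0 ∨ J j l ≠ 0 → j = k)
    (d : F) (hd : d * d ^ q = 1) :
    ∃ a : Fin n → F, (∀ i j, J i j ≠ 0 → a i * (a j) ^ q = 1) ∧ ∏ i, a i = d := by
  classical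
  obtain ⟨μ, hμ0, hμ⟩ := hilbert90 (q := q) d hd
  have hμq : μ ^ q ≠ 0 := pow_ne_zero _ hμ0
  refine ⟨fun i => if i = k then μ else if i = l then (μ ^ q)⁻¹ else 1, ?_, ?_⟩
  · intro i j hij
    by_cases hik : i = k
    · have hjl : j = l := hk j (Or.inl (hik ▸ hij))
      have hjk : j ≠ k := by rw [hjl]; exact hkl.symm
      simp only [if_pos hik, if_neg hjk, if_pos hjl]
      rw [inv_pow, pow_q_q, mul_inv_cancel₀ hμ0]
    · by_cases hil : i = l
      · have hjk : j = k := hl j (Or.inl (hil ▸ hij))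
        simp only [if_neg hik, if_pos hil, if_pos hjk]
        rw [inv_mul_cancel₀ hμq]
      · have hjk : j ≠ k := by
          intro hjk
          exact hil (hk i (Or.inr (hjk ▸ hij)))
        have hjl : j ≠ l := by
          intro hjl
          exact hik (hl i (Or.inr (hjl ▸ hij)))
        simp only [if_neg hik, if_neg hil, if_neg hjk, if_neg hjl, one_pow, one_mul]
  · have e : ∀ i, (if i = k then μ else if i = l then (μ ^ q)⁻¹ else 1) =
        (if i = k then μ else 1) * (if i = l then (μ ^ q)⁻¹ else 1) := by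
      intro i
      by_cases hik : i = k
      · have : i ≠ l := by rw [hik]; exact hkl
        simp only [if_pos hik, if_neg this, mul_one]
      · simp only [if_neg hik, one_mul]
    simp_rw [e]
    rw [Finset.prod_mul_distrib, Finset.prod_ite_eq' Finset.univ k (fun _ => μ),
      Finset.prod_ite_eq' Finset.univ l (fun _ => (μ ^ q)⁻¹)]
    simp only [Finset.mem_univ, if_true]
    rw [← div_eq_mul_inv]
    rw [div_eq_iff hμq]
    exact hμ

/-- **Conjugacy of matrices with eigenframes of the same shape.** -/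
theorem conj_of_eigenframes (J : Matrix (Fin n) (Fin n) F) (hJ : J.det ≠ 0)
    (hadj : ∀ d : F, d * d ^ q = 1 →
      ∃ a : Fin n → F, (∀ i j, J i j ≠ 0 → a i * (a j) ^ q = 1) ∧ ∏ i, a i = d)
    (b b' : Fin n → Fin n → F)
    (hb : ∀ j k, hermForm n F q (b j) (b k) = J j k)
    (hb' : ∀ j k, hermForm n F q (b' j) (b' k) = J j k) (d : Fin n → F) (Y Y' : GL (Fin n) F)
    (hY : ∀ j, (Y : Matrix (Fin n) (Fin n) F) *ᵥ b j = d j • b j)
    (hY' : ∀ j, (Y' : Matrix (Fin n) (Fin n) F) *ᵥ b' j = d j • b' j) :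
    ∃ g ∈ GU n F q ⊓ Geo.specialLinear (Fin n) F, g⁻¹ * Y * g = Y' := by
  have hB := gram_colMat_eq (q := q) b J hb
  have hB' := gram_colMat_eq (q := q) b' J hb'
  have hBd := det_ne_zero_of_gram hB hJ
  obtain ⟨a, ha, hprod⟩ := hadj _ (det_ratio_norm hJ hB hB')
  refine conj_of_frames J (Matrix.diagonal d) (Matrix.diagonal a) (colMat b) (colMat b') hJ hB hB'
    (diag_isometry J a ha) ?_ ?_ Y Y' (mul_colMat _ b d hY) (mul_colMat _ b' d hY')
  · rw [Matrix.diagonal_mul_diagonal, Matrix.diagonal_mul_diagonal]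
    congr 1
    ext i
    exact mul_comm _ _
  · rw [Matrix.det_diagonal, hprod, mul_div_cancel₀ _ hBd]

end Cfsg.Agent.Helper9.U4
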