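import Mathlib
import Cfsg.Agent.Helper7.Ex27UE

set_option autoImplicit false
set_option linter.unusedSectionVars false

/-!
S6001: hyperbolic pairs in the unitary space and the orthogonal complement of a hyperbolic pair.
-/

namespace Cfsg.Agent.Helper9.U4

open Matrix Module Cfsg Cfsg.Agent.Helper7.Herm Cfsg.Agent.Helper8.GUOrder Cfsg.Agent.Helper8.AutSU
  Cfsg.Agent.Helper7.SUNd Cfsg.Agent.Helper8.SURoot

variable {F : Type*} [Field F] [Fintype F] {q N : ℕ} [hF : Fact (Fintype.card F = q ^ 2)]

/-- The vectors orthogonal to `e` and `f`. -/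
def cutH (q : ℕ) (e f : Fin N → F) : Submodule F (Fin N → F) where
  carrier := {v | hermForm N F q v e = 0 ∧ hermForm N F q v f = 0}
  add_mem' := by
    rintro a b ⟨ha, ha'⟩ ⟨hb, hb'⟩
    exact ⟨by rw [hermForm_add_left, ha, hb, add_zero], by rw [hermForm_add_left, ha', hb', add_zero]⟩
  zero_mem' := ⟨hermForm_zero_left _, hermForm_zero_left _⟩
  smul_mem' := by
    rintro c a ⟨ha, ha'⟩
    exact ⟨by rw [hermForm_smul_left, ha, mul_zero], by rw [hermForm_smul_left, ha', mul_zero]⟩

theorem mem_cutH {e f v : Fin N → F} :
    v ∈ cutH q e f ↔ hermForm N F q v e = 0 ∧ hermForm N F q v f = 0 := Iff.rfl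

/-- The projection onto `cutH e f` along the hyperbolic plane `⟨e, f⟩`. -/
def projH (q : ℕ) (e f v : Fin N → F) : Fin N → F :=
  v - hermForm N F q v f • e - hermForm N F q v e • f

theorem projH_mem {e f : Fin N → F} (hee : hermForm N F q e e = 0) (hff : hermForm N F q f f = 0)
    (hef : hermForm N F q e f = 1) (v : Fin N → F) : projH q e f v ∈ cutH q e f := by
  have hfe : hermForm N F q f e = 1 := h_eq_one_of_swap hef
  unfold projH
  refine ⟨?_, ?_⟩
  · rw [hermForm_sub_left, hermForm_sub_left, hermForm_smul_left, hermForm_smul_left, hee, hfe]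
    ring
  · rw [hermForm_sub_left, hermForm_sub_left, hermForm_smul_left, hermForm_smul_left, hef, hff]
    ring

theorem herm_projH_right {e f w : Fin N → F} (hw : w ∈ cutH q e f) (u : Fin N → F) :
    hermForm N F q w (projH q e f u) = hermForm N F q w u := by
  unfold projH
  rw [h_sub_right, h_sub_right, hermForm_smul_right, hermForm_smul_right, hw.1, hw.2]
  ring

theorem ndeg_cutH {e f : Fin N → F} (hee : hermForm N F q e e = 0)
    (hff : hermForm N F q f f = 0) (hef : hermForm N F q e f = 1) : NDeg q (cutH q e f) := by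
  intro w hw hw0
  have hex : ∃ u, hermForm N F q w u ≠ 0 := by
    by_contra hcon
    push Not at hcon
    exact hw0 (eq_zero_of_h_right (q := q) hcon)
  obtain ⟨u, hu⟩ := hex
  exact ⟨projH q e f u, projH_mem hee hff hef u, by rw [herm_projH_right hw]; exact hu⟩

/-- The orthogonal complement of a hyperbolic pair in `F⁴` is a plane. -/
theorem finrank_cutH {e f : Fin 4 → F} (hee : hermForm 4 F q e e = 0)
    (hff : hermForm 4 F q f f = 0) (hef : hermForm 4 F q e f = 1) :
    finrank F (cutH q e f) = 2 := by
  have hfe : hermForm 4 F q f e = 1 := h_eq_one_of_swap hef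
  -- the linear map v ↦ (h(v,e), h(v,f))
  let L : (Fin 4 → F) →ₗ[F] (Fin 2 → F) :=
    { toFun := fun v => ![hermForm 4 F q v e, hermForm 4 F q v f]
      map_add' := by
        intro a b
        ext i
        fin_cases i
        · simp [hermForm_add_left]
        · simp [hermForm_add_left]
      map_smul' := by
        intro c a
        ext i
        fin_cases i
        · simp [hermForm_smul_left]
        · simp [hermForm_smul_left] }
  have hker : LinearMap.ker L = cutH q e f := by
    ext v
    rw [LinearMap.mem_ker, mem_cutH]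
    constructor
    · intro h
      have h0 := congrFun h 0
      have h1 := congrFun h 1
      exact ⟨by simpa [L] using h0, by simpa [L] using h1⟩
    · rintro ⟨h0, h1⟩
      ext i
      fin_cases i
      · simpa [L] using h0
      · simpa [L] using h1
  have hsurj : LinearMap.range L = ⊤ := by
    rw [eq_top_iff]
    intro c _
    refine ⟨c 0 • f + c 1 • e, ?_⟩
    ext i
    fin_cases i
    · show hermForm 4 F q (c 0 • f + c 1 • e) e = c 0
      rw [hermForm_add_left, hermForm_smul_left, hermForm_smul_left, hfe, hee]
      ring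
    · show hermForm 4 F q (c 0 • f + c 1 • e) f = c 1
      rw [hermForm_add_left, hermForm_smul_left, hermForm_smul_left, hff, hef]
      ring
  have h := LinearMap.finrank_range_add_finrank_ker L
  rw [hsurj, finrank_top, hker, Module.finrank_pi, Module.finrank_pi, Fintype.card_fin,
    Fintype.card_fin] at h
  omega

/-- A vector outside `⟨e, f⟩`: the complement of a hyperbolic pair in `F⁴` is non-zero. -/
theorem cutH_ne_bot {e f : Fin 4 → F} (hee : hermForm 4 F q e e = 0)
    (hff : hermForm 4 F q f f = 0) (hef : hermForm 4 F q e f = 1) : cutH q e f ≠ ⊥ := by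
  intro h
  have := finrank_cutH hee hff hef
  rw [h, finrank_bot] at this
  omega

/-- Scaling the second vector of a pair to get a hyperbolic pair. -/
theorem exists_scale_right {e c : Fin N → F} (h : hermForm N F q e c ≠ 0) :
    ∃ s : F, hermForm N F q e (s • c) = 1 := by
  refine ⟨((hermForm N F q e c)⁻¹) ^ q, ?_⟩
  rw [hermForm_smul_right, bb, inv_mul_cancel₀ h]

end Cfsg.Agent.Helper9.U4
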