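import Mathlib
import Cfsg.Agent.Helper9.U4FrameA

set_option autoImplicit false
set_option linter.unusedSectionVars false

/-!
S6001: frames adapted to a decomposition `F⁴ = V₀ ⊕ E₊ ⊕ E₋` with `E₊`, `E₋` totally isotropic and
`V₀` orthogonal to both.
-/

namespace Cfsg.Agent.Helper9.U4

open Matrix Module Cfsg Cfsg.Agent.Helper7.Herm Cfsg.Agent.Helper8.GUOrder Cfsg.Agent.Helper8.AutSU
  Cfsg.Agent.Helper7.SUNd Cfsg.Agent.Helper8.SURoot

variable {F : Type*} [Field F] [Fintype F] {q : ℕ} [hF : Fact (Fintype.card F = q ^ 2)]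

/-- A decomposition of the unitary space `F⁴` into `V₀`, `E₊`, `E₋`. -/
structure Split (q : ℕ) (V0 Ep Em : Submodule F (Fin 4 → F)) : Prop where
  dec : ∀ v : Fin 4 → F, ∃ a ∈ V0, ∃ b ∈ Ep, ∃ c ∈ Em, v = a + b + c
  pp : ∀ u ∈ Ep, ∀ v ∈ Ep, hermForm 4 F q u v = 0
  mm : ∀ u ∈ Em, ∀ v ∈ Em, hermForm 4 F q u v = 0
  zp : ∀ u ∈ V0, ∀ v ∈ Ep, hermForm 4 F q u v = 0
  zm : ∀ u ∈ V0, ∀ v ∈ Em, hermForm 4 F q u v = 0

variable {V0 Ep Em : Submodule F (Fin 4 → F)}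

theorem Split.symm (S : Split q V0 Ep Em) : Split q V0 Em Ep where
  dec := by
    intro v
    obtain ⟨a, ha, b, hb, c, hc, rfl⟩ := S.dec v
    exact ⟨a, ha, c, hc, b, hb, by abel⟩
  pp := S.mm
  mm := S.pp
  zp := S.zm
  zm := S.zp

theorem Split.pz (S : Split q V0 Ep Em) {u v : Fin 4 → F} (hu : u ∈ Ep) (hv : v ∈ V0) :
    hermForm 4 F q u v = 0 := h_eq_zero_of_swap (S.zp v hv u hu)

theorem Split.mz (S : Split q V0 Ep Em) {u v : Fin 4 → F} (hu : u ∈ Em) (hv : v ∈ V0) :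
    hermForm 4 F q u v = 0 := h_eq_zero_of_swap (S.zm v hv u hu)

theorem exists_herm_ne_zero {w : Fin 4 → F} (hw : w ≠ 0) : ∃ u, hermForm 4 F q w u ≠ 0 := by
  by_contra hcon
  push Not at hcon
  exact hw (eq_zero_of_h_right (q := q) hcon)

theorem Split.exists_dual (S : Split q V0 Ep Em) {e : Fin 4 → F} (he : e ∈ Ep) (he0 : e ≠ 0) :
    ∃ f ∈ Em, hermForm 4 F q e f = 1 := by
  obtain ⟨u, hu⟩ := exists_herm_ne_zero (q := q) he0
  obtain ⟨a, ha, b, hb, c, hc, rfl⟩ := S.dec u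
  rw [h_add_right, h_add_right, S.pz he ha, S.pp e he b hb, zero_add, zero_add] at hu
  obtain ⟨s, hs⟩ := exists_scale_right hu
  exact ⟨s • c, Em.smul_mem s hc, hs⟩

/-- Components of a vector of the complement of a hyperbolic pair `e ∈ E₊`, `f ∈ E₋` lie in the
complement. -/
theorem Split.comp_mem (S : Split q V0 Ep Em) {e f : Fin 4 → F} (he : e ∈ Ep) (hf : f ∈ Em)
    {a b c : Fin 4 → F} (ha : a ∈ V0) (hb : b ∈ Ep) (hc : c ∈ Em)
    (hw : a + b + c ∈ cutH q e f) :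
    a ∈ cutH q e f ∧ b ∈ cutH q e f ∧ c ∈ cutH q e f := by
  obtain ⟨h1, h2⟩ := hw
  rw [hermForm_add_left, hermForm_add_left, S.zp a ha e he, S.pp b hb e he, zero_add,
    zero_add] at h1
  rw [hermForm_add_left, hermForm_add_left, S.zm a ha f hf, S.mm c hc f hf, zero_add,
    add_zero] at h2
  exact ⟨⟨S.zp a ha e he, S.zm a ha f hf⟩, ⟨S.pp b hb e he, h2⟩, ⟨h1, S.mm c hc f hf⟩⟩

/-- **The three shapes of an adapted frame.** -/
theorem Split.trichotomy (S : Split q V0 Ep Em) :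
    (∀ v : Fin 4 → F, v ∈ V0) ∨
    (∃ a₁ ∈ V0, ∃ a₂ ∈ V0, ∃ e ∈ Ep, ∃ f ∈ Em, hermForm 4 F q a₁ a₁ = 1 ∧
      hermForm 4 F q a₂ a₂ = 1 ∧ hermForm 4 F q a₁ a₂ = 0 ∧ hermForm 4 F q e f = 1) ∨
    (∃ e₁ ∈ Ep, ∃ e₂ ∈ Ep, ∃ f₁ ∈ Em, ∃ f₂ ∈ Em, hermForm 4 F q e₁ f₁ = 1 ∧
      hermForm 4 F q e₂ f₂ = 1 ∧ hermForm 4 F q e₁ f₂ = 0 ∧ hermForm 4 F q e₂ f₁ = 0) := by
  by_cases hEp : Ep = ⊥
  · left
    have hEm : ∀ c ∈ Em, c = 0 := by
      intro c hc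
      by_contra hc0
      obtain ⟨e, he, hef⟩ := S.symm.exists_dual hc hc0
      rw [hEp, Submodule.mem_bot] at he
      rw [he, h_zero_right] at hef
      exact zero_ne_one hef
    intro v
    obtain ⟨a, ha, b, hb, c, hc, rfl⟩ := S.dec v
    rw [hEp, Submodule.mem_bot] at hb
    rw [hb, hEm c hc, add_zero, add_zero]
    exact ha
  · obtain ⟨e₁, he₁, he₁0⟩ := (Submodule.ne_bot_iff _).mp hEp
    obtain ⟨f₁, hf₁, hef₁⟩ := S.exists_dual he₁ he₁0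
    have hee := S.pp e₁ he₁ e₁ he₁
    have hff := S.mm f₁ hf₁ f₁ hf₁
    have hnd := ndeg_cutH (q := q) hee hff hef₁
    have hrk := finrank_cutH (q := q) hee hff hef₁
    right
    by_cases hWp : ∃ e₂, e₂ ∈ cutH q e₁ f₁ ∧ e₂ ∈ Ep ∧ e₂ ≠ 0
    · right
      obtain ⟨e₂, he₂W, he₂, he₂0⟩ := hWp
      obtain ⟨u, huW, hu⟩ := hnd e₂ he₂W he₂0
      obtain ⟨a, ha, b, hb, c, hc, rfl⟩ := S.dec u
      obtain ⟨-, -, hcW⟩ := S.comp_mem he₁ hf₁ ha hb hc huW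
      rw [h_add_right, h_add_right, S.pz he₂ ha, S.pp e₂ he₂ b hb, zero_add, zero_add] at hu
      obtain ⟨s, hs⟩ := exists_scale_right hu
      refine ⟨e₁, he₁, e₂, he₂, f₁, hf₁, s • c, Em.smul_mem s hc, hef₁, hs, ?_, he₂W.2⟩
      have : s • c ∈ cutH q e₁ f₁ := (cutH q e₁ f₁).smul_mem s hcW
      exact h_eq_zero_of_swap this.1
    · left
      push Not at hWp
      -- the complement lies in V0
      have hWm : ∀ c, c ∈ cutH q e₁ f₁ → c ∈ Em → c = 0 := by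
        intro c hcW hc
        by_contra hc0
        obtain ⟨u, huW, hu⟩ := hnd c hcW hc0
        obtain ⟨a', ha', b', hb', c', hc', rfl⟩ := S.dec u
        obtain ⟨-, hb'W, -⟩ := S.comp_mem he₁ hf₁ ha' hb' hc' huW
        rw [h_add_right, h_add_right, S.mz hc ha', S.mm c hc c' hc', zero_add, add_zero] at hu
        have hb'0 : b' ≠ 0 := by
          rintro rfl
          rw [h_zero_right] at hu
          exact hu rfl
        exact hb'0 (hWp b' hb'W hb')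
      have hWV0 : ∀ w ∈ cutH q e₁ f₁, w ∈ V0 := by
        intro w hw
        obtain ⟨a, ha, b, hb, c, hc, rfl⟩ := S.dec w
        obtain ⟨-, hbW, hcW⟩ := S.comp_mem he₁ hf₁ ha hb hc hw
        have hb0 : b = 0 := by
          by_contra hb0
          exact hb0 (hWp b hbW hb)
        rw [hb0, hWm c hcW hc, add_zero, add_zero]
        exact ha
      obtain ⟨bb, hbbW, hbb⟩ := exists_onb 2 (cutH q e₁ f₁) hnd hrk
      refine ⟨bb 0, hWV0 _ (hbbW 0), bb 1, hWV0 _ (hbbW 1), e₁, he₁, f₁, hf₁, ?_, ?_, ?_, hef₁⟩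
      · rw [hbb, if_pos rfl]
      · rw [hbb, if_pos rfl]
      · rw [hbb, if_neg (by decide)]

end Cfsg.Agent.Helper9.U4
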