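import Mathlib
import Cfsg.Agent.Helper9.U4FrameB
import Cfsg.Agent.Helper9.U4ConjB

set_option autoImplicit false
set_option linter.unusedSectionVars false

/-!
S6001: eigenspaces, eigenframes of the three shapes, trace and determinant from an eigenframe.
-/

namespace Cfsg.Agent.Helper9.U4

open Matrix Module Cfsg Cfsg.Agent.Helper7.Herm Cfsg.Agent.Helper8.GUOrder Cfsg.Agent.Helper8.AutSU
  Cfsg.Agent.Helper7.SUNd Cfsg.Agent.Helper8.SURoot

variable {F : Type*} [Field F] [Fintype F] {q : ℕ} [hF : Fact (Fintype.card F = q ^ 2)]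

/-- the eigenspace of a matrix. -/
def eigS {n : ℕ} (Y : Matrix (Fin n) (Fin n) F) (c : F) : Submodule F (Fin n → F) where
  carrier := {v | Y *ᵥ v = c • v}
  add_mem' := by
    intro a b ha hb
    simp only [Set.mem_setOf_eq] at *
    rw [Matrix.mulVec_add, ha, hb, smul_add]
  zero_mem' := by simp
  smul_mem' := by
    intro t v hv
    simp only [Set.mem_setOf_eq] at *
    rw [Matrix.mulVec_smul, hv, smul_comm]

theorem mem_eigS {n : ℕ} {Y : Matrix (Fin n) (Fin n) F} {c : F} {v : Fin n → F} :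
    v ∈ eigS Y c ↔ Y *ᵥ v = c • v := Iff.rfl

/-- `Y` has an eigenframe with Gram matrix `J` and eigenvalues `d`. -/
def HasFrame {n : ℕ} (q : ℕ) (Y : Matrix (Fin n) (Fin n) F) (J : Matrix (Fin n) (Fin n) F)
    (d : Fin n → F) : Prop :=
  ∃ b : Fin n → Fin n → F, (∀ j k, hermForm n F q (b j) (b k) = J j k) ∧ ∀ j, Y *ᵥ b j = d j • b j

/-- Gram matrix of a frame `a₁, a₂, e, f` (orthonormal pair and hyperbolic pair). -/
def J2m : Matrix (Fin 4) (Fin 4) F := !![1, 0, 0, 0; 0, 1, 0, 0; 0, 0, 0, 1; 0, 0, 1, 0]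

/-- Gram matrix of a frame `e₁, f₁, e₂, f₂` (two hyperbolic pairs). -/
def J3m : Matrix (Fin 4) (Fin 4) F := !![0, 1, 0, 0; 1, 0, 0, 0; 0, 0, 0, 1; 0, 0, 1, 0]

theorem J2m_sq : (J2m : Matrix (Fin 4) (Fin 4) F) * J2m = 1 := by
  ext i j; fin_cases i <;> fin_cases j <;> simp [J2m, Matrix.mul_apply, Fin.sum_univ_four]

theorem J3m_sq : (J3m : Matrix (Fin 4) (Fin 4) F) * J3m = 1 := by
  ext i j; fin_cases i <;> fin_cases j <;> simp [J3m, Matrix.mul_apply, Fin.sum_univ_four]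

theorem det_ne_zero_of_sq {n : ℕ} {J : Matrix (Fin n) (Fin n) F} (h : J * J = 1) : J.det ≠ 0 := by
  intro h0
  have := congrArg Matrix.det h
  rw [Matrix.det_mul, h0, zero_mul, Matrix.det_one] at this
  exact zero_ne_one this

theorem J2m_det : (J2m : Matrix (Fin 4) (Fin 4) F).det ≠ 0 := det_ne_zero_of_sq J2m_sq

theorem J3m_det : (J3m : Matrix (Fin 4) (Fin 4) F).det ≠ 0 := det_ne_zero_of_sq J3m_sq

theorem adj_one {n : ℕ} [NeZero n] (d : F) (hd : d * d ^ q = 1) :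
    ∃ a : Fin n → F, (∀ i j, (1 : Matrix (Fin n) (Fin n) F) i j ≠ 0 → a i * (a j) ^ q = 1) ∧
      ∏ i, a i = d := by
  apply exists_adjust_unit (1 : Matrix (Fin n) (Fin n) F) 0 _ d hd
  intro j hj
  rcases hj with hj | hj
  · by_contra hne
    exact hj (Matrix.one_apply_ne (Ne.symm hne))
  · by_contra hne
    exact hj (Matrix.one_apply_ne hne)

theorem adj_J2 (d : F) (hd : d * d ^ q = 1) :
    ∃ a : Fin 4 → F, (∀ i j, (J2m : Matrix (Fin 4) (Fin 4) F) i j ≠ 0 → a i * (a j) ^ q = 1) ∧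
      ∏ i, a i = d := by
  apply exists_adjust_unit J2m 0 _ d hd
  intro j hj
  fin_cases j <;> simp [J2m] at hj ⊢

theorem adj_J3 (d : F) (hd : d * d ^ q = 1) :
    ∃ a : Fin 4 → F, (∀ i j, (J3m : Matrix (Fin 4) (Fin 4) F) i j ≠ 0 → a i * (a j) ^ q = 1) ∧
      ∏ i, a i = d := by
  apply exists_adjust_hyp J3m 0 1 (by decide) _ _ d hd
  · intro j hj
    fin_cases j <;> simp [J3m] at hj ⊢
  · intro j hj
    fin_cases j <;> simp [J3m] at hj ⊢

/-- trace from an eigenframe. -/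
theorem HasFrame.trace_eq {n : ℕ} {Y J : Matrix (Fin n) (Fin n) F} {d : Fin n → F}
    (h : HasFrame q Y J d) (hJ : J.det ≠ 0) : Y.trace = ∑ i, d i := by
  obtain ⟨b, hb, hY⟩ := h
  have hB := gram_colMat_eq (q := q) b J hb
  have hBd := det_ne_zero_of_gram hB hJ
  have hBu : IsUnit (colMat b).det := isUnit_iff_ne_zero.mpr hBd
  have h1 := mul_colMat Y b d hY
  have h2 : Y = colMat b * Matrix.diagonal d * (colMat b)⁻¹ := by
    rw [← h1, Matrix.mul_assoc, Matrix.mul_nonsing_inv _ hBu, Matrix.mul_one]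
  rw [h2, Matrix.trace_mul_cycle, Matrix.nonsing_inv_mul _ hBu, Matrix.one_mul,
    Matrix.trace_diagonal]

/-- determinant from an eigenframe. -/
theorem HasFrame.det_eq {n : ℕ} {Y J : Matrix (Fin n) (Fin n) F} {d : Fin n → F}
    (h : HasFrame q Y J d) (hJ : J.det ≠ 0) : Y.det = ∏ i, d i := by
  obtain ⟨b, hb, hY⟩ := h
  have hB := gram_colMat_eq (q := q) b J hb
  have hBd := det_ne_zero_of_gram hB hJ
  have h1 := congrArg Matrix.det (mul_colMat Y b d hY)
  rw [Matrix.det_mul, Matrix.det_mul, Matrix.det_diagonal, mul_comm] at h1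
  exact mul_left_cancel₀ hBd h1

/-- conjugacy from eigenframes of the same shape. -/
theorem HasFrame.conj {n : ℕ} {J : Matrix (Fin n) (Fin n) F} {d : Fin n → F} {Y Y' : GL (Fin n) F}
    (h : HasFrame q (Y : Matrix (Fin n) (Fin n) F) J d)
    (h' : HasFrame q (Y' : Matrix (Fin n) (Fin n) F) J d) (hJ : J.det ≠ 0)
    (hadj : ∀ d : F, d * d ^ q = 1 →
      ∃ a : Fin n → F, (∀ i j, J i j ≠ 0 → a i * (a j) ^ q = 1) ∧ ∏ i, a i = d) :
    ∃ g ∈ GU n F q ⊓ Geo.specialLinear (Fin n) F, g⁻¹ * Y * g = Y' := by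
  obtain ⟨b, hb, hY⟩ := h
  obtain ⟨b', hb', hY'⟩ := h'
  exact conj_of_eigenframes J hJ hadj b b' hb hb' d Y Y' hY hY'

variable {V0 Ep Em : Submodule F (Fin 4 → F)}

/-- **The eigenframes of a matrix acting by scalars on the three parts of a decomposition.** -/
theorem Split.hasFrame (S : Split q V0 Ep Em) (Y : Matrix (Fin 4) (Fin 4) F) (c0 cp cm : F)
    (h0 : ∀ v ∈ V0, Y *ᵥ v = c0 • v) (hp : ∀ v ∈ Ep, Y *ᵥ v = cp • v)
    (hm : ∀ v ∈ Em, Y *ᵥ v = cm • v) :
    (∀ v : Fin 4 → F, v ∈ V0) ∨ HasFrame q Y J2m ![c0, c0, cp, cm] ∨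
      HasFrame q Y J3m ![cp, cm, cp, cm] := by
  rcases S.trichotomy with h | ⟨a₁, ha₁, a₂, ha₂, e, he, f, hf, h11, h22, h12, hef⟩ |
      ⟨e₁, he₁, e₂, he₂, f₁, hf₁, f₂, hf₂, h11, h22, h12, h21⟩
  · exact Or.inl h
  · right; left
    refine ⟨![a₁, a₂, e, f], ?_, ?_⟩
    · intro j k
      fin_cases j <;> fin_cases k <;> simp [J2m]
      · exact h11
      · exact h12
      · exact S.zp a₁ ha₁ e he
      · exact S.zm a₁ ha₁ f hf
      · exact h_eq_zero_of_swap h12
      · exact h22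
      · exact S.zp a₂ ha₂ e he
      · exact S.zm a₂ ha₂ f hf
      · exact S.pz he ha₁
      · exact S.pz he ha₂
      · exact S.pp e he e he
      · exact hef
      · exact S.mz hf ha₁
      · exact S.mz hf ha₂
      · exact h_eq_one_of_swap hef
      · exact S.mm f hf f hf
    · intro j
      fin_cases j
      · exact h0 a₁ ha₁
      · exact h0 a₂ ha₂
      · exact hp e he
      · exact hm f hf
  · right; right
    refine ⟨![e₁, f₁, e₂, f₂], ?_, ?_⟩
    · intro j k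
      fin_cases j <;> fin_cases k <;> simp [J3m]
      · exact S.pp e₁ he₁ e₁ he₁
      · exact h11
      · exact S.pp e₁ he₁ e₂ he₂
      · exact h12
      · exact h_eq_one_of_swap h11
      · exact S.mm f₁ hf₁ f₁ hf₁
      · exact h_eq_zero_of_swap h21
      · exact S.mm f₁ hf₁ f₂ hf₂
      · exact S.pp e₂ he₂ e₁ he₁
      · exact h21
      · exact S.pp e₂ he₂ e₂ he₂
      · exact h22
      · exact h_eq_zero_of_swap h12
      · exact S.mm f₂ hf₂ f₁ hf₁
      · exact h_eq_one_of_swap h22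
      · exact S.mm f₂ hf₂ f₂ hf₂
    · intro j
      fin_cases j
      · exact hp e₁ he₁
      · exact hm f₁ hf₁
      · exact hp e₂ he₂
      · exact hm f₂ hf₂

end Cfsg.Agent.Helper9.U4
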