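import Mathlib
import Cfsg.Agent.Helper9.U4EigA
import Cfsg.Agent.Helper7.Ex27UG

set_option autoImplicit false
set_option linter.unusedSectionVars false

/-!
S6001: eigenframes of unitary involutions, of "anti-unitary" involutions and of unitary matrices of
order 3 (`ω ∈ F_q`); conjugacy of unitary matrices of order 3 with the same trace.
-/

namespace Cfsg.Agent.Helper9.U4

open Matrix Module Cfsg Cfsg.Agent.Helper7.Herm Cfsg.Agent.Helper8.GUOrder Cfsg.Agent.Helper8.AutSU
  Cfsg.Agent.Helper7.SUNd Cfsg.Agent.Helper8.SURoot Cfsg.Agent.Helper7.Ex27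

variable {F : Type*} [Field F] [Fintype F] {q : ℕ} [hF : Fact (Fintype.card F = q ^ 2)]

theorem neg_one_pow_q' : (-1 : F) ^ q = -1 := neg_one_pow_q hF.out

/-- a unitary involution has an orthonormal eigenframe. -/
theorem frame_of_invol {n : ℕ} (h2 : (2 : F) ≠ 0) (Y : Matrix (Fin n) (Fin n) F)
    (hYU : ∀ u v, hermForm n F q (Y *ᵥ u) (Y *ᵥ v) = hermForm n F q u v) (hY : Y * Y = 1) :
    ∃ s : Fin n → F, (∀ j, s j = 1 ∨ s j = -1) ∧ HasFrame q Y (1 : Matrix (Fin n) (Fin n) F) s := by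
  have hodd : (-1 : F) ^ (q + 1) = 1 := by rw [pow_succ, neg_one_pow_q']; ring
  obtain ⟨b, e, hb, hbe⟩ := exists_onb_eigen_top Y hYU (pm F) (pm_unitary_ne h2 hodd)
    (invol_decomp Y h2 hY)
  refine ⟨fun j => pm F (e j), ?_, b, ?_, hbe⟩
  · intro j
    show pm F (e j) = 1 ∨ pm F (e j) = -1
    generalize e j = t
    fin_cases t
    · left; rfl
    · right; rfl
  · intro j k
    rw [hb, Matrix.one_apply]

/-- an involution which negates the form has an eigenframe of two hyperbolic pairs. -/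
theorem frame_of_antiinvol (h2 : (2 : F) ≠ 0) (Y : Matrix (Fin 4) (Fin 4) F)
    (hYU : ∀ u v, hermForm 4 F q (Y *ᵥ u) (Y *ᵥ v) = -hermForm 4 F q u v) (hY : Y * Y = 1) :
    HasFrame q Y J3m ![1, -1, 1, -1] := by
  have hS : Split q (⊥ : Submodule F (Fin 4 → F)) (eigS Y 1) (eigS Y (-1)) := by
    refine ⟨?_, ?_, ?_, ?_, ?_⟩
    · intro v
      obtain ⟨c, hc, hv, -⟩ := invol_decomp Y h2 hY v
      refine ⟨0, Submodule.zero_mem _, c 0, hc 0, c 1, hc 1, ?_⟩
      rw [hv, Fin.sum_univ_two, zero_add]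
    · intro u hu v hv
      have h := hYU u v
      rw [mem_eigS.mp hu, mem_eigS.mp hv, one_smul, one_smul] at h
      have : (2 : F) * hermForm 4 F q u v = 0 := by linear_combination h
      exact (mul_eq_zero.mp this).resolve_left h2
    · intro u hu v hv
      have h := hYU u v
      rw [mem_eigS.mp hu, mem_eigS.mp hv, hermForm_smul_left, hermForm_smul_right,
        neg_one_pow_q'] at h
      have : (2 : F) * hermForm 4 F q u v = 0 := by linear_combination h
      exact (mul_eq_zero.mp this).resolve_left h2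
    · intro u hu v _
      rw [(Submodule.mem_bot F).mp hu, hermForm_zero_left]
    · intro u hu v _
      rw [(Submodule.mem_bot F).mp hu, hermForm_zero_left]
  rcases hS.hasFrame Y 0 1 (-1) (fun v hv => by rw [(Submodule.mem_bot F).mp hv]; simp)
    (fun v hv => mem_eigS.mp hv) (fun v hv => mem_eigS.mp hv) with h | h | h
  · exfalso
    have := h (Pi.single 0 1)
    rw [Submodule.mem_bot] at this
    have := congrFun this 0
    simp at this
  · exfalso
    obtain ⟨b, hb, hY⟩ := h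
    have h00 := hb 0 0
    have hY0 : Y *ᵥ b 0 = (0 : F) • b 0 := hY 0
    rw [zero_smul] at hY0
    -- b 0 = Y (Y (b 0)) = 0
    have : b 0 = 0 := by
      have h1 : b 0 = Y *ᵥ (Y *ᵥ b 0) := by
        rw [Matrix.mulVec_mulVec, ‹Y * Y = 1›, Matrix.one_mulVec]
      rw [hY0, Matrix.mulVec_zero] at h1
      exact h1
    rw [this, hermForm_zero_left] at h00
    simp [J2m] at h00
  · exact h

/-- the eigenframes of a unitary matrix of order 3 when the cube roots of unity lie in `F_q`. -/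
theorem frame_of_cube (ω : F) (hω : ω ^ 2 + ω + 1 = 0) (hωq : ω ^ q = ω) (h3 : (3 : F) ≠ 0)
    (Y : Matrix (Fin 4) (Fin 4) F)
    (hYU : ∀ u v, hermForm 4 F q (Y *ᵥ u) (Y *ᵥ v) = hermForm 4 F q u v) (hY : Y ^ 3 = 1) :
    Y = 1 ∨ HasFrame q Y J2m ![1, 1, ω, ω ^ 2] ∨ HasFrame q Y J3m ![ω, ω ^ 2, ω, ω ^ 2] := by
  have hω1 : ω ≠ 1 := by
    intro h
    rw [h] at hω
    apply h3
    linear_combination hω
  have hω3 : ω ^ 3 = 1 := by linear_combination (ω - 1) * hω
  have hω2 : ω ^ 2 ≠ 1 := by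
    intro h
    apply hω1
    have : ω ^ 3 = ω := by rw [pow_succ, h, one_mul]
    rw [← this, hω3]
  have hω2q : (ω ^ 2) ^ q = ω ^ 2 := by rw [← pow_mul, mul_comm, pow_mul, hωq]
  have hS : Split q (eigS Y 1) (eigS Y ω) (eigS Y (ω ^ 2)) := by
    refine ⟨?_, ?_, ?_, ?_, ?_⟩
    · intro v
      obtain ⟨c, hc, hv, -⟩ := cube_decomp Y ω hω h3 hY v
      refine ⟨c 0, ?_, c 1, ?_, c 2, ?_, ?_⟩
      · have := hc 0
        rw [mem_eigS]
        simpa using this
      · have := hc 1
        rw [mem_eigS]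
        simpa using this
      · have := hc 2
        rw [mem_eigS]
        simpa using this
      · rw [hv, Fin.sum_univ_three]
    · intro u hu v hv
      refine herm_eigvec_zero_gen Y hYU ω ω ?_ u v (mem_eigS.mp hu) (mem_eigS.mp hv)
      rw [hωq, ← pow_two]; exact hω2
    · intro u hu v hv
      refine herm_eigvec_zero_gen Y hYU (ω ^ 2) (ω ^ 2) ?_ u v (mem_eigS.mp hu) (mem_eigS.mp hv)
      rw [hω2q]
      have : ω ^ 2 * ω ^ 2 = ω := by
        calc ω ^ 2 * ω ^ 2 = ω ^ 3 * ω := by ring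
          _ = ω := by rw [hω3, one_mul]
      rw [this]; exact hω1
    · intro u hu v hv
      refine herm_eigvec_zero_gen Y hYU 1 ω ?_ u v (mem_eigS.mp hu) (mem_eigS.mp hv)
      rw [hωq, one_mul]; exact hω1
    · intro u hu v hv
      refine herm_eigvec_zero_gen Y hYU 1 (ω ^ 2) ?_ u v (mem_eigS.mp hu) (mem_eigS.mp hv)
      rw [hω2q, one_mul]; exact hω2
  rcases hS.hasFrame Y 1 ω (ω ^ 2) (fun v hv => mem_eigS.mp hv) (fun v hv => mem_eigS.mp hv)
    (fun v hv => mem_eigS.mp hv) with h | h | h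
  · left
    ext i j
    have := congrFun (mem_eigS.mp (h (Pi.single j 1))) i
    rw [one_smul, Matrix.mulVec_single_one, Matrix.col_apply] at this
    rw [this, Matrix.one_apply, Pi.single_apply]
  · right; left; exact h
  · right; right; exact h

/-- **Unitary matrices of order 3 with the same trace are conjugate under `SU_4`**
(`ω ∈ F_q`, characteristic at least 5). -/
theorem conj_of_cube (ω : F) (hω : ω ^ 2 + ω + 1 = 0) (hωq : ω ^ q = ω) (h2 : (2 : F) ≠ 0)
    (h3 : (3 : F) ≠ 0) (Y Y' : GL (Fin 4) F) (hYU : Y ∈ GU 4 F q) (hYU' : Y' ∈ GU 4 F q)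
    (hY : Y ^ 3 = 1) (hY' : Y' ^ 3 = 1)
    (htr : (Y : Matrix (Fin 4) (Fin 4) F).trace = (Y' : Matrix (Fin 4) (Fin 4) F).trace) :
    ∃ g ∈ GU 4 F q ⊓ Geo.specialLinear (Fin 4) F, g⁻¹ * Y * g = Y' := by
  have hYm : (Y : Matrix (Fin 4) (Fin 4) F) ^ 3 = 1 := by
    rw [← Units.val_pow_eq_pow_val, hY, Units.val_one]
  have hYm' : (Y' : Matrix (Fin 4) (Fin 4) F) ^ 3 = 1 := by
    rw [← Units.val_pow_eq_pow_val, hY', Units.val_one]
  have t1 : (1 : Matrix (Fin 4) (Fin 4) F).trace = 4 := by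
    rw [Matrix.trace_one]; simp
  have t2 : ∑ i, (![1, 1, ω, ω ^ 2] : Fin 4 → F) i = 1 := by
    rw [Fin.sum_univ_four]
    simp only [Matrix.cons_val_zero, Matrix.cons_val_one, Matrix.cons_val]
    linear_combination hω
  have t3 : ∑ i, (![ω, ω ^ 2, ω, ω ^ 2] : Fin 4 → F) i = -2 := by
    rw [Fin.sum_univ_four]
    simp only [Matrix.cons_val_zero, Matrix.cons_val_one, Matrix.cons_val]
    linear_combination 2 * hω
  have h6 : (6 : F) ≠ 0 := by
    have : (6 : F) = 2 * 3 := by norm_num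
    rw [this]; exact mul_ne_zero h2 h3
  rcases frame_of_cube ω hω hωq h3 (Y : Matrix (Fin 4) (Fin 4) F) hYU hYm with h | h | h <;>
    rcases frame_of_cube ω hω hωq h3 (Y' : Matrix (Fin 4) (Fin 4) F) hYU' hYm' with h' | h' | h'
  · refine ⟨1, Subgroup.one_mem _, ?_⟩
    have e1 : Y = 1 := Units.ext h
    have e2 : Y' = 1 := Units.ext h'
    rw [e1, e2]; simp
  · exfalso
    rw [h, t1, h'.trace_eq J2m_det, t2] at htr
    apply h3; linear_combination htr
  · exfalso
    rw [h, t1, h'.trace_eq J3m_det, t3] at htr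
    apply h6; linear_combination htr
  · exfalso
    rw [h', t1, h.trace_eq J2m_det, t2] at htr
    apply h3; linear_combination -htr
  · exact h.conj h' J2m_det adj_J2
  · exfalso
    rw [h.trace_eq J2m_det, t2, h'.trace_eq J3m_det, t3] at htr
    apply h3; linear_combination htr
  · exfalso
    rw [h', t1, h.trace_eq J3m_det, t3] at htr
    apply h6; linear_combination -htr
  · exfalso
    rw [h.trace_eq J3m_det, t3, h'.trace_eq J2m_det, t2] at htr
    apply h3; linear_combination -htr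
  · exact h.conj h' J3m_det adj_J3

end Cfsg.Agent.Helper9.U4
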