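import Mathlib
import Cfsg.Agent.Helper9.U4ConjA
import Cfsg.Agent.Helper2.SymTF

set_option autoImplicit false
set_option linter.unusedSectionVars false

/-!
S6001: explicit unitary elements of the normalizer of the standard group `R0 = 4 ∘ 2^{1+4}`:
the permutation matrix `P3`, the element `T3 = c • (T ⊗ 1)` of order 3 with trace `-2`, and an
element `M5` of order 5.
-/

namespace Cfsg.Agent.Helper9.U4

open Matrix Cfsg Cfsg.Agent.Helper8.GUOrder Cfsg.Agent.Helper8.AutSU Cfsg.Agent.Helper2.SymT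

variable {F : Type*} [Field F] [Fintype F] {q : ℕ} [hF : Fact (Fintype.card F = q ^ 2)]

theorem frobq_i {i : F} (hiq : i ^ q = -i) : frobq F q i = -i := hiq

/-! ### the permutation matrix `P3` -/

theorem sig_P3m : sig q (P3m : Matrix (Fin 4) (Fin 4) F) = P3m := by
  ext a b
  fin_cases a <;> fin_cases b <;> simp [P3m, sig_eq]

theorem P3m_unitary : (P3m : Matrix (Fin 4) (Fin 4) F)ᵀ * sig q P3m = 1 := by
  rw [sig_P3m]
  ext a b
  fin_cases a <;> fin_cases b <;> simp [P3m, Matrix.mul_apply, Fin.sum_univ_four]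

theorem P3g_mem_GU : (P3g : GL (Fin 4) F) ∈ GU 4 F q := by
  rw [mem_GU_iff_sig, P3g_val]
  exact P3m_unitary

theorem P3m_cube : (P3m : Matrix (Fin 4) (Fin 4) F) * P3m * P3m = 1 := by
  ext a b
  fin_cases a <;> fin_cases b <;> simp [P3m, Matrix.mul_apply, Fin.sum_univ_four]

theorem P3g_cube : (P3g : GL (Fin 4) F) ^ 3 = 1 := by
  apply Units.ext
  rw [Units.val_pow_eq_pow_val, P3g_val, Units.val_one, pow_succ, pow_two]
  exact P3m_cube

theorem P3m_trace : (P3m : Matrix (Fin 4) (Fin 4) F).trace = 1 := by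
  simp [Matrix.trace, Fin.sum_univ_four, P3m]

/-! ### the element `T3` of order 3 -/

/-- `c • (T ⊗ 1)` with `c = (-1-i)/2`. -/
def T3m (i : F) : Matrix (Fin 4) (Fin 4) F :=
  (2 : F)⁻¹ • !![-1 - i, -1 - i, 0, 0; 1 - i, -1 + i, 0, 0; 0, 0, -1 - i, -1 - i; 0, 0, 1 - i, -1 + i]

/-- the inverse (conjugate transpose) of `T3m`. -/
def T3h (i : F) : Matrix (Fin 4) (Fin 4) F :=
  (2 : F)⁻¹ • !![-1 + i, 1 + i, 0, 0; -1 + i, -1 - i, 0, 0; 0, 0, -1 + i, 1 + i; 0, 0, -1 + i, -1 - i]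

theorem T3m_mul_T3h (i : F) (hi : i ^ 2 = -1) (h2 : (2 : F) ≠ 0) : T3m i * T3h i = 1 := by
  ext a b
  fin_cases a <;> fin_cases b <;>
    simp [T3m, T3h, Matrix.mul_apply, Fin.sum_univ_four] <;> grind

theorem T3h_mul_T3m (i : F) (hi : i ^ 2 = -1) (h2 : (2 : F) ≠ 0) : T3h i * T3m i = 1 := by
  ext a b
  fin_cases a <;> fin_cases b <;>
    simp [T3m, T3h, Matrix.mul_apply, Fin.sum_univ_four] <;> grind

theorem T3m_sq (i : F) (hi : i ^ 2 = -1) (h2 : (2 : F) ≠ 0) : T3m i * T3m i = T3h i := by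
  ext a b
  fin_cases a <;> fin_cases b <;>
    simp [T3m, T3h, Matrix.mul_apply, Fin.sum_univ_four] <;> grind

theorem sig_T3m {i : F} (hiq : i ^ q = -i) : sig q (T3m i) = (T3h i)ᵀ := by
  have hfi := frobq_i hiq
  have hf2 : frobq F q 2 = 2 := map_ofNat _ 2
  ext a b
  fin_cases a <;> fin_cases b <;> simp [T3m, T3h, sig_eq, hfi, hf2] <;> grind

/-- `T3` as an element of `GL_4(F)`. -/
def T3g (i : F) (hi : i ^ 2 = -1) (h2 : (2 : F) ≠ 0) : GL (Fin 4) F :=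
  ⟨T3m i, T3h i, T3m_mul_T3h i hi h2, T3h_mul_T3m i hi h2⟩

@[simp] theorem T3g_val (i : F) (hi : i ^ 2 = -1) (h2 : (2 : F) ≠ 0) :
    ((T3g i hi h2 : GL (Fin 4) F) : Matrix (Fin 4) (Fin 4) F) = T3m i := rfl

theorem T3g_mem_GU {i : F} (hi : i ^ 2 = -1) (h2 : (2 : F) ≠ 0) (hiq : i ^ q = -i) :
    T3g i hi h2 ∈ GU 4 F q := by
  rw [mem_GU_iff_sig, T3g_val, sig_T3m hiq, ← Matrix.transpose_mul, T3h_mul_T3m i hi h2,
    Matrix.transpose_one]

theorem T3g_cube (i : F) (hi : i ^ 2 = -1) (h2 : (2 : F) ≠ 0) : T3g i hi h2 ^ 3 = 1 := by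
  apply Units.ext
  rw [Units.val_pow_eq_pow_val, T3g_val, Units.val_one, pow_succ, pow_two, T3m_sq i hi h2,
    T3h_mul_T3m i hi h2]

theorem T3m_trace (i : F) (h2 : (2 : F) ≠ 0) : (T3m i).trace = -2 := by
  simp [Matrix.trace, Fin.sum_univ_four, T3m]
  field_simp
  ring

theorem T3m_eq (i : F) (hi : i ^ 2 = -1) : T3m i = ((2 : F)⁻¹ * (-1 - i)) • T1m i := by
  ext a b
  fin_cases a <;> fin_cases b <;> simp [T3m, T1m] <;> grind

theorem neg_one_sub_i_ne_zero {i : F} (hi : i ^ 2 = -1) (h2 : (2 : F) ≠ 0) : -1 - i ≠ 0 := by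
  intro h
  apply h2
  have h1 : i = -1 := by linear_combination -h
  rw [h1] at hi
  linear_combination hi

theorem T3g_mem_normalizer (i : F) (hi : i ^ 2 = -1) (h2 : (2 : F) ≠ 0) :
    T3g i hi h2 ∈ Subgroup.normalizer (R0 i hi : Set (GL (Fin 4) F)) := by
  have hc : (2 : F)⁻¹ * (-1 - i) ≠ 0 :=
    mul_ne_zero (inv_ne_zero h2) (neg_one_sub_i_ne_zero hi h2)
  have : T3g i hi h2 = scg (Units.mk0 _ hc) * T1g i hi h2 := by
    apply Units.ext
    rw [Units.val_mul, scg_val, T1g_val, T3g_val, T3m_eq i hi, Units.val_mk0, Matrix.smul_mul,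
      Matrix.one_mul]
  rw [this]
  exact mul_mem (scg_mem_normalizer _ _) (T1g_mem_normalizer i hi h2)

end Cfsg.Agent.Helper9.U4
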