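import Mathlib
import Cfsg.Agent.Helper9.U4ModelA

set_option autoImplicit false
set_option linter.unusedSectionVars false

/-!
S6001: the sign-diagonal matrices normalize the standard group `R0`.
-/

namespace Cfsg.Agent.Helper9.U4

open Matrix Cfsg Cfsg.Agent.Helper2.SymT

variable {F : Type*} [Field F]

/-- a diagonal matrix. -/
def sdm (a b c d : F) : Matrix (Fin 4) (Fin 4) F := !![a, 0, 0, 0; 0, b, 0, 0; 0, 0, c, 0; 0, 0, 0, d]

theorem sdm_mul (a b c d a' b' c' d' : F) :
    sdm a b c d * sdm a' b' c' d' = sdm (a * a') (b * b') (c * c') (d * d') := by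
  ext x y; fin_cases x <;> fin_cases y <;> simp [sdm, Matrix.mul_apply, Fin.sum_univ_four]

theorem sdm_one : sdm (1 : F) 1 1 1 = 1 := by
  ext x y; fin_cases x <;> fin_cases y <;> simp [sdm]

theorem sdm_eq_diagonal (a b c d : F) : sdm a b c d = Matrix.diagonal ![a, b, c, d] := by
  ext x y; fin_cases x <;> fin_cases y <;> simp [sdm]

/-- a sign-diagonal matrix as an element of `GL_4(F)`. -/
def sdg (a b c d : F) (ha : a * a = 1) (hb : b * b = 1) (hc : c * c = 1) (hd : d * d = 1) :
    GL (Fin 4) F :=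
  ⟨sdm a b c d, sdm a b c d, by rw [sdm_mul, ha, hb, hc, hd, sdm_one],
    by rw [sdm_mul, ha, hb, hc, hd, sdm_one]⟩

@[simp] theorem sdg_val (a b c d : F) (ha : a * a = 1) (hb : b * b = 1) (hc : c * c = 1)
    (hd : d * d = 1) :
    ((sdg a b c d ha hb hc hd : GL (Fin 4) F) : Matrix (Fin 4) (Fin 4) F) = sdm a b c d := rfl

theorem sign_cases {a : F} (ha : a * a = 1) : a = 1 ∨ a = -1 := by
  have : (a - 1) * (a + 1) = 0 := by linear_combination ha
  rcases mul_eq_zero.mp this with h | h
  · exact Or.inl (sub_eq_zero.mp h)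
  · exact Or.inr (eq_neg_of_add_eq_zero_left h)

theorem sdg_aabb_mem (i : F) (hi : i ^ 2 = -1) (a b : F) (ha : a * a = 1) (hb : b * b = 1) :
    sdg a a b b ha ha hb hb ∈ R0 i hi := by
  rcases sign_cases ha with rfl | rfl <;> rcases sign_cases hb with rfl | rfl
  · have : sdg (1 : F) 1 1 1 ha ha hb hb = 1 := Units.ext sdm_one
    rw [this]; exact Subgroup.one_mem _
  · have : sdg (1 : F) 1 (-1) (-1) ha ha hb hb = B2g := by
      apply Units.ext
      ext x y; fin_cases x <;> fin_cases y <;> simp [sdm, B2m]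
    rw [this]; exact B2g_mem i hi
  · have : sdg (-1 : F) (-1) 1 1 ha ha hb hb = scg (iu i hi ^ 2) * B2g := by
      apply Units.ext
      rw [Units.val_mul, scg_neg_one_val]
      ext x y; fin_cases x <;> fin_cases y <;> simp [sdm, B2m]
    rw [this]; exact mul_mem (neg_one_mem i hi) (B2g_mem i hi)
  · have : sdg (-1 : F) (-1) (-1) (-1) ha ha hb hb = scg (iu i hi ^ 2) := by
      apply Units.ext
      rw [scg_neg_one_val]
      ext x y; fin_cases x <;> fin_cases y <;> simp [sdm]
    rw [this]; exact neg_one_mem i hi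

theorem sdg_abab_mem (i : F) (hi : i ^ 2 = -1) (a b : F) (ha : a * a = 1) (hb : b * b = 1) :
    sdg a b a b ha hb ha hb ∈ R0 i hi := by
  rcases sign_cases ha with rfl | rfl <;> rcases sign_cases hb with rfl | rfl
  · have : sdg (1 : F) 1 1 1 ha hb ha hb = 1 := Units.ext sdm_one
    rw [this]; exact Subgroup.one_mem _
  · have : sdg (1 : F) (-1) 1 (-1) ha hb ha hb = B1g := by
      apply Units.ext
      ext x y; fin_cases x <;> fin_cases y <;> simp [sdm, B1m]
    rw [this]; exact B1g_mem i hi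
  · have : sdg (-1 : F) 1 (-1) 1 ha hb ha hb = scg (iu i hi ^ 2) * B1g := by
      apply Units.ext
      rw [Units.val_mul, scg_neg_one_val]
      ext x y; fin_cases x <;> fin_cases y <;> simp [sdm, B1m]
    rw [this]; exact mul_mem (neg_one_mem i hi) (B1g_mem i hi)
  · have : sdg (-1 : F) (-1) (-1) (-1) ha hb ha hb = scg (iu i hi ^ 2) := by
      apply Units.ext
      rw [scg_neg_one_val]
      ext x y; fin_cases x <;> fin_cases y <;> simp [sdm]
    rw [this]; exact neg_one_mem i hi

theorem sdm_B1 (a b c d : F) : sdm a b c d * B1m = B1m * sdm a b c d := by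
  ext x y; fin_cases x <;> fin_cases y <;> simp [sdm, B1m, Matrix.mul_apply, Fin.sum_univ_four]

theorem sdm_B2 (a b c d : F) : sdm a b c d * B2m = B2m * sdm a b c d := by
  ext x y; fin_cases x <;> fin_cases y <;> simp [sdm, B2m, Matrix.mul_apply, Fin.sum_univ_four]

theorem sdm_C1 (a b c d : F) (ha : a * a = 1) (hb : b * b = 1) (hc : c * c = 1) (hd : d * d = 1) :
    sdm a b c d * C1m = (sdm (a * b) (a * b) (c * d) (c * d) * C1m) * sdm a b c d := by
  ext x y; fin_cases x <;> fin_cases y <;>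
    simp [sdm, C1m, Matrix.mul_apply, Fin.sum_univ_four] <;> grind

theorem sdm_C2 (a b c d : F) (ha : a * a = 1) (hb : b * b = 1) (hc : c * c = 1) (hd : d * d = 1) :
    sdm a b c d * C2m = (sdm (a * c) (b * d) (a * c) (b * d) * C2m) * sdm a b c d := by
  ext x y; fin_cases x <;> fin_cases y <;>
    simp [sdm, C2m, Matrix.mul_apply, Fin.sum_univ_four] <;> grind

theorem mul_sq_one {a b : F} (ha : a * a = 1) (hb : b * b = 1) : (a * b) * (a * b) = 1 := by
  calc (a * b) * (a * b) = (a * a) * (b * b) := by ring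
    _ = 1 := by rw [ha, hb, one_mul]

/-- **the sign-diagonal matrices normalize `R0`.** -/
theorem sdg_mem_normalizer [Finite F] (i : F) (hi : i ^ 2 = -1) (a b c d : F) (ha : a * a = 1)
    (hb : b * b = 1) (hc : c * c = 1) (hd : d * d = 1) :
    sdg a b c d ha hb hc hd ∈ Subgroup.normalizer (R0 i hi : Set (GL (Fin 4) F)) := by
  apply mem_normalizer_R0
  · rw [conj_eq_of_rel (r := B1g) (sdm_B1 a b c d)]
    exact B1g_mem i hi
  · rw [conj_eq_of_rel (r := sdg (a * b) (a * b) (c * d) (c * d) (mul_sq_one ha hb)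
      (mul_sq_one ha hb) (mul_sq_one hc hd) (mul_sq_one hc hd) * C1g) (by
        rw [Units.val_mul]
        exact sdm_C1 a b c d ha hb hc hd)]
    exact mul_mem (sdg_aabb_mem i hi _ _ _ _) (C1g_mem i hi)
  · rw [conj_eq_of_rel (r := B2g) (sdm_B2 a b c d)]
    exact B2g_mem i hi
  · rw [conj_eq_of_rel (r := sdg (a * c) (b * d) (a * c) (b * d) (mul_sq_one ha hc)
      (mul_sq_one hb hd) (mul_sq_one ha hc) (mul_sq_one hb hd) * C2g) (by
        rw [Units.val_mul]
        exact sdm_C2 a b c d ha hb hc hd)]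
    exact mul_mem (sdg_abab_mem i hi _ _ _ _) (C2g_mem i hi)

end Cfsg.Agent.Helper9.U4
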