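import Mathlib
import Cfsg.Agent.Helper9.U4EigB
import Cfsg.Agent.Helper9.U4ModelC
import Cfsg.Agent.Helper9.U4Transport

set_option autoImplicit false
set_option linter.unusedSectionVars false

/-!
S6001: elements of `SU_4(q)`, `q ≡ 3 (mod 4)`, whose square is scalar are `SU_4(q)`-conjugate into the
normalizer of the standard group `R0`.
-/

namespace Cfsg.Agent.Helper9.U4

open Matrix Module Cfsg Cfsg.Agent.Helper7.Herm Cfsg.Agent.Helper8.GUOrder Cfsg.Agent.Helper8.AutSU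
  Cfsg.Agent.Helper2.SymT

variable {F : Type*} [Field F] [Fintype F] {q : ℕ} [hF : Fact (Fintype.card F = q ^ 2)]

theorem herm_std (j k : Fin 4) :
    hermForm 4 F q (Pi.single j (1 : F)) (Pi.single k 1) = (1 : Matrix (Fin 4) (Fin 4) F) j k := by
  rw [h_single_right, Pi.single_apply, Matrix.one_apply]
  by_cases h : j = k
  · rw [if_pos h, if_pos h.symm]
  · rw [if_neg h, if_neg (Ne.symm h)]

/-- the standard frame is an eigenframe of a diagonal matrix. -/
theorem hasFrame_sdm (a b c d : F) :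
    HasFrame q (sdm a b c d) (1 : Matrix (Fin 4) (Fin 4) F) ![a, b, c, d] := by
  refine ⟨fun j => Pi.single j 1, herm_std, ?_⟩
  intro j
  rw [sdm_eq_diagonal, Matrix.diagonal_mulVec_single, mul_one]
  ext r
  simp [Pi.single_apply]

/-- scalars in `SU_4`: fourth power one, norm one. -/
theorem scalar_of_sq {x : GL (Fin 4) F} (hx : x ∈ GU 4 F q ⊓ Geo.specialLinear (Fin 4) F) {z : F}
    {r : ℕ} (hz : ((x ^ r : GL (Fin 4) F) : Matrix (Fin 4) (Fin 4) F) =
      z • (1 : Matrix (Fin 4) (Fin 4) F)) : z ^ 4 = 1 ∧ z * z ^ q = 1 := by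
  have hdet : (x : Matrix (Fin 4) (Fin 4) F).det = 1 :=
    (Cfsg.Agent.Helper7.Ex27.mem_SL_iff x).mp hx.2
  constructor
  · have h1 := congrArg Matrix.det hz
    rw [Units.val_pow_eq_pow_val, Matrix.det_pow, hdet, one_pow, Matrix.det_smul, Matrix.det_one,
      mul_one, Fintype.card_fin] at h1
    exact h1.symm
  · have hU : x ^ r ∈ GU 4 F q := (GU 4 F q).pow_mem hx.1 r
    have h1 : hermForm 4 F q (((x ^ r : GL (Fin 4) F) : Matrix (Fin 4) (Fin 4) F) *ᵥ Pi.single 0 1)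
        (((x ^ r : GL (Fin 4) F) : Matrix (Fin 4) (Fin 4) F) *ᵥ Pi.single 0 1) =
        hermForm 4 F q (Pi.single 0 1) (Pi.single 0 1) := hU _ _
    rw [hz, Matrix.smul_mulVec, Matrix.one_mulVec, hermForm_smul_left, hermForm_smul_right,
      h_single_single, mul_one] at h1
    exact h1

theorem isSquare_of_pow_four (hq4 : q % 4 = 3) (h2 : (2 : F) ≠ 0) {z : F} (hz4 : z ^ 4 = 1) :
    IsSquare z := by
  have hz0 : z ≠ 0 := by
    intro h
    rw [h] at hz4
    simp at hz4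
  have hchar : ringChar F ≠ 2 := by
    intro h
    apply h2
    have := ringChar.Nat.cast_ringChar (R := F)
    rw [h] at this
    exact_mod_cast this
  rw [FiniteField.isSquare_iff hchar hz0, hF.out]
  obtain ⟨k, hk⟩ : ∃ k, q = 4 * k + 3 := ⟨q / 4, by omega⟩
  obtain ⟨m, hm⟩ : ∃ m, q ^ 2 = 8 * m + 1 := ⟨2 * k ^ 2 + 3 * k + 1, by rw [hk]; ring⟩
  have : q ^ 2 / 2 = 4 * m := by omega
  rw [this, pow_mul, hz4, one_pow]

set_option maxHeartbeats 1000000 in
/-- **`r = 2`.** -/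
theorem good_two (hq4 : q % 4 = 3) (h2 : (2 : F) ≠ 0) (i : F) (hi : i ^ 2 = -1) :
    GoodU q 2 (Geo.subgroupNormalizer (R0 i hi)) := by
  intro x hx hxr hns
  obtain ⟨z, hz⟩ := hxr
  obtain ⟨hz4, hzq⟩ := scalar_of_sq hx hz
  have hdet : (x : Matrix (Fin 4) (Fin 4) F).det = 1 :=
    (Cfsg.Agent.Helper7.Ex27.mem_SL_iff x).mp hx.2
  have hxU : ∀ u v, hermForm 4 F q ((x : Matrix (Fin 4) (Fin 4) F) *ᵥ u)
      ((x : Matrix (Fin 4) (Fin 4) F) *ᵥ v) = hermForm 4 F q u v := hx.1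
  have hxx : (x : Matrix (Fin 4) (Fin 4) F) * (x : Matrix (Fin 4) (Fin 4) F) =
      z • (1 : Matrix (Fin 4) (Fin 4) F) := by
    rw [← hz, Units.val_pow_eq_pow_val, pow_two]
  obtain ⟨l, hl⟩ := isSquare_of_pow_four hq4 h2 hz4
  have hl0 : l ≠ 0 := by
    intro h
    rw [h, mul_zero] at hl
    rw [hl] at hz4
    simp at hz4
  -- κ = l^(q+1) = ±1
  have hκ : (l * l ^ q) * (l * l ^ q) = 1 := by
    calc (l * l ^ q) * (l * l ^ q) = (l * l) * (l * l) ^ q := by ring
      _ = 1 := by rw [← hl, hzq]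
  -- the scaled element
  obtain ⟨Y, hY⟩ : ∃ Y : Matrix (Fin 4) (Fin 4) F, Y = l⁻¹ • (x : Matrix (Fin 4) (Fin 4) F) := ⟨_, rfl⟩
  have hYY : Y * Y = 1 := by
    rw [hY, Matrix.smul_mul, Matrix.mul_smul, hxx, smul_smul, smul_smul, hl]
    have : l⁻¹ * l⁻¹ * (l * l) = 1 := by field_simp
    rw [this, one_smul]
  have hYform : ∀ u v, hermForm 4 F q (Y *ᵥ u) (Y *ᵥ v) = (l * l ^ q)⁻¹ * hermForm 4 F q u v := by
    intro u v
    rw [hY, Matrix.smul_mulVec, Matrix.smul_mulVec, hermForm_smul_left, hermForm_smul_right, hxU,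
      inv_pow, mul_inv, mul_assoc]
  have hYdet : Y.det = (l⁻¹) ^ 4 := by
    rw [hY, Matrix.det_smul, hdet, mul_one, Fintype.card_fin]
  rcases sign_cases hκ with h1 | h1
  · -- unitary involution
    have hYU : ∀ u v, hermForm 4 F q (Y *ᵥ u) (Y *ᵥ v) = hermForm 4 F q u v := by
      intro u v
      rw [hYform, h1, inv_one, one_mul]
    obtain ⟨s, hs, hframe⟩ := frame_of_invol h2 Y hYU hYY
    have hs' : ∀ j, s j * s j = 1 := by
      intro j
      rcases hs j with h | h <;> rw [h] <;> ring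
    -- the unit y with matrix Y
    obtain ⟨y, hy⟩ : ∃ y : GL (Fin 4) F, (y : Matrix (Fin 4) (Fin 4) F) = Y :=
      ⟨⟨Y, Y, hYY, hYY⟩, rfl⟩
    have hs4 : (![s 0, s 1, s 2, s 3] : Fin 4 → F) = s := by
      ext j; fin_cases j <;> rfl
    have hframe' : HasFrame q ((sdg (s 0) (s 1) (s 2) (s 3) (hs' 0) (hs' 1) (hs' 2) (hs' 3) :
        GL (Fin 4) F) : Matrix (Fin 4) (Fin 4) F) (1 : Matrix (Fin 4) (Fin 4) F) s := by
      rw [sdg_val]
      have := hasFrame_sdm (q := q) (s 0) (s 1) (s 2) (s 3)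
      rwa [hs4] at this
    rw [← hy] at hframe
    obtain ⟨g, hg, hconj⟩ := hframe.conj hframe' (by rw [Matrix.det_one]; exact one_ne_zero)
      adj_one
    refine ⟨g, hg, ?_⟩
    have hxy : x = scg (Units.mk0 l hl0) * y := by
      apply Units.ext
      rw [Units.val_mul, scg_val, hy, hY, Units.val_mk0, Matrix.smul_mul, Matrix.one_mul, smul_smul,
        mul_inv_cancel₀ hl0, one_smul]
    have e : g⁻¹ * x * g = scg (Units.mk0 l hl0) * (g⁻¹ * y * g) := by
      rw [hxy, ← mul_assoc, ← scg_comm]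
      simp only [mul_assoc]
    rw [e, hconj]
    exact Subgroup.mul_mem _ (scg_mem_normalizer _ _) (sdg_mem_normalizer i hi _ _ _ _ _ _ _ _)
  · -- impossible
    exfalso
    have hYU : ∀ u v, hermForm 4 F q (Y *ᵥ u) (Y *ᵥ v) = -hermForm 4 F q u v := by
      intro u v
      rw [hYform, h1]
      have : (-1 : F)⁻¹ = -1 := by rw [inv_neg, inv_one]
      rw [this]; ring
    have hframe := frame_of_antiinvol h2 Y hYU hYY
    have hd := hframe.det_eq J3m_det
    rw [hYdet, Fin.prod_univ_four] at hd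
    simp only [Matrix.cons_val_zero, Matrix.cons_val_one, Matrix.cons_val] at hd
    have hl4 : l ^ 4 = 1 := by
      have h' : (l⁻¹) ^ 4 = 1 := by rw [hd]; ring
      rw [inv_pow] at h'
      exact inv_eq_one.mp h'
    obtain ⟨m, hm⟩ : ∃ m, q + 1 = 4 * m := ⟨(q + 1) / 4, by omega⟩
    have hκ1 : l * l ^ q = 1 := by
      rw [← pow_succ', hm, pow_mul, hl4, one_pow]
    rw [hκ1] at h1
    apply h2
    linear_combination h1

end Cfsg.Agent.Helper9.U4
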