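import Mathlib
import Cfsg.Agent.Helper9.U4ModelA

set_option autoImplicit false
set_option linter.unusedSectionVars false

/-!
S6001: an explicit unitary element `M5` of order 5 of the normalizer of the standard group `R0`.
-/

namespace Cfsg.Agent.Helper9.U4

open Matrix Cfsg Cfsg.Agent.Helper8.GUOrder Cfsg.Agent.Helper8.AutSU Cfsg.Agent.Helper2.SymT

variable {F : Type*} [Field F] [Fintype F] {q : ℕ} [hF : Fact (Fintype.card F = q ^ 2)]

/-- an element of order 5 normalizing `R0`. -/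
def M5m (i : F) : Matrix (Fin 4) (Fin 4) F :=
  (2 : F)⁻¹ • !![-1 + i, 0, 0, -1 - i; 0, -1 - i, 1 - i, 0; -1 + i, 0, 0, 1 + i; 0, -1 - i, -1 + i, 0]

/-- the inverse (conjugate transpose) of `M5m`. -/
def M5h (i : F) : Matrix (Fin 4) (Fin 4) F :=
  (2 : F)⁻¹ • !![-1 - i, 0, -1 - i, 0; 0, -1 + i, 0, -1 + i; 0, 1 + i, 0, -1 - i; -1 + i, 0, 1 - i, 0]

/-- the square of `M5m`. -/
def M5sq (i : F) : Matrix (Fin 4) (Fin 4) F :=
  (2 : F)⁻¹ • !![-i, i, 1, 1; i, i, -1, 1; -i, -i, -1, 1; -i, i, -1, -1]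

/-- the cube of `M5m`. -/
def M5cu (i : F) : Matrix (Fin 4) (Fin 4) F :=
  (2 : F)⁻¹ • !![i, -i, i, i; -i, -i, i, -i; 1, -1, -1, -1; 1, 1, 1, -1]

theorem M5m_mul_M5h (i : F) (hi : i ^ 2 = -1) (h2 : (2 : F) ≠ 0) : M5m i * M5h i = 1 := by
  ext a b
  fin_cases a <;> fin_cases b <;>
    simp [M5m, M5h, Matrix.mul_apply, Fin.sum_univ_four] <;> grind

theorem M5h_mul_M5m (i : F) (hi : i ^ 2 = -1) (h2 : (2 : F) ≠ 0) : M5h i * M5m i = 1 := by
  ext a b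
  fin_cases a <;> fin_cases b <;>
    simp [M5m, M5h, Matrix.mul_apply, Fin.sum_univ_four] <;> grind

theorem M5m_sq (i : F) (hi : i ^ 2 = -1) (h2 : (2 : F) ≠ 0) : M5m i * M5m i = M5sq i := by
  ext a b
  fin_cases a <;> fin_cases b <;>
    simp [M5m, M5sq, Matrix.mul_apply, Fin.sum_univ_four] <;> grind

theorem M5m_cu (i : F) (hi : i ^ 2 = -1) (h2 : (2 : F) ≠ 0) : M5sq i * M5m i = M5cu i := by
  ext a b
  fin_cases a <;> fin_cases b <;>
    simp [M5m, M5sq, M5cu, Matrix.mul_apply, Fin.sum_univ_four] <;> grind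

theorem M5m_five (i : F) (hi : i ^ 2 = -1) (h2 : (2 : F) ≠ 0) : M5sq i * M5cu i = 1 := by
  ext a b
  fin_cases a <;> fin_cases b <;>
    simp [M5sq, M5cu, Matrix.mul_apply, Fin.sum_univ_four] <;> grind

theorem sig_M5m {i : F} (hiq : i ^ q = -i) : sig q (M5m i) = (M5h i)ᵀ := by
  have hfi := frobq_i hiq
  have hf2 : frobq F q 2 = 2 := map_ofNat _ 2
  ext a b
  fin_cases a <;> fin_cases b <;> simp [M5m, M5h, sig_eq, hfi, hf2] <;> grind

/-- `M5` as an element of `GL_4(F)`. -/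
def M5g (i : F) (hi : i ^ 2 = -1) (h2 : (2 : F) ≠ 0) : GL (Fin 4) F :=
  ⟨M5m i, M5h i, M5m_mul_M5h i hi h2, M5h_mul_M5m i hi h2⟩

@[simp] theorem M5g_val (i : F) (hi : i ^ 2 = -1) (h2 : (2 : F) ≠ 0) :
    ((M5g i hi h2 : GL (Fin 4) F) : Matrix (Fin 4) (Fin 4) F) = M5m i := rfl

theorem M5g_mem_GU {i : F} (hi : i ^ 2 = -1) (h2 : (2 : F) ≠ 0) (hiq : i ^ q = -i) :
    M5g i hi h2 ∈ GU 4 F q := by
  rw [mem_GU_iff_sig, M5g_val, sig_M5m hiq, ← Matrix.transpose_mul, M5h_mul_M5m i hi h2,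
    Matrix.transpose_one]

theorem M5g_pow_five (i : F) (hi : i ^ 2 = -1) (h2 : (2 : F) ≠ 0) : M5g i hi h2 ^ 5 = 1 := by
  apply Units.ext
  rw [Units.val_pow_eq_pow_val, M5g_val, Units.val_one]
  have e : M5m i ^ 5 = (M5m i * M5m i) * ((M5m i * M5m i) * M5m i) := by
    simp only [pow_succ, pow_zero, one_mul, Matrix.mul_assoc]
  rw [e, M5m_sq i hi h2, M5m_cu i hi h2, M5m_five i hi h2]

theorem M5g_ne_one (i : F) (hi : i ^ 2 = -1) (h2 : (2 : F) ≠ 0) : M5g i hi h2 ≠ 1 := by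
  intro h
  have h1 := congrArg (fun g : GL (Fin 4) F => (g : Matrix (Fin 4) (Fin 4) F) 0 3) h
  simp [M5m] at h1
  rcases h1 with h1 | h1
  · exact h2 h1
  · exact neg_one_sub_i_ne_zero hi h2 h1

theorem M5g_orderOf (i : F) (hi : i ^ 2 = -1) (h2 : (2 : F) ≠ 0) : orderOf (M5g i hi h2) = 5 := by
  haveI : Fact (Nat.Prime 5) := ⟨by norm_num⟩
  exact orderOf_eq_prime (M5g_pow_five i hi h2) (M5g_ne_one i hi h2)

/-! ### the conjugation relations -/

theorem M5_B1 (i : F) : M5m i * B1m = (B1m * C2m) * M5m i := by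
  ext a b; fin_cases a <;> fin_cases b <;>
    simp [M5m, B1m, C2m, Matrix.mul_apply, Fin.sum_univ_four] <;> ring

theorem M5_C1 (i : F) (hi : i ^ 2 = -1) : M5m i * C1m = (i ^ 3 • (B1m * C1m)) * M5m i := by
  ext a b; fin_cases a <;> fin_cases b <;>
    simp [M5m, B1m, C1m, Matrix.mul_apply, Fin.sum_univ_four] <;> grind

theorem M5_B2 (i : F) : M5m i * B2m = C2m * M5m i := by
  ext a b; fin_cases a <;> fin_cases b <;>
    simp [M5m, B2m, C2m, Matrix.mul_apply, Fin.sum_univ_four] <;> ring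

theorem M5_C2 (i : F) : M5m i * C2m = (B1m * C1m * B2m * C2m) * M5m i := by
  ext a b; fin_cases a <;> fin_cases b <;>
    simp [M5m, B1m, C1m, B2m, C2m, Matrix.mul_apply, Fin.sum_univ_four] <;> ring

theorem M5g_mem_normalizer (i : F) (hi : i ^ 2 = -1) (h2 : (2 : F) ≠ 0) :
    M5g i hi h2 ∈ Subgroup.normalizer (R0 i hi : Set (GL (Fin 4) F)) := by
  apply mem_normalizer_R0
  · rw [conj_eq_of_rel (r := B1g * C2g) (M5_B1 i)]
    exact mul_mem (B1g_mem i hi) (C2g_mem i hi)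
  · rw [conj_eq_of_rel (r := scg (iu i hi ^ 3) * (B1g * C1g)) (by
      rw [Units.val_mul, Units.val_mul, scg_val, Units.val_pow_eq_pow_val, iu_val, Matrix.smul_mul,
        Matrix.one_mul]
      exact M5_C1 i hi)]
    refine mul_mem ?_ (mul_mem (B1g_mem i hi) (C1g_mem i hi))
    rw [← scg_pow]
    exact Subgroup.pow_mem _ (scg_i_mem i hi) 3
  · rw [conj_eq_of_rel (r := C2g) (M5_B2 i)]
    exact C2g_mem i hi
  · rw [conj_eq_of_rel (r := B1g * C1g * B2g * C2g) (M5_C2 i)]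
    exact mul_mem (mul_mem (mul_mem (B1g_mem i hi) (C1g_mem i hi)) (B2g_mem i hi)) (C2g_mem i hi)

end Cfsg.Agent.Helper9.U4
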