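import Mathlib
import Cfsg.Agent.Helper9.U4GoodTwo
import Cfsg.Agent.Helper9.U4ModelB

set_option autoImplicit false
set_option linter.unusedSectionVars false

/-!
S6001: elements of `SU_4(q)` whose cube (`q ≡ 1 mod 3`) or fifth power (`q` of order 4 modulo 5) is
scalar are `SU_4(q)`-conjugate into the normalizer of the standard group `R0`.
-/

namespace Cfsg.Agent.Helper9.U4

open Matrix Module Cfsg Cfsg.Agent.Helper7.Herm Cfsg.Agent.Helper8.GUOrder Cfsg.Agent.Helper8.AutSU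
  Cfsg.Agent.Helper2.SymT

variable {F : Type*} [Field F] [Fintype F] {q : ℕ} [hF : Fact (Fintype.card F = q ^ 2)]

/-- a primitive cube root of unity in `F_q`. -/
theorem exists_omega (hq3 : q % 3 = 1) : ∃ ω : F, ω ^ 2 + ω + 1 = 0 ∧ ω ^ q = ω := by
  haveI : Fact (Nat.Prime 3) := ⟨by norm_num⟩
  have hcard : Nat.card Fˣ = q ^ 2 - 1 := card_units_K hF.out
  obtain ⟨k, hk⟩ : ∃ k, q = 3 * k + 1 := ⟨q / 3, by omega⟩
  have hdvd : 3 ∣ Nat.card Fˣ := by
    rw [hcard, qsq_sub_one hF.out]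
    exact Dvd.dvd.mul_right ⟨k, by omega⟩ _
  obtain ⟨w, hw⟩ := exists_prime_orderOf_dvd_card' (G := Fˣ) 3 hdvd
  have hw3 : (w : F) ^ 3 = 1 := by
    rw [← Units.val_pow_eq_pow_val, ← hw, pow_orderOf_eq_one, Units.val_one]
  have hw1 : (w : F) ≠ 1 := by
    intro h
    have : w = 1 := Units.ext h
    rw [this, orderOf_one] at hw
    norm_num at hw
  refine ⟨(w : F), ?_, ?_⟩
  · have : ((w : F) - 1) * ((w : F) ^ 2 + (w : F) + 1) = 0 := by linear_combination hw3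
    exact (mul_eq_zero.mp this).resolve_left (sub_ne_zero.mpr hw1)
  · rw [hk, pow_succ, pow_mul, hw3, one_pow, one_mul]

theorem cube_trace_cases (ω : F) (hω : ω ^ 2 + ω + 1 = 0) (hωq : ω ^ q = ω) (h3 : (3 : F) ≠ 0)
    (Y : Matrix (Fin 4) (Fin 4) F)
    (hYU : ∀ u v, hermForm 4 F q (Y *ᵥ u) (Y *ᵥ v) = hermForm 4 F q u v) (hY : Y ^ 3 = 1) :
    Y = 1 ∨ Y.trace = 1 ∨ Y.trace = -2 := by
  rcases frame_of_cube ω hω hωq h3 Y hYU hY with h | h | h
  · exact Or.inl h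
  · right; left
    rw [h.trace_eq J2m_det, Fin.sum_univ_four]
    simp only [Matrix.cons_val_zero, Matrix.cons_val_one, Matrix.cons_val]
    linear_combination hω
  · right; right
    rw [h.trace_eq J3m_det, Fin.sum_univ_four]
    simp only [Matrix.cons_val_zero, Matrix.cons_val_one, Matrix.cons_val]
    linear_combination 2 * hω

/-- multiplying by a scalar of norm one stays in `GU`. -/
theorem scg_mem_GU (c : Fˣ) (hc : (c : F) * (c : F) ^ q = 1) : scg c ∈ GU 4 F q := by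
  intro u v
  change hermForm 4 F q (((scg c : GL (Fin 4) F) : Matrix (Fin 4) (Fin 4) F) *ᵥ u)
    (((scg c : GL (Fin 4) F) : Matrix (Fin 4) (Fin 4) F) *ᵥ v) = hermForm 4 F q u v
  rw [scg_val, Matrix.smul_mulVec, Matrix.smul_mulVec, Matrix.one_mulVec, Matrix.one_mulVec,
    hermForm_smul_left, hermForm_smul_right, ← mul_assoc, hc, one_mul]

set_option maxHeartbeats 1000000 in
/-- **`r = 3`, `q ≡ 1 (mod 3)`.** -/
theorem good_three (hq3 : q % 3 = 1) (h2 : (2 : F) ≠ 0) (h3 : (3 : F) ≠ 0) (i : F)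
    (hi : i ^ 2 = -1) (hiq : i ^ q = -i) :
    GoodU q 3 (Geo.subgroupNormalizer (R0 i hi)) := by
  intro x hx hxr hns
  obtain ⟨z, hz⟩ := hxr
  obtain ⟨hz4, hzq⟩ := scalar_of_sq hx hz
  obtain ⟨ω, hω, hωq⟩ := exists_omega (F := F) hq3
  have hz0 : z ≠ 0 := by
    intro h
    rw [h] at hz4
    simp at hz4
  -- y = z • x has cube one
  obtain ⟨y, hy⟩ : ∃ y : GL (Fin 4) F, y = scg (Units.mk0 z hz0) * x := ⟨_, rfl⟩
  have hyU : y ∈ GU 4 F q := by
    rw [hy]
    exact (GU 4 F q).mul_mem (scg_mem_GU _ hzq) hx.1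
  have hy3 : y ^ 3 = 1 := by
    rw [hy, (show Commute (scg (Units.mk0 z hz0)) x from scg_comm _ _).mul_pow, scg_pow]
    apply Units.ext
    rw [Units.val_mul, scg_val, hz, Units.val_pow_eq_pow_val, Units.val_mk0, Matrix.smul_mul,
      Matrix.one_mul, smul_smul, Units.val_one]
    have : z ^ 3 * z = 1 := by rw [← pow_succ]; exact hz4
    rw [this, one_smul]
  have hym : (y : Matrix (Fin 4) (Fin 4) F) ^ 3 = 1 := by
    rw [← Units.val_pow_eq_pow_val, hy3, Units.val_one]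
  have hxy : x = scg (Units.mk0 z hz0)⁻¹ * y := by
    rw [hy, ← mul_assoc, scg_mul, inv_mul_cancel, scg_one, one_mul]
  have key : ∀ m : GL (Fin 4) F, m ∈ Subgroup.normalizer (R0 i hi : Set (GL (Fin 4) F)) →
      (∃ g ∈ GU 4 F q ⊓ Geo.specialLinear (Fin 4) F, g⁻¹ * y * g = m) →
      ∃ g ∈ GU 4 F q ⊓ Geo.specialLinear (Fin 4) F,
        g⁻¹ * x * g ∈ Geo.subgroupNormalizer (R0 i hi) := by
    rintro m hm ⟨g, hg, hconj⟩
    refine ⟨g, hg, ?_⟩
    have e : g⁻¹ * x * g = scg (Units.mk0 z hz0)⁻¹ * (g⁻¹ * y * g) := by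
      rw [hxy, ← mul_assoc, ← scg_comm]
      simp only [mul_assoc]
    rw [e, hconj]
    exact Subgroup.mul_mem _ (scg_mem_normalizer _ _) hm
  rcases cube_trace_cases ω hω hωq h3 (y : Matrix (Fin 4) (Fin 4) F) hyU hym with h | h | h
  · exfalso
    apply hns z⁻¹
    have : y = 1 := Units.ext h
    rw [hxy, this, mul_one, scg_val, Units.val_inv_eq_inv_val, Units.val_mk0]
  · apply key P3g (P3g_mem_normalizer i hi)
    exact conj_of_cube ω hω hωq h2 h3 y P3g hyU P3g_mem_GU hy3 P3g_cube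
      (by rw [h, P3g_val, P3m_trace])
  · apply key (T3g i hi h2) (T3g_mem_normalizer i hi h2)
    exact conj_of_cube ω hω hωq h2 h3 y (T3g i hi h2) hyU (T3g_mem_GU hi h2 hiq) hy3
      (T3g_cube i hi h2) (by rw [h, T3g_val, T3m_trace i h2])

end Cfsg.Agent.Helper9.U4
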