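import Mathlib
import Cfsg.Agent.Helper9.U4GoodThree
import Cfsg.Agent.Helper9.U4FpfB

set_option autoImplicit false
set_option linter.unusedSectionVars false

/-!
S6001: elements of `SU_4(q)` whose fifth power is scalar (`q` of order 4 modulo 5) are
`SU_4(q)`-conjugate into the normalizer of the standard group `R0`.
-/

namespace Cfsg.Agent.Helper9.U4

open Matrix Module Cfsg Cfsg.Agent.Helper7.Herm Cfsg.Agent.Helper8.GUOrder Cfsg.Agent.Helper8.AutSU
  Cfsg.Agent.Helper2.SymT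

variable {F : Type*} [Field F] [Fintype F] {q : ℕ} [hF : Fact (Fintype.card F = q ^ 2)]

theorem det_GU_norm4 {g : GL (Fin 4) F} (hg : g ∈ GU 4 F q) :
    (g : Matrix (Fin 4) (Fin 4) F).det ^ (q + 1) = 1 := by
  have h := (mem_GU_iff_sig g).mp hg
  have h2 := congrArg Matrix.det h
  rw [Matrix.det_mul, Matrix.det_transpose, det_sig, Matrix.det_one] at h2
  rw [pow_succ']
  exact h2

theorem coprime_five_of_order (hq5 : orderOf (q : ZMod 5) = 4) : Nat.Coprime 5 (q + 1) := by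
  rw [Nat.Prime.coprime_iff_not_dvd (by norm_num : Nat.Prime 5)]
  · intro hdvd
    have h1 : ((q + 1 : ℕ) : ZMod 5) = 0 := (ZMod.natCast_eq_zero_iff _ _).mpr hdvd
    have h2 : (q : ZMod 5) = -1 := by
      push_cast at h1
      exact eq_neg_of_add_eq_zero_left h1
    have h3 : (q : ZMod 5) ^ 2 = 1 := by rw [h2]; ring
    have := orderOf_dvd_of_pow_eq_one h3
    rw [hq5] at this
    norm_num at this

/-- the order-5 element of `N(R0)` lies in `SU_4`. -/
theorem M5g_mem_SU (hq5 : orderOf (q : ZMod 5) = 4) {i : F} (hi : i ^ 2 = -1) (h2 : (2 : F) ≠ 0)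
    (hiq : i ^ q = -i) : M5g i hi h2 ∈ GU 4 F q ⊓ Geo.specialLinear (Fin 4) F := by
  refine ⟨M5g_mem_GU hi h2 hiq, ?_⟩
  change M5g i hi h2 ∈ Geo.specialLinear (Fin 4) F
  rw [Cfsg.Agent.Helper7.Ex27.mem_SL_iff]
  have h1 := det_GU_norm4 (M5g_mem_GU (q := q) hi h2 hiq)
  have h5 : (M5g i hi h2 : Matrix (Fin 4) (Fin 4) F).det ^ 5 = 1 := by
    rw [← Matrix.det_pow, ← Units.val_pow_eq_pow_val, M5g_pow_five, Units.val_one, Matrix.det_one]
  have := pow_gcd_eq_one.mpr ⟨h5, h1⟩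
  rw [Nat.Coprime.gcd_eq_one (coprime_five_of_order hq5), pow_one] at this
  exact this

set_option maxHeartbeats 1000000 in
/-- **`r = 5`, `q` of order 4 modulo 5.** -/
theorem good_five (hq5 : orderOf (q : ZMod 5) = 4) (h2 : (2 : F) ≠ 0) (i : F)
    (hi : i ^ 2 = -1) (hiq : i ^ q = -i) :
    GoodU q 5 (Geo.subgroupNormalizer (R0 i hi)) := by
  intro x hx hxr hns
  obtain ⟨z, hz⟩ := hxr
  obtain ⟨hz4, hzq⟩ := scalar_of_sq hx hz
  have hz0 : z ≠ 0 := by
    intro h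
    rw [h] at hz4
    simp at hz4
  have hdet : (x : Matrix (Fin 4) (Fin 4) F).det = 1 :=
    (Cfsg.Agent.Helper7.Ex27.mem_SL_iff x).mp hx.2
  -- y = z⁻¹ • x has fifth power one
  obtain ⟨y, hy⟩ : ∃ y : GL (Fin 4) F, y = scg (Units.mk0 z hz0)⁻¹ * x := ⟨_, rfl⟩
  have hzinv : ((((Units.mk0 z hz0)⁻¹ : Fˣ) : Fˣ) : F) = z⁻¹ := by
    rw [Units.val_inv_eq_inv_val, Units.val_mk0]
  have hyU : y ∈ GU 4 F q := by
    rw [hy]
    refine (GU 4 F q).mul_mem (scg_mem_GU _ ?_) hx.1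
    rw [hzinv, inv_pow, ← mul_inv, hzq, inv_one]
  have hyS : y ∈ Geo.specialLinear (Fin 4) F := by
    rw [Cfsg.Agent.Helper7.Ex27.mem_SL_iff, hy, Units.val_mul, scg_val, hzinv, Matrix.smul_mul,
      Matrix.one_mul, Matrix.det_smul, hdet, mul_one, Fintype.card_fin, inv_pow, hz4, inv_one]
  have hy5 : y ^ 5 = 1 := by
    rw [hy, (show Commute (scg (Units.mk0 z hz0)⁻¹) x from scg_comm _ _).mul_pow, scg_pow]
    apply Units.ext
    rw [Units.val_mul, scg_val, hz, Units.val_pow_eq_pow_val, hzinv, Matrix.smul_mul,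
      Matrix.one_mul, smul_smul, Units.val_one]
    have : z⁻¹ ^ 5 * z = 1 := by
      have h5 : z ^ 5 = z := by rw [pow_succ, hz4, one_mul]
      rw [inv_pow, h5, inv_mul_cancel₀ hz0]
    rw [this, one_smul]
  have hxy : x = scg (Units.mk0 z hz0) * y := by
    rw [hy, ← mul_assoc, scg_mul, mul_inv_cancel, scg_one, one_mul]
  have hy1 : y ≠ 1 := by
    intro h
    apply hns z
    rw [hxy, h, mul_one, scg_val, Units.val_mk0]
  obtain ⟨g, hg, k, hconj⟩ := conj_pow_of_order_five_U hq5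
    (GU 4 F q ⊓ Geo.specialLinear (Fin 4) F) inf_le_left (x := y) (y := M5g i hi h2)
    ⟨hyU, hyS⟩ (M5g_mem_SU hq5 hi h2 hiq) (M5g_orderOf i hi h2) hy5 hy1
  refine ⟨g, hg, ?_⟩
  have e : g⁻¹ * x * g = scg (Units.mk0 z hz0) * (g⁻¹ * y * g) := by
    rw [hxy, ← mul_assoc, ← scg_comm]
    simp only [mul_assoc]
  rw [e, hconj]
  exact Subgroup.mul_mem _ (scg_mem_normalizer _ _)
    (Subgroup.pow_mem _ (M5g_mem_normalizer i hi h2) k)

end Cfsg.Agent.Helper9.U4
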