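import Mathlib
import Cfsg.Agent.Helper9.S4ObsE
import Cfsg.Agent.Helper9.U4Transport
import Cfsg.Agent.Helper9.U4GoodFive

set_option autoImplicit false
set_option linter.unusedSectionVars false
open scoped MatrixGroups

/-!
S6001, `⇒` direction: primes `r ≥ 7` and the characteristic `p = 3`.
-/

namespace Cfsg.Agent.Helper9.U4

open Matrix Cfsg Cfsg.Agent.Helper9.S4 Cfsg.Agent.Helper7.Herm Cfsg.Agent.Helper8.GUOrder
  Cfsg.Agent.Helper8.AutSU

variable {F : Type*} [Field F] [Fintype F]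

/-- conjugates of non-scalar matrices are not scalar. -/
theorem not_scalar_conj {x g : GL (Fin 4) F}
    (hns : ∀ z : F, (x : Matrix (Fin 4) (Fin 4) F) ≠ z • (1 : Matrix (Fin 4) (Fin 4) F)) :
    ∀ z : F, ((g⁻¹ * x * g : GL (Fin 4) F) : Matrix (Fin 4) (Fin 4) F) ≠
      z • (1 : Matrix (Fin 4) (Fin 4) F) := by
  intro z hz
  apply hns z
  have := conj_scalar4 g⁻¹ _ z hz
  rw [inv_inv] at this
  rw [← this]
  congr 1
  group

/-- **`r ≥ 7`.** -/
theorem not_good_large {q : ℕ} (h2 : (2 : F) ≠ 0) (R : Subgroup (GL (Fin 4) F)) (D : S4Data R)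
    (r : ℕ) [hr : Fact r.Prime] (hr2 : r ≠ 2) (hr3 : r ≠ 3) (hr5 : r ≠ 5)
    (hdvd : r ∣ Nat.card (GU 4 F q ⊓ Geo.specialLinear (Fin 4) F : Subgroup (GL (Fin 4) F))) :
    ¬ GoodU q r (Geo.subgroupNormalizer R) := by
  intro hgood
  haveI : Finite (GL (Fin 4) F) := Finite.of_injective
    (fun g : GL (Fin 4) F => (g : Matrix (Fin 4) (Fin 4) F)) Units.val_injective
  obtain ⟨x, hx⟩ := exists_prime_orderOf_dvd_card'
    (G := (GU 4 F q ⊓ Geo.specialLinear (Fin 4) F : Subgroup (GL (Fin 4) F))) r hdvd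
  have hxr : (x : GL (Fin 4) F) ^ r = 1 := by
    have := pow_orderOf_eq_one x
    rw [hx] at this
    have := congrArg (fun t : (GU 4 F q ⊓ Geo.specialLinear (Fin 4) F : Subgroup (GL (Fin 4) F)) =>
      (t : GL (Fin 4) F)) this
    simpa using this
  have hx1 : (x : GL (Fin 4) F) ≠ 1 := by
    intro h
    have : x = 1 := Subtype.ext h
    rw [this, orderOf_one] at hx
    exact hr.out.one_lt.ne hx
  have hdet : ((x : GL (Fin 4) F) : Matrix (Fin 4) (Fin 4) F).det = 1 :=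
    (Cfsg.Agent.Helper7.Ex27.mem_SL_iff _).mp x.2.2
  have hns : ∀ z : F, ((x : GL (Fin 4) F) : Matrix (Fin 4) (Fin 4) F) ≠
      z • (1 : Matrix (Fin 4) (Fin 4) F) := by
    intro z hz
    have h4 : z ^ 4 = 1 := by
      rw [hz, Matrix.det_smul, Matrix.det_one, mul_one, Fintype.card_fin] at hdet
      exact hdet
    have hzr : z ^ r = 1 := by
      have := congrArg (fun t : GL (Fin 4) F => (t : Matrix (Fin 4) (Fin 4) F)) hxr
      simp only [Units.val_pow_eq_pow_val, Units.val_one] at this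
      rw [hz, smul_pow, one_pow] at this
      have h00 := congrFun (congrFun this 0) 0
      simpa using h00
    have hcop : Nat.Coprime 4 r := by
      have : Nat.Coprime 2 r := (Nat.coprime_primes Nat.prime_two hr.out).mpr (Ne.symm hr2)
      exact Nat.Coprime.pow_left 2 this
    have h1 := pow_gcd_eq_one.mpr ⟨h4, hzr⟩
    rw [Nat.Coprime.gcd_eq_one hcop, pow_one] at h1
    apply hx1
    apply Units.ext
    rw [hz, h1, one_smul, Units.val_one]
  obtain ⟨g, -, hgN⟩ := hgood (x : GL (Fin 4) F) x.2 ⟨1, by rw [hxr, Units.val_one, one_smul]⟩ hns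
  have hpow : ((g⁻¹ * (x : GL (Fin 4) F) * g) ^ r : GL (Fin 4) F) = 1 := by
    have := conj_pow (a := g⁻¹) (b := (x : GL (Fin 4) F)) (i := r)
    rw [inv_inv] at this
    rw [this, hxr]
    group
  obtain ⟨c, hc⟩ := D.scalar_of_pow_prime h2 hgN hr2 hr3 hr5 (z := 1)
    (by rw [hpow, Units.val_one, one_smul])
  exact not_scalar_conj hns c hc

/-- **`r = p = 3`.** -/
theorem not_good_three_char [CharP F 3] (hF : Fintype.card F = 3 ^ 2)
    (R : Subgroup (GL (Fin 4) F)) (D : S4Data R) :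
    ¬ GoodU 3 3 (Geo.subgroupNormalizer R) := by
  intro hgood
  haveI : Fact (Fintype.card F = 3 ^ 2) := ⟨hF⟩
  have h3 : (3 : F) = 0 := by
    have := CharP.cast_eq_zero F 3
    exact_mod_cast this
  have h2 : (2 : F) ≠ 0 := by
    intro h
    have h1 : (1 : F) = 0 := by linear_combination h3 - h
    exact one_ne_zero h1
  -- an isotropic vector
  obtain ⟨a, ha⟩ := exists_norm hF (c := (-1 : F)) (neg_ne_zero.mpr one_ne_zero)
    (neg_one_pow_q hF)
  obtain ⟨v, hv⟩ : ∃ v : Fin 4 → F, v = ![1, a, 0, 0] := ⟨_, rfl⟩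
  have hvv : hermForm 4 F 3 v v = 0 := by
    rw [hv]
    unfold hermForm
    rw [Fin.sum_univ_four]
    simp only [Matrix.cons_val_zero, Matrix.cons_val_one, Matrix.cons_val]
    rw [ha]
    ring
  -- a trace-zero scalar
  obtain ⟨a', ha'⟩ := exists_not_fixed hF (K := F)
  obtain ⟨c, hc⟩ : ∃ c : F, c = a' - a' ^ 3 := ⟨_, rfl⟩
  have hc0 : c ≠ 0 := by rw [hc]; exact sub_ne_zero.mpr (Ne.symm ha')
  have hcq : c ^ 3 + c = 0 := by
    rw [hc, sub_pow_q hF, pow_q_pow_q hF]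
    ring
  have hcond : c ^ 3 + c + c * c ^ 3 * hermForm 4 F 3 v v = 0 := by
    rw [hvv, mul_zero, add_zero, hcq]
  obtain ⟨x, hxdef⟩ : ∃ x : GL (Fin 4) F, x = TG v c hcond := ⟨_, rfl⟩
  have hxU : x ∈ GU 4 F 3 := by rw [hxdef]; exact TG_mem hF v c hcond
  have hxval : (x : Matrix (Fin 4) (Fin 4) F) = unitaryTransvection 4 3 v c := by rw [hxdef]; rfl
  -- x³ = 1
  have hx3 : x ^ 3 = 1 := by
    apply Units.ext
    rw [Units.val_pow_eq_pow_val, hxval, Units.val_one, pow_succ, pow_two, T_mul_T, T_mul_T, hvv,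
      mul_zero, mul_zero, add_zero, add_zero]
    have : c + (c + c) = 0 := by linear_combination c * h3
    rw [this, T_zero]
  -- determinant one
  have hdet : (x : Matrix (Fin 4) (Fin 4) F).det = 1 := by
    have h1 := det_GU_norm4 hxU
    have h5 : (x : Matrix (Fin 4) (Fin 4) F).det ^ 3 = 1 := by
      rw [← Matrix.det_pow, ← Units.val_pow_eq_pow_val, hx3, Units.val_one, Matrix.det_one]
    have := pow_gcd_eq_one.mpr ⟨h5, h1⟩
    simpa using this
  have hxS : x ∈ GU 4 F 3 ⊓ Geo.specialLinear (Fin 4) F :=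
    ⟨hxU, (Cfsg.Agent.Helper7.Ex27.mem_SL_iff x).mpr hdet⟩
  -- the rank one form of x
  obtain ⟨u, hu⟩ : ∃ u : Fin 4 → F, u = c • v := ⟨_, rfl⟩
  obtain ⟨φ, hφ⟩ : ∃ φ : Fin 4 → F, φ = fun j => v j ^ 3 := ⟨_, rfl⟩
  have hxN : (x : Matrix (Fin 4) (Fin 4) F) = 1 + Matrix.vecMulVec u φ := by
    rw [hxval, hu, hφ, Matrix.smul_vecMulVec]
    rfl
  have hφu : φ ⬝ᵥ u = 0 := by
    rw [hu, hφ, dotProduct_smul, dotProduct_comm]
    change c • hermForm 4 F 3 v v = 0
    rw [hvv, smul_zero]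
  -- x is not scalar
  have hx00 : (x : Matrix (Fin 4) (Fin 4) F) 0 1 = c * a ^ 3 := by
    rw [hxN, Matrix.add_apply, Matrix.one_apply_ne (by decide), zero_add, Matrix.vecMulVec_apply,
      hu, hφ, hv]
    simp
  have ha0 : a ≠ 0 := by
    intro h
    rw [h] at ha
    simp at ha
  have hns : ∀ z : F, (x : Matrix (Fin 4) (Fin 4) F) ≠ z • (1 : Matrix (Fin 4) (Fin 4) F) := by
    intro z hz
    have h01 := hx00
    rw [hz, Matrix.smul_apply, Matrix.one_apply_ne (by decide), smul_zero] at h01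
    rcases mul_eq_zero.mp h01.symm with h | h
    · exact hc0 h
    · exact ha0 (pow_eq_zero_iff (n := 3) (by norm_num) |>.mp h)
  obtain ⟨g, -, hgN⟩ := hgood x hxS ⟨1, by rw [hx3, Units.val_one, one_smul]⟩ hns
  have hconjN : ((g⁻¹ * x * g : GL (Fin 4) F) : Matrix (Fin 4) (Fin 4) F) =
      1 + Matrix.vecMulVec (((g⁻¹ : GL (Fin 4) F) : Matrix (Fin 4) (Fin 4) F) *ᵥ u)
        (φ ᵥ* (g : Matrix (Fin 4) (Fin 4) F)) := by
    rw [Units.val_mul, Units.val_mul, hxN, Matrix.mul_add, Matrix.add_mul, Matrix.mul_one,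
      ← Units.val_mul, inv_mul_cancel, Units.val_one, Matrix.mul_vecMulVec, Matrix.vecMulVec_mul]
  have hdot : (φ ᵥ* (g : Matrix (Fin 4) (Fin 4) F)) ⬝ᵥ
      (((g⁻¹ : GL (Fin 4) F) : Matrix (Fin 4) (Fin 4) F) *ᵥ u) = 0 := by
    rw [← Matrix.dotProduct_mulVec, Matrix.mulVec_mulVec, ← Units.val_mul, mul_inv_cancel,
      Units.val_one, Matrix.one_mulVec, hφu]
  have h1 := D.no_transvection h2 hgN _ _ hdot hconjN
  apply not_scalar_conj (g := g) hns 1
  rw [h1, Units.val_one, one_smul]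

end Cfsg.Agent.Helper9.U4
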