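import Mathlib
import Cfsg.Agent.Helper9.U4BadA

set_option autoImplicit false
set_option linter.unusedSectionVars false
open scoped MatrixGroups

/-!
S6001, `⇒` direction: the case distinction.
-/

namespace Cfsg.Agent.Helper9.U4

open Matrix Cfsg Cfsg.Agent.Helper9.S4

variable {F : Type*} [Field F] [Fintype F]

theorem orderOf_zmod5_of_mod {p : ℕ} (h : p % 5 = 2 ∨ p % 5 = 3) : orderOf (p : ZMod 5) = 4 := by
  have hp : (p : ZMod 5) = ((p % 5 : ℕ) : ZMod 5) := by
    rw [ZMod.natCast_mod]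
  have h4 : (p : ZMod 5) ^ 4 = 1 := by
    rw [hp]
    rcases h with h | h <;> rw [h] <;> decide
  have h2 : (p : ZMod 5) ^ 2 ≠ 1 := by
    rw [hp]
    rcases h with h | h <;> rw [h] <;> decide
  refine orderOf_eq_of_pow_and_pow_div_prime (by norm_num) h4 ?_
  intro r hr hdvd
  have hr2 : r = 2 := by
    have : r ∣ 2 ^ 2 := by norm_num; exact hdvd
    exact (Nat.prime_dvd_prime_iff_eq hr Nat.prime_two).mp (hr.dvd_of_dvd_pow this)
  rw [hr2]
  exact h2

/-- **the `⇒` direction of S6001**, given the three families of bad elements. -/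
theorem bad_of_not_listed_aux {p : ℕ} [hp : Fact p.Prime] [CharP F p]
    (hF : Fintype.card F = p ^ 2) (hp4 : p % 4 = 3) (R : Subgroup (GL (Fin 4) F)) (D : S4Data R)
    (hc : p % 3 = 2 → ¬ GoodU p 3 (Cfsg.Geo.subgroupNormalizer R))
    (hd : p % 5 = 4 → ¬ GoodU p 5 (Cfsg.Geo.subgroupNormalizer R))
    (he : p % 5 = 1 → ¬ GoodU p 5 (Cfsg.Geo.subgroupNormalizer R))
    (r : ℕ) [hr : Fact r.Prime]
    (hdvd : r ∣ Nat.card (Cfsg.GU 4 F p ⊓ Cfsg.Geo.specialLinear (Fin 4) F :
      Subgroup (GL (Fin 4) F)))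
    (hgood : GoodU p r (Cfsg.Geo.subgroupNormalizer R)) :
    r = 2 ∨ (r = 3 ∧ p % 3 = 1) ∨ (r = 5 ∧ orderOf (p : ZMod 5) = 4) := by
  have hpp : p.Prime := hp.out
  have h2 : (2 : F) ≠ 0 := by
    have : ¬ p ∣ 2 := by
      intro h
      have := (Nat.prime_dvd_prime_iff_eq hpp Nat.prime_two).mp h
      omega
    intro h0
    apply this
    have h' : ((2 : ℕ) : F) = 0 := by exact_mod_cast h0
    exact (CharP.cast_eq_zero_iff F p 2).mp h'
  by_cases hr2 : r = 2
  · exact Or.inl hr2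
  by_cases hr3 : r = 3
  · right; left
    refine ⟨hr3, ?_⟩
    subst hr3
    have h3 : p % 3 = 0 ∨ p % 3 = 1 ∨ p % 3 = 2 := by omega
    rcases h3 with h | h | h
    · exfalso
      have hp3 : p = 3 := by
        have : 3 ∣ p := Nat.dvd_of_mod_eq_zero h
        exact ((Nat.prime_dvd_prime_iff_eq Nat.prime_three hpp).mp this).symm
      subst hp3
      exact not_good_three_char hF R D hgood
    · exact h
    · exact absurd hgood (hc h)
  by_cases hr5 : r = 5
  · right; right
    refine ⟨hr5, ?_⟩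
    subst hr5
    have h5 : p % 5 = 0 ∨ p % 5 = 1 ∨ p % 5 = 2 ∨ p % 5 = 3 ∨ p % 5 = 4 := by omega
    rcases h5 with h | h | h | h | h
    · exfalso
      have hp5 : p = 5 := by
        have : 5 ∣ p := Nat.dvd_of_mod_eq_zero h
        exact ((Nat.prime_dvd_prime_iff_eq (by norm_num) hpp).mp this).symm
      omega
    · exact absurd hgood (he h)
    · exact orderOf_zmod5_of_mod (Or.inl h)
    · exact orderOf_zmod5_of_mod (Or.inr h)
    · exact absurd hgood (hd h)
  · exact absurd hgood (not_good_large h2 R D r hr2 hr3 hr5 hdvd)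

end Cfsg.Agent.Helper9.U4
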