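import Mathlib
import Cfsg.Agent.Helper9.U4GoodFive
import Cfsg.Agent.Helper1.U4NFB

set_option autoImplicit false
set_option linter.unusedSectionVars false
open scoped MatrixGroups

/-!
S6001: the `⇐` direction for a general group `R` of type `4 ∘ 2^{1+4}` in `GU_4(p)`, `p ≡ 3 (mod 4)`.
-/

namespace Cfsg.Agent.Helper9.U4

open Matrix Cfsg Cfsg.Agent.Helper2.SymT

variable {F : Type*} [Field F] [Fintype F]

theorem natCast_ne_zero_of_not_dvd {p : ℕ} [CharP F p] {n : ℕ} (h : ¬ p ∣ n) : ((n : ℕ) : F) ≠ 0 := by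
  intro h0
  exact h ((CharP.cast_eq_zero_iff F p n).mp h0)

theorem i_pow_p {p : ℕ} (hp4 : p % 4 = 3) {i : F} (hi : i ^ 2 = -1) : i ^ p = -i := by
  obtain ⟨k, hk⟩ : ∃ k, p = 2 * (2 * k + 1) + 1 := ⟨p / 4, by omega⟩
  rw [hk, pow_succ, pow_mul, hi, Odd.neg_one_pow ⟨k, rfl⟩]
  ring

/-- **the `⇐` direction of S6001.** -/
theorem good_of_listed {p : ℕ} [Fact p.Prime] [CharP F p] (hF : Fintype.card F = p ^ 2)
    (hp4 : p % 4 = 3) (R : Subgroup (GL (Fin 4) F)) (hRs : Cfsg.Geo.IsSymplecticTypeGroup 2 R)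
    (hRi : Cfsg.Geo.ActsAbsolutelyIrreducibly (Cfsg.Geo.matrixSet R))
    (hRU : R ≤ Cfsg.GU 4 F p) (hR6 : Nat.card R = 2 ^ 6) (hRZ : Nat.card (Subgroup.center R) = 4)
    (r : ℕ) (hlist : r = 2 ∨ (r = 3 ∧ p % 3 = 1) ∨ (r = 5 ∧ orderOf (p : ZMod 5) = 4)) :
    GoodU p r (Cfsg.Geo.subgroupNormalizer R) := by
  haveI : Fact (Fintype.card F = p ^ 2) := ⟨hF⟩
  have hpp : p.Prime := Fact.out
  have h2 : (2 : F) ≠ 0 := by
    have : ¬ p ∣ 2 := by
      intro h
      have := (Nat.prime_dvd_prime_iff_eq hpp Nat.prime_two).mp h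
      omega
    exact_mod_cast natCast_ne_zero_of_not_dvd (F := F) this
  have hcard : Nat.card R = 64 := by rw [hR6]; norm_num
  haveI : Finite R := Nat.finite_of_card_ne_zero (by rw [hcard]; norm_num)
  have hexp : ∀ g ∈ R, g ^ 4 = 1 := by
    intro g hg
    have h := Monoid.pow_exponent_eq_one (⟨g, hg⟩ : R)
    rw [hRs.exponent_eq] at h
    have := congrArg (fun t : R => (t : GL (Fin 4) F)) h
    simpa using this
  have hcent : ∀ M : Matrix (Fin 4) (Fin 4) F,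
      (∀ g ∈ R, M * (g : Matrix (Fin 4) (Fin 4) F) = (g : Matrix (Fin 4) (Fin 4) F) * M) →
      ∃ c : F, M = c • (1 : Matrix (Fin 4) (Fin 4) F) := by
    intro M hM
    apply hRi.2 M
    rintro s ⟨g, hg, rfl⟩
    exact hM g hg
  obtain ⟨i, hi, Q, hQ, hR⟩ := Cfsg.Agent.Helper1.U4NF.unitary_normal_form hF h2 R hRU hcard hRZ
    hexp hRs.cyclic_of_characteristic hcent
  have hiq := i_pow_p hp4 hi
  refine goodU_of_conj r _ (Cfsg.Geo.subgroupNormalizer (R0 i hi)) Q hQ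
    (normalizer_conj4 R (R0 i hi) Q hR) ?_
  rcases hlist with rfl | ⟨rfl, hp3⟩ | ⟨rfl, hp5⟩
  · exact good_two hp4 h2 i hi
  · have h3 : (3 : F) ≠ 0 := by
      have : ¬ p ∣ 3 := by
        intro h
        have := (Nat.prime_dvd_prime_iff_eq hpp Nat.prime_three).mp h
        omega
      exact_mod_cast natCast_ne_zero_of_not_dvd (F := F) this
    exact good_three hp3 h2 h3 i hi hiq
  · exact good_five hp5 h2 i hi hiq

end Cfsg.Agent.Helper9.U4
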